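import Groth.Agent.Lib.BC8.UpperPlus
import Groth.Agent.Lib.CohMop.ExtCoh
import Groth.Agent.Lib.BigSite16.BaseChange
import Groth.Agent.Lib.RFPlus.Acyclic
import Groth.Agent.Lib.DPush9.Coh

/-! The right adjoint of the direct image along a closed immersion preserves coherence. -/

set_option autoImplicit false
set_option linter.style.haveILetI false
set_option linter.unusedSectionVars false
set_option backward.isDefEq.respectTransparency false
set_option backward.isDefEq.respectTransparency.types false

universe u

open CategoryTheory CategoryTheory.Limits AlgebraicGeometry DerivedCategory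

attribute [local instance] HasDerivedCategory.standard

namespace Groth.Agent.BC8

variable {Z X : Scheme.{u}} (i : Z ⟶ X) [IsClosedImmersion i]
  [PreservesFiniteLimits (Scheme.Modules.pushforward i)] [PreservesFiniteColimits (Scheme.Modules.pushforward i)]

/-- Derived functors of the right adjoint of `i_*` preserve coherence. -/
theorem isCoh_rightDerived_upper [IsLocallyNoetherian X] [EnoughInjectives X.Modules]
    {G : X.Modules ⥤ Z.Modules} [G.Additive]
    (adj : Scheme.Modules.pushforward i ⊣ G) (n : ℕ) {M : X.Modules} (hM : Coh.IsCoh M)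
    (hq : Coh.IsQCoh ((G.rightDerived n).obj M)) :
    Coh.IsCoh ((G.rightDerived n).obj M) := by
  haveI : IsLocallyNoetherian Z := LocallyOfFiniteType.isLocallyNoetherian i
  haveI : IsFinite i := inferInstance
  refine ⟨hq, (PushFin12.isFT_iff i _ hq).2 ?_⟩
  let A := (Scheme.Modules.pushforward i).obj (Coh.structureModule Z)
  let e : CohMop.tenR A ≅ Scheme.Modules.pullback i ⋙ Scheme.Modules.pushforward i :=
    ClImmProj14.tenPushIso i (Coh.structureModule Z) ≪≫
      Functor.isoWhiskerLeft _ (Functor.isoWhiskerRight RHom.unitorNatIso _) ≪≫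
      Functor.isoWhiskerLeft _ (Functor.leftUnitor _)
  let adj2 := ((Scheme.Modules.pullbackPushforwardAdjunction i).comp adj).ofNatIsoLeft e.symm
  let w := (CohMop.ihomAdj A).rightAdjointUniq adj2
  haveI : (CohMop.ihom A).Additive := (CohMop.ihomAdj A).right_adjoint_additive
  obtain ⟨c⟩ := BigSite16.nonempty_rightDerived_comp G (Scheme.Modules.pushforward i) M n
  let R := InjectiveResolution.of M
  let d : ((CohMop.ihom A).rightDerived n).obj M ≅ ((G ⋙ Scheme.Modules.pushforward i).rightDerived n).obj M :=
    R.isoRightDerivedObj (CohMop.ihom A) n ≪≫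
      (HomologicalComplex.homologyFunctor _ _ n).mapIso ((NatIso.mapHomologicalComplex w _).app R.cocomplex) ≪≫
      (R.isoRightDerivedObj (G ⋙ Scheme.Modules.pushforward i) n).symm
  exact (CohMop.isCoh_of_iso (d ≪≫ c.symm)
    (CohMop.isCoh_extSheaf n A M (CohFound.isCoh_push_closedImm i (M1.isCoh_structureModule Z)) hM)).2

variable {R : DCoh.D X ⥤ DCoh.D Z} (adjR : Dual3.pushD i ⊣ R)

include adjR in
/-- The right adjoint preserves bounded below complexes with coherent cohomology. -/
theorem isCohD_upper [IsLocallyNoetherian X] [EnoughInjectives X.Modules] (L : DCoh.D X) (c : ℤ)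
    (hc : L.IsGE c) (hL : DCoh.IsCohD L) : DCoh.IsCohD (R.obj L) := by
  haveI : IsLocallyNoetherian Z := LocallyOfFiniteType.isLocallyNoetherian i
  obtain ⟨_, _⟩ := exists_triangulated_upper (Scheme.Modules.pushforward i) adjR
  haveI := DPush9.isWeakSerre_coh X
  haveI := DPush9.isWeakSerre_coh Z
  haveI := HomO15.isLeftAdjoint i
  let G := (Scheme.Modules.pushforward i).rightAdjoint
  let adj : Scheme.Modules.pushforward i ⊣ G := Adjunction.ofIsLeftAdjoint _
  haveI : G.Additive := adj.right_adjoint_additive
  obtain ⟨np⟩ := nonempty_plus_iso (Scheme.Modules.pushforward i) adj adjR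
  refine WayOut.cohIn_obj_of_isGE (fun M : Z.Modules => Coh.IsCoh M) (fun M : X.Modules => Coh.IsCoh M) R
    (fun Y m _ => isGE_upper (Scheme.Modules.pushforward i) adjR Y m) (fun M hM q => ?_) L c hc hL
  haveI := isGE_upper (Scheme.Modules.pushforward i) adjR ((singleFunctor X.Modules 0).obj M) 0
  by_cases hq : q < 0
  · have hz := DerivedCategory.isZero_of_isGE (R.obj ((singleFunctor X.Modules 0).obj M)) 0 q hq
    obtain ⟨Z₀, hZ₀, hP₀⟩ := ObjectProperty.exists_prop_of_containsZero (fun M : Z.Modules => Coh.IsCoh M)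
    exact CohMop.isCoh_of_iso (hZ₀.iso hz) hP₀
  · obtain ⟨k, rfl⟩ : ∃ k : ℕ, q = k := ⟨q.toNat, by lia⟩
    let e₀ : (DerivedCategory.homologyFunctor Z.Modules (k : ℤ)).obj (R.obj ((singleFunctor X.Modules 0).obj M)) ≅
        (G.rightDerived k).obj M :=
      (DerivedCategory.homologyFunctor Z.Modules (k : ℤ)).mapIso
        ((R.mapIso ((singleFunctorIsoCompQ X.Modules 0).app M ≪≫
          ((quotientCompQhIso X.Modules).app _).symm)) ≪≫
          (np.app (DerivedCategory.Plus.Qh.obj ((HomotopyCategory.Plus.quotient X.Modules).obj (RFPlus.sing M)))).symm) ≪≫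
        RFPlus.rightDerivedIso G M k
    exact CohMop.isCoh_of_iso e₀.symm (isCoh_rightDerived_upper i adj k hM
      (M1.isQCoh_of_isIso e₀ (isQCohD_upper_single i adjR k M hM.1)))

end Groth.Agent.BC8
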