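import Groth.Agent.Lib.BC8.UpperD
import Groth.Agent.Lib.RFPlus.Triangulated

/-! `R Hom(O_Z, -)` on bounded below objects is the restriction of the right adjoint of `i_*` on
derived categories; comparison with the right adjoint on quasi-coherent objects. -/

set_option autoImplicit false
set_option linter.style.haveILetI false
set_option linter.unusedSectionVars false
set_option backward.isDefEq.respectTransparency false
set_option backward.isDefEq.respectTransparency.types false

universe u w w' v v' u'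

open CategoryTheory CategoryTheory.Limits AlgebraicGeometry DerivedCategory

attribute [local instance] HasDerivedCategory.standard

namespace Groth.Agent.BC8

section Gen

variable {A : Type u} [Category.{v} A] [Abelian A] [HasDerivedCategory.{w} A]
  {B : Type u'} [Category.{v'} B] [Abelian B] [HasDerivedCategory.{w'} B] [EnoughInjectives B]
  (F : A ⥤ B) [F.Additive] [PreservesFiniteLimits F] [PreservesFiniteColimits F]
  {G : B ⥤ A} [G.Additive] (adj : F ⊣ G)
  {R : DerivedCategory B ⥤ DerivedCategory A} (adjR : F.mapDerivedCategory ⊣ R)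

/-- The transpose of the termwise counit. -/
noncomputable def tauX (K : CochainComplex B ℤ) : Q.obj (DQC.rightX (G := G) K) ⟶ R.obj (Q.obj K) :=
  adjR.homEquiv _ _ (DQC.epsD F adj K)

theorem tauX_natural {K L : CochainComplex B ℤ} (φ : K ⟶ L) :
    Q.map ((G.mapHomologicalComplex (ComplexShape.up ℤ)).map φ) ≫ tauX F adj adjR L =
      tauX F adj adjR K ≫ R.map (Q.map φ) := by
  have hc : (F.mapHomologicalComplex (ComplexShape.up ℤ)).map ((G.mapHomologicalComplex (ComplexShape.up ℤ)).map φ) ≫
      DQC.counitX F adj L = DQC.counitX F adj K ≫ φ :=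
    HomologicalComplex.hom_ext _ _ fun n => adj.counit.naturality (φ.f n)
  rw [tauX, tauX, ← Adjunction.homEquiv_naturality_left, ← Adjunction.homEquiv_naturality_right,
    DQC.epsD, DQC.epsD, Functor.mapDerivedCategoryFactors_hom_naturality_assoc, Category.assoc,
    ← Functor.map_comp, ← Functor.map_comp, hc]

theorem isIso_tauX (K : CochainComplex B ℤ) [K.IsKInjective] : IsIso (tauX F adj adjR K) := by
  refine isIso_of_yoneda_map_bijective _ fun N => ?_
  convert (adjR.homEquiv N (Q.obj K)).bijective.comp (DQC.bijective_adjD F adj K N) using 1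
  funext h
  exact (adjR.homEquiv_naturality_left h _).symm

theorem comp_natural {K L : CochainComplex B ℤ} (φ : K ⟶ L) :
    Qh.map ((G.mapHomotopyCategory (ComplexShape.up ℤ)).map ((HomotopyCategory.quotient B (ComplexShape.up ℤ)).map φ)) ≫
      ((quotientCompQhIso A).hom.app (DQC.rightX (G := G) L) ≫ tauX F adj adjR L ≫
        R.map ((quotientCompQhIso B).inv.app L)) =
      ((quotientCompQhIso A).hom.app (DQC.rightX (G := G) K) ≫ tauX F adj adjR K ≫
        R.map ((quotientCompQhIso B).inv.app K)) ≫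
        R.map (Qh.map ((HomotopyCategory.quotient B (ComplexShape.up ℤ)).map φ)) := by
  have hA := (quotientCompQhIso A).hom.naturality_assoc ((G.mapHomologicalComplex (ComplexShape.up ℤ)).map φ)
    (tauX F adj adjR L ≫ R.map ((quotientCompQhIso B).inv.app L))
  refine hA.trans ?_
  rw [reassoc_of% (tauX_natural F adj adjR φ)]
  simp only [Category.assoc, ← Functor.map_comp]
  congr 3
  exact (quotientCompQhIso B).inv.naturality φ

include adj adjR in
/-- The derived functor of the right adjoint is the restriction of the right adjoint. -/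
theorem nonempty_plus_iso :
    Nonempty (G.rightDerivedFunctorPlus ⋙ DerivedCategory.Plus.ι ≅ DerivedCategory.Plus.ι ⋙ R) := by
  let E := RFPlus.injEquiv B
  let J := (InjectiveObject.ι B).mapHomotopyCategoryPlus
  let qA := quotientCompQhIso A
  let qB := quotientCompQhIso B
  let c : ∀ Y : HomotopyCategory.Plus (InjectiveObject B),
      (J ⋙ G.mapHomotopyCategoryPlus ⋙ DerivedCategory.Plus.Qh ⋙ DerivedCategory.Plus.ι).obj Y ≅
        (E.functor ⋙ DerivedCategory.Plus.ι ⋙ R).obj Y := fun Y =>
    haveI := RFPlus.isKInjective_obj (C := B) Y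
    haveI := isIso_tauX F adj adjR (J.obj Y).obj.as
    qA.app (DQC.rightX (G := G) (J.obj Y).obj.as) ≪≫ asIso (tauX F adj adjR (J.obj Y).obj.as) ≪≫
      R.mapIso (qB.app (J.obj Y).obj.as).symm
  let n : J ⋙ G.mapHomotopyCategoryPlus ⋙ DerivedCategory.Plus.Qh ⋙ DerivedCategory.Plus.ι ≅
      E.functor ⋙ DerivedCategory.Plus.ι ⋙ R := NatIso.ofComponents c fun {Y Y'} f => by
    obtain ⟨φ, hφ⟩ := (HomotopyCategory.quotient B (ComplexShape.up ℤ)).map_surjective (J.map f).hom
    have h := comp_natural F adj adjR φ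
    rw [hφ] at h
    exact h
  let n' : E.functor ⋙ (G.rightDerivedFunctorPlus ⋙ DerivedCategory.Plus.ι) ≅
      E.functor ⋙ (DerivedCategory.Plus.ι ⋙ R) :=
    (Functor.isoWhiskerRight (RFPlus.injToDerivedCompIso G) DerivedCategory.Plus.ι :) ≪≫ n
  exact ⟨(Functor.leftUnitor _).symm ≪≫ Functor.isoWhiskerRight E.counitIso.symm _ ≪≫
    Functor.isoWhiskerLeft E.inverse n' ≪≫
    Functor.isoWhiskerRight E.counitIso (DerivedCategory.Plus.ι ⋙ R) ≪≫ Functor.leftUnitor _⟩

end Gen

section Scheme

variable {Z X : Scheme.{u}} (i : Z ⟶ X) [IsClosedImmersion i]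
  [PreservesFiniteLimits (Scheme.Modules.pushforward i)] [PreservesFiniteColimits (Scheme.Modules.pushforward i)]
  {R : DCoh.D X ⥤ DCoh.D Z} (adjR : Dual3.pushD i ⊣ R)

variable [DCoh.HasRpush i] {hi : DCoh.RpushPreservesQCoh i}
  {a : DCoh.DQCoh X ⥤ DCoh.DQCoh Z} (adj : DCoh.RpushQ i hi ⊣ a)

include adj adjR in
/-- Naturally, the two right adjoints agree wherever `R` preserves quasi-coherence. -/
theorem nonempty_upper_natIso (hR : ∀ L : (Dual3.IsBddBelowQ X).FullSubcategory, DCoh.IsQCohD (R.obj L.obj.obj)) :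
    Nonempty (Dual3.bddι X ⋙ a ⋙ ObjectProperty.ι _ ≅ Dual3.bddι X ⋙ ObjectProperty.ι _ ⋙ R) := by
  obtain ⟨ρ⟩ := RHom.nonempty_rpushIso i
  let W : (Dual3.IsBddBelowQ X).FullSubcategory ⥤ DCoh.DQCoh Z :=
    ObjectProperty.lift _ (Dual3.bddι X ⋙ ObjectProperty.ι _ ⋙ R) hR
  let t : W ⟶ Dual3.bddι X ⋙ a :=
    { app := fun L => adj.homEquiv (W.obj L) L.obj
        (ObjectProperty.homMk (ρ.hom.app (R.obj L.obj.obj) ≫ adjR.counit.app L.obj.obj))
      naturality := fun L L' v => by
        rw [← Adjunction.homEquiv_naturality_left]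
        dsimp
        rw [← Adjunction.homEquiv_naturality_right]
        congr 1
        apply ObjectProperty.hom_ext
        dsimp
        exact (ρ.hom.naturality_assoc (R.map v.hom.hom) _).trans
          ((congrArg (ρ.hom.app _ ≫ ·) (adjR.counit.naturality v.hom.hom)).trans (Category.assoc _ _ _).symm) }
  haveI : ∀ L, IsIso (t.app L) := fun L => by
    refine isIso_of_yoneda_map_bijective _ fun N => ?_
    let e : (N ⟶ W.obj L) ≃ (N ⟶ a.obj L.obj) :=
      (ObjectProperty.fullyFaithfulι DCoh.IsQCohD).homEquiv.trans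
        ((adjR.homEquiv N.obj L.obj.obj).symm.trans
          ((Iso.homCongr (ρ.app N.obj).symm (Iso.refl _)).trans
            ((ObjectProperty.fullyFaithfulι DCoh.IsQCohD).homEquiv.symm.trans (adj.homEquiv N L.obj))))
    convert e.bijective using 1
    funext h
    simp only [e, t, Equiv.trans_apply]
    rw [← Adjunction.homEquiv_naturality_left]
    congr 1
    apply ObjectProperty.hom_ext
    change (DCoh.Rpush i).map h.hom ≫ ρ.hom.app _ ≫ adjR.counit.app _ =
      ρ.hom.app N.obj ≫ ((adjR.homEquiv N.obj L.obj.obj).symm h.hom ≫ 𝟙 _)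
    rw [Category.comp_id, Adjunction.homEquiv_counit]
    exact ρ.hom.naturality_assoc h.hom _
  haveI := NatIso.isIso_of_isIso_app t
  exact ⟨(Functor.associator _ _ _).symm ≪≫ Functor.isoWhiskerRight (asIso t).symm (ObjectProperty.ι _) ≪≫
    ObjectProperty.liftCompιIso _ _ _⟩

end Scheme

end Groth.Agent.BC8

namespace Groth.Agent.BC8

/-- The derived functor as the restriction of a right adjoint on derived categories. -/
theorem exists_upper {Z X : Scheme.{u}} (i : Z ⟶ X) [IsClosedImmersion i] [Dual3.HasHomO i] [EnoughInjectives X.Modules]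
    [PreservesFiniteLimits (Scheme.Modules.pushforward i)] [PreservesFiniteColimits (Scheme.Modules.pushforward i)] :
    ∃ (R : DCoh.D X ⥤ DCoh.D Z), Nonempty (Dual3.pushD i ⊣ R) ∧
      Nonempty (Dual3.RHomOPlus i ⋙ (DerivedCategory.Plus.ι : DerivedCategory.Plus Z.Modules ⥤ DCoh.D Z) ≅
        (DerivedCategory.Plus.ι : DerivedCategory.Plus X.Modules ⥤ DCoh.D X) ⋙ R) := by
  haveI := isLeftAdjoint_mapDerived (Scheme.Modules.pushforward i) (Dual3.homOAdj i)
  exact ⟨_, ⟨Adjunction.ofIsLeftAdjoint _⟩,
    nonempty_plus_iso (Scheme.Modules.pushforward i) (Dual3.homOAdj i) (Adjunction.ofIsLeftAdjoint _)⟩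

end Groth.Agent.BC8
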