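import Groth.Agent.Lib.BC8.Setup
import Groth.Agent.Lib.BC8.UpperPlus
import Groth.Agent.Lib.BC8.UpperCoh
import Groth.Agent.Lib.KFlat.LpullPC

/-! The twisted inverse image preserves bounded below coherent complexes. -/

set_option autoImplicit false
set_option linter.style.haveILetI false
set_option linter.unusedSectionVars false
set_option backward.isDefEq.respectTransparency false
set_option backward.isDefEq.respectTransparency.types false

universe u

open CategoryTheory CategoryTheory.Limits AlgebraicGeometry Pretriangulated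

attribute [local instance] HasDerivedCategory.standard

namespace Groth.Agent.BC8

open DMon9

theorem isCoh_iso {X : Scheme.{u}} {M N : X.Modules} (e : M ≅ N) (h : Coh.IsCoh M) : Coh.IsCoh N :=
  ⟨M1.isQCoh_of_isIso e h.1, M1.isFT_of_isIso e h.2⟩

/-- Flat pullback preserves bounded below complexes with coherent cohomology. -/
theorem isCoh_HD_lP_flat {W Y : Scheme.{u}} (g : W ⟶ Y) [Flat g] [IsLocallyNoetherian Y] [IsLocallyNoetherian W]
    (K : DCoh.D Y) (c : ℤ) [K.IsGE c] (hK : ∀ i, Coh.IsCoh (DCoh.HD K i)) (i : ℤ) :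
    Coh.IsCoh (DCoh.HD ((lP g).obj K) i) := by
  let t : Triangulated.TStructure (DCoh.D Y) := DerivedCategory.TStructure.t
  haveI : DCoh.HasLpull g := KFlat.Sch.hasLpull g
  let S := (t.triangleLTGE (i + 2)).obj K
  have hS : S ∈ distTriang _ := t.triangleLTGE_distinguished (i + 2) K
  haveI : DerivedCategory.IsLE S.obj₁ (i + 1) := t.isLE_truncLT_obj K (i + 2) (i + 1) (by omega)
  haveI : DerivedCategory.IsGE S.obj₃ (i + 2) :=
    (inferInstance : t.IsGE ((t.truncGE (i + 2)).obj K) (i + 2))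
  have h₁ : ∀ l, Coh.IsCoh (DCoh.HD S.obj₁ l) := fun l => by
    rcases lt_or_ge l (i + 2) with hl | hl
    · haveI := DerTrunc.isIso_homology_truncLTι K (i + 2) l hl
      exact isCoh_iso (asIso ((DerivedCategory.homologyFunctor _ l).map ((t.truncLTι (i + 2)).app K))).symm (hK l)
    · exact DPerf.isCoh_of_isZero (DerivedCategory.isZero_of_isLE S.obj₁ (i + 1) l (by omega))
  have hq : DCoh.IsQCohD S.obj₁ := fun l => (h₁ l).1
  have hpc : ∀ m : ℤ, DCoh.IsPseudoCoherentD m S.obj₁ := fun m =>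
    DPerf.isPseudoCoherentD_of_coherent (fun l _ => h₁ l) (i + 1)
  obtain ⟨n⟩ := nonempty_lpull_natIso_lP g
  have hc : Coh.IsCoh (DCoh.HD ((lP g).obj S.obj₁) i) :=
    isCoh_iso ((DerivedCategory.homologyFunctor _ i).mapIso (n.app _))
      (DPerf.isCoh_HD_of_pseudoCoherent (KFlat.Sch.isPseudoCoherent_lpull g (hpc i))
        (DQC.isQCohD_of_iso (n.app _).symm (isQCohD_lP g hq) i) le_rfl)
  haveI := isLeftAdjoint_lP g
  haveI : (lP g).PreservesZeroMorphisms := Functor.preservesZeroMorphisms_of_isLeftAdjoint _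
  have hex := DMon9.hExact_comp (lP g) (homExact_of_isLeftAdjoint _) (𝟭 (DCoh.D W)) i
  obtain ⟨w₁, e₁⟩ := hex S hS
  obtain ⟨w₀, e₀⟩ := hex S.invRotate (inv_rot_of_distTriang _ hS)
  haveI h3 : ((lP g).obj S.obj₃).IsGE (i + 2) := isGE_lP_of_flat _ _
  haveI h0 : (S.obj₃⟦(-1 : ℤ)⟧).IsGE (i + 3) := t.isGE_shift _ (i + 2) (-1) (i + 3) (by omega)
  haveI h0' : ((lP g).obj (S.obj₃⟦(-1 : ℤ)⟧)).IsGE (i + 3) := isGE_lP_of_flat _ _
  let φ := (DerivedCategory.homologyFunctor W.Modules i).map ((lP g).map S.mor₁)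
  haveI : Epi φ := e₁.epi_f ((DerivedCategory.isZero_of_isGE ((lP g).obj S.obj₃) (i + 2) i (by omega)).eq_of_tgt _ _)
  haveI : Mono φ := e₀.mono_g
    ((DerivedCategory.isZero_of_isGE ((lP g).obj (S.obj₃⟦(-1 : ℤ)⟧)) (i + 3) i (by omega)).eq_of_src _ _)
  haveI : IsIso φ := isIso_of_mono_of_epi φ
  exact isCoh_iso (asIso φ) hc

variable {X Y Xb : Scheme.{u}} [IsNoetherian Y] (f : X ⟶ Y) [LocallyOfFiniteType f]
  (p : Xb ⟶ Y) [IsProper p] (j : X ⟶ Xb) [IsOpenImmersion j] (hfac : j ≫ p = f) [DCoh.HasRpush p]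
  {hp : DCoh.RpushPreservesQCoh p} (a : DCoh.DQCoh Y ⥤ DCoh.DQCoh Xb) (adj : DCoh.RpushQ p hp ⊣ a)

include adj in
/-- The twisted inverse image is bounded below. -/
theorem exists_isGE_phiF : ∃ N : ℕ, ∀ (K : DCoh.DQCoh Y) (c : ℤ), K.obj.IsGE c →
    ((phiF j a).obj K).IsGE (c - N) := by
  haveI : CompactSpace Xb := QuasiCompact.compactSpace_of_compactSpace p
  obtain ⟨N, hN⟩ := exists_isGE_a adj
  exact ⟨N, fun K c hc => haveI := hN K c hc; isGE_lP j (a.obj K).obj (c - N)⟩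

include hfac adj in
/-- The twisted inverse image has coherent cohomology. -/
theorem isCoh_HD_phiF (K : DCoh.DQCoh Y) (c : ℤ) (hc : K.obj.IsGE c) (hK : ∀ i, Coh.IsCoh (DCoh.HD K.obj i))
    (l : ℤ) : Coh.IsCoh (DCoh.HD ((phiF j a).obj K) l) := by
  refine CohMop.isCoh_of_restrict fun x => ?_
  obtain ⟨Z, W, u, _, i, _, g, _, _, _, _, hi, b, adjb, d, hxu, w, ⟨n⟩⟩ := exists_chart f p j hfac adj x
  haveI : IsLocallyNoetherian Z := LocallyOfFiniteType.isLocallyNoetherian i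
  haveI : Dual3.HasHomO i := HomO15.isLeftAdjoint i
  haveI : PreservesFiniteColimits (Scheme.Modules.pushforward i) := RHom.preservesFiniteColimits_push i
  haveI : PreservesFiniteLimits (Scheme.Modules.pushforward i) := RHom.preservesLimits_pushforward i
  haveI : DCoh.HasLpull g := KFlat.Sch.hasLpull g
  haveI := hc
  obtain ⟨R, ⟨adjR⟩, -⟩ := exists_upper i
  obtain ⟨ν⟩ := nonempty_upper_natIso i adjR adjb fun L => by
    obtain ⟨c', hc'⟩ := L.property
    exact isQCohD_upper i adjR L.obj.obj c' hc' L.obj.property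
  let T : DCoh.DQCoh W := ((lq g).obj K)⟦d⟧
  have hgK : ((lP g).obj K.obj).IsGE c := isGE_lP_of_flat K.obj c
  have hTge : T.obj.IsGE (c - d) := isGE_shiftQ ((lq g).obj K) c d hgK
  haveI := DPush9.isWeakSerre_coh W
  have hT : DCoh.IsCohD T.obj := fun m => WayOut.cohIn_of_iso (fun M : W.Modules => Coh.IsCoh M)
    (shObj ((lq g).obj K) d).symm
    (WayOut.cohIn_shift (fun M : W.Modules => Coh.IsCoh M) d (fun m => isCoh_HD_lP_flat g K.obj c hK m)) m
  have hR : Coh.IsCoh (DCoh.HD (R.obj T.obj) l) := isCohD_upper i adjR T.obj (c - d) hTge hT l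
  let e : (lP u).obj ((phiF j a).obj K) ≅ R.obj T.obj :=
    n.app (⟨K, c, hc⟩ : (Dual3.IsBddBelowQ Y).FullSubcategory) ≪≫
      ν.app (⟨T, c - d, hTge⟩ : (Dual3.IsBddBelowQ W).FullSubcategory)
  let k : (u.opensRange : Scheme.{u}) ⟶ Z := u.isoOpensRange.inv
  have hk : k ≫ u = u.opensRange.ι := Scheme.Hom.isoOpensRange_inv_comp u
  haveI : IsOpenImmersion k := inferInstanceAs (IsOpenImmersion u.isoOpensRange.inv)
  refine ⟨u.opensRange, hxu, ?_⟩
  have h2 : Coh.IsCoh (DCoh.HD ((lP k).obj ((lP u).obj ((phiF j a).obj K))) l) :=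
    isCoh_iso ((DPerf.hdResIso k _ l).symm ≪≫ (DerivedCategory.homologyFunctor _ l).mapIso ((lPRes k).app _).symm)
      (DPerf.isCoh_restrict (isCoh_iso ((DerivedCategory.homologyFunctor _ l).mapIso e.symm) hR) k)
  exact isCoh_iso ((DerivedCategory.homologyFunctor _ l).mapIso
      ((lPComp k u hk).app _ ≪≫ (lPRes u.opensRange.ι).app _) ≪≫ DPerf.hdResIso _ _ l) h2

end Groth.Agent.BC8
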