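import Groth.Agent.Lib.BC8.Invert
import Groth.Agent.Lib.ProjSpace.Basic
import Groth.Agent.Lib.PerfLCI4.Spread
import Groth.Agent.Lib.PerfLCI4.Kind

/-!
Invertibility of the twisted inverse image of the structure sheaf for lci morphisms.
-/

set_option autoImplicit false
set_option linter.unusedSectionVars false
set_option linter.style.haveILetI false
set_option backward.isDefEq.respectTransparency false
set_option backward.isDefEq.respectTransparency.types false
set_option maxHeartbeats 800000

universe u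

open CategoryTheory CategoryTheory.Limits AlgebraicGeometry

attribute [local instance] HasDerivedCategory.standard

namespace Groth.Agent.BC8

open DMon9

/-- The spectrum of a polynomial ring inside projective space. -/
noncomputable def polyToProj (A : Type u) [CommRing A] (n : ℕ) :
    Spec (CommRingCat.of (MvPolynomial (Fin n) A)) ⟶ CohB1.ProjSpace n A :=
  Spec.map (CommRingCat.ofHom (MvPolynomial.renameEquiv A (finSuccAboveEquiv (0 : Fin (n + 1)))).symm.toRingHom) ≫
    ProjSpace.chart n A 0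

instance isOpenImmersion_polyToProj (A : Type u) [CommRing A] (n : ℕ) : IsOpenImmersion (polyToProj A n) := by
  haveI : IsIso (CommRingCat.ofHom (MvPolynomial.renameEquiv A (finSuccAboveEquiv (0 : Fin (n + 1)))).symm.toRingHom) :=
    (ConcreteCategory.isIso_iff_bijective _).2 (AlgEquiv.bijective _)
  unfold polyToProj
  infer_instance

theorem polyToProj_toSpec (A : Type u) [CommRing A] (n : ℕ) :
    polyToProj A n ≫ CohB1.ProjSpace.toSpec n A =
      Spec.map (CommRingCat.ofHom (algebraMap A (MvPolynomial (Fin n) A))) := by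
  rw [polyToProj, Category.assoc, ProjSpace.chart_toSpec, ← Spec.map_comp]
  congr 1
  ext1
  exact (MvPolynomial.renameEquiv A (finSuccAboveEquiv (0 : Fin (n + 1)))).symm.toAlgHom.comp_algebraMap

variable {X Y Xb : Scheme.{u}} [IsNoetherian Y] (f : X ⟶ Y) (p : Xb ⟶ Y) [IsProper p]
  (j : X ⟶ Xb) [IsOpenImmersion j] (hfac : j ≫ p = f) [DCoh.HasRpush p] {hp : DCoh.RpushPreservesQCoh p}
  {a : DCoh.DQCoh Y ⥤ DCoh.DQCoh Xb} (adj : DCoh.RpushQ p hp ⊣ a)

include hfac adj in
/-- Lci morphisms: `f^!O` is invertible. -/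
theorem locShift_lci (hf : Dual3.IsLCIMor f) : LocShift ((lP j).obj (a.obj (oQ Y)).obj) := by
  refine locShift_of_cover fun x => ?_
  obtain ⟨⟨U, hU⟩, ⟨V, hV⟩, e, hx, hlci⟩ := hf x
  dsimp only at hlci e hx
  let A := Γ(Y, V)
  let B := Γ(X, U)
  letI : Algebra A B := (f.appLE V U e).hom.toAlgebra
  haveI : IsNoetherianRing A := IsLocallyNoetherian.component_noetherian ⟨V, hV⟩
  obtain ⟨-, n, F, hF, hKR⟩ := hlci
  let P := MvPolynomial (Fin n) A
  let q₀ := hU.primeIdealOf ⟨x, hx⟩
  let q : PrimeSpectrum P := PrimeSpectrum.comap F.toRingHom q₀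
  have hle : RingHom.ker F.toRingHom ≤ q.asIdeal := fun t ht => by
    show F.toRingHom t ∈ q₀.asIdeal
    rw [RingHom.mem_ker.1 ht]
    exact zero_mem _
  obtain ⟨l, hl, hspan⟩ := PerfLCI4.exists_ex_atPrime hKR q.asIdeal hle
  obtain ⟨g, hg, rs, hreg, hker⟩ := PerfLCI4.exists_away_regular q hle hl hspan
  let Pg := Localization.Away g
  let B' := Localization.Away (F g)
  let φ : CommRingCat.of Pg ⟶ CommRingCat.of B' := CommRingCat.ofHom (IsLocalization.Away.map Pg B' F.toRingHom g)
  haveI : IsLocalization ((Submonoid.powers g).map F.toRingHom) B' := by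
    rw [Submonoid.map_powers]; exact inferInstanceAs (IsLocalization (Submonoid.powers (F g)) B')
  have hs : Function.Surjective φ.hom :=
    IsLocalization.map_surjective_of_surjective (g := F.toRingHom) (Submonoid.powers g) Pg B' hF
  have hk : RingHom.ker φ.hom = Ideal.ofList rs := by
    rw [← hker]
    exact IsLocalization.ker_map (S := Pg) B' F.toRingHom (Submonoid.map_powers F.toRingHom g)
  haveI : IsClosedImmersion (Spec.map φ) := IsClosedImmersion.spec_of_surjective _ hs
  haveI : CompactSpace (Spec (CommRingCat.of Pg)) := inferInstance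
  haveI := DBC9.hasRpush (Spec.map φ)
  let hφ := rpushPreserves (Spec.map φ)
  haveI := isLeftAdjoint_rpushQ (Spec.map φ) hφ
  let adjφ := Adjunction.ofIsLeftAdjoint (DCoh.RpushQ (Spec.map φ) hφ)
  haveI : PreservesFiniteLimits (tilde.functor (CommRingCat.of Pg)) := M1.tilde_preservesFiniteLimits
  obtain ⟨r⟩ := nonempty_regSeq rs.length _ _ φ hs rs rfl hreg.toIsWeaklyRegular hk adjφ (oQ _) (Iso.refl _)
  obtain ⟨r'⟩ := nonempty_unshift _ _ r
  have hi := locShift_of_iso r'.symm (locShift_one _ rs.length)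
  let jP : Spec (CommRingCat.of Pg) ⟶ CohB1.ProjSpace n A :=
    Spec.map (CommRingCat.ofHom (algebraMap P Pg)) ≫ polyToProj A n
  haveI : IsOpenImmersion (Spec.map (CommRingCat.ofHom (algebraMap P Pg))) := IsOpenImmersion.of_isLocalization g
  let p₀ := CohB1.ProjSpace.toSpec n A
  let h : Spec (CommRingCat.of Pg) ⟶ Spec A := jP ≫ p₀
  haveI : IsNoetherian (Spec A) := inferInstance
  haveI : CompactSpace (CohB1.ProjSpace n A) := QuasiCompact.compactSpace_of_compactSpace p₀
  haveI : IsLocallyNoetherian (CohB1.ProjSpace n A) := LocallyOfFiniteType.isLocallyNoetherian p₀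
  haveI : IsNoetherian (CohB1.ProjSpace n A) := { }
  haveI : IsSeparated h := inferInstance
  haveI : QuasiCompact h := qc_of_qcqs h
  let k : Spec (CommRingCat.of B') ⟶ CohB1.ProjSpace n A := Spec.map φ ≫ jP
  haveI : QuasiCompact k := qc_of_qcqs k
  let p' : k.image ⟶ Spec A := k.imageι ≫ p₀
  haveI : CompactSpace k.image := QuasiCompact.compactSpace_of_compactSpace k.imageι
  haveI : QuasiSeparatedSpace k.image := quasiSeparatedSpace_of_quasiSeparated k.imageι
  haveI := DBC9.hasRpush p₀
  haveI := DBC9.hasRpush p'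
  let h₀ := rpushPreserves p₀
  let h' := rpushPreserves p'
  haveI := isLeftAdjoint_rpushQ p₀ h₀
  haveI := isLeftAdjoint_rpushQ p' h'
  let adj₀ := Adjunction.ofIsLeftAdjoint (DCoh.RpushQ p₀ h₀)
  let adj' := Adjunction.ofIsLeftAdjoint (DCoh.RpushQ p' h')
  have hfac' : k.toImage ≫ p' = Spec.map φ ≫ h := by
    rw [← Category.assoc, Scheme.Hom.toImage_imageι, Category.assoc]
  have hL := locShift_comp h p₀ jP (Spec.map φ) adjφ hi p' k.toImage hfac' adj' rfl adj₀
  let u : Spec (CommRingCat.of B') ⟶ X := Spec.map (CommRingCat.ofHom (algebraMap B B')) ≫ hU.fromSpec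
  haveI : IsOpenImmersion (Spec.map (CommRingCat.ofHom (algebraMap B B'))) := IsOpenImmersion.of_isLocalization (F g)
  have hAB : CommRingCat.ofHom (algebraMap A P) ≫ CommRingCat.ofHom (algebraMap P Pg) ≫ φ =
      f.appLE V U e ≫ CommRingCat.ofHom (algebraMap B B') := by
    ext t
    show IsLocalization.Away.map Pg B' F.toRingHom g (algebraMap P Pg (algebraMap A P t)) =
      algebraMap B B' (algebraMap A B t)
    rw [IsLocalization.Away.map, IsLocalization.map_eq, ← F.commutes]
    rfl
  have w : u ≫ j ≫ p = (k.toImage ≫ p') ≫ hV.fromSpec := by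
    rw [hfac, hfac', Category.assoc, ← hV.SpecMap_appLE_fromSpec f hU e, ← Category.assoc, ← Category.assoc]
    congr 1
    show _ = Spec.map φ ≫ (Spec.map (CommRingCat.ofHom (algebraMap P Pg)) ≫ polyToProj A n) ≫ p₀
    rw [Category.assoc, polyToProj_toSpec, ← Spec.map_comp, ← Spec.map_comp, ← Spec.map_comp, Category.assoc, hAB]
  obtain ⟨m⟩ := nonempty_loc_one adj hV.fromSpec u adj' w
  refine ⟨_, u, inferInstance, ?_, locShift_of_iso m.symm hL⟩
  let q₁ : PrimeSpectrum B := q₀
  obtain ⟨z, hz⟩ : q₁ ∈ Set.range (PrimeSpectrum.comap (algebraMap B B')) := by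
    rw [PrimeSpectrum.localization_away_comap_range B' (F g)]
    exact fun hm => hg hm
  refine ⟨z, ?_⟩
  show hU.fromSpec ((Spec.map (CommRingCat.ofHom (algebraMap B B'))) z) = x
  rw [show (Spec.map (CommRingCat.ofHom (algebraMap B B'))) z = q₀ from hz]
  exact hU.fromSpec_primeIdealOf ⟨x, hx⟩

end Groth.Agent.BC8

namespace Groth.Agent.BC8

open DMon9

/-- Tensoring with a locally shifted structure sheaf keeps perfectness. -/
theorem isPerfect_ten_locShift {X : Scheme.{u}} {G M : DCoh.D X} (hG : LocShift G) (hM : DCoh.IsPerfect M) :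
    DCoh.IsPerfect ((tenL G).obj M) :=
  PerfPush9.isPerfect_of_cover fun x => by
    obtain ⟨U, i, hi, a, hx, ⟨c⟩⟩ := hG x
    obtain ⟨m⟩ := nonempty_lP_ten i G M
    obtain ⟨t⟩ := nonempty_tenL_one a ((lP i).obj G) c
    exact ⟨U, i, hi, hx, DGen9.isPerfect_of_iso (((lPRes i).app _).symm ≪≫ m ≪≫ t.app _).symm
      (DGen9.isPerfect_shiftD (PerfPush9.isPerfect_lP _ hM) (-a))⟩

end Groth.Agent.BC8
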