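import Groth.Agent.Lib.BC8.RelDual
import Groth.Agent.Lib.BC8.LciInvert
import Groth.Agent.Lib.DGen9.RelLocal
import Groth.Agent.Lib.RelPC8.Via
import Groth.Agent.Lib.RelPCS8.FlatFP
import Groth.Agent.Lib.PCMor4.Smooth
import Groth.Agent.Lib.PCMor4.SchemeBC
import Groth.Agent.Lib.RelPCS8.TorRpush
import Groth.Agent.Lib.DPush9.Tilde
import Groth.Agent.S7073

/-! The twisted inverse image of the structure sheaf along a flat morphism is relatively perfect. -/

set_option autoImplicit false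
set_option linter.style.haveILetI false
set_option linter.unusedSectionVars false
set_option backward.isDefEq.respectTransparency false
set_option backward.isDefEq.respectTransparency.types false

universe u

open CategoryTheory CategoryTheory.Limits AlgebraicGeometry MonoidalCategory

attribute [local instance] HasDerivedCategory.standard

namespace Groth.Agent.BC8

open DMon9

section RpushTen

attribute [local instance] preadditiveDM

variable {X Y : Scheme.{u}} {f : X ⟶ Y} [DCoh.HasRpush f] {hf : DCoh.RpushPreservesQCoh f}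
  [CompactSpace X] [QuasiSeparatedSpace X] [CompactSpace Y] [QuasiSeparatedSpace Y]
  {a : DCoh.DQCoh Y ⥤ DCoh.DQCoh X} (adj : DCoh.RpushQ f hf ⊣ a)

include adj in
/-- `Rf_* a(T) ≅ T ⊗ (Rf_* O)^∨`. -/
theorem nonempty_rpush_a_ten (D : DM Y) (hD : DCoh.IsQCohD (D : DCoh.D Y))
    [ExactPairing ((rM f).obj (𝟙_ (DM X))) D] (T : DCoh.DQCoh Y) :
    Nonempty (((DCoh.RpushQ f hf).obj (a.obj T)).obj ≅ (tenL T.obj).obj (D : DCoh.D Y)) := by
  haveI := qc_of_qcqs f
  haveI := qs_of_qcqs f
  let C : DM Y := (rM f).obj (𝟙_ (DM X))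
  have hC : DCoh.IsQCohD (C : DCoh.D Y) := hf _ isQCohD_one
  let Ψ : DCoh.DQCoh Y ⥤ DCoh.DQCoh Y :=
    ObjectProperty.lift _ (ObjectProperty.ι _ ⋙ (tensorRight C : DM Y ⥤ DM Y))
      fun T => isQCohD_tensor (A := (T.obj : DM Y)) (B := C) T.property hC
  let Ψ' : DCoh.DQCoh Y ⥤ DCoh.DQCoh Y :=
    ObjectProperty.lift _ (ObjectProperty.ι _ ⋙ (tensorRight D : DM Y ⥤ DM Y))
      fun T => isQCohD_tensor (A := (T.obj : DM Y)) (B := D) T.property hD
  let adjΨ : Ψ ⊣ Ψ' :=
    Adjunction.restrictFullyFaithful (tensorRightAdjunction C D : (tensorRight C : DM Y ⥤ DM Y) ⊣ tensorRight D)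
      (ObjectProperty.fullyFaithfulι _) (ObjectProperty.fullyFaithfulι _) (Iso.refl _) (Iso.refl _)
  let q : ∀ T : DCoh.DQCoh Y, Ψ.obj T ≅ (lq f ⋙ DCoh.RpushQ f hf).obj T := fun T =>
    haveI : IsIso (qApp (adjM f) (T.obj : DM Y)) := isIso_qApp f _ T.property
    ObjectProperty.isoMk _ (asIso (qApp (adjM f) (T.obj : DM Y)) :)
  let nq : Ψ ≅ lq f ⋙ DCoh.RpushQ f hf := NatIso.ofComponents q fun {T T'} v => by
    apply ObjectProperty.hom_ext
    exact qApp_natural (adjM f) (A := (T.obj : DM Y)) (A' := (T'.obj : DM Y)) v.hom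
  let w := Adjunction.rightAdjointUniq (((adjq f hf).comp adj).ofNatIsoLeft nq.symm) adjΨ
  exact ⟨(ObjectProperty.ι _).mapIso (w.app T)⟩

include adj in
/-- For a perfect proper morphism `Rf_* a(T)` is perfect when `T` is locally a shift of `O`. -/
theorem isPerfect_rpush_a [IsLocallyNoetherian Y] [IsProper f] (hperf : MoreMor.IsPerfectMor f)
    (T : DCoh.DQCoh Y) (hT : LocShift T.obj) :
    DCoh.IsPerfect ((DCoh.RpushQ f hf).obj (a.obj T)).obj := by
  let C : DM Y := (rM f).obj (𝟙_ (DM X))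
  have hC : DCoh.IsPerfect (C : DCoh.D Y) := by
    have h1 : DCoh.IsPerfect ((DCoh.Rpush f).obj (TwistBC9.oneD X 0)) :=
      RelPCS8.TorRpush.isPerfect_rpush f hperf _ 0 (TwistBC9.isPerfect_oneD X)
    exact DGen9.isPerfect_of_iso ((DCoh.Rpush f).mapIso (unitIso (O := oQ X) (Iso.refl _)) :) h1
  obtain ⟨D, hD, ⟨pr⟩⟩ := exists_pairing_left_perfect C hC
  haveI := pr
  obtain ⟨e⟩ := nonempty_rpush_a_ten adj D (DGen9.isQCohD_of_isPerfect hD) T
  exact DGen9.isPerfect_of_iso e.symm (isPerfect_ten_locShift hT hD)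

end RpushTen

/-- A complex whose restriction along a surjection is perfect is relatively perfect. -/
theorem isRelPerfect_of_restrict {A P B : Type u} [CommRing A] [CommRing P] [CommRing B] [Algebra A P] [Algebra A B]
    [Module.Flat A P] [Algebra.FinitePresentation A P] [IsNoetherianRing P] (F : P →ₐ[A] B)
    (hF : Function.Surjective F) (M : Dual.D B)
    (hM : DRing.IsPerfect P ((DRing.restrictD F.toRingHom).obj M)) : Dual2.IsRelPerfect A B M := by
  have hpcr : PCMor4.PCR F.toRingHom := by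
    letI := F.toRingHom.toAlgebra
    haveI : Module.Finite P B := Module.Finite.of_surjective (Algebra.linearMap P B) hF
    intro k
    exact RelPCS8.pcn_of_isNoetherianRing _ _
  refine ⟨(DMod.pc'_iff M).2 fun m => (RelPC8.pc_restrict_iff hpcr m M).1
    ((DMod.pc'_iff _).1 (DMod.pc'_of_perfect hM) m), ?_⟩
  obtain ⟨a, b, h⟩ := (S7073.result A P _ hM).2
  refine ⟨a, b, ?_⟩
  rw [show algebraMap A B = F.toRingHom.comp (algebraMap A P) from F.comp_algebraMap.symm]
  exact DBaseChange.hasTorAmplitudeIn_of_iso (RelPC8.restrictComp (algebraMap A P) F.toRingHom M).symm h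

variable {X Y Xb : Scheme.{u}} [IsNoetherian Y] (f : X ⟶ Y) [Flat f] [LocallyOfFiniteType f]
  (p : Xb ⟶ Y) [IsProper p] (j : X ⟶ Xb) [IsOpenImmersion j] (hfac : j ≫ p = f) [DCoh.HasRpush p]
  {hp : DCoh.RpushPreservesQCoh p} {a : DCoh.DQCoh Y ⥤ DCoh.DQCoh Xb} (adj : DCoh.RpushQ p hp ⊣ a)

include hfac adj in
/-- `f^!O` is pseudo-coherent and of finite tor dimension over the base. -/
theorem relPerf_shriek : RelT.RelPerf f ((lP j).obj (a.obj (oQ Y)).obj) := by
  refine RelT.relPerf_of_charts f _ fun x => ?_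
  obtain ⟨V, hV, hxV, -⟩ := exists_isAffineOpen_mem_and_subset (X := Y) (x := f x) (U := ⊤) trivial
  obtain ⟨U, hU, hxU, e⟩ := exists_isAffineOpen_mem_and_subset (X := X) (x := x) (U := f ⁻¹ᵁ V) hxV
  let A := Γ(Y, V)
  let B := Γ(X, U)
  letI : Algebra A B := (f.appLE V U e).hom.toAlgebra
  haveI : IsNoetherianRing A := IsLocallyNoetherian.component_noetherian ⟨V, hV⟩
  have hflat : (f.appLE V U e).hom.Flat := f.flat_appLE hV hU e
  haveI : Algebra.FiniteType A B := f.finiteType_appLE hV hU e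
  haveI : Algebra.FinitePresentation A B := Algebra.FinitePresentation.of_finiteType.1 inferInstance
  obtain ⟨n, F, hF⟩ := Algebra.FiniteType.iff_quotient_mvPolynomial''.1 (inferInstance : Algebra.FiniteType A B)
  let P := MvPolynomial (Fin n) A
  let φ : CommRingCat.of P ⟶ CommRingCat.of B := CommRingCat.ofHom F.toRingHom
  haveI : IsClosedImmersion (Spec.map φ) := IsClosedImmersion.spec_of_surjective _ hF
  let s : Spec (CommRingCat.of P) ⟶ Spec A := Spec.map (CommRingCat.ofHom (algebraMap A P))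
  haveI : Smooth s := (HasRingHomProperty.Spec_iff (P := @Smooth)).2
    (RingHom.smooth_algebraMap.2 ⟨inferInstance, inferInstance⟩)
  have hAB : CommRingCat.ofHom (algebraMap A P) ≫ φ = f.appLE V U e := by
    ext t
    exact F.commutes t
  have hperf : MoreMor.IsPerfectMor (Spec.map φ) := by
    refine (PCMor4.isPerfectMor_iff _).2 (PCMor4.pfMor_of_comp_smooth _ s ?_)
    rw [← Spec.map_comp, hAB]
    haveI : Flat (Spec.map (f.appLE V U e)) := (HasRingHomProperty.Spec_iff (P := @Flat)).2 hflat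
    haveI : LocallyOfFinitePresentation (Spec.map (f.appLE V U e)) :=
      (HasRingHomProperty.Spec_iff (P := @LocallyOfFinitePresentation)).2 (by
        exact (inferInstance : Algebra.FinitePresentation A B))
    exact PCMor4.pfMor_of_flat _
  haveI := DBC9.hasRpush (Spec.map φ)
  let hφ := rpushPreserves (Spec.map φ)
  haveI := isLeftAdjoint_rpushQ (Spec.map φ) hφ
  let adjφ := Adjunction.ofIsLeftAdjoint (DCoh.RpushQ (Spec.map φ) hφ)
  let jP : Spec (CommRingCat.of P) ⟶ CohB1.ProjSpace n A := polyToProj A n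
  let p₀ := CohB1.ProjSpace.toSpec n A
  let h : Spec (CommRingCat.of P) ⟶ Spec A := jP ≫ p₀
  haveI : Smooth h := by
    show Smooth (polyToProj A n ≫ CohB1.ProjSpace.toSpec n A)
    rw [polyToProj_toSpec]
    infer_instance
  haveI : IsNoetherian (Spec A) := inferInstance
  haveI : CompactSpace (CohB1.ProjSpace n A) := QuasiCompact.compactSpace_of_compactSpace p₀
  haveI : IsLocallyNoetherian (CohB1.ProjSpace n A) := LocallyOfFiniteType.isLocallyNoetherian p₀
  haveI : IsNoetherian (CohB1.ProjSpace n A) := { }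
  haveI : IsSeparated h := inferInstance
  haveI : QuasiCompact h := qc_of_qcqs h
  let k : Spec (CommRingCat.of B) ⟶ CohB1.ProjSpace n A := Spec.map φ ≫ jP
  haveI : QuasiCompact k := qc_of_qcqs k
  let p' : k.image ⟶ Spec A := k.imageι ≫ p₀
  haveI : CompactSpace k.image := QuasiCompact.compactSpace_of_compactSpace k.imageι
  haveI : QuasiSeparatedSpace k.image := quasiSeparatedSpace_of_quasiSeparated k.imageι
  haveI := DBC9.hasRpush p₀
  haveI := DBC9.hasRpush p'
  let h₀ := rpushPreserves p₀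
  let h' := rpushPreserves p'
  haveI := isLeftAdjoint_rpushQ p₀ h₀
  haveI := isLeftAdjoint_rpushQ p' h'
  let adj₀ := Adjunction.ofIsLeftAdjoint (DCoh.RpushQ p₀ h₀)
  let adj' := Adjunction.ofIsLeftAdjoint (DCoh.RpushQ p' h')
  have hfac' : k.toImage ≫ p' = Spec.map φ ≫ h := by
    rw [← Category.assoc, Scheme.Hom.toImage_imageι, Category.assoc]
  let u : Spec (CommRingCat.of B) ⟶ X := hU.fromSpec
  have w : u ≫ j ≫ p = (k.toImage ≫ p') ≫ hV.fromSpec := by
    rw [hfac, hfac', ← hV.SpecMap_appLE_fromSpec f hU e]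
    congr 1
    show _ = Spec.map φ ≫ polyToProj A n ≫ CohB1.ProjSpace.toSpec n A
    rw [polyToProj_toSpec, ← Spec.map_comp, hAB]
  obtain ⟨m⟩ := nonempty_loc_one adj hV.fromSpec u adj' w
  haveI : IsNoetherian (Spec (CommRingCat.of P)) := inferInstance
  obtain ⟨c⟩ := nonempty_shriek_comp (f := Spec.map φ) (g := h) (jf := 𝟙 _) (pf := Spec.map φ)
    (Category.id_comp _) rfl hfac' adjφ adj₀ adj'
  let L : DCoh.DQCoh (Spec (CommRingCat.of P)) := (lq jP).obj ((DCoh.RpushQ p₀ h₀).rightAdjoint.obj (oQ _))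
  have hL : LocShift L.obj := locShift_smooth h p₀ jP rfl adj₀
  let G : DCoh.DQCoh (Spec (CommRingCat.of B)) := (DCoh.RpushQ (Spec.map φ) hφ).rightAdjoint.obj L
  have hG := isPerfect_rpush_a adjφ hperf L hL
  let eK : G.obj ≅ (DPerf.resD u).obj ((lP j).obj (a.obj (oQ Y)).obj) :=
    ((DBC9.lPId _).app _).symm ≪≫ (c.app ⟨oQ _, isBdd_oQ _⟩).symm ≪≫ m.symm ≪≫ (lPRes u).app _
  obtain ⟨M, ⟨eM⟩⟩ := DQC.exists_iso_of_isQCohD (R := CommRingCat.of B) G.obj G.property
  haveI : PreservesFiniteLimits (tilde.functor (CommRingCat.of P)) := M1.tilde_preservesFiniteLimits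
  haveI : PreservesFiniteLimits (tilde.functor (CommRingCat.of B)) := M1.tilde_preservesFiniteLimits
  obtain ⟨t⟩ := DPush9.nonempty_tildeD_rpush_iso φ
  have hM : DRing.IsPerfect P ((DRing.restrictD F.toRingHom).obj M) :=
    (DPerf.perfect_tilde_iff (R := CommRingCat.of P) _).1 (DGen9.isPerfect_of_iso
      ((DCoh.Rpush (Spec.map φ)).mapIso eM.symm ≪≫ t.app M) hG)
  exact ⟨A, CommRingCat.of B, hV.fromSpec, inferInstance, u, inferInstance, f.appLE V U e, M, hflat,
    by rw [hU.opensRange_fromSpec]; exact hxU, (IsAffineOpen.SpecMap_appLE_fromSpec f hV hU e).symm,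
    ⟨eM ≪≫ eK⟩, isRelPerfect_of_restrict F hF M hM⟩

end Groth.Agent.BC8
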