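import Groth.Agent.Lib.BC8.Tri
import Groth.Agent.Lib.DPush.QCoh
import Groth.Agent.Lib.SiteCmp16.CohIn
import Groth.Agent.Lib.CohMop.QCohVan
import Groth.Agent.Lib.DGen9.GlobalApprox
import Groth.Agent.Lib.DPerf.Noeth
import Groth.Agent.Lib.DPush9.Coh
import Groth.Agent.Lib.SerreCl8.Main
import Groth.Agent.Lib.DMV.Perfect
import Groth.Agent.Lib.DerTrunc.Basic
import Mathlib.CategoryTheory.Abelian.Refinements

/-! Way-out isomorphism criterion on `D_QCoh` of a Noetherian scheme from perfect objects, for a natural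
transformation not assumed compatible with shifts. -/

set_option autoImplicit false
set_option linter.style.haveILetI false
set_option linter.unusedSectionVars false
set_option backward.isDefEq.respectTransparency false
set_option backward.isDefEq.respectTransparency.types false

universe u v w

open CategoryTheory CategoryTheory.Limits AlgebraicGeometry Pretriangulated

attribute [local instance] HasDerivedCategory.standard

namespace Groth.Agent.BC8

section Four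

variable {C : Type w} [Category.{v} C] [Abelian C] {A B Z X₁ Y₁ A' B' Z' X₁' Y₁' : C}
  {f : A ⟶ B} {g : B ⟶ Z} {h : Z ⟶ X₁} {k : X₁ ⟶ Y₁}
  {f' : A' ⟶ B'} {g' : B' ⟶ Z'} {h' : Z' ⟶ X₁'} {k' : X₁' ⟶ Y₁'}
  {a : A ⟶ A'} {b : B ⟶ B'} {z : Z ⟶ Z'} {x : X₁ ⟶ X₁'} {y : Y₁ ⟶ Y₁'}

theorem epi_four (w' : g' ≫ h' = 0) (wk' : h' ≫ k' = 0) (wk : h ≫ k = 0)
    (e : (ShortComplex.mk h k wk).Exact) (e' : (ShortComplex.mk g' h' w').Exact)
    (c₂ : g ≫ z = b ≫ g') (c₃ : h ≫ x = z ≫ h') (c₄ : k ≫ y = x ≫ k') [Epi b] [IsIso x] [Mono y] : Epi z := by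
  rw [epi_iff_surjective_up_to_refinements]
  intro W q
  have h0 : (q ≫ h' ≫ inv x) ≫ k = 0 := (cancel_mono y).1 (by
    simp only [Category.assoc]
    rw [c₄, IsIso.inv_hom_id_assoc, wk', comp_zero, zero_comp])
  obtain ⟨W₁, π₁, hπ₁, q₁, hq₁⟩ := e.exact_up_to_refinements _ h0
  dsimp at q₁ hq₁
  have h1 : (π₁ ≫ q - q₁ ≫ z) ≫ h' = 0 := by
    rw [Preadditive.sub_comp, Category.assoc, Category.assoc, ← c₃, ← reassoc_of% hq₁]
    simp
  obtain ⟨W₂, π₂, hπ₂, q₂, hq₂⟩ := e'.exact_up_to_refinements _ h1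
  dsimp at q₂ hq₂
  obtain ⟨W₃, π₃, hπ₃, q₃, hq₃⟩ := surjective_up_to_refinements_of_epi b q₂
  refine ⟨W₃, π₃ ≫ π₂ ≫ π₁, epi_comp' hπ₃ (epi_comp' hπ₂ hπ₁), π₃ ≫ π₂ ≫ q₁ + q₃ ≫ g, ?_⟩
  rw [Preadditive.add_comp, Category.assoc q₃, c₂, ← reassoc_of% hq₃, ← hq₂]
  simp

theorem mono_four (wg : f ≫ g = 0) (w : g ≫ h = 0) (w' : f' ≫ g' = 0)
    (e : (ShortComplex.mk g h w).Exact) (e' : (ShortComplex.mk f' g' w').Exact)
    (c₁ : f ≫ b = a ≫ f') (c₂ : g ≫ z = b ≫ g') (c₃ : h ≫ x = z ≫ h') [Epi a] [IsIso b] [Mono x] : Mono z := by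
  rw [Preadditive.mono_iff_cancel_zero]
  intro W q hq
  have h0 : q ≫ h = 0 := (cancel_mono x).1 (by rw [Category.assoc, c₃, reassoc_of% hq, zero_comp, zero_comp])
  obtain ⟨W₁, π₁, hπ₁, q₁, hq₁⟩ := e.exact_up_to_refinements _ h0
  dsimp at q₁ hq₁
  have h1 : (q₁ ≫ b) ≫ g' = 0 := by rw [Category.assoc, ← c₂, ← reassoc_of% hq₁, hq, comp_zero]
  obtain ⟨W₂, π₂, hπ₂, q₂, hq₂⟩ := e'.exact_up_to_refinements _ h1
  dsimp at q₂ hq₂
  obtain ⟨W₃, π₃, hπ₃, q₃, hq₃⟩ := surjective_up_to_refinements_of_epi a q₂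
  have h2 : π₃ ≫ π₂ ≫ q₁ = q₃ ≫ f := (cancel_mono b).1 (by
    simp only [Category.assoc]
    rw [c₁, ← reassoc_of% hq₃, hq₂])
  haveI := hπ₁; haveI := hπ₂; haveI := hπ₃
  rw [← cancel_epi (π₃ ≫ π₂ ≫ π₁), comp_zero]
  simp only [Category.assoc]
  rw [hq₁, reassoc_of% h2, wg, comp_zero]

end Four

section WayOut

variable {X Y : Scheme.{u}}

local notation "HX" => DerivedCategory.homologyFunctor X.Modules
local notation "HY" => DerivedCategory.homologyFunctor Y.Modules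
local notation "tY" => (DerivedCategory.TStructure.t : Triangulated.TStructure (DCoh.D Y))
local notation "tX" => (DerivedCategory.TStructure.t : Triangulated.TStructure (DCoh.D X))

/-- A quasi-coherent module in degree zero. -/
noncomputable def sglQ (M : Y.Modules) (hM : Coh.IsQCoh M) : DCoh.DQCoh Y :=
  ⟨(DerivedCategory.singleFunctor Y.Modules 0).obj M,
    haveI := DPush.isWeakSerre_isQCoh Y
    WayOut.cohIn_single (fun M : Y.Modules => Coh.IsQCoh M) hM 0⟩

/-- The cone of a map which is epi in degree `j` and mono in degree `j + 1` vanishes in degree `j`. -/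
theorem isZero_HD_cone (T : Triangle (DCoh.DQCoh Y)) (hT : T ∈ distTriang _) (j : ℤ)
    (h₁ : Epi ((HY j).map T.mor₁.hom)) (h₂ : Mono ((HY (j + 1)).map T.mor₁.hom)) :
    IsZero (DCoh.HD T.obj₃.obj j) := by
  let T' := (ObjectProperty.ι DCoh.IsQCohD).mapTriangle.obj T
  have hT' : T' ∈ distTriang (DCoh.D Y) := (ObjectProperty.ι DCoh.IsQCohD).map_distinguished T hT
  have e₁ := DerivedCategory.HomologySequence.exact₂ T' hT' j
  have e₃ := DerivedCategory.HomologySequence.exact₃ T' hT' j (j + 1) rfl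
  have h2 : (HY j).map T'.mor₂ = 0 := by
    haveI : Epi ((HY j).map T'.mor₁) := h₁
    rw [← cancel_epi ((HY j).map T'.mor₁), comp_zero, ← Functor.map_comp,
      comp_distTriang_mor_zero₁₂ T' hT', Functor.map_zero]
  have h3 : DerivedCategory.HomologySequence.δ T' j (j + 1) rfl = 0 := by
    haveI : Mono ((HY (j + 1)).map T'.mor₁) := h₂
    rw [← cancel_mono ((HY (j + 1)).map T'.mor₁), zero_comp]
    exact DerivedCategory.HomologySequence.δ_comp T' hT' j (j + 1) rfl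
  exact e₃.isZero_X₂ h2 h3

/-- Homology of the values. -/
noncomputable abbrev hval (Φ : DCoh.DQCoh Y ⥤ DCoh.D X) (i : ℤ) : DCoh.DQCoh Y ⥤ X.Modules :=
  Φ ⋙ DerivedCategory.homologyFunctor X.Modules i

/-- Homology of the values is exact in the middle on triangles. -/
class HExQ (Φ : DCoh.DQCoh Y ⥤ DCoh.D X) : Prop where
  exact : ∀ (T : Triangle (DCoh.DQCoh Y)), T ∈ distTriang _ → ∀ i : ℤ,
    ∃ w : (hval Φ i).map T.mor₁ ≫ (hval Φ i).map T.mor₂ = 0, (ShortComplex.mk _ _ w).Exact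

variable (Φ Ψ : DCoh.DQCoh Y ⥤ DCoh.D X) [HExQ Φ] [HExQ Ψ]

theorem hval_zero (T : Triangle (DCoh.DQCoh Y)) (hT : T ∈ distTriang _) (i : ℤ) :
    (hval Φ i).map T.mor₁ ≫ (hval Φ i).map T.mor₂ = 0 :=
  (HExQ.exact T hT i).choose

theorem hval_exact (T : Triangle (DCoh.DQCoh Y)) (hT : T ∈ distTriang _) (i : ℤ) :
    (ShortComplex.mk _ _ (hval_zero Φ T hT i)).Exact :=
  (HExQ.exact T hT i).choose_spec

theorem isIso_hval_mor₁ (T : Triangle (DCoh.DQCoh Y)) (hT : T ∈ distTriang _) (i : ℤ)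
    (h₃ : IsZero ((hval Φ i).obj T.obj₃)) (h₀ : IsZero ((hval Φ i).obj (T.obj₃⟦(-1 : ℤ)⟧))) :
    IsIso ((hval Φ i).map T.mor₁) := by
  haveI : Epi ((hval Φ i).map T.mor₁) := (hval_exact Φ T hT i).epi_f (h₃.eq_of_tgt _ _)
  haveI : Mono ((hval Φ i).map T.mor₁) :=
    (hval_exact Φ T.invRotate (inv_rot_of_distTriang _ hT) i).mono_g (h₀.eq_of_src _ _)
  exact isIso_of_mono_of_epi _

variable {Φ Ψ} (η : Ψ ⟶ Φ)

/-- The component in degree `i`. -/
noncomputable abbrev ηH (K : DCoh.DQCoh Y) (i : ℤ) : (hval Ψ i).obj K ⟶ (hval Φ i).obj K :=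
  (HX i).map (η.app K)

theorem ηH_natural {K L : DCoh.DQCoh Y} (f : K ⟶ L) (i : ℤ) :
    (hval Ψ i).map f ≫ ηH η L i = ηH η K i ≫ (hval Φ i).map f := by
  change (HX i).map (Ψ.map f) ≫ (HX i).map (η.app L) = (HX i).map (η.app K) ≫ (HX i).map (Φ.map f)
  rw [← Functor.map_comp, η.naturality, Functor.map_comp]

theorem ηH_iso {K L : DCoh.DQCoh Y} (e : K ≅ L) (i : ℤ) [IsIso (ηH η K i)] : IsIso (ηH η L i) := by
  have h := ηH_natural η e.hom i
  haveI : IsIso ((hval Ψ i).map e.hom ≫ ηH η L i) := by rw [h]; infer_instance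
  exact IsIso.of_isIso_comp_left ((hval Ψ i).map e.hom) _

theorem epi_obj₃ (T : Triangle (DCoh.DQCoh Y)) (hT : T ∈ distTriang _) (i : ℤ) [Epi (ηH η T.obj₂ i)]
    [IsIso (ηH η (T.obj₁⟦(1 : ℤ)⟧) i)] [Mono (ηH η (T.obj₂⟦(1 : ℤ)⟧) i)] : Epi (ηH η T.obj₃ i) := by
  have hR := rot_of_distTriang _ hT
  have hRR := rot_of_distTriang _ hR
  exact epi_four (hval_zero Φ _ hR i) (hval_zero Φ _ hRR i) (hval_zero Ψ _ hRR i) (hval_exact Ψ _ hRR i)
    (hval_exact Φ _ hR i) (ηH_natural η T.mor₂ i) (ηH_natural η T.mor₃ i)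
    (ηH_natural η (-(shiftFunctor (DCoh.DQCoh Y) (1 : ℤ)).map T.mor₁) i)

theorem mono_obj₃ (T : Triangle (DCoh.DQCoh Y)) (hT : T ∈ distTriang _) (i : ℤ) [Epi (ηH η T.obj₁ i)]
    [IsIso (ηH η T.obj₂ i)] [Mono (ηH η (T.obj₁⟦(1 : ℤ)⟧) i)] : Mono (ηH η T.obj₃ i) := by
  have hR := rot_of_distTriang _ hT
  exact mono_four (hval_zero Ψ _ hT i) (hval_zero Ψ _ hR i) (hval_zero Φ _ hT i) (hval_exact Ψ _ hR i)
    (hval_exact Φ _ hT i) (ηH_natural η T.mor₁ i) (ηH_natural η T.mor₂ i) (ηH_natural η T.mor₃ i)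

/-- Isomorphism in all degrees on all shifts. -/
def IsoAll (K : DCoh.DQCoh Y) : Prop := ∀ (n : ℤ) (i : ℤ), IsIso (ηH η (K⟦n⟧) i)

theorem isoAll_shift {K : DCoh.DQCoh Y} (h : IsoAll η K) (m : ℤ) : IsoAll η (K⟦m⟧) := fun n i =>
  haveI := h (m + n) i
  ηH_iso η ((shiftFunctorAdd' (DCoh.DQCoh Y) m n (m + n) rfl).app K) i

theorem isoAll_of_iso {K L : DCoh.DQCoh Y} (e : K ≅ L) (h : IsoAll η K) : IsoAll η L := fun n i =>
  haveI := h n i
  ηH_iso η ((shiftFunctor _ n).mapIso e) i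

theorem isoAll_obj₂ (T : Triangle (DCoh.DQCoh Y)) (hT : T ∈ distTriang _)
    (h₁ : IsoAll η T.obj₁) (h₃ : IsoAll η T.obj₃) : IsoAll η T.obj₂ := by
  intro n i
  let S := ((Triangle.shiftFunctor (DCoh.DQCoh Y) n).obj T).invRotate
  have hS : S ∈ distTriang _ := inv_rot_of_distTriang _ (Triangle.shift_distinguished _ hT n)
  haveI : IsIso (ηH η S.obj₁ i) := isoAll_shift η h₃ n (-1) i
  haveI : IsIso (ηH η S.obj₂ i) := h₁ n i
  haveI : IsIso (ηH η (S.obj₁⟦(1 : ℤ)⟧) i) := isoAll_shift η (isoAll_shift η h₃ n) (-1) 1 i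
  haveI : IsIso (ηH η (S.obj₂⟦(1 : ℤ)⟧) i) := isoAll_shift η h₁ n 1 i
  haveI := epi_obj₃ η S hS i
  haveI := mono_obj₃ η S hS i
  exact isIso_of_mono_of_epi (ηH η S.obj₃ i)

theorem isIso_ηH_of_mor₁ (T : Triangle (DCoh.DQCoh Y)) (hT : T ∈ distTriang _) (i : ℤ)
    (hΦ₃ : IsZero ((hval Φ i).obj T.obj₃)) (hΦ₀ : IsZero ((hval Φ i).obj (T.obj₃⟦(-1 : ℤ)⟧)))
    (hΨ₃ : IsZero ((hval Ψ i).obj T.obj₃)) (hΨ₀ : IsZero ((hval Ψ i).obj (T.obj₃⟦(-1 : ℤ)⟧)))
    [IsIso (ηH η T.obj₁ i)] : IsIso (ηH η T.obj₂ i) := by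
  haveI := isIso_hval_mor₁ Φ T hT i hΦ₃ hΦ₀
  haveI := isIso_hval_mor₁ Ψ T hT i hΨ₃ hΨ₀
  haveI : IsIso ((hval Ψ i).map T.mor₁ ≫ ηH η T.obj₂ i) := by rw [ηH_natural η T.mor₁ i]; infer_instance
  exact IsIso.of_isIso_comp_left ((hval Ψ i).map T.mor₁) _

/-- Amplitude on bounded below objects. -/
def Amp (Φ : DCoh.DQCoh Y ⥤ DCoh.D X) (N : ℤ) : Prop :=
  (∀ (K : DCoh.DQCoh Y) (c : ℤ), K.obj.IsGE c → (Φ.obj K).IsGE (c - N)) ∧
    ∀ (K : DCoh.DQCoh Y) (c m : ℤ), K.obj.IsGE c → K.obj.IsLE m → (Φ.obj K).IsLE (m + N)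

theorem amp_mono {Φ : DCoh.DQCoh Y ⥤ DCoh.D X} {N N' : ℤ} (h : N ≤ N') (hA : Amp Φ N) : Amp Φ N' :=
  ⟨fun K c hK =>
      haveI : (tX).IsGE (Φ.obj K) (c - N) := hA.1 K c hK
      (tX).isGE_of_ge _ (c - N') (c - N) (by lia),
    fun K c m hK hm =>
      haveI : (tX).IsLE (Φ.obj K) (m + N) := hA.2 K c m hK hm
      (tX).isLE_of_le _ (m + N) (m + N') (by lia)⟩

/-- Shifts commute with the inclusion. -/
noncomputable def shObj (K : DCoh.DQCoh Y) (n : ℤ) : (K⟦n⟧).obj ≅ K.obj⟦n⟧ :=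
  ((ObjectProperty.ι DCoh.IsQCohD).commShiftIso n).app K

/-- Coproducts of uniformly bounded below families are preserved. -/
def SumsBdd (Φ : DCoh.DQCoh Y ⥤ DCoh.D X) : Prop :=
  ∀ (J : Type u) (K : J → DCoh.DQCoh Y) (c : ℤ), (∀ s, (K s).obj.IsGE c) → ∀ (co : Cofan K),
    IsColimit co → Nonempty (IsColimit (Φ.mapCocone co))

theorem isGE_shiftQ (K : DCoh.DQCoh Y) (c n : ℤ) (h : K.obj.IsGE c) : (K⟦n⟧).obj.IsGE (c - n) :=
  haveI : (tY).IsGE K.obj c := h
  haveI := (tY).isGE_shift K.obj c n (c - n) (by lia)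
  (tY).isGE_of_iso (shObj K n).symm (c - n)

theorem isLE_shiftQ (K : DCoh.DQCoh Y) (c n : ℤ) (h : K.obj.IsLE c) : (K⟦n⟧).obj.IsLE (c - n) :=
  haveI : (tY).IsLE K.obj c := h
  haveI := (tY).isLE_shift K.obj c n (c - n) (by lia)
  (tY).isLE_of_iso (shObj K n).symm (c - n)

/-- The criterion for shifts of a coherent module. -/
theorem isIso_ηH_coh [IsNoetherian Y] {N : ℤ} (hΦ : Amp Φ N) (hΨ : Amp Ψ N)
    (hperf : ∀ P : DCoh.DQCoh Y, DCoh.IsPerfect P.obj → IsIso (η.app P))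
    (M : Y.Modules) (hM : Coh.IsCoh M) : IsoAll η (sglQ M hM.1) := by
  intro n i
  obtain ⟨r, hr⟩ := DGen9.exists_approximation Y Set.univ isClosed_univ (by rw [Set.compl_univ]; exact isCompact_empty)
  let K : DCoh.DQCoh Y := (sglQ M hM.1)⟦n⟧
  have hge : K.obj.IsGE (0 - n) := isGE_shiftQ (sglQ M hM.1) 0 n
    (inferInstanceAs (DerivedCategory.IsGE ((DerivedCategory.singleFunctor Y.Modules 0).obj M) 0))
  have hle : K.obj.IsLE (0 - n) := isLE_shiftQ (sglQ M hM.1) 0 n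
    (inferInstanceAs (DerivedCategory.IsLE ((DerivedCategory.singleFunctor Y.Modules 0).obj M) 0))
  haveI := hle
  have hcoh : ∀ j, Coh.IsCoh (DCoh.HD K.obj j) := by
    intro j
    haveI := DPush9.isWeakSerre_coh Y
    exact WayOut.cohIn_of_iso (fun M : Y.Modules => Coh.IsCoh M) (shObj (sglQ M hM.1) n).symm
      (WayOut.cohIn_shift (fun M : Y.Modules => Coh.IsCoh M) n
        (WayOut.cohIn_single (fun M : Y.Modules => Coh.IsCoh M) hM 0)) j
  let m : ℤ := i - N - 2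
  obtain ⟨P, α, hP, -, hαi, hαe⟩ := hr m K.obj K.property
    (DPerf.isPseudoCoherentD_of_coherent (fun j _ => hcoh j) (0 - n)) (fun _ _ => Set.subset_univ _)
  let PQ : DCoh.DQCoh Y := ⟨P, DGen9.isQCohD_of_isPerfect hP⟩
  let αQ : PQ ⟶ K := ObjectProperty.homMk α
  obtain ⟨C, g, d, hT⟩ := distinguished_cocone_triangle αQ
  haveI := hperf PQ hP
  haveI : IsIso (ηH η (Triangle.mk αQ g d).obj₁ i) := (inferInstance : IsIso ((HX i).map (η.app PQ)))
  have hC : C.obj.IsLE (m - 1) := by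
    rw [DerivedCategory.isLE_iff]
    intro j hj
    refine isZero_HD_cone _ hT j ?_ ?_
    · rcases eq_or_lt_of_le (show m ≤ j by lia) with rfl | h
      · exact hαe
      · haveI := hαi j h
        exact (inferInstance : Epi ((HY j).map α))
    · haveI := hαi (j + 1) (by lia)
      exact (inferInstance : Mono ((HY (j + 1)).map α))
  obtain ⟨c, hc⟩ := DPerf.exists_isGE_of_perfect hP
  have hCge : C.obj.IsGE (min (c - 1) (0 - n)) := by
    let T' := (ObjectProperty.ι DCoh.IsQCohD).mapTriangle.obj (Triangle.mk αQ g d)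
    have hT' : T' ∈ distTriang (DCoh.D Y) := (ObjectProperty.ι DCoh.IsQCohD).map_distinguished _ hT
    rw [DerivedCategory.isGE_iff]
    intro j hj
    exact (DerivedCategory.HomologySequence.exact₃ T' hT' j (j + 1) rfl).isZero_X₂
      ((DerivedCategory.isZero_of_isGE K.obj (0 - n) j (by lia)).eq_of_src _ _)
      ((DerivedCategory.isZero_of_isGE P c (j + 1) (by lia)).eq_of_tgt _ _)
  have hz : ∀ {F : DCoh.DQCoh Y ⥤ DCoh.D X}, Amp F N →
      IsZero ((hval F i).obj C) ∧ IsZero ((hval F i).obj (C⟦(-1 : ℤ)⟧)) := fun {F} hF => by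
    haveI := hF.2 C _ _ hCge hC
    haveI := hF.2 (C⟦(-1 : ℤ)⟧) _ _ (isGE_shiftQ C _ (-1) hCge) (isLE_shiftQ C _ (-1) hC)
    exact ⟨DerivedCategory.isZero_of_isLE _ (m - 1 + N) i (by lia),
      DerivedCategory.isZero_of_isLE _ (m - 1 - (-1) + N) i (by lia)⟩
  exact isIso_ηH_of_mor₁ η (Triangle.mk αQ g d) hT i (hz hΦ).1 (hz hΦ).2 (hz hΨ).1 (hz hΨ).2

/-- A quasi-coherent module is the end of a triangle starting with a sum of coherent modules. -/
theorem exists_sum_triangle [IsNoetherian Y] {N : ℤ} (hΦ : Amp Φ N) (hΨ : Amp Ψ N)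
    (sΦ : SumsBdd Φ) (sΨ : SumsBdd Ψ) (hperf : ∀ P : DCoh.DQCoh Y, DCoh.IsPerfect P.obj → IsIso (η.app P))
    (M : Y.Modules) (hM : Coh.IsQCoh M) :
    ∃ (M' : Y.Modules) (hM' : Coh.IsQCoh M') (F : Y.Modules) (hF : Coh.IsQCoh F)
      (u : sglQ M' hM' ⟶ sglQ F hF) (v : sglQ F hF ⟶ sglQ M hM) (d : sglQ M hM ⟶ (sglQ M' hM')⟦(1 : ℤ)⟧),
      Triangle.mk u v d ∈ distTriang _ ∧ IsoAll η (sglQ F hF) := by
  let G : QCohCat.QCoh Y := ⟨M, hM⟩
  obtain ⟨hcol⟩ := CohMop.nonempty_isColimit_ftCocone G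
  have hcoh : ∀ s, Coh.IsCoh ((CohMop.ftDiag G).obj s) := fun s => ⟨QCoh8.isQCoh_toSub _, s.sub.2⟩
  haveI := DPush.isWeakSerre_isQCoh Y
  let F : Y.Modules := ∐ fun s => (CohMop.ftDiag G).obj s
  have hF : Coh.IsQCoh F := SerreCl8.isQCoh_sigma _ fun s => (hcoh s).1
  let π : F ⟶ M := Sigma.desc fun s => ((CohMop.ftOver G).obj s).obj.hom
  haveI : Epi π := ⟨fun {W} a b hab => hcol.hom_ext fun s => by
    have h' := congrArg (Sigma.ι (fun s => (CohMop.ftDiag G).obj s) s ≫ ·) hab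
    simpa [π, CohMop.ftCocone] using h'⟩
  have hker : Coh.IsQCoh (kernel π) := M1.isQCoh_kernel hF hM π
  -- the sum of the coherent submodules
  have hFall : IsoAll η (sglQ F hF) := by
    intro n' i'
    let Kf : DCoh.DQCoh Y := (sglQ F hF)⟦n'⟧
    let L : ∀ s, DCoh.DQCoh Y := fun s => (sglQ ((CohMop.ftDiag G).obj s) (hcoh s).1)⟦n'⟧
    let e : DCoh.DQCoh Y ⥤ DCoh.D Y := ObjectProperty.ι _
    let S := DerivedCategory.singleFunctor Y.Modules 0 ⋙ shiftFunctor (DCoh.D Y) n'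
    let co : Cofan L := Cofan.mk Kf fun s =>
      ObjectProperty.homMk ((shObj _ n').hom ≫ S.map (Sigma.ι (fun s => (CohMop.ftDiag G).obj s) s) ≫
        (shObj (sglQ F hF) n').inv)
    let L₀ := fun s => S.obj ((CohMop.ftDiag G).obj s)
    haveI : HasCoproduct L₀ := DPush.hasCoproduct_D L₀
    haveI : HasCoproduct fun s => (L s).obj := DPush.hasCoproduct_D _
    have hiso : IsIso (Sigma.desc (fun s => S.map (Sigma.ι (fun s => (CohMop.ftDiag G).obj s) s)) :
        (∐ L₀) ⟶ S.obj F) := by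
      refine (DerivedCategory.isIso_iff Y.Modules _).2 fun j => ?_
      haveI hS : PreservesColimit (Discrete.functor fun s => (CohMop.ftDiag G).obj s)
          (S ⋙ DerivedCategory.homologyFunctor Y.Modules j) := by
        let θ : S ⋙ DerivedCategory.homologyFunctor Y.Modules j ≅
            DerivedCategory.singleFunctor Y.Modules 0 ⋙ DerivedCategory.homologyFunctor Y.Modules (n' + j) :=
          Functor.associator _ _ _ ≪≫ Functor.isoWhiskerLeft _
            ((DerivedCategory.homologyFunctor Y.Modules 0).shiftIso n' j (n' + j) rfl)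
        haveI : PreservesColimit (Discrete.functor fun s => (CohMop.ftDiag G).obj s)
            (DerivedCategory.singleFunctor Y.Modules 0 ⋙ DerivedCategory.homologyFunctor Y.Modules (n' + j)) := by
          by_cases h0 : n' + j = 0
          · rw [h0]
            exact preservesColimit_of_natIso _
              (DerivedCategory.singleFunctorCompHomologyFunctorIso Y.Modules 0).symm
          · have hz : ∀ W : Y.Modules, IsZero ((DerivedCategory.singleFunctor Y.Modules 0 ⋙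
                DerivedCategory.homologyFunctor Y.Modules (n' + j)).obj W) := fun W => by
              rcases lt_or_gt_of_ne h0 with h | h
              · exact DerivedCategory.isZero_of_isGE _ 0 _ h
              · exact DerivedCategory.isZero_of_isLE _ 0 _ h
            exact ⟨fun {c} _ => ⟨{
              desc := fun s => (hz c.pt).to_ _
              fac := fun s b => (hz _).eq_of_src _ _
              uniq := fun s m _ => (hz _).eq_of_src _ _ }⟩⟩
        exact preservesColimit_of_natIso _ θ.symm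
      haveI : PreservesColimit (Discrete.functor L₀)
          (DerivedCategory.homologyFunctor Y.Modules j) := inferInstance
      haveI : IsIso (sigmaComparison (S ⋙ DerivedCategory.homologyFunctor Y.Modules j)
          fun s => (CohMop.ftDiag G).obj s) := inferInstance
      haveI : IsIso (sigmaComparison (DerivedCategory.homologyFunctor Y.Modules j) L₀) :=
        inferInstance
      refine @IsIso.of_isIso_fac_left _ _ _ _ _
        (sigmaComparison (DerivedCategory.homologyFunctor Y.Modules j) L₀) _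
        (sigmaComparison (S ⋙ DerivedCategory.homologyFunctor Y.Modules j)
          fun s => (CohMop.ftDiag G).obj s) _ _ ?_
      refine Sigma.hom_ext _ _ fun s => ?_
      refine (ι_comp_sigmaComparison_assoc _ _ _ _).trans ?_
      refine Eq.trans ?_ (ι_comp_sigmaComparison (S ⋙ DerivedCategory.homologyFunctor Y.Modules j)
        (fun s => (CohMop.ftDiag G).obj s) s).symm
      rw [← Functor.map_comp, Sigma.ι_desc]
      rfl
    have hiso' : IsIso (Sigma.desc (fun s => (shObj (sglQ ((CohMop.ftDiag G).obj s) (hcoh s).1) n').hom ≫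
        S.map (Sigma.ι (fun s => (CohMop.ftDiag G).obj s) s) ≫ (shObj (sglQ F hF) n').inv) :
        (∐ fun s => (L s).obj) ⟶ Kf.obj) := by
      haveI : HasCoproductsOfShape (QCoh8.StageFT G) (DCoh.D Y) :=
        ⟨fun Fd =>
          haveI : HasColimit (Discrete.functor (Fd.obj ∘ Discrete.mk)) := DPush.hasCoproduct_D _
          hasColimit_of_iso Discrete.natIsoFunctor⟩
      have e₀ : Sigma.desc (fun s => (shObj (sglQ ((CohMop.ftDiag G).obj s) (hcoh s).1) n').hom ≫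
          S.map (Sigma.ι (fun s => (CohMop.ftDiag G).obj s) s) ≫ (shObj (sglQ F hF) n').inv) =
          (Sigma.mapIso (fun s => (shObj (sglQ ((CohMop.ftDiag G).obj s) (hcoh s).1) n' :
            (L s).obj ≅ L₀ s))).hom ≫
          Sigma.desc (fun s => S.map (Sigma.ι (fun s => (CohMop.ftDiag G).obj s) s)) ≫ (shObj (sglQ F hF) n').inv := by
        refine Sigma.hom_ext _ _ fun s => ?_
        simp [Sigma.mapIso]
        try rfl
      rw [e₀]
      exact @IsIso.comp_isIso _ _ _ _ _ _ _ inferInstance (@IsIso.comp_isIso _ _ _ _ _ _ _ hiso inferInstance)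
    let hco : IsColimit co := isColimitOfReflects e
      ((isColimitMapCoconeCofanMkEquiv e _ _).symm
        (IsColimit.ofIsoColimit (coproductIsCoproduct fun s => (L s).obj)
          (Cofan.ext (@asIso _ _ _ _ _ hiso') (fun s => Sigma.ι_desc _ _))))
    obtain ⟨cΦ⟩ := sΦ _ L (0 - n') (fun s => isGE_shiftQ _ 0 n' (inferInstanceAs (DerivedCategory.IsGE
      ((DerivedCategory.singleFunctor Y.Modules 0).obj ((CohMop.ftDiag G).obj s)) 0))) co hco
    obtain ⟨cΨ⟩ := sΨ _ L (0 - n') (fun s => isGE_shiftQ _ 0 n' (inferInstanceAs (DerivedCategory.IsGE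
      ((DerivedCategory.singleFunctor Y.Modules 0).obj ((CohMop.ftDiag G).obj s)) 0))) co hco
    have hs : ∀ s, IsIso (η.app (L s)) := fun s =>
      (DerivedCategory.isIso_iff X.Modules _).2 fun j => isIso_ηH_coh η hΦ hΨ hperf _ (hcoh s) n' j
    let w : Discrete.functor L ⋙ Ψ ≅ Discrete.functor L ⋙ Φ :=
      Discrete.natIso fun s => haveI := hs s.as; asIso (η.app (L s.as))
    have hpt : IsIso (η.app Kf) := by
      have : η.app Kf = (cΨ.coconePointsIsoOfNatIso cΦ w).hom := cΨ.hom_ext fun s => by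
        rw [IsColimit.comp_coconePointsIsoOfNatIso_hom]
        exact η.naturality _
      rw [this]; infer_instance
    exact (inferInstance : IsIso ((HX i').map (η.app Kf)))
  let S₀ : ShortComplex Y.Modules := ShortComplex.mk (kernel.ι π) π (kernel.condition π)
  have hS₀ : S₀.ShortExact := ShortComplex.ShortExact.mk' (ShortComplex.exact_kernel π) inferInstance inferInstance
  let T : Triangle (DCoh.DQCoh Y) := Triangle.mk
    (ObjectProperty.homMk ((DerivedCategory.singleFunctor Y.Modules 0).map (kernel.ι π)) :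
      sglQ (kernel π) hker ⟶ sglQ F hF)
    (ObjectProperty.homMk ((DerivedCategory.singleFunctor Y.Modules 0).map π) : sglQ F hF ⟶ sglQ M hM)
    (ObjectProperty.homMk (hS₀.singleδ ≫ (shObj (sglQ (kernel π) hker) 1).inv) : sglQ M hM ⟶ (sglQ (kernel π) hker)⟦(1 : ℤ)⟧)
  have hT : T ∈ distTriang _ := isomorphic_distinguished _ hS₀.singleTriangle_distinguished _
    (Triangle.isoMk _ _ (Iso.refl _) (Iso.refl _) (Iso.refl _) (by simp [T]; rfl) (by simp [T]; rfl)
      (by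
        simp [T, shObj, Functor.mapTriangle]
        exact (congrArg (hS₀.singleδ ≫ ·) (Iso.inv_hom_id_app ((ObjectProperty.ι DCoh.IsQCohD).commShiftIso (1 : ℤ)) (sglQ (kernel π) hker))).trans (Category.comp_id _)))
  exact ⟨kernel π, hker, F, hF, T.mor₁, T.mor₂, T.mor₃, hT, hFall⟩

/-- The criterion for shifts of a quasi-coherent module. -/
theorem isoAll_module [IsNoetherian Y] {N : ℤ} (hΦ : Amp Φ N) (hΨ : Amp Ψ N)
    (sΦ : SumsBdd Φ) (sΨ : SumsBdd Ψ) (hperf : ∀ P : DCoh.DQCoh Y, DCoh.IsPerfect P.obj → IsIso (η.app P))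
    (M : Y.Modules) (hM : Coh.IsQCoh M) : IsoAll η (sglQ M hM) := by
  suffices H : ∀ (k : ℕ) (M : Y.Modules) (hM : Coh.IsQCoh M) (n i : ℤ), N + 1 - k ≤ i + n →
      IsIso (ηH η ((sglQ M hM)⟦n⟧) i) from
    fun n i => H (N + 1 - (i + n)).toNat M hM n i (by lia)
  intro k
  induction k with
  | zero =>
    intro M hM n i hi
    have hge : ((sglQ M hM)⟦n⟧).obj.IsGE (0 - n) := isGE_shiftQ (sglQ M hM) 0 n
      (inferInstanceAs (DerivedCategory.IsGE ((DerivedCategory.singleFunctor Y.Modules 0).obj M) 0))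
    have hle : ((sglQ M hM)⟦n⟧).obj.IsLE (0 - n) := isLE_shiftQ (sglQ M hM) 0 n
      (inferInstanceAs (DerivedCategory.IsLE ((DerivedCategory.singleFunctor Y.Modules 0).obj M) 0))
    haveI := hΦ.2 _ _ _ hge hle
    haveI := hΨ.2 _ _ _ hge hle
    exact ⟨0, (DerivedCategory.isZero_of_isLE _ (0 - n + N) i (by lia)).eq_of_src _ _,
      (DerivedCategory.isZero_of_isLE _ (0 - n + N) i (by lia)).eq_of_src _ _⟩
  | succ k ih =>
    intro M₀ hM₀ n i hi
    have hup : ∀ (M' : Y.Modules) (hM' : Coh.IsQCoh M'), IsIso (ηH η (((sglQ M' hM')⟦n⟧)⟦(1 : ℤ)⟧) i) :=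
      fun M' hM' => by
        haveI := ih M' hM' (n + 1) i (by push_cast at hi; lia)
        exact ηH_iso η ((shiftFunctorAdd' (DCoh.DQCoh Y) n 1 (n + 1) rfl).app _) i
    have hepi : ∀ (M : Y.Modules) (hM : Coh.IsQCoh M), Epi (ηH η ((sglQ M hM)⟦n⟧) i) := by
      intro M hM
      obtain ⟨M', hM', F, hF, u, v, d, hT, hall⟩ := exists_sum_triangle η hΦ hΨ sΦ sΨ hperf M hM
      let Tn := (Triangle.shiftFunctor (DCoh.DQCoh Y) n).obj (Triangle.mk u v d)
      haveI : IsIso (ηH η Tn.obj₂ i) := hall n i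
      haveI : IsIso (ηH η (Tn.obj₁⟦(1 : ℤ)⟧) i) := hup _ hM'
      haveI : IsIso (ηH η (Tn.obj₂⟦(1 : ℤ)⟧) i) := hup _ hF
      exact epi_obj₃ η Tn (Triangle.shift_distinguished _ hT n) i
    obtain ⟨M', hM', F, hF, u, v, d, hT, hall⟩ := exists_sum_triangle η hΦ hΨ sΦ sΨ hperf M₀ hM₀
    let Tn := (Triangle.shiftFunctor (DCoh.DQCoh Y) n).obj (Triangle.mk u v d)
    haveI : IsIso (ηH η Tn.obj₂ i) := hall n i
    haveI : Epi (ηH η Tn.obj₁ i) := hepi _ hM'
    haveI : IsIso (ηH η (Tn.obj₁⟦(1 : ℤ)⟧) i) := hup _ hM'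
    haveI : Epi (ηH η Tn.obj₃ i) := hepi _ hM₀
    haveI := mono_obj₃ η Tn (Triangle.shift_distinguished _ hT n) i
    exact isIso_of_mono_of_epi (ηH η Tn.obj₃ i)

/-- The criterion for bounded objects. -/
theorem isoAll_bounded [IsNoetherian Y]
    (hmod : ∀ (M : Y.Modules) (hM : Coh.IsQCoh M), IsoAll η (sglQ M hM)) :
    ∀ (k : ℕ) (K : DCoh.DQCoh Y) (a : ℤ), K.obj.IsGE a → K.obj.IsLE (a + k) → IsoAll η K := by
  have hconc : ∀ (K : DCoh.DQCoh Y) (b : ℤ), K.obj.IsGE b → K.obj.IsLE b → IsoAll η K := by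
    intro K b _ _
    obtain ⟨M, ⟨e⟩⟩ := DerivedCategory.exists_iso_singleFunctor_obj_of_isGE_of_isLE K.obj b
    have hM : Coh.IsQCoh M := M1.isQCoh_of_isIso ((HY b).mapIso e ≪≫
      (DerivedCategory.singleFunctorCompHomologyFunctorIso Y.Modules b).app M) (K.property b)
    exact isoAll_of_iso η (ObjectProperty.isoMk _ (e ≪≫
      (((DerivedCategory.singleFunctors Y.Modules).shiftIso (-b) b 0 (by lia)).app M).symm ≪≫
        (shObj (sglQ M hM) (-b)).symm)).symm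
      (isoAll_shift η (hmod M hM) (-b))
  intro k
  induction k with
  | zero => exact fun K a ha hb => hconc K a ha (by simpa using hb)
  | succ k ih =>
    intro K a ha hb
    obtain ⟨b, hbdef⟩ : ∃ b : ℤ, a + (k + 1 : ℕ) = b := ⟨_, rfl⟩
    rw [hbdef] at hb
    let L : DCoh.DQCoh Y := ⟨(tY).truncLT b |>.obj K.obj, DMV.isQCohD_truncLT _ K.property b⟩
    let ι : L ⟶ K := ObjectProperty.homMk (((tY).truncLTι b).app K.obj)
    obtain ⟨C, g, d, hT⟩ := distinguished_cocone_triangle ι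
    have hLe : L.obj.IsLE (a + k) := (tY).isLE_truncLT_obj K.obj b (a + k) (by lia)
    have hLg : L.obj.IsGE a := (inferInstance : (tY).IsGE (((tY).truncLT b).obj K.obj) a)
    have hlow : ∀ j, j < b → IsIso ((HY j).map ι.hom) := fun j hj =>
      DerTrunc.isIso_homology_truncLTι K.obj b j hj
    have hz : ∀ j, b ≤ j → IsZero (DCoh.HD L.obj j) := fun j hj =>
      DerivedCategory.isZero_of_isLE L.obj (a + k) j (by lia)
    have hC₁ : C.obj.IsGE b := by
      rw [DerivedCategory.isGE_iff]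
      intro j hj
      haveI := hlow j hj
      refine isZero_HD_cone _ hT j (inferInstance : Epi ((HY j).map ι.hom)) ?_
      rcases lt_or_ge (j + 1) b with h | h
      · haveI := hlow (j + 1) h
        exact (inferInstance : Mono ((HY (j + 1)).map ι.hom))
      · exact ⟨fun x y _ => (hz (j + 1) h).eq_of_tgt x y⟩
    have hC₂ : C.obj.IsLE b := by
      let T' := (ObjectProperty.ι DCoh.IsQCohD).mapTriangle.obj (Triangle.mk ι g d)
      have hT' : T' ∈ distTriang (DCoh.D Y) := (ObjectProperty.ι DCoh.IsQCohD).map_distinguished _ hT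
      rw [DerivedCategory.isLE_iff]
      intro j hj
      exact (DerivedCategory.HomologySequence.exact₃ T' hT' j (j + 1) rfl).isZero_X₂
        ((DerivedCategory.isZero_of_isLE K.obj b j hj).eq_of_src _ _)
        ((hz (j + 1) (by lia)).eq_of_tgt _ _)
    exact isoAll_obj₂ η (Triangle.mk ι g d) hT (ih L a hLg hLe) (hconc C b hC₁ hC₂)

/-- The criterion. -/
theorem isIso_wayOut [IsNoetherian Y] {N : ℤ} (hΦ : Amp Φ N) (hΨ : Amp Ψ N)
    (sΦ : SumsBdd Φ) (sΨ : SumsBdd Ψ) (hperf : ∀ P : DCoh.DQCoh Y, DCoh.IsPerfect P.obj → IsIso (η.app P))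
    (K : DCoh.DQCoh Y) (c : ℤ) (hK : K.obj.IsGE c) : IsIso (η.app K) := by
  rw [DerivedCategory.isIso_iff]
  intro i
  let b : ℤ := max c (i + N + 3)
  let L : DCoh.DQCoh Y := ⟨(tY).truncLT b |>.obj K.obj, DMV.isQCohD_truncLT _ K.property b⟩
  let ι : L ⟶ K := ObjectProperty.homMk (((tY).truncLTι b).app K.obj)
  obtain ⟨C, g, d, hT⟩ := distinguished_cocone_triangle ι
  haveI : (tY).IsGE K.obj c := hK
  have hLg : L.obj.IsGE c := (inferInstance : (tY).IsGE (((tY).truncLT b).obj K.obj) c)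
  have hLe : L.obj.IsLE (c + (b - c).toNat) := (tY).isLE_truncLT_obj K.obj b _ (by lia)
  have hC : C.obj.IsGE (b - 1) := by
    rw [DerivedCategory.isGE_iff]
    intro j hj
    haveI : IsIso ((HY j).map ι.hom) := DerTrunc.isIso_homology_truncLTι K.obj b j (by lia)
    haveI : IsIso ((HY (j + 1)).map ι.hom) := DerTrunc.isIso_homology_truncLTι K.obj b (j + 1) (by lia)
    exact isZero_HD_cone _ hT j (inferInstance : Epi ((HY j).map ι.hom))
      (inferInstance : Mono ((HY (j + 1)).map ι.hom))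
  have hall := isoAll_bounded η (isoAll_module η hΦ hΨ sΦ sΨ hperf) _ L c hLg hLe
  haveI := hall 0 i
  haveI : IsIso (ηH η (Triangle.mk ι g d).obj₁ i) := ηH_iso η ((shiftFunctorZero (DCoh.DQCoh Y) ℤ).app L) i
  have hz : ∀ {F : DCoh.DQCoh Y ⥤ DCoh.D X}, Amp F N →
      IsZero ((hval F i).obj C) ∧ IsZero ((hval F i).obj (C⟦(-1 : ℤ)⟧)) := fun {F} hF => by
    haveI := hF.1 C _ hC
    haveI := hF.1 (C⟦(-1 : ℤ)⟧) _ (isGE_shiftQ C _ (-1) hC)
    exact ⟨DerivedCategory.isZero_of_isGE _ (b - 1 - N) i (by lia),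
      DerivedCategory.isZero_of_isGE _ (b - 1 - (-1) - N) i (by lia)⟩
  exact isIso_ηH_of_mor₁ η (Triangle.mk ι g d) hT i (hz hΦ).1 (hz hΦ).2 (hz hΨ).1 (hz hΨ).2

end WayOut

end Groth.Agent.BC8
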