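import Groth.Agent.Lib.BC8.Chart
import Groth.Agent.Lib.BC8.WayOutQ
import Groth.Agent.Lib.BC8.RelPerfShriek
import Groth.Agent.Lib.Exact8.RelComp
import Groth.Agent.Lib.DPush.CoprodHom

/-! For a perfect morphism the twisted inverse image is `Lf^*(-) ⊗ f^!O` on bounded below objects. -/

set_option autoImplicit false
set_option linter.style.haveILetI false
set_option linter.unusedSectionVars false
set_option backward.isDefEq.respectTransparency false
set_option backward.isDefEq.respectTransparency.types false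

universe u

open CategoryTheory CategoryTheory.Limits AlgebraicGeometry MonoidalCategory Pretriangulated

attribute [local instance] HasDerivedCategory.standard

namespace Groth.Agent.BC8

open DMon9 KFlat KFlat.Sch

attribute [local instance] preadditiveDM

section Basic

variable {X Y : Scheme.{u}}

/-- Derived pullback preserves upper bounds. -/
theorem isLE_lP (f : X ⟶ Y) (K : DCoh.D Y) (b : ℤ) [K.IsLE b] : ((lP f).obj K).IsLE b := by
  haveI : DCoh.HasLpull f := KFlat.Sch.hasLpull f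
  obtain ⟨n⟩ := nonempty_lpull_natIso_lP f
  exact isLE_of_iso (n.app K) ((DerivedCategory.isLE_iff _ b).2 fun l hl =>
    KFlat.Sch.isZero_HD_lpull f K b ((DerivedCategory.isLE_iff K b).1 inferInstance) l hl)

/-- Lower bounds are invariant. -/
theorem isGE_of_iso {A B : DCoh.D X} (e : A ≅ B) {n : ℤ} (h : A.IsGE n) : B.IsGE n :=
  (DerivedCategory.isGE_iff _ _).2 fun i hi =>
    (DerivedCategory.isZero_of_isGE A n i hi).of_iso ((DerivedCategory.homologyFunctor _ i).mapIso e.symm)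

/-- The associator. -/
theorem nonempty_tenL_assoc (B G M : DCoh.D X) :
    Nonempty ((tenL ((tenL B).obj G)).obj M ≅ (tenL B).obj ((tenL G).obj M)) := by
  let B' : DM X := B
  let G' : DM X := G
  let M' : DM X := M
  exact ⟨(α_ B' G' M' :)⟩

/-- The tensor product adds upper bounds. -/
theorem isLE_tenL (G M : DCoh.D X) (c p : ℤ) [G.IsLE c] [M.IsLE p] : ((tenL G).obj M).IsLE (p + c) := by
  obtain ⟨R, hR, hRc, ⟨e⟩⟩ := Exact8.exists_adapted_le G c
  haveI := hRc
  let K : KF X := ⟨R, hR.1⟩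
  haveI := KFlat.Sch.hasLTensorCx K.obj
  obtain ⟨cm⟩ := nonempty_commIso K
  let e' : (qM X).obj K ≅ (G : DM X) := (e :)
  let t : (tenL G).obj M ≅ (DCoh.LTensorCx K.obj).obj M :=
    ((MonoidalCategory.tensoringLeft (DM X)).mapIso e'.symm :).app M ≪≫ cm.app M ≪≫ (DMon9.theta K).app M
  exact isLE_of_iso t.symm (RHom.isLE_LT R c M p)

/-- The left derived tensor product with a complex is tensoring with the object it represents. -/
theorem nonempty_ltensor_tenL (E : CochainComplex X.Modules ℤ) [DCoh.HasLTensorCx E] (G : DCoh.D X)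
    (e : DCoh.toD X E ≅ G) : Nonempty (DCoh.LTensorCx E ≅ tenL G) := by
  obtain ⟨P, q, hP, hq⟩ := RHom.exists_kflat_res E
  haveI := hq
  let K : KF X := ⟨P, hP⟩
  haveI : DCoh.HasLTensorCx K.obj := KFlat.Sch.hasLTensorCx _
  haveI : DCoh.HasLTensorCx P := KFlat.Sch.hasLTensorCx _
  haveI := RHom.isIso_ltMap q
  obtain ⟨cm⟩ := nonempty_commIso K
  let e' : (qM X).obj K ≅ (G : DM X) := (asIso (DerivedCategory.Q.map q) ≪≫ e :)
  exact ⟨(asIso (RHom.ltMap q)).symm ≪≫ (DMon9.theta K).symm ≪≫ cm.symm ≪≫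
    ((MonoidalCategory.tensoringLeft (DM X)).mapIso e' :)⟩

/-- Derived pullback is a left adjoint. -/
theorem isLeftAdjoint_lP (f : X ⟶ Y) : (lP f).IsLeftAdjoint := by
  haveI := DBC9.hasRpush f
  exact (adjLP f).isLeftAdjoint

/-- The inclusion of quasi-coherent objects preserves coproducts. -/
theorem preservesCoproducts_ι (J : Type u) :
    PreservesColimitsOfShape (Discrete J) (ObjectProperty.ι DCoh.IsQCohD : DCoh.DQCoh X ⥤ DCoh.D X) := by
  suffices h : ∀ K : J → DCoh.DQCoh X, PreservesColimit (Discrete.functor K)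
      (ObjectProperty.ι DCoh.IsQCohD : DCoh.DQCoh X ⥤ DCoh.D X) from
    ⟨fun {F} => haveI := h (F.obj ∘ Discrete.mk); preservesColimit_of_iso_diagram _ Discrete.natIsoFunctor.symm⟩
  intro K
  haveI : HasCoproduct fun j => (K j).obj := DPush.hasCoproduct_D _
  exact preservesColimit_of_preserves_colimit_cocone (isColimitCofanQ K)
    ((isColimitMapCoconeCofanMkEquiv _ _ _).symm (coproductIsCoproduct fun j => (K j).obj))

/-- Derived pullback on quasi-coherent objects preserves coproducts. -/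
theorem preservesCoproducts_lq (g : X ⟶ Y) (J : Type u) : PreservesColimitsOfShape (Discrete J) (lq g) := by
  haveI := isLeftAdjoint_lP g
  haveI := preservesCoproducts_ι (X := Y) J
  haveI : PreservesColimitsOfShape (Discrete J) (lq g ⋙ ObjectProperty.ι DCoh.IsQCohD) :=
    inferInstanceAs (PreservesColimitsOfShape (Discrete J) (ObjectProperty.ι DCoh.IsQCohD ⋙ lP g))
  exact preservesColimitsOfShape_of_reflects_of_preserves (lq g) (ObjectProperty.ι DCoh.IsQCohD)

/-- A map is an isomorphism if its pullbacks to an open cover are. -/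
theorem isIso_of_lP_cover {A B : DCoh.D X} (φ : A ⟶ B)
    (h : ∀ x : X, ∃ V : X.Opens, x ∈ V ∧ IsIso ((lP V.ι).map φ)) : IsIso φ :=
  RHom.isIso_of_cover φ fun x => by
    obtain ⟨V, hx, hV⟩ := h x
    exact ⟨V, hx, (NatIso.isIso_map_iff (lPRes V.ι) φ).1 hV⟩

/-- Lower bounds are local. -/
theorem isGE_of_lP_cover {K : DCoh.D X} {c : ℤ}
    (h : ∀ x : X, ∃ V : X.Opens, x ∈ V ∧ ((lP V.ι).obj K).IsGE c) : K.IsGE c :=
  (DerivedCategory.isGE_iff _ _).2 fun i hi => by
    choose V hx hV using h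
    refine DPerf.isZero_of_cover V (fun x => ⟨x, hx x⟩) fun x => ?_
    haveI := hV x
    exact (DerivedCategory.isZero_of_isGE ((lP (V x).ι).obj K) c i hi).of_iso
      ((DPerf.hdResIso (V x).ι K i).symm ≪≫ (DerivedCategory.homologyFunctor _ i).mapIso ((lPRes (V x).ι).app K).symm)

/-- Upper bounds are local. -/
theorem isLE_of_lP_cover {K : DCoh.D X} {c : ℤ}
    (h : ∀ x : X, ∃ V : X.Opens, x ∈ V ∧ ((lP V.ι).obj K).IsLE c) : K.IsLE c :=
  (DerivedCategory.isLE_iff _ _).2 fun i hi => by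
    choose V hx hV using h
    refine DPerf.isZero_of_cover V (fun x => ⟨x, hx x⟩) fun x => ?_
    haveI := hV x
    exact (DerivedCategory.isZero_of_isLE ((lP (V x).ι).obj K) c i hi).of_iso
      ((DPerf.hdResIso (V x).ι K i).symm ≪≫ (DerivedCategory.homologyFunctor _ i).mapIso ((lPRes (V x).ι).app K).symm)

/-- Being a coproduct is local. -/
theorem nonempty_isColimit_of_cover {J : Type u} {F : Discrete J ⥤ DCoh.D X} (c : Cocone F)
    (h : ∀ x : X, ∃ V : X.Opens, x ∈ V ∧ Nonempty (IsColimit ((lP V.ι).mapCocone c))) : Nonempty (IsColimit c) := by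
  haveI : HasColimit F :=
    haveI : HasColimit (Discrete.functor (F.obj ∘ Discrete.mk)) := DPush.hasCoproduct_D _
    hasColimit_of_iso Discrete.natIsoFunctor
  let h₀ := colimit.isColimit F
  haveI : IsIso (h₀.desc c) := by
    refine isIso_of_lP_cover _ fun x => ?_
    obtain ⟨V, hx, ⟨hc⟩⟩ := h x
    haveI := isLeftAdjoint_lP V.ι
    let h₁ := isColimitOfPreserves (lP V.ι) h₀
    have e : (lP V.ι).map (h₀.desc c) = (h₁.coconePointUniqueUpToIso hc).hom := h₁.hom_ext fun s => by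
      rw [IsColimit.comp_coconePointUniqueUpToIso_hom]
      simp only [Functor.mapCocone_ι_app, ← Functor.map_comp, IsColimit.fac]
    exact ⟨V, hx, by rw [e]; infer_instance⟩
  exact ⟨IsColimit.ofPointIso h₀⟩

end Basic

variable {X Y Xb : Scheme.{u}} [IsNoetherian Y] (f : X ⟶ Y) [LocallyOfFiniteType f]
  (hperf : MoreMor.IsPerfectMor f)
  (p : Xb ⟶ Y) [IsProper p] (j : X ⟶ Xb) [IsOpenImmersion j] (hfac : j ≫ p = f) [DCoh.HasRpush p]
  {hp : DCoh.RpushPreservesQCoh p} (a : DCoh.DQCoh Y ⥤ DCoh.DQCoh Xb) (adj : DCoh.RpushQ p hp ⊣ a)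

/-- The twisted inverse image. -/
noncomputable abbrev phiF : DCoh.DQCoh Y ⥤ DCoh.D X := a ⋙ ObjectProperty.ι _ ⋙ lP j

/-- Pullback tensored with the twisted inverse image of the structure sheaf. -/
noncomputable abbrev psiF : DCoh.DQCoh Y ⥤ DCoh.D X :=
  ObjectProperty.ι _ ⋙ lP f ⋙ tenL ((phiF j a).obj (oQ Y))

include hperf hfac adj in
/-- The local facts. -/
theorem exists_local (x : X) :
    ∃ (V : X.Opens) (N : ℤ), x ∈ V ∧
      (∀ (K : DCoh.DQCoh Y) (c : ℤ), K.obj.IsGE c →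
        Nonempty ((lP V.ι).obj ((psiF f j a).obj K) ≅ (lP V.ι).obj ((phiF j a).obj K)) ∧
        ((lP V.ι).obj ((phiF j a).obj K)).IsGE (c - N) ∧
        ∀ m : ℤ, K.obj.IsLE m → ((lP V.ι).obj ((phiF j a).obj K)).IsLE (m + N)) ∧
      SumsBdd (phiF j a ⋙ lP V.ι) := by
  obtain ⟨Z, W, u, _, i, _, g, _, _, _, _, hi, b, adjb, d, hxu, w, ⟨n⟩⟩ := exists_chart f p j hfac adj x
  haveI : LocallyOfFiniteType i := inferInstance
  haveI : IsLocallyNoetherian Z := LocallyOfFiniteType.isLocallyNoetherian i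
  haveI : CompactSpace Z := QuasiCompact.compactSpace_of_compactSpace i
  haveI : IsNoetherian Z := { }
  have hiperf : MoreMor.IsPerfectMor i := (PCMor4.isPerfectMor_iff i).2
    (PCMor4.pfMor_of_comp_smooth i g (w ▸ PCMor4.pfMor_comp u f (PCMor4.pfMor_of_flat u)
      ((PCMor4.isPerfectMor_iff f).1 hperf)))
  have hcop : ∀ J : Type u, PreservesColimitsOfShape (Discrete J) b := hcop_of_perfectMor i hiperf adjb
  haveI : DCoh.HasLpull g := KFlat.Sch.hasLpull g
  let eW : ((oQ W).obj : DM W) ≅ 𝟙_ (DM W) := unitIso (Iso.refl _)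
  obtain ⟨φ⟩ := Dual8.nonempty_formula adjb (oQ W) eW hcop
  let B : DCoh.D Z := (b.obj (oQ W)).obj
  have hB : DCoh.IsPerfect ((DCoh.RpushQ i hi).obj (b.obj (oQ W))).obj :=
    isPerfect_rpush_a adjb hiperf (oQ W) (locShift_one W 0)
  obtain ⟨e₀, he₀⟩ := DPerf.exists_isLE_of_pseudoCoherent (X := W) (m := 0)
    (DPerf.isPseudoCoherentD_of_approx ((DPerf.isPerfect_iff_approx.1 hB).mono_set (Set.subset_univ _)))
  haveI hBle : B.IsLE e₀ := leRefl_affine i B (b.obj (oQ W)).property e₀ he₀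
  obtain ⟨N₀, hN₀⟩ := exists_isGE_a adjb
  -- the open set
  let k : (u.opensRange : Scheme.{u}) ⟶ Z := u.isoOpensRange.inv
  have hk : k ≫ u = u.opensRange.ι := Scheme.Hom.isoOpensRange_inv_comp u
  haveI : IsOpenImmersion k := inferInstanceAs (IsOpenImmersion u.isoOpensRange.inv)
  let κ : lP u ⋙ lP k ≅ lP u.opensRange.ι := lPComp k u hk
  let T : DCoh.DQCoh Y → DCoh.D W := fun K => ((lP g).obj K.obj)⟦d⟧
  have eΦ : ∀ (K : DCoh.DQCoh Y) (c : ℤ), K.obj.IsGE c → Nonempty ((lP u).obj ((phiF j a).obj K) ≅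
      (b.obj (((lq g).obj K)⟦d⟧)).obj) := fun K c hc => ⟨n.app (⟨K, c, hc⟩ : (Dual3.IsBddBelowQ Y).FullSubcategory)⟩
  have eb : ∀ K : DCoh.DQCoh Y, Nonempty ((b.obj (((lq g).obj K)⟦d⟧)).obj ≅ (tenL B).obj ((lP i).obj (T K))) :=
    fun K => ⟨(φ.app _).symm ≪≫ (tenL B).mapIso ((lP i).mapIso (shObj ((lq g).obj K) d))⟩
  refine ⟨u.opensRange, max (N₀ + d) (e₀ - d), hxu, fun K c hc => ⟨?_, ?_, fun m hm => ?_⟩, ?_⟩
  · -- pointwise comparison
    obtain ⟨eK⟩ := eΦ K c hc
    obtain ⟨eKb⟩ := eb K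
    obtain ⟨eO⟩ := eΦ (oQ Y) 0 (inferInstanceAs (DerivedCategory.IsGE ((DerivedCategory.singleFunctor Y.Modules 0).obj _) 0))
    obtain ⟨eOb⟩ := eb (oQ Y)
    obtain ⟨l⟩ := TwistBC9.nonempty_lP_oneM g 0
    obtain ⟨s₁⟩ := nonempty_shiftOne' W 0 d
    obtain ⟨s⟩ := nonempty_tenL_one (0 - d) (T (oQ Y)) ((shiftFunctor _ d).mapIso l ≪≫ s₁)
    obtain ⟨μ⟩ := nonempty_lP_ten i (T (oQ Y)) ((lP g).obj K.obj)
    obtain ⟨ν⟩ := nonempty_lP_ten u ((phiF j a).obj (oQ Y)) ((lP f).obj K.obj)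
    obtain ⟨t⟩ := nonempty_tenL_congr (eO ≪≫ eOb)
    obtain ⟨as⟩ := nonempty_tenL_assoc B ((lP i).obj (T (oQ Y))) ((lP i).obj ((lP g).obj K.obj))
    let q : (lP u).obj ((lP f).obj K.obj) ≅ (lP i).obj ((lP g).obj K.obj) :=
      (lPComp u f rfl).app K.obj ≪≫ ((lPComp i g w).app K.obj).symm
    let e : (lP u).obj ((psiF f j a).obj K) ≅ (lP u).obj ((phiF j a).obj K) :=
      ν ≪≫ t.app _ ≪≫ (tenL _).mapIso q ≪≫ as ≪≫
        (tenL B).mapIso (μ.symm ≪≫ (lP i).mapIso (s.app _ ≪≫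
          (eqToIso (by rw [show -(0 - d) = d by omega]) :
            (shiftFunctor (DCoh.D W) (-(0 - d))).obj ((lP g).obj K.obj) ≅ T K))) ≪≫
        eKb.symm ≪≫ eK.symm
    exact ⟨(κ.app _).symm ≪≫ (lP k).mapIso e ≪≫ κ.app _⟩
  · -- lower bound
    obtain ⟨eK⟩ := eΦ K c hc
    haveI : ((lP g).obj K.obj).IsGE c := by haveI := hc; exact isGE_lP_of_flat K.obj c
    haveI h₁ := hN₀ _ (c - d) (isGE_shiftQ ((lq g).obj K) c d this)
    haveI h₂ : ((lP u).obj ((phiF j a).obj K)).IsGE (c - d - N₀) := isGE_of_iso eK.symm h₁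
    haveI h₃ := isGE_lP k ((lP u).obj ((phiF j a).obj K)) (c - d - N₀)
    haveI h₄ : ((lP u.opensRange.ι).obj ((phiF j a).obj K)).IsGE (c - d - N₀) :=
      isGE_of_iso (κ.app _) h₃
    exact (DerivedCategory.TStructure.t).isGE_of_ge _ _ (c - d - N₀) (by omega)
  · -- upper bound
    obtain ⟨eK⟩ := eΦ K c hc
    obtain ⟨eKb⟩ := eb K
    haveI := hm
    haveI := isLE_lP g K.obj m
    haveI : (T K).IsLE (m - d) := (DerivedCategory.TStructure.t).isLE_shift _ m d (m - d) (by omega)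
    haveI := isLE_lP i (T K) (m - d)
    haveI := isLE_tenL B ((lP i).obj (T K)) e₀ (m - d)
    haveI := isLE_of_iso (eKb.symm ≪≫ eK.symm) (this)
    haveI := isLE_lP k ((lP u).obj ((phiF j a).obj K)) (m - d + e₀)
    exact isLE_mono (isLE_of_iso (κ.app _) this) (by omega)
  · -- coproducts
    intro J K c hK co hco
    let F : DCoh.DQCoh Y ⥤ DCoh.D Z := lq g ⋙ shiftFunctor (DCoh.DQCoh W) d ⋙ b ⋙ ObjectProperty.ι _
    haveI := preservesCoproducts_lq g J
    haveI := hcop J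
    haveI := preservesCoproducts_ι (X := Z) J
    haveI := preservesCoproducts_ι (X := Y) J
    haveI := isLeftAdjoint_lP k
    haveI hpt : co.pt.obj.IsGE c := by
      haveI : HasCoproduct fun s => (K s).obj := DPush.hasCoproduct_D _
      exact isGE_of_iso
        (IsColimit.coconePointUniqueUpToIso (coproductIsCoproduct fun s => (K s).obj)
          (isColimitMapCoconeCofanMkEquiv (ObjectProperty.ι DCoh.IsQCohD) K co.inj
            (isColimitOfPreserves (ObjectProperty.ι DCoh.IsQCohD)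
              (hco.ofIsoColimit (Cofan.ext (Iso.refl _))))))
        (DPush.isGE_sigma (fun s => (K s).obj) c hK)
    let K' : J → (Dual3.IsBddBelowQ Y).FullSubcategory := fun s => ⟨K s, c, hK s⟩
    let P' : (Dual3.IsBddBelowQ Y).FullSubcategory := ⟨co.pt, c, hpt⟩
    let w' : Discrete.functor K ⋙ F ≅ Discrete.functor K ⋙ phiF j a ⋙ lP u :=
      Discrete.natIso fun s => (n.app (K' s.as)).symm
    let hF := isColimitOfPreserves F hco
    let e : (Cocone.precompose w'.inv).obj (F.mapCocone co) ≅ (phiF j a ⋙ lP u).mapCocone co :=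
      Cocone.ext (n.app P').symm fun s => by
        have hnat := n.inv.naturality (ObjectProperty.homMk (co.ι.app s) : K' s.as ⟶ P')
        simp only [w', Cocone.precompose_obj_ι, NatTrans.comp_app, Functor.mapCocone_ι_app, Category.assoc]
        exact (congrArg ((n.app (K' s.as)).hom ≫ ·) hnat).trans (Iso.hom_inv_id_assoc (n.app (K' s.as)) _)
    let h₁ := (IsColimit.precomposeInvEquiv w' _).symm hF |>.ofIsoColimit e
    let h₂ := isColimitOfPreserves (lP k) h₁
    exact ⟨(IsColimit.precomposeHomEquiv (Functor.isoWhiskerLeft (Discrete.functor K ⋙ phiF j a) κ).symm _).symm h₂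
      |>.ofIsoColimit (Cocone.ext (κ.app _) fun s => by
        simp
        exact (congrArg (κ.inv.app _ ≫ ·) (κ.hom.naturality _)).trans (Iso.inv_hom_id_app_assoc κ _ _))⟩

include hperf hfac adj in
/-- Both sides have bounded amplitude and preserve bounded below coproducts. -/
theorem exists_amp [CompactSpace X] :
    ∃ N : ℤ, Amp (phiF j a) N ∧ Amp (psiF f j a) N ∧ SumsBdd (phiF j a) := by
  choose V n hx hK hS using exists_local f hperf p j hfac a adj
  obtain ⟨t, ht⟩ := isCompact_univ.elim_finite_subcover (fun x => (V x : Set X)) (fun x => (V x).isOpen)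
    (fun x _ => Set.mem_iUnion.2 ⟨x, hx x⟩)
  let N : ℤ := ∑ x ∈ t, |n x|
  have hN : ∀ x ∈ t, n x ≤ N := fun x hxt =>
    (le_abs_self _).trans (Finset.single_le_sum (f := fun x => |n x|) (fun y _ => abs_nonneg (n y)) hxt)
  have hcov : ∀ y : X, ∃ x ∈ t, y ∈ V x := fun y => by simpa using ht (Set.mem_univ y)
  refine ⟨N, ⟨fun K c hc => ?_, fun K c m hc hm => ?_⟩, ⟨fun K c hc => ?_, fun K c m hc hm => ?_⟩, ?_⟩
  · refine isGE_of_lP_cover fun y => ?_
    obtain ⟨x, hxt, hy⟩ := hcov y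
    haveI := (hK x K c hc).2.1
    exact ⟨V x, hy, (DerivedCategory.TStructure.t).isGE_of_ge _ _ (c - n x) (by have := hN x hxt; omega)⟩
  · refine isLE_of_lP_cover fun y => ?_
    obtain ⟨x, hxt, hy⟩ := hcov y
    exact ⟨V x, hy, isLE_mono ((hK x K c hc).2.2 m hm) (by have := hN x hxt; omega)⟩
  · refine isGE_of_lP_cover fun y => ?_
    obtain ⟨x, hxt, hy⟩ := hcov y
    obtain ⟨e⟩ := (hK x K c hc).1
    haveI := isGE_of_iso e.symm (hK x K c hc).2.1
    exact ⟨V x, hy, (DerivedCategory.TStructure.t).isGE_of_ge _ _ (c - n x) (by have := hN x hxt; omega)⟩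
  · refine isLE_of_lP_cover fun y => ?_
    obtain ⟨x, hxt, hy⟩ := hcov y
    obtain ⟨e⟩ := (hK x K c hc).1
    exact ⟨V x, hy, isLE_mono (isLE_of_iso e.symm ((hK x K c hc).2.2 m hm)) (by have := hN x hxt; omega)⟩
  · intro J K c hc co hco
    refine nonempty_isColimit_of_cover _ fun y => ?_
    obtain ⟨x, -, hy⟩ := hcov y
    obtain ⟨h⟩ := hS x J K c hc co hco
    exact ⟨V x, hy, ⟨h⟩⟩

/-- A triangulated functor followed by a left adjoint has exact homology. -/
theorem hExQ_comp {X Y Z : Scheme.{u}} (G : DCoh.DQCoh Y ⥤ DCoh.D Z) [G.CommShift ℤ] [G.IsTriangulated]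
    (H : DCoh.D Z ⥤ DCoh.D X) [H.IsLeftAdjoint] : HExQ (G ⋙ H) := ⟨fun T hT i => by
  haveI : H.PreservesZeroMorphisms := Functor.preservesZeroMorphisms_of_isLeftAdjoint _
  exact DMon9.hExact_comp H (homExact_of_isLeftAdjoint H) (𝟭 _) i _ (G.map_distinguished T hT)⟩

/-- The comparison. -/
noncomputable def cmpS : psiF f j a ⟶ phiF j a :=
  (Functor.isoWhiskerLeft (ObjectProperty.ι _)
      (Functor.isoWhiskerRight (lPComp j p hfac).symm (tenL ((phiF j a).obj (oQ Y))) ≪≫
        Functor.isoWhiskerLeft (lP p)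
          (Functor.Monoidal.commTensorLeft (dPull j) ((a.obj (oQ Y)).obj : DM Xb) :
            lP j ⋙ tenL ((phiF j a).obj (oQ Y)) ≅ tenL (a.obj (oQ Y)).obj ⋙ lP j))).hom ≫
    Functor.whiskerRight
      ({ app := fun K => (Dual8.cmp adj (oQ Y) (unitIso (Iso.refl _)) K).hom
         naturality := fun _ _ v => Dual8.cmp_natural adj (oQ Y) (unitIso (Iso.refl _)) v } :
        ObjectProperty.ι _ ⋙ midF p (a.obj (oQ Y)).obj ⟶ a ⋙ ObjectProperty.ι _) (lP j)

include hfac adj in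
theorem isIso_cmpS_of_perfect (P : DCoh.DQCoh Y) (hP : DCoh.IsPerfect P.obj) :
    IsIso ((cmpS f p j hfac a adj).app P) := by
  haveI : CompactSpace Xb := QuasiCompact.compactSpace_of_compactSpace p
  haveI : QuasiSeparatedSpace Xb := quasiSeparatedSpace_of_quasiSeparated p
  obtain ⟨_, h⟩ := Dual8.good_of_isPerfect adj (oQ Y) (unitIso (Iso.refl _)) P.obj hP
  haveI := h
  simp only [cmpS, NatTrans.comp_app, Functor.whiskerRight_app]
  infer_instance

include hperf hfac adj in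
/-- `f^! ≅ ω ⊗ Lf^*` on bounded below objects. -/
theorem nonempty_shriek_psi [CompactSpace X] :
    Nonempty (Dual3.bddι Y ⋙ psiF f j a ≅ Dual3.bddι Y ⋙ phiF j a) := by
  obtain ⟨N, hΦ, hΨ, sΦ⟩ := exists_amp f hperf p j hfac a adj
  obtain ⟨_, _⟩ := exists_triangulated p hp adj
  haveI := isLeftAdjoint_lP f
  haveI := isLeftAdjoint_lP j
  haveI : HExQ (phiF j a) := hExQ_comp (a ⋙ ObjectProperty.ι _) (lP j)
  haveI : (lP f ⋙ tenL ((phiF j a).obj (oQ Y))).IsLeftAdjoint := inferInstance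
  haveI : HExQ (psiF f j a) :=
    hExQ_comp (ObjectProperty.ι DCoh.IsQCohD) (lP f ⋙ tenL ((phiF j a).obj (oQ Y)))
  haveI : ∀ J : Type u, PreservesColimitsOfShape (Discrete J) (psiF f j a) := fun J => by
    haveI := preservesCoproducts_ι (X := Y) J
    infer_instance
  have sΨ : SumsBdd (psiF f j a) := fun J K c _ co hco => ⟨isColimitOfPreserves _ hco⟩
  haveI : ∀ K : (Dual3.IsBddBelowQ Y).FullSubcategory,
      IsIso ((Functor.whiskerLeft (Dual3.bddι Y) (cmpS f p j hfac a adj)).app K) := fun K => by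
    obtain ⟨c, hc⟩ := K.property
    exact isIso_wayOut (cmpS f p j hfac a adj) hΦ hΨ sΦ sΨ (isIso_cmpS_of_perfect f p j hfac a adj) K.obj c hc
  haveI := NatIso.isIso_of_isIso_app (Functor.whiskerLeft (Dual3.bddι Y) (cmpS f p j hfac a adj))
  exact ⟨asIso (Functor.whiskerLeft (Dual3.bddι Y) (cmpS f p j hfac a adj))⟩

end Groth.Agent.BC8
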