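import Groth.Agent.Lib.BC8.Gen
import Groth.Agent.Lib.BC8.Shriek660
import Groth.Agent.Lib.RHom.PCoh
import Groth.Agent.Lib.DPerf.Noeth
import Groth.Agent.Lib.DPush9.AffineAcyclic
import Groth.Agent.Lib.TwistBC9.LocFree
import Groth.Agent.Lib.Cyc26.PushFin
import Groth.Agent.Lib.DPerf.Single
import Groth.Agent.Lib.ModM1.Coh

/-! The upper shriek of a finite morphism: `Rf_* a ≅ RHom(f_*O, -)`. -/

set_option autoImplicit false
set_option linter.style.haveILetI false
set_option linter.unusedSectionVars false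
set_option backward.isDefEq.respectTransparency false
set_option backward.isDefEq.respectTransparency.types false
set_option maxHeartbeats 800000

universe u

open CategoryTheory CategoryTheory.Limits MonoidalCategory AlgebraicGeometry

attribute [local instance] HasDerivedCategory.standard

namespace Groth.Agent.BC8

open DMon9

variable {X Y : Scheme.{u}}

/-- Two right adjoints agree where the second preserves quasi-coherence. -/
theorem nonempty_partial_uniq {S : Type*} [Category S] (J : S ⥤ DCoh.DQCoh X)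
    {F : DCoh.DQCoh Y ⥤ DCoh.DQCoh X} {G : DCoh.DQCoh X ⥤ DCoh.DQCoh Y} (adj : F ⊣ G)
    {A : DCoh.D Y ⥤ DCoh.D X} {B : DCoh.D X ⥤ DCoh.D Y} (adjB : A ⊣ B)
    (ρ : F ⋙ ObjectProperty.ι _ ≅ ObjectProperty.ι _ ⋙ A)
    (hB : ∀ L, DCoh.IsQCohD (B.obj (J.obj L).obj)) :
    Nonempty (J ⋙ G ⋙ ObjectProperty.ι _ ≅ J ⋙ ObjectProperty.ι _ ⋙ B) := by
  let W : S ⥤ DCoh.DQCoh Y := ObjectProperty.lift _ (J ⋙ ObjectProperty.ι _ ⋙ B) hB
  let t : W ⟶ J ⋙ G :=
    { app := fun L => adj.homEquiv (W.obj L) (J.obj L)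
        (ObjectProperty.homMk (ρ.hom.app (W.obj L) ≫ adjB.counit.app (J.obj L).obj))
      naturality := fun L L' v => by
        rw [← Adjunction.homEquiv_naturality_left]
        dsimp
        rw [← Adjunction.homEquiv_naturality_right]
        congr 1
        apply ObjectProperty.hom_ext
        dsimp
        exact (ρ.hom.naturality_assoc (W.map v) _).trans
          ((congrArg (ρ.hom.app _ ≫ ·) (adjB.counit.naturality (J.map v).hom)).trans (Category.assoc _ _ _).symm) }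
  haveI : ∀ L, IsIso (t.app L) := fun L => by
    refine isIso_of_yoneda_map_bijective _ fun N => ?_
    let e : (N ⟶ W.obj L) ≃ (N ⟶ G.obj (J.obj L)) :=
      (ObjectProperty.fullyFaithfulι DCoh.IsQCohD).homEquiv.trans
        ((adjB.homEquiv N.obj (J.obj L).obj).symm.trans
          ((Iso.homCongr (ρ.app N).symm (Iso.refl _)).trans
            ((ObjectProperty.fullyFaithfulι DCoh.IsQCohD).homEquiv.symm.trans (adj.homEquiv N (J.obj L)))))
    convert e.bijective using 1
    funext h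
    simp only [e, t, Equiv.trans_apply]
    rw [← Adjunction.homEquiv_naturality_left]
    congr 1
    apply ObjectProperty.hom_ext
    change (F.map h).hom ≫ ρ.hom.app _ ≫ adjB.counit.app _ =
      ρ.hom.app N ≫ ((adjB.homEquiv N.obj (J.obj L).obj).symm h.hom ≫ 𝟙 _)
    rw [Category.comp_id, Adjunction.homEquiv_counit]
    exact ρ.hom.naturality_assoc h _
  haveI := NatIso.isIso_of_isIso_app t
  exact ⟨(Functor.associator _ _ _).symm ≪≫ Functor.isoWhiskerRight (asIso t).symm (ObjectProperty.ι _) ≪≫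
    ObjectProperty.liftCompιIso _ _ _⟩

/-- The left derived tensor product with a complex, with the object on the right. -/
theorem nonempty_ltensor_tenR (E : CochainComplex X.Modules ℤ) [DCoh.HasLTensorCx E] (G : DCoh.D X)
    (e : DCoh.toD X E ≅ G) : Nonempty (DCoh.LTensorCx E ≅ tenR G) := by
  obtain ⟨P, q, hP, hq⟩ := RHom.exists_kflat_res E
  haveI := hq
  let K : KF X := ⟨P, hP⟩
  haveI : DCoh.HasLTensorCx K.obj := KFlat.Sch.hasLTensorCx _
  haveI : DCoh.HasLTensorCx P := KFlat.Sch.hasLTensorCx _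
  haveI := RHom.isIso_ltMap q
  let e' : (qM X).obj K ≅ (G : DM X) := (asIso (DerivedCategory.Q.map q) ≪≫ e :)
  exact ⟨(asIso (RHom.ltMap q)).symm ≪≫ (DMon9.theta K).symm ≪≫ ((tensoringRight (DM X)).mapIso e' :)⟩

variable (f : Y ⟶ X) [DCoh.HasRpush f]

/-- `Rf_* O = f_* O` for an affine morphism. -/
theorem nonempty_rpush_one [IsAffineHom f] :
    Nonempty ((DCoh.Rpush f).obj ((𝟙_ (DM Y) : DM Y) : DCoh.D Y) ≅
      DCoh.inD X ((Scheme.Modules.pushforward f).obj (Coh.structureModule Y))) := by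
  let O := Coh.structureModule Y
  obtain ⟨e⟩ := TwistBC9.nonempty_rpush_inD_of_acyclic f O (M1.isQCoh_structureModule Y)
    (DPush9.isAcyclicObj_affine f (M1.isQCoh_structureModule Y))
  let i₁ : ((𝟙_ (DM Y) : DM Y) : DCoh.D Y) ≅ (DerivedCategory.singleFunctor Y.Modules 0).obj O :=
    ((DerivedCategory.singleFunctorIsoCompQ Y.Modules 0).app O).symm
  exact ⟨(DCoh.Rpush f).mapIso i₁ ≪≫ e⟩

variable {hf : DCoh.RpushPreservesQCoh f} {a : DCoh.DQCoh X ⥤ DCoh.DQCoh Y} (adj : DCoh.RpushQ f hf ⊣ a)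

include adj in
/-- `Rf_* a ≅ RHom(f_* O, -)` on bounded below quasi-coherent objects. -/
theorem nonempty_finite_shriek [IsNoetherian X] [IsNoetherian Y] [IsFinite f] (E : CochainComplex X.Modules ℤ)
    (eE : DCoh.toD X E ≅ DCoh.inD X ((Scheme.Modules.pushforward f).obj (Coh.structureModule Y)))
    [DCoh.HasLTensorCx E] [DCoh.HasRSheafHom E] :
    Nonempty (Dual3.bddι X ⋙ a ⋙ DCoh.RpushQ f hf ⋙ ObjectProperty.ι _ ≅
      Dual3.bddι X ⋙ ObjectProperty.ι _ ⋙ DCoh.RSheafHom E) := by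
  let G : DCoh.D X := (DCoh.Rpush f).obj ((𝟙_ (DM Y) : DM Y) : DCoh.D Y)
  obtain ⟨r⟩ := nonempty_rpush_one f
  obtain ⟨t⟩ := nonempty_ltensor_tenR E G (eE ≪≫ r.symm)
  let τ : ObjectProperty.ι _ ⋙ tenR G ⟶ ObjectProperty.ι _ ⋙ lP f ⋙ DCoh.Rpush f :=
    Functor.whiskerLeft (ObjectProperty.ι DCoh.IsQCohD) (qT f)
  haveI : ∀ K, IsIso (τ.app K) := fun K => isIso_qApp f (K.obj : DM X) K.property
  haveI := NatIso.isIso_of_isIso_app τ
  let ρ : (lq f ⋙ DCoh.RpushQ f hf) ⋙ ObjectProperty.ι _ ≅ ObjectProperty.ι _ ⋙ DCoh.LTensorCx E :=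
    (NatIso.ofComponents (fun K => Iso.refl _) : (lq f ⋙ DCoh.RpushQ f hf) ⋙ ObjectProperty.ι _ ≅
        ObjectProperty.ι _ ⋙ lP f ⋙ DCoh.Rpush f) ≪≫
      (asIso τ).symm ≪≫ Functor.isoWhiskerLeft _ t.symm
  have hc : Coh.IsCoh ((Scheme.Modules.pushforward f).obj (Coh.structureModule Y)) :=
    Cyc26.isCoh_push_finite f (M1.isCoh_structureModule Y)
  have hh : ∀ i : ℤ, Coh.IsCoh (DCoh.HD (DCoh.inD X ((Scheme.Modules.pushforward f).obj (Coh.structureModule Y))) i) :=
    fun i => by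
      by_cases hi : i = 0
      · subst hi
        exact ⟨M1.isQCoh_of_isIso (DPerf.hdInDIso _).symm hc.1, M1.isFT_of_isIso (DPerf.hdInDIso _).symm hc.2⟩
      · exact DPerf.isCoh_of_isZero (DPerf.isZero_HD_inD _ hi)
  have hB : ∀ L : (Dual3.IsBddBelowQ X).FullSubcategory, DCoh.IsQCohD ((DCoh.RSheafHom E).obj L.obj.obj) := fun L j => by
    obtain ⟨c, hcc⟩ := L.property
    haveI := hcc
    exact RHom.isQCoh_HD_rhom E L.obj.obj c (m := c - j - 1)
      (DGen9.isPseudoCoherentD_of_isoD eE.symm (DPerf.isPseudoCoherentD_of_coherent (fun i _ => hh i) 0))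
      L.obj.property j (by omega)
  obtain ⟨m⟩ := nonempty_partial_uniq (Dual3.bddι X) ((adjq f hf).comp adj) (DCoh.RSheafHomAdj E) ρ hB
  exact ⟨m⟩

end Groth.Agent.BC8
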