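import Groth.Agent.Lib.BC8.Refl
import Groth.Agent.Lib.BC8.FiniteShriek
import Groth.Agent.Lib.PCHH9.Main
import Groth.Agent.Lib.DlzSch27.Cover
import Groth.Agent.Lib.DlzTwist27.Exist

/-! Tensoring with a dualizing complex is bijective on maps between shifts of the structure sheaf;
two dualizing complexes are locally shifts of each other. -/

set_option autoImplicit false
set_option linter.style.haveILetI false
set_option linter.unusedSectionVars false
set_option backward.isDefEq.respectTransparency false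
set_option backward.isDefEq.respectTransparency.types false
set_option maxHeartbeats 1600000

universe u

open CategoryTheory CategoryTheory.Limits AlgebraicGeometry MonoidalCategory

attribute [local instance] HasDerivedCategory.standard

namespace Groth.Agent.BC8

open DMon9

section Scalars

variable (A : Type u) [CommRing A]

/-- Scalar endomorphisms being bijective is invariant under isomorphism. -/
theorem bijective_smul_of_iso {C : Type*} [Category* C] [Preadditive C] [Linear A C] {X Y : C} (e : X ≅ Y)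
    (h : Function.Bijective fun a : A => a • 𝟙 X) : Function.Bijective fun a : A => a • 𝟙 Y := by
  have : (fun a : A => a • 𝟙 Y) = e.homCongr e ∘ fun a => a • 𝟙 X := by
    funext a
    simp [Iso.homCongr]
  rw [this]
  exact (Equiv.bijective _).comp h

/-- Scalar endomorphisms and fully faithful linear functors. -/
theorem bijective_smul_map {C D : Type*} [Category* C] [Category* D] [Preadditive C] [Preadditive D] [Linear A C]
    [Linear A D] (F : C ⥤ D) [F.Additive] [F.Linear A] {X : C}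
    (hF : Function.Bijective fun f : X ⟶ X => F.map f) (h : Function.Bijective fun a : A => a • 𝟙 X) :
    Function.Bijective fun a : A => a • 𝟙 (F.obj X) := by
  have : (fun a : A => a • 𝟙 (F.obj X)) = (fun f : X ⟶ X => F.map f) ∘ fun a => a • 𝟙 X := by
    funext a
    exact ((F.map_smul _ _).trans (congrArg (a • ·) (F.map_id X))).symm
  rw [this]
  exact hF.comp h

theorem bijective_smul_one : Function.Bijective fun a : A => a • 𝟙 (ModuleCat.of A A) := by
  refine ⟨fun a b h => ?_, fun f => ⟨f.hom 1, ?_⟩⟩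
  · simpa using congr($(h).hom (1 : A))
  · refine ModuleCat.hom_ext (LinearMap.ext_ring ?_)
    simp

theorem bijective_smul_pt (n : ℤ) : Function.Bijective fun a : A => a • 𝟙 ((DGen9.pt (R := A) 0)⟦n⟧) :=
  bijective_smul_map A (shiftFunctor (Dual.D A) n)
    ((Functor.FullyFaithful.ofFullyFaithful (shiftFunctor (Dual.D A) n)).homEquiv).bijective
    (bijective_smul_map A (DerivedCategory.singleFunctor (ModuleCat.{u} A) 0)
      ((Functor.FullyFaithful.ofFullyFaithful (DerivedCategory.singleFunctor (ModuleCat.{u} A) 0)).homEquiv).bijective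
      (bijective_smul_one A))

variable {A}

theorem subsingleton_hom_shift {C : Type*} [Category* C] [HasShift C ℤ] {X Y : C} (a b n : ℤ) (h : a + n = b)
    [Subsingleton (X ⟶ Y⟦n⟧)] : Subsingleton (X⟦a⟧ ⟶ Y⟦b⟧) :=
  (((Iso.refl _).homCongr ((shiftFunctorAdd' C n a b (by omega)).app Y)).trans
    (Functor.FullyFaithful.ofFullyFaithful (shiftFunctor C a)).homEquiv.symm).subsingleton

theorem subsingleton_pt {n : ℤ} (hn : n ≠ 0) :
    Subsingleton (DGen9.pt (R := A) 0 ⟶ (DGen9.pt (R := A) 0)⟦n⟧) := by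
  haveI : Subsingleton ((DerivedCategory.homologyFunctor (ModuleCat.{u} A) 0).obj
      ((DGen9.pt (R := A) 0)⟦n⟧)) := ?_
  · exact (DGen9.eltEquiv (0 : ℤ) ((DGen9.pt (R := A) 0)⟦n⟧)).toEquiv.subsingleton
  refine ModuleCat.subsingleton_of_isZero (IsZero.of_iso ?_
    (((DerivedCategory.homologyFunctor (ModuleCat.{u} A) 0).shiftIso n 0 n (by omega)).app _))
  rcases lt_or_gt_of_ne hn with h | h
  · exact DerivedCategory.isZero_of_isGE _ 0 n h
  · exact DerivedCategory.isZero_of_isLE _ 0 n h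

end Scalars

/-- The affine case: tensoring with a dualizing complex. -/
theorem bijective_ten_affine {A : Type u} [CommRing A] {ω : Dual.D A} (hω : Dual.IsDualizing A ω)
    (G : DCoh.D (Spec (CommRingCat.of A))) (eG : G ≅ (DPerf.tildeDD (CommRingCat.of A)).obj ω) (m l : ℤ) :
    Function.Bijective fun y : TwistBC9.oneD (Spec (CommRingCat.of A)) m ⟶
      TwistBC9.oneD (Spec (CommRingCat.of A)) l => (tenL G).map y := by
  let S := Spec (CommRingCat.of A)
  letI : S.Over (Spec (CommRingCat.of A)) := ⟨𝟙 S⟩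
  haveI := PCHH9.linear_tilde A (rfl : (S ↘ Spec (CommRingCat.of A)) = 𝟙 S)
  let T := DPerf.tildeDD (CommRingCat.of A)
  let E : CochainComplex S.Modules ℤ := (DerivedCategory.Q (C := S.Modules)).objPreimage G
  let eE : DCoh.toD S E ≅ G := (DerivedCategory.Q (C := S.Modules)).objObjPreimageIso G
  haveI := KFlat.Sch.hasLTensorCx E
  haveI : (DCoh.LTensorCx E).Linear A := ExtFin9.linear_LT A E
  obtain ⟨tl⟩ := nonempty_ltensor_tenL E G eE
  obtain ⟨tr⟩ := nonempty_ltensor_tenR E G eE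
  let F := DCoh.LTensorCx E
  let P := DGen9.pt (R := A) 0
  let eO : ∀ k : ℤ, T.obj (P⟦-k⟧) ≅ TwistBC9.oneD S k := fun k =>
    (T.commShiftIso (-k)).app P ≪≫ (shiftFunctor (DCoh.D S) (-k)).mapIso (DGen9.KO.oneIso (R := CommRingCat.of A)).symm ≪≫
      (((DerivedCategory.singleFunctors S.Modules).shiftIso (-k) k 0 (by omega)).app (Coh.structureModule S))
  have eF : ∀ k : ℤ, Nonempty (F.obj (TwistBC9.oneD S k) ≅ T.obj (ω⟦-k⟧)) := fun k => by
    obtain ⟨s⟩ := nonempty_tenL_one k (TwistBC9.oneD S k) (Iso.refl _)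
    exact ⟨tr.app (TwistBC9.oneD S k) ≪≫ s.app G ≪≫ (shiftFunctor (DCoh.D S) (-k)).mapIso eG ≪≫
      ((T.commShiftIso (-k)).app ω).symm⟩
  have hT : ∀ N M, Function.Bijective fun f : N ⟶ M => T.map f := DQC.bijective_map
  suffices h : Function.Bijective fun y : TwistBC9.oneD S m ⟶ TwistBC9.oneD S l => F.map y from
    bijective_map_iso tl h
  obtain ⟨iM⟩ := eF m
  obtain ⟨iL⟩ := eF l
  by_cases hml : m = l
  · subst hml
    have h1 : Function.Bijective fun a : A => a • 𝟙 (TwistBC9.oneD S m) :=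
      bijective_smul_of_iso A (eO m) (bijective_smul_map A T (hT _ _) (bijective_smul_pt A (-m)))
    have h2 : Function.Bijective fun a : A => a • 𝟙 (F.obj (TwistBC9.oneD S m)) :=
      bijective_smul_of_iso A iM.symm (bijective_smul_map A T (hT _ _)
        (bijective_smul_map A (shiftFunctor (Dual.D A) (-m))
          ((Functor.FullyFaithful.ofFullyFaithful (shiftFunctor (Dual.D A) (-m))).homEquiv).bijective
          hω.toEnd_bijective))
    have h3 : (fun y : TwistBC9.oneD S m ⟶ TwistBC9.oneD S m => F.map y) ∘ (fun a : A => a • 𝟙 (TwistBC9.oneD S m)) =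
        fun a : A => a • 𝟙 (F.obj (TwistBC9.oneD S m)) := by
      funext a
      exact (F.map_smul _ _).trans (congrArg (a • ·) (F.map_id _))
    rw [← h3] at h2
    exact (Function.Bijective.of_comp_iff _ h1).1 h2
  · haveI := subsingleton_pt (A := A) (n := m - l) (by omega)
    haveI := hω.ext_self_subsingleton (m - l) (by omega)
    haveI s1 : Subsingleton (P⟦-m⟧ ⟶ P⟦-l⟧) := subsingleton_hom_shift (-m) (-l) (m - l) (by omega)
    haveI s2 : Subsingleton (ω⟦-m⟧ ⟶ ω⟦-l⟧) := subsingleton_hom_shift (-m) (-l) (m - l) (by omega)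
    haveI t1 : Subsingleton (TwistBC9.oneD S m ⟶ TwistBC9.oneD S l) :=
      (((eO m).homCongr (eO l)).symm.trans (Equiv.ofBijective _ (hT _ _)).symm).subsingleton
    haveI t2 : Subsingleton (F.obj (TwistBC9.oneD S m) ⟶ F.obj (TwistBC9.oneD S l)) :=
      ((iM.homCongr iL).trans (Equiv.ofBijective _ (hT _ _)).symm).subsingleton
    exact ⟨fun x y _ => Subsingleton.elim x y, fun z => ⟨0, Subsingleton.elim _ z⟩⟩

/-- An isomorphism of schemes carries the bijectivity. -/
theorem bijective_ten_of_iso {V Z : Scheme.{u}} (k : V ⟶ Z) [IsIso k] {G T T' : DCoh.D Z}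
    (h : Function.Bijective fun y : T ⟶ T' => (tenL G).map y) :
    Function.Bijective fun y : (lP k).obj T ⟶ (lP k).obj T' => (tenL ((lP k).obj G)).map y := by
  haveI : (lP k).IsEquivalence :=
    (CategoryTheory.Equivalence.mk (lP k) (lP (inv k))
      ((DBC9.lPId Z).symm ≪≫ (lPComp (inv k) k (IsIso.inv_hom_id k)).symm)
      (lPComp k (inv k) (IsIso.hom_inv_id k) ≪≫ DBC9.lPId V)).isEquivalence_functor
  let δ : tenL G ⋙ lP k ≅ lP k ⋙ tenL ((lP k).obj G) := (Functor.Monoidal.commTensorLeft (dPull k) (G : DM Z)).symm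
  exact (Function.Bijective.of_comp_iff _
    ((Functor.FullyFaithful.ofFullyFaithful (lP k)).homEquiv (X := T) (Y := T')).bijective).1
    (bijective_map_iso δ (((Functor.FullyFaithful.ofFullyFaithful (lP k)).homEquiv).bijective.comp h))

variable {X : Scheme.{u}} [∀ (U : Scheme.{u}) (j : U ⟶ X) [IsOpenImmersion j],
    PreservesFiniteLimits (Scheme.Modules.restrictFunctor j)]
  [∀ (R : CommRingCat.{u}), PreservesFiniteLimits (tilde.functor R)]

/-- Tensoring with the restriction of a dualizing complex to an affine open. -/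
theorem bijective_ten_dualizing {K : DCoh.D X} (hK : Dual2.IsDualizingSch X K) {V : X.Opens} (hV : IsAffineOpen V)
    (m l : ℤ) :
    Function.Bijective fun y : TwistBC9.oneD (V : Scheme.{u}) m ⟶ TwistBC9.oneD (V : Scheme.{u}) l =>
      (tenL ((lP V.ι).obj K)).map y := by
  obtain ⟨ω, hω, ⟨e⟩⟩ := DlzSch27.mdl_of_isDualizingSch hK Γ(X, V) hV.fromSpec
  let k := hV.isoSpec.hom
  haveI : IsIso k := inferInstanceAs (IsIso hV.isoSpec.hom)
  let G := (lP hV.fromSpec).obj K
  obtain ⟨c⟩ := nonempty_tenL_congr ((lPComp k hV.fromSpec hV.isoSpec_hom_fromSpec).app K)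
  obtain ⟨lm⟩ := TwistBC9.nonempty_lP_oneM k m
  obtain ⟨ll⟩ := TwistBC9.nonempty_lP_oneM k l
  exact bijective_map_obj _ lm ll (bijective_map_iso c (bijective_ten_of_iso k (G := G)
    (bijective_ten_affine hω G ((lPRes hV.fromSpec).app K ≪≫ e) m l)))

/-- Cohomology of a dualizing complex is coherent. -/
theorem isCohD_dualizing [IsLocallyNoetherian X] {K : DCoh.D X} (hK : Dual2.IsDualizingSch X K) :
    DCoh.IsCohD K := fun i => by
  refine DPerf.isCoh_of_isFT_of_isQCoh ?_ ?_
  · refine DlzSch27.isQCohD_of_models (fun x => ?_) i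
    obtain ⟨R, j, hj, hx⟩ : ∃ (R : CommRingCat.{u}) (j : Spec R ⟶ X) (_ : IsOpenImmersion j), x ∈ Set.range j := by
      obtain ⟨V, hV, hxV, -⟩ := exists_isAffineOpen_mem_and_subset (x := x) (U := (⊤ : X.Opens)) trivial
      exact ⟨Γ(X, V), hV.fromSpec, inferInstance, by rw [hV.range_fromSpec]; exact hxV⟩
    obtain ⟨M, -, hM⟩ := DlzSch27.mdl_of_isDualizingSch hK R j
    exact ⟨R, j, hj, hx, M, hM⟩
  · choose V hV hxV using fun x : X => exists_isAffineOpen_mem_and_subset (x := x) (U := (⊤ : X.Opens)) trivial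
    refine M1.isFT_of_openImmersion_cover (fun x => (hV x).fromSpec)
      (fun x => ⟨x, by rw [(hV x).range_fromSpec]; exact (hxV x).1⟩) fun x => ?_
    obtain ⟨ω, hω, ⟨e⟩⟩ := DlzSch27.mdl_of_isDualizingSch hK Γ(X, V x) (hV x).fromSpec
    haveI : IsNoetherianRing Γ(X, V x) := hω.isNoetherianRing
    haveI : Module.Finite Γ(X, V x) ((DerivedCategory.homologyFunctor (ModuleCat.{u} Γ(X, V x)) i).obj ω) :=
      hω.finite_cohomology i
    exact M1.isFT_of_isIso ((DerivedCategory.homologyFunctor _ i).mapIso e.symm ≪≫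
      DPerf.hdResIso (hV x).fromSpec K i)
      (M1.isFT_of_isIso (DPerf.hdTildeIso ω i).symm
        (M1.isFT_tilde ((DerivedCategory.homologyFunctor (ModuleCat.{u} Γ(X, V x)) i).obj ω)))

/-- A dualizing complex is bounded on each affine open. -/
theorem exists_bounds_dualizing {K : DCoh.D X} (hK : Dual2.IsDualizingSch X K) {V : X.Opens} (hV : IsAffineOpen V) :
    ∃ a b : ℤ, ((lP V.ι).obj K).IsGE a ∧ ((lP V.ι).obj K).IsLE b := by
  obtain ⟨ω, hω, ⟨e⟩⟩ := DlzSch27.mdl_of_isDualizingSch hK Γ(X, V) hV.fromSpec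
  let M := Dlz27.model hω
  haveI : (DerivedCategory.Q.obj M.W).IsGE M.lo := inferInstance
  haveI : (DerivedCategory.Q.obj M.W).IsLE M.hi := inferInstance
  let T := DPerf.tildeDD Γ(X, V)
  let G := (lP hV.fromSpec).obj K
  let eG : G ≅ T.obj ω := (lPRes hV.fromSpec).app K ≪≫ e
  have hz : ∀ i, (i < M.lo ∨ M.hi < i) → IsZero (DCoh.HD G i) := fun i hi => by
    refine IsZero.of_iso ((tilde.functor Γ(X, V)).map_isZero ?_)
      ((DerivedCategory.homologyFunctor _ i).mapIso eG ≪≫ DPerf.hdTildeIso ω i)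
    refine IsZero.of_iso ?_ ((DerivedCategory.homologyFunctor _ i).mapIso M.e.symm)
    rcases hi with h | h
    · exact DerivedCategory.isZero_of_isGE _ M.lo i h
    · exact DerivedCategory.isZero_of_isLE _ M.hi i h
  let k := hV.isoSpec.hom
  haveI : IsIso k := inferInstanceAs (IsIso hV.isoSpec.hom)
  have hzV : ∀ i, (i < M.lo ∨ M.hi < i) → IsZero (DCoh.HD ((lP V.ι).obj K) i) := fun i hi =>
    ((Scheme.Modules.restrictFunctor k).map_isZero (hz i hi)).of_iso
      ((DerivedCategory.homologyFunctor _ i).mapIso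
        (((lPComp k hV.fromSpec hV.isoSpec_hom_fromSpec).app K).symm ≪≫ (lPRes k).app _) ≪≫
        DPerf.hdResIso k _ i)
  exact ⟨M.lo, M.hi, (DerivedCategory.isGE_iff _ _).2 fun i hi => hzV i (Or.inl hi),
    (DerivedCategory.isLE_iff _ _).2 fun i hi => hzV i (Or.inr hi)⟩

section Shift

variable [IsLocallyNoetherian X]

theorem isIso_smul_id {A : Type u} [CommRing A] {C : Type*} [Category* C] [Abelian C] [Linear A C]
    [HasDerivedCategory C] (a : A) (h : ∀ M : C, IsIso (a • 𝟙 M)) (Y : DerivedCategory C) : IsIso (a • 𝟙 Y) := by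
  let P := DerivedCategory.Q.objPreimage Y
  let e : DerivedCategory.Q.obj P ≅ Y := DerivedCategory.Q.objObjPreimageIso Y
  haveI : IsIso (a • 𝟙 P) :=
    haveI : ∀ i, IsIso ((a • 𝟙 P : P ⟶ P).f i) := fun i => h (P.X i)
    HomologicalComplex.Hom.isIso_of_components _
  have : a • 𝟙 Y = e.inv ≫ DerivedCategory.Q.map (a • 𝟙 P) ≫ e.hom := by
    rw [Functor.map_smul, CategoryTheory.Functor.map_id, Linear.smul_comp, Category.id_comp, Linear.comp_smul,
      Iso.inv_hom_id]
  rw [this]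
  infer_instance

/-- Two dualizing complexes differ locally by a shift. -/
theorem exists_local_shift {K K' : DCoh.D X} (hK : Dual2.IsDualizingSch X K) (hK' : Dual2.IsDualizingSch X K')
    (x : X) : ∃ (V : X.Opens) (l : ℤ), x ∈ V ∧ IsAffineOpen V ∧
      Nonempty ((lP V.ι).obj K' ≅ (tenL ((lP V.ι).obj K)).obj (TwistBC9.oneD (V : Scheme.{u}) l)) := by
  obtain ⟨U, hU, hxU, -⟩ := exists_isAffineOpen_mem_and_subset (x := x) (U := (⊤ : X.Opens)) trivial
  let A := Γ(X, U)
  let j : Spec A ⟶ X := hU.fromSpec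
  obtain ⟨ω, hω, ⟨e⟩⟩ := DlzSch27.mdl_of_isDualizingSch hK A j
  obtain ⟨ω', hω', ⟨e'⟩⟩ := DlzSch27.mdl_of_isDualizingSch hK' A j
  haveI : IsNoetherianRing A := hω.isNoetherianRing
  let p := hU.primeIdealOf ⟨x, hxU⟩
  obtain ⟨n, s, f, g, hs, h1, h2⟩ := DlzTwist27.exists_pair_at hω hω' p
  let S := Spec (CommRingCat.of A)
  letI : S.Over (Spec (CommRingCat.of A)) := ⟨𝟙 S⟩
  haveI := PCHH9.linear_tilde A (rfl : (S ↘ Spec (CommRingCat.of A)) = 𝟙 S)
  let W : S.Opens := PrimeSpectrum.basicOpen (s : A)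
  letI : (W : Scheme.{u}).Over (Spec (CommRingCat.of A)) := ⟨W.ι⟩
  haveI : (Scheme.Modules.restrictFunctor W.ι).Linear A := by
    refine (Functor.linear_iff A _).mpr fun M a => Scheme.Modules.hom_ext _ _ fun O => ?_
    ext t
    refine Eq.trans ?_ (KLin.smul_app_apply (A := A) a (𝟙 ((Scheme.Modules.restrictFunctor W.ι).obj M)) O t).symm
    refine (KLin.smul_app_apply (A := A) a (𝟙 M) (W.ι ''ᵁ O) t).trans ?_
    let t' : Γ(M, W.ι ''ᵁ O) := t
    change S.presheaf.map (homOfLE le_top).op (Coh.toGlobal (𝟙 S) a) • t' =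
      (W.ι.appIso O).inv ((W : Scheme.{u}).presheaf.map (homOfLE le_top).op (Coh.toGlobal W.ι a)) • t'
    congr 1
    refine Eq.symm ((ConcreteCategory.congr_hom (W.ι.appLE_appIso_inv (U := ⊤) (V := O) le_top) _).trans ?_)
    simp [Coh.toGlobal]
    rfl
  let T := DPerf.tildeDD (CommRingCat.of A)
  let Rw := DPerf.resD W.ι
  haveI hu : ∀ M : (W : Scheme.{u}).Modules, IsIso (s • 𝟙 M) := fun M => by
    rw [KLin.smul_id, Formal.smulMod]
    obtain ⟨r, hr⟩ : IsUnit (Coh.toGlobal ((W : Scheme.{u}) ↘ Spec (CommRingCat.of A)) s) := by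
      show IsUnit (W.ι.appTop ((Scheme.ΓSpecIso (CommRingCat.of A)).inv s))
      rw [Scheme.Opens.ι_appTop]
      have h := RingedSpace.isUnit_res_basicOpen S.toLocallyRingedSpace.toRingedSpace
        ((Scheme.ΓSpecIso (CommRingCat.of A)).inv s)
      have hb : S.basicOpen ((Scheme.ΓSpecIso (CommRingCat.of A)).inv s) = W := basicOpen_eq_of_affine s
      revert h
      show IsUnit (S.presheaf.map (homOfLE (S.basicOpen_le _)).op _) → _
      intro h
      have h' := h.map (S.presheaf.map (homOfLE (W.ι_image_top.le.trans hb.ge)).op).hom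
      rw [← CommRingCat.comp_apply, ← Functor.map_comp, ← op_comp, homOfLE_comp] at h'
      exact h'
    rw [← hr]
    refine ⟨Formal.smulModΓ M ↑r⁻¹, ?_, ?_⟩ <;>
      rw [← KLin.smulModΓ_mul] <;> simp [KLin.smulModΓ_one]
  haveI i1 : IsIso (Rw.map (T.map f) ≫ Rw.map (T.map g)) := by
    rw [← Functor.map_comp, ← Functor.map_comp, h1, Functor.map_smul, CategoryTheory.Functor.map_id,
      Functor.map_smul, CategoryTheory.Functor.map_id]
    exact isIso_smul_id s hu _
  haveI i2 : IsIso (Rw.map (T.map g) ≫ Rw.map (T.map f)) := by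
    rw [← Functor.map_comp, ← Functor.map_comp, h2, Functor.map_smul, CategoryTheory.Functor.map_id,
      Functor.map_smul, CategoryTheory.Functor.map_id]
    exact isIso_smul_id s hu _
  haveI : Mono (Rw.map (T.map f)) := mono_of_mono _ (Rw.map (T.map g))
  haveI : IsSplitEpi (Rw.map (T.map f)) :=
    ⟨⟨⟨inv (Rw.map (T.map g) ≫ Rw.map (T.map f)) ≫ Rw.map (T.map g), by simp⟩⟩⟩
  haveI : IsIso (Rw.map (T.map f)) := isIso_of_mono_of_isSplitEpi _
  let u : (W : Scheme.{u}) ⟶ X := W.ι ≫ j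
  let V := u.opensRange
  haveI : IsAffine (W : Scheme.{u}) := IsAffineOpen.Spec_basicOpen s
  have hV : IsAffineOpen V := isAffineOpen_opensRange u
  have hxV : x ∈ V := by
    refine ⟨⟨p, hs⟩, ?_⟩
    exact hU.fromSpec_primeIdealOf ⟨x, hxU⟩
  let k : (V : Scheme.{u}) ⟶ W := u.isoOpensRange.inv
  have hk : (k ≫ W.ι) ≫ j = V.ι := by
    rw [Category.assoc]
    exact Scheme.Hom.isoOpensRange_inv_comp u
  let kW := k ≫ W.ι
  haveI : IsOpenImmersion kW := inferInstanceAs (IsOpenImmersion (k ≫ W.ι))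
  let w : ∀ {M : Dual.D A} {L : DCoh.D X}, ((DPerf.resD j).obj L ≅ T.obj M) →
      ((lP V.ι).obj L ≅ (lP k).obj (Rw.obj (T.obj M))) := fun {M L} i =>
    ((lPComp kW j hk).app L).symm ≪≫ (lP kW).mapIso ((lPRes j).app L ≪≫ i) ≪≫
      ((lPComp k W.ι rfl).app _).symm ≪≫ (lP k).mapIso ((lPRes W.ι).app _)
  obtain ⟨s'⟩ := nonempty_tenL_one (-n) (TwistBC9.oneD (V : Scheme.{u}) (-n)) (Iso.refl _)
  obtain ⟨E, ⟨eE⟩⟩ : ∃ E, Nonempty (DCoh.toD (V : Scheme.{u}) E ≅ (lP V.ι).obj K) :=
    ⟨_, ⟨(DerivedCategory.Q (C := (V : Scheme.{u}).Modules)).objObjPreimageIso _⟩⟩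
  haveI := KFlat.Sch.hasLTensorCx E
  obtain ⟨tl⟩ := nonempty_ltensor_tenL E _ eE
  obtain ⟨tr⟩ := nonempty_ltensor_tenR E _ eE
  refine ⟨V, -n, hxV, hV, ⟨w e' ≪≫ (lP k).mapIso (asIso (Rw.map (T.map f))).symm ≪≫
    (w (L := K⟦n⟧) (((DPerf.resD j).commShiftIso n).app K ≪≫ (shiftFunctor (DCoh.D S) n).mapIso e ≪≫
      ((T.commShiftIso n).app ω).symm)).symm ≪≫
    ((lPRes V.ι).app _ ≪≫ ((DPerf.resD V.ι).commShiftIso n).app K ≪≫
      (shiftFunctor (DCoh.D (V : Scheme.{u})) n).mapIso ((lPRes V.ι).app K).symm) ≪≫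
    (eqToIso (by rw [neg_neg]) : ((lP V.ι).obj K)⟦n⟧ ≅ ((lP V.ι).obj K)⟦(- -n)⟧) ≪≫
    (s'.app ((lP V.ι).obj K)).symm ≪≫ (tr.app _).symm ≪≫ tl.app _⟩⟩

end Shift

end Groth.Agent.BC8
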