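import Groth.Agent.Lib.BC8.Q
import Groth.Agent.Lib.DPush.Affine
import Groth.Agent.Lib.Dual8.Coprod

/-!
`D_QCoh` as a triangulated subcategory; direct image and its right adjoint are triangulated.
-/

set_option autoImplicit false
set_option linter.unusedSectionVars false
set_option linter.style.haveILetI false
set_option backward.isDefEq.respectTransparency false
set_option backward.isDefEq.respectTransparency.types false
set_option maxHeartbeats 800000

universe u

open CategoryTheory CategoryTheory.Limits AlgebraicGeometry Pretriangulated ZeroObject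

attribute [local instance] HasDerivedCategory.standard

namespace Groth.Agent.BC8

instance isClosedUnderIso_qcohD (X : Scheme.{u}) :
    (DCoh.IsQCohD (X := X) : ObjectProperty (DCoh.D X)).IsClosedUnderIsomorphisms where
  of_iso e h := DQC.isQCohD_of_iso e h

instance isTriangulated_qcohD (X : Scheme.{u}) :
    (DCoh.IsQCohD (X := X) : ObjectProperty (DCoh.D X)).IsTriangulated where
  exists_zero := ⟨0, isZero_zero _, fun i =>
    DPush.isQCoh_of_isZero ((DerivedCategory.homologyFunctor X.Modules i).map_isZero (isZero_zero _))⟩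
  isStableUnderShiftBy n :=
    { le_shift := fun _ h => WayOut.cohIn_shift (fun M : X.Modules => Coh.IsQCoh M) n h }
  toIsTriangulatedClosed₂ := .mk' fun T hT h₁ h₃ =>
    WayOut.cohIn_obj₂ (fun M : X.Modules => Coh.IsQCoh M) T hT h₁ h₃

variable {X Y : Scheme.{u}} (f : X ⟶ Y) [DCoh.HasRpush f] (hf : DCoh.RpushPreservesQCoh f)
  {a : DCoh.DQCoh Y ⥤ DCoh.DQCoh X}

/-- Direct image and its right adjoint are triangulated on `D_QCoh`. -/
theorem exists_triangulated (adj : DCoh.RpushQ f hf ⊣ a) :
    ∃ (_ : a.CommShift ℤ), a.IsTriangulated := by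
  obtain ⟨_, _⟩ := DPush.exists_commShift_isTriangulated f
  letI : (DCoh.RpushQ f hf).CommShift ℤ := inferInstanceAs ((ObjectProperty.lift _ _ _).CommShift ℤ)
  haveI : (DCoh.RpushQ f hf).IsTriangulated := inferInstanceAs (ObjectProperty.lift _ _ _).IsTriangulated
  letI := adj.rightAdjointCommShift ℤ
  haveI := adj.commShift_of_leftAdjoint ℤ
  exact ⟨inferInstance, adj.isTriangulated_rightAdjoint⟩

end Groth.Agent.BC8
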