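import Groth.Agent.Lib.BC8.UpperQC
import Groth.Agent.Lib.BC8.Tri
import Groth.Agent.Lib.RHom.ProjClosed
import Groth.Prelude.Def_Dual3
import Groth.Agent.Lib.HomO15.Basic
import Groth.Agent.Lib.DPush.QCoh

/-! The right adjoint of the direct image of a closed immersion on derived categories of all modules;
its agreement with the right adjoint on complexes with quasi-coherent cohomology. -/

set_option autoImplicit false
set_option linter.style.haveILetI false
set_option linter.unusedSectionVars false
set_option backward.isDefEq.respectTransparency false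
set_option backward.isDefEq.respectTransparency.types false

universe u w w' v v' u'

open CategoryTheory CategoryTheory.Limits AlgebraicGeometry DerivedCategory Pretriangulated

attribute [local instance] HasDerivedCategory.standard

namespace Groth.Agent.BC8

section Gen

variable {A : Type u} [Category.{v} A] [Abelian A] [HasDerivedCategory.{w} A]
  {B : Type u'} [Category.{v'} B] [Abelian B] [HasDerivedCategory.{w'} B] [IsGrothendieckAbelian.{v'} B]
  (F : A ⥤ B) [F.Additive] [PreservesFiniteLimits F] [PreservesFiniteColimits F]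

/-- An exact functor with a right adjoint on objects has one on derived categories. -/
theorem isLeftAdjoint_mapDerived {G : B ⥤ A} [G.Additive] (adj : F ⊣ G) :
    F.mapDerivedCategory.IsLeftAdjoint := by
  choose I hI hiso using fun L : DerivedCategory B => KInjLib.exists_iso_kInjective L
  let Robj : DerivedCategory B → DerivedCategory A := fun L => Q.obj (DQC.rightX (G := G) (I L))
  let e : ∀ (N : DerivedCategory A) (L : DerivedCategory B),
      (F.mapDerivedCategory.obj N ⟶ L) ≃ (N ⟶ Robj L) := fun N L =>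
    haveI := hI L
    (Iso.homCongr (Iso.refl _) (hiso L).some).trans
      (Equiv.ofBijective _ (DQC.bijective_adjD F adj (I L) N)).symm
  exact (Adjunction.adjunctionOfEquivRight e fun X' X Y f g => by
    haveI := hI Y
    refine (DQC.bijective_adjD F adj (I Y) X').1 ?_
    refine ((Equiv.ofBijective _ (DQC.bijective_adjD F adj (I Y) X')).apply_symm_apply _).trans ?_
    symm
    change F.mapDerivedCategory.map (f ≫ e X Y g) ≫ DQC.epsD F adj (I Y) = _
    rw [Functor.map_comp, Category.assoc]
    refine (congrArg (F.mapDerivedCategory.map f ≫ ·)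
      ((Equiv.ofBijective _ (DQC.bijective_adjD F adj (I Y) X)).apply_symm_apply _)).trans ?_
    simp [Iso.homCongr]).isLeftAdjoint

variable {R : DerivedCategory B ⥤ DerivedCategory A} (adjR : F.mapDerivedCategory ⊣ R)

include adjR in
theorem exists_triangulated_upper : ∃ (_ : R.CommShift ℤ), R.IsTriangulated := by
  letI := adjR.rightAdjointCommShift ℤ
  haveI := adjR.commShift_of_leftAdjoint ℤ
  exact ⟨inferInstance, adjR.isTriangulated_rightAdjoint⟩

include adjR in
theorem isGE_upper (L : DerivedCategory B) (m : ℤ) [L.IsGE m] : (R.obj L).IsGE m := by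
  refine (DerivedCategory.TStructure.t.isGE_iff_orthogonal (m - 1) m (by lia) _).2 fun N φ hN => ?_
  haveI : N.IsLE (m - 1) := hN
  haveI : (F.mapDerivedCategory.obj N).IsLE (m - 1) := by
    rw [DerivedCategory.isLE_iff]
    intro i hi
    exact (F.map_isZero (DerivedCategory.isZero_of_isLE N (m - 1) i hi)).of_iso
      ((WayOut.mapDerivedHomologyIso F i).app N)
  have h0 : (adjR.homEquiv N L).symm φ = 0 :=
    DerivedCategory.TStructure.t.zero _ (m - 1) m (by lia)
  exact (adjR.homEquiv N L).symm.injective (h0.trans (by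
    rw [Adjunction.homEquiv_counit, Functor.map_zero, zero_comp]))

include adjR in
/-- The right adjoint on an injective object in degree zero. -/
theorem nonempty_upper_single {G : B ⥤ A} [G.Additive] (adj : F ⊣ G) (J : B) [Injective J] :
    Nonempty (R.obj ((singleFunctor B 0).obj J) ≅ (singleFunctor A 0).obj (G.obj J)) := by
  let C : CochainComplex B ℤ := (CochainComplex.singleFunctor B 0).obj J
  haveI : ∀ n : ℤ, Injective (C.X n) := fun n => by
    by_cases h : n = 0
    · subst h
      exact Injective.of_iso (HomologicalComplex.singleObjXSelf (ComplexShape.up ℤ) 0 J).symm inferInstance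
    · exact (HomologicalComplex.isZero_single_obj_X (ComplexShape.up ℤ) 0 J n h).injective
  haveI : C.IsKInjective := CochainComplex.isKInjective_of_injective C 0
  refine ⟨R.mapIso ((singleFunctorIsoCompQ B 0).app J) ≪≫ ?_ ≪≫
    Q.mapIso ((HomologicalComplex.singleMapHomologicalComplex G (ComplexShape.up ℤ) 0).app J) ≪≫
    ((singleFunctorIsoCompQ A 0).app (G.obj J)).symm⟩
  exact Yoneda.ext _ _
    (fun {N} v => (Equiv.ofBijective _ (DQC.bijective_adjD F adj C N)).symm ((adjR.homEquiv _ _).symm v))
    (fun {N} v => adjR.homEquiv _ _ (F.mapDerivedCategory.map v ≫ DQC.epsD F adj C))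
    (fun {N} v => by
      rw [Equiv.ofBijective_apply_symm_apply (fun h : N ⟶ Q.obj (DQC.rightX (G := G) C) =>
        F.mapDerivedCategory.map h ≫ DQC.epsD F adj C)]
      exact Equiv.apply_symm_apply _ _)
    (fun {N} v => (congrArg _ (Equiv.symm_apply_apply _ _)).trans
      ((Equiv.ofBijective _ (DQC.bijective_adjD F adj C N)).symm_apply_apply v))
    (fun {N N'} f v => by
      apply (DQC.bijective_adjD F adj C N').1
      dsimp
      rw [Functor.map_comp, Category.assoc,
        Equiv.ofBijective_apply_symm_apply (fun h : N' ⟶ Q.obj (DQC.rightX (G := G) C) =>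
          F.mapDerivedCategory.map h ≫ DQC.epsD F adj C),
        Equiv.ofBijective_apply_symm_apply (fun h : N ⟶ Q.obj (DQC.rightX (G := G) C) =>
          F.mapDerivedCategory.map h ≫ DQC.epsD F adj C),
        Adjunction.homEquiv_naturality_left_symm])

end Gen

section Scheme

variable {Z X : Scheme.{u}} (i : Z ⟶ X) [IsClosedImmersion i]
  [PreservesFiniteLimits (Scheme.Modules.pushforward i)] [PreservesFiniteColimits (Scheme.Modules.pushforward i)]
  {R : DCoh.D X ⥤ DCoh.D Z} (adjR : Dual3.pushD i ⊣ R)

local notation "HH" => DerivedCategory.homologyFunctor Z.Modules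

include adjR in
theorem isQCohD_upper_single [IsLocallyNoetherian X] : ∀ (k : ℕ) (M : X.Modules), Coh.IsQCoh M →
    Coh.IsQCoh ((HH (k : ℤ)).obj (R.obj ((singleFunctor X.Modules 0).obj M))) := by
  obtain ⟨_, _⟩ := exists_triangulated_upper (Scheme.Modules.pushforward i) adjR
  haveI := HomO15.isLeftAdjoint i
  let G := (Scheme.Modules.pushforward i).rightAdjoint
  let adj : Scheme.Modules.pushforward i ⊣ G := Adjunction.ofIsLeftAdjoint _
  haveI : G.Additive := adj.right_adjoint_additive
  have hinj : ∀ (J : X.Modules), Injective J → Coh.IsQCoh J → ∀ q : ℤ,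
      Coh.IsQCoh ((HH q).obj (R.obj ((singleFunctor X.Modules 0).obj J))) := by
    intro J hJ hq q
    obtain ⟨e⟩ := nonempty_upper_single (Scheme.Modules.pushforward i) adjR adj J
    refine M1.isQCoh_of_isIso ((HH q).mapIso e).symm ?_
    by_cases h : q = 0
    · subst h
      exact M1.isQCoh_of_isIso ((singleFunctorCompHomologyFunctorIso Z.Modules 0).app _).symm
        (isQCoh_rightAdj i adj hq)
    · exact DPush.isQCoh_of_isZero (by
        rcases lt_or_gt_of_ne h with h | h
        · exact DerivedCategory.isZero_of_isGE _ 0 q h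
        · exact DerivedCategory.isZero_of_isLE _ 0 q h)
  have hneg : ∀ (M : X.Modules) (q : ℤ), q < 0 →
      IsZero ((HH q).obj (R.obj ((singleFunctor X.Modules 0).obj M))) := fun M q hq => by
    haveI := isGE_upper (Scheme.Modules.pushforward i) adjR ((singleFunctor X.Modules 0).obj M) 0
    exact DerivedCategory.isZero_of_isGE _ 0 q hq
  have hinj0 : ∀ (J : X.Modules), Injective J → ∀ q : ℤ, q ≠ 0 →
      IsZero ((HH q).obj (R.obj ((singleFunctor X.Modules 0).obj J))) := by
    intro J hJ q hq
    obtain ⟨e⟩ := nonempty_upper_single (Scheme.Modules.pushforward i) adjR adj J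
    refine IsZero.of_iso ?_ ((HH q).mapIso e)
    rcases lt_or_gt_of_ne hq with h | h
    · exact DerivedCategory.isZero_of_isGE _ 0 q h
    · exact DerivedCategory.isZero_of_isLE _ 0 q h
  intro k
  induction k with
  | zero =>
    intro M hM
    obtain ⟨I, f, hI, hf⟩ := InjMod.exists_injectiveHull.{u} M
    haveI := hf.mono
    have hI' : Coh.IsQCoh I := InjMod.isQCoh_of_essential hM hf
    have hC : Coh.IsQCoh (cokernel f) := M1.isQCoh_cokernel hM hI' f
    obtain ⟨I', g, hI₂, hg⟩ := InjMod.exists_injectiveHull.{u} (cokernel f)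
    haveI := hg.mono
    have hI₂' : Coh.IsQCoh I' := InjMod.isQCoh_of_essential hC hg
    let S : ShortComplex X.Modules := ShortComplex.mk f (cokernel.π f) (cokernel.condition f)
    have hS : S.ShortExact := ShortComplex.ShortExact.mk' (ShortComplex.exact_cokernel f) inferInstance inferInstance
    let S' : ShortComplex X.Modules := ShortComplex.mk g (cokernel.π g) (cokernel.condition g)
    have hS' : S'.ShortExact :=
      ShortComplex.ShortExact.mk' (ShortComplex.exact_cokernel g) inferInstance inferInstance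
    let T := R.mapTriangle.obj hS.singleTriangle
    have hT : T ∈ distTriang _ := R.map_distinguished _ hS.singleTriangle_distinguished
    let T' := R.mapTriangle.obj hS'.singleTriangle
    have hT' : T' ∈ distTriang _ := R.map_distinguished _ hS'.singleTriangle_distinguished
    have ex₁ := DerivedCategory.HomologySequence.exact₁ T hT (-1) 0 rfl
    have ex₂ := DerivedCategory.HomologySequence.exact₂ T hT 0
    have ex₁' := DerivedCategory.HomologySequence.exact₁ T' hT' (-1) 0 rfl
    haveI hm : Mono ((HH (0 : ℤ)).map T.mor₁) := ex₁.mono_g ((hneg (cokernel f) (-1) (by lia)).eq_of_src _ _)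
    haveI hm' : Mono ((HH (0 : ℤ)).map T'.mor₁) := ex₁'.mono_g ((hneg (cokernel g) (-1) (by lia)).eq_of_src _ _)
    exact M1.isQCoh_of_isIso
      ((kernelCompMono ((HH (0 : ℤ)).map T.mor₂) ((HH (0 : ℤ)).map T'.mor₁)) ≪≫
        IsLimit.conePointUniqueUpToIso (kernelIsKernel _) ex₂.fIsKernel)
      (M1.isQCoh_kernel (hinj I hI hI' 0) (hinj I' hI₂ hI₂' 0) _)
  | succ k ih =>
    intro M hM
    obtain ⟨I, f, hI, hf⟩ := InjMod.exists_injectiveHull.{u} M
    haveI := hf.mono
    have hI' : Coh.IsQCoh I := InjMod.isQCoh_of_essential hM hf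
    have hC : Coh.IsQCoh (cokernel f) := M1.isQCoh_cokernel hM hI' f
    let S : ShortComplex X.Modules := ShortComplex.mk f (cokernel.π f) (cokernel.condition f)
    have hS : S.ShortExact := ShortComplex.ShortExact.mk' (ShortComplex.exact_cokernel f) inferInstance inferInstance
    let T := R.mapTriangle.obj hS.singleTriangle
    have hT : T ∈ distTriang _ := R.map_distinguished _ hS.singleTriangle_distinguished
    have ex₁ := DerivedCategory.HomologySequence.exact₁ T hT (k : ℤ) ((k + 1 : ℕ) : ℤ) (by push_cast; rfl)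
    have ex₃ := DerivedCategory.HomologySequence.exact₃ T hT (k : ℤ) ((k + 1 : ℕ) : ℤ) (by push_cast; rfl)
    haveI : Epi (DerivedCategory.HomologySequence.δ T (k : ℤ) ((k + 1 : ℕ) : ℤ) (by push_cast; rfl)) :=
      ex₁.epi_f ((hinj0 I hI _ (by lia)).eq_of_tgt _ _)
    exact M1.isQCoh_of_isIso (IsColimit.coconePointUniqueUpToIso (cokernelIsCokernel _) ex₃.gIsCokernel)
      (M1.isQCoh_cokernel (hinj I hI hI' k) (ih (cokernel f) hC) _)

include adjR in
/-- The right adjoint preserves bounded below complexes with quasi-coherent cohomology. -/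
theorem isQCohD_upper [IsLocallyNoetherian X] (L : DCoh.D X) (c : ℤ) (hc : L.IsGE c)
    (hL : DCoh.IsQCohD L) : DCoh.IsQCohD (R.obj L) := by
  obtain ⟨_, _⟩ := exists_triangulated_upper (Scheme.Modules.pushforward i) adjR
  haveI := DPush.isWeakSerre_isQCoh X
  haveI := DPush.isWeakSerre_isQCoh Z
  refine WayOut.cohIn_obj_of_isGE (fun M : Z.Modules => Coh.IsQCoh M) (fun M : X.Modules => Coh.IsQCoh M) R
    (fun Y m _ => isGE_upper (Scheme.Modules.pushforward i) adjR Y m) (fun M hM q => ?_) L c hc hL
  haveI := isGE_upper (Scheme.Modules.pushforward i) adjR ((singleFunctor X.Modules 0).obj M) 0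
  by_cases hq : q < 0
  · exact DPush.isQCoh_of_isZero (DerivedCategory.isZero_of_isGE _ 0 q hq)
  · obtain ⟨k, rfl⟩ : ∃ k : ℕ, q = k := ⟨q.toNat, by lia⟩
    exact isQCohD_upper_single i adjR k M hM

include adjR in
/-- The two right adjoints agree on bounded below complexes with quasi-coherent cohomology. -/
theorem nonempty_upper_iso [IsLocallyNoetherian X] [DCoh.HasRpush i] {hi : DCoh.RpushPreservesQCoh i}
    {a : DCoh.DQCoh X ⥤ DCoh.DQCoh Z} (adj : DCoh.RpushQ i hi ⊣ a) (L : DCoh.DQCoh X) (c : ℤ)
    (hc : L.obj.IsGE c) : Nonempty ((a.obj L).obj ≅ R.obj L.obj) := by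
  obtain ⟨ρ⟩ := RHom.nonempty_rpushIso i
  let RL : DCoh.DQCoh Z := ⟨R.obj L.obj, isQCohD_upper i adjR L.obj c hc L.property⟩
  refine ⟨(ObjectProperty.ι _).mapIso (?_ : a.obj L ≅ RL)⟩
  exact Yoneda.ext _ _
    (fun {N} v => ObjectProperty.homMk
      (adjR.homEquiv N.obj L.obj (ρ.inv.app N.obj ≫ ((adj.homEquiv N L).symm v).hom)))
    (fun {N} v => adj.homEquiv N L
      (ObjectProperty.homMk (ρ.hom.app N.obj ≫ (adjR.homEquiv N.obj L.obj).symm v.hom)))
    (fun {N} v => by
      simp only [ObjectProperty.homMk_hom, Equiv.symm_apply_apply, Iso.hom_inv_id_app_assoc]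
      exact (adj.homEquiv N L).apply_symm_apply v)
    (fun {N} v => by
      apply ObjectProperty.hom_ext
      simp)
    (fun {N N'} f v => by
      apply ObjectProperty.hom_ext
      dsimp
      rw [Adjunction.homEquiv_naturality_left_symm, ← Adjunction.homEquiv_naturality_left]
      congr 1
      exact (ρ.inv.naturality_assoc f.hom _).symm)

include adjR in
/-- A right adjoint image isomorphic to `O` makes `O` represent maps out of direct images. -/
theorem exists_rigid [IsLocallyNoetherian X] [DCoh.HasRpush i] {hi : DCoh.RpushPreservesQCoh i}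
    {a : DCoh.DQCoh X ⥤ DCoh.DQCoh Z} (adj : DCoh.RpushQ i hi ⊣ a) (L : DCoh.DQCoh X) (c : ℤ)
    (hc : L.obj.IsGE c) {P : DCoh.D Z} (e : P ≅ (a.obj L).obj) {L' : DCoh.D X} (eL : L.obj ≅ L') :
    ∃ ξ : (Dual3.pushD i).obj P ⟶ L', ∀ (M : DCoh.D Z) (j : ℤ), Function.Bijective fun φ : M ⟶ P⟦j⟧ =>
      (Dual3.pushD i).map φ ≫ ((Dual3.pushD i).commShiftIso j).hom.app P ≫
        (shiftFunctor (DCoh.D X) j).map ξ := by
  obtain ⟨θ⟩ := nonempty_upper_iso i adjR adj L c hc
  let ε : P ≅ R.obj L' := e ≪≫ θ ≪≫ R.mapIso eL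
  refine ⟨(adjR.homEquiv P L').symm ε.hom, fun M j => ?_⟩
  have h0 : ∀ M : DCoh.D Z, Function.Bijective fun ψ : M ⟶ P =>
      (Dual3.pushD i).map ψ ≫ (adjR.homEquiv P L').symm ε.hom := fun M => by
    convert ((adjR.homEquiv M L').symm.bijective).comp (Iso.homCongr (Iso.refl M) ε).bijective using 1
    funext ψ
    simp [Adjunction.homEquiv_naturality_left_symm]
  let F := Dual3.pushD i
  let ξ := (adjR.homEquiv P L').symm ε.hom
  let M' : DCoh.D Z := M⟦-j⟧
  let s : M'⟦j⟧ ≅ M := (shiftFunctorCompIsoId (DCoh.D Z) (-j) j (neg_add_cancel j)).app M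
  let E₁ : (M' ⟶ P) ≃ (M ⟶ P⟦j⟧) :=
    ((Functor.FullyFaithful.ofFullyFaithful (shiftFunctor (DCoh.D Z) j)).homEquiv).trans
      (Iso.homCongr s (Iso.refl _))
  let E₂ : (F.obj M' ⟶ L') ≃ (F.obj M ⟶ L'⟦j⟧) :=
    ((Functor.FullyFaithful.ofFullyFaithful (shiftFunctor (DCoh.D X) j)).homEquiv).trans
      (Iso.homCongr (((F.commShiftIso j).app M').symm ≪≫ F.mapIso s) (Iso.refl _))
  have key : (fun φ : M ⟶ P⟦j⟧ => F.map φ ≫ (F.commShiftIso j).hom.app P ≫
      (shiftFunctor (DCoh.D X) j).map ξ) ∘ E₁ = E₂ ∘ fun ψ => F.map ψ ≫ ξ := by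
    funext ψ
    simp [E₁, E₂]
  have hb : Function.Bijective (E₂ ∘ fun ψ : M' ⟶ P => F.map ψ ≫ ξ) := E₂.bijective.comp (h0 M')
  rw [← key] at hb
  exact (Function.Bijective.of_comp_iff _ E₁.bijective).1 hb

end Scheme

end Groth.Agent.BC8
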