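import Groth.Agent.Lib.BC8.Chart
import Groth.Agent.Lib.BC8.DlzTen
import Groth.Agent.Lib.BC8.UpperD
import Groth.Agent.Lib.BC8.Shriek660
import Groth.Agent.Lib.DlzSch27.Pullback
import Groth.Agent.Lib.DlzFin27.Apps
import Groth.Agent.Lib.DPush9.Tilde
import Groth.Agent.S1772

/-! The twisted inverse image of a dualizing complex is dualizing. -/

set_option autoImplicit false
set_option linter.style.haveILetI false
set_option linter.unusedSectionVars false
set_option backward.isDefEq.respectTransparency false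
set_option backward.isDefEq.respectTransparency.types false
set_option maxHeartbeats 1600000

universe u

open CategoryTheory CategoryTheory.Limits AlgebraicGeometry

attribute [local instance] HasDerivedCategory.standard

namespace Groth.Agent.BC8

open DMon9

section Formal

variable {C D C' D' : Type*} [Category* C] [Category* D] [Category* C'] [Category* D']
  {F₁ : C ⥤ D} {R₁ : D ⥤ C} {F₂ : C' ⥤ D'} {R₂ : D' ⥤ C'}

/-- Right adjoints commute with equivalences that commute with the left adjoints. -/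
theorem nonempty_rightAdj_square (adj₁ : F₁ ⊣ R₁) (adj₂ : F₂ ⊣ R₂) (Φ : C ⥤ C') [Φ.IsEquivalence]
    (Ψ : D ⥤ D') [Ψ.IsEquivalence] (σ : F₁ ⋙ Ψ ≅ Φ ⋙ F₂) (x : D) :
    Nonempty (Φ.obj (R₁.obj x) ≅ R₂.obj (Ψ.obj x)) := by
  let eΨ := Ψ.asEquivalence
  let eΦ := Φ.asEquivalence
  let A : F₁ ⋙ Ψ ⊣ eΨ.inverse ⋙ R₁ := adj₁.comp eΨ.toAdjunction
  let B : Φ ⋙ F₂ ⊣ R₂ ⋙ eΦ.inverse := eΦ.toAdjunction.comp adj₂
  let u := Adjunction.rightAdjointUniq (A.ofNatIsoLeft σ) B
  exact ⟨Φ.mapIso (R₁.mapIso (eΨ.unitIso.app x) ≪≫ u.app (Ψ.obj x)) ≪≫ eΦ.counitIso.app (R₂.obj (Ψ.obj x))⟩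

end Formal

/-- `tilde` as a functor to quasi-coherent objects. -/
noncomputable def tQ (R : CommRingCat.{u}) : Dual.D R ⥤ DCoh.DQCoh (Spec R) :=
  ObjectProperty.lift _ (DPerf.tildeDD R) fun M => DQC.isQCohD_obj M

theorem isEquivalence_tQ (R : CommRingCat.{u}) : (tQ R).IsEquivalence := by
  haveI : (tQ R).Faithful := ⟨fun {M N} f g h => (DQC.bijective_map M N).1 (congrArg (fun t => t.hom) h)⟩
  haveI : (tQ R).Full := ⟨fun {M N} f => by
    obtain ⟨g, hg⟩ := (DQC.bijective_map M N).2 f.hom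
    exact ⟨g, ObjectProperty.hom_ext _ hg⟩⟩
  haveI : (tQ R).EssSurj := ⟨fun K => by
    obtain ⟨M, ⟨e⟩⟩ := DQC.exists_iso_of_isQCohD K.obj K.property
    exact ⟨M, ⟨ObjectProperty.isoMk _ e⟩⟩⟩
  exact { }

/-- Derived pullback along an isomorphism is an equivalence on quasi-coherent objects. -/
theorem isEquivalence_lq {Z' Z : Scheme.{u}} (k : Z' ⟶ Z) [IsIso k] : (lq k).IsEquivalence :=
  (CategoryTheory.Equivalence.mk (lq k) (lq (inv k))
    (NatIso.ofComponents (fun K => ObjectProperty.isoMk _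
      (((DBC9.lPId Z).symm ≪≫ (lPComp (inv k) k (IsIso.inv_hom_id k)).symm).app K.obj))
      (fun v => ObjectProperty.hom_ext _
        (((DBC9.lPId Z).symm ≪≫ (lPComp (inv k) k (IsIso.inv_hom_id k)).symm).hom.naturality v.hom)))
    (NatIso.ofComponents (fun K => ObjectProperty.isoMk _
      ((lPComp k (inv k) (IsIso.hom_inv_id k) ≪≫ DBC9.lPId Z').app K.obj))
      (fun v => ObjectProperty.hom_ext _
        ((lPComp k (inv k) (IsIso.hom_inv_id k) ≪≫ DBC9.lPId Z').hom.naturality v.hom)))).isEquivalence_functor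

/-- Model of the right adjoint for a closed immersion into an affine scheme. -/
theorem exists_model_upper {Z W : Scheme.{u}} [IsAffine W] [IsNoetherian W] (i : Z ⟶ W) [IsClosedImmersion i]
    [DCoh.HasRpush i] {hi : DCoh.RpushPreservesQCoh i} {b : DCoh.DQCoh W ⥤ DCoh.DQCoh Z}
    (adjb : DCoh.RpushQ i hi ⊣ b) (L : DCoh.DQCoh W)
    (hL : ∀ (R : CommRingCat.{u}) (j : Spec R ⟶ W) [IsOpenImmersion j],
      ∃ M, Dual.IsDualizing R M ∧ DlzSch27.Mdl L.obj j M) :
    ∃ (B : CommRingCat.{u}) (k : Spec B ⟶ Z) (_ : IsIso k) (M : Dual.D B),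
      Dual.IsDualizing B M ∧ DlzSch27.Mdl (b.obj L).obj k M := by
  haveI : IsAffine Z := isAffine_of_isAffineHom i
  let P : CommRingCat.{u} := Γ(W, ⊤)
  let B : CommRingCat.{u} := Γ(Z, ⊤)
  let j : Spec P ⟶ W := W.isoSpec.inv
  let k : Spec B ⟶ Z := Z.isoSpec.inv
  obtain ⟨φ, hφ⟩ := Spec.map_surjective (k ≫ i ≫ W.isoSpec.hom)
  have w : k ≫ i = Spec.map φ ≫ j := by
    rw [hφ]
    simp [j]
  haveI : IsClosedImmersion (Spec.map φ) := by
    rw [hφ]
    infer_instance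
  have H : IsPullback (Spec.map φ) k j i := IsPullback.of_vert_isIso ⟨w.symm⟩
  haveI := DBC9.hasRpush (Spec.map φ)
  let hφ' := rpushPreserves (Spec.map φ)
  haveI := isLeftAdjoint_rpushQ (Spec.map φ) hφ'
  let adjφ := Adjunction.ofIsLeftAdjoint (DCoh.RpushQ (Spec.map φ) hφ')
  obtain ⟨r⟩ := DBC9.nonempty_res_rpush i (Spec.map φ) j k H
  haveI := isEquivalence_lq k
  haveI := isEquivalence_lq j
  let σ : DCoh.RpushQ i hi ⋙ lq j ≅ lq k ⋙ DCoh.RpushQ (Spec.map φ) hφ' :=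
    NatIso.ofComponents (fun K => ObjectProperty.isoMk _
      ((Functor.isoWhiskerLeft (DCoh.Rpush i) (lPRes j) ≪≫ r ≪≫
        Functor.isoWhiskerRight (lPRes k).symm (DCoh.Rpush (Spec.map φ))).app K.obj))
      (fun v => ObjectProperty.hom_ext _
        ((Functor.isoWhiskerLeft (DCoh.Rpush i) (lPRes j) ≪≫ r ≪≫
          Functor.isoWhiskerRight (lPRes k).symm (DCoh.Rpush (Spec.map φ))).hom.naturality v.hom))
  obtain ⟨e₁⟩ := nonempty_rightAdj_square adjb adjφ (lq k) (lq j) σ L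
  obtain ⟨M, hM, ⟨eM⟩⟩ := hL P j
  haveI : IsNoetherianRing P := hM.isNoetherianRing
  have hsurj : Function.Surjective φ.hom := fun y => by
    obtain ⟨x, hx⟩ := (Scheme.Hom.app_surjective (Spec.map φ) ⊤ (isAffineOpen_top _)) ((Scheme.ΓSpecIso B).inv y)
    refine ⟨(Scheme.ΓSpecIso P).hom x, ?_⟩
    show ((Scheme.ΓSpecIso P).hom ≫ φ) x = y
    rw [← Scheme.ΓSpecIso_naturality, CommRingCat.comp_apply]
    change (Scheme.ΓSpecIso B).hom ((Spec.map φ).app ⊤ x) = y
    rw [hx, ← CommRingCat.comp_apply, Iso.inv_hom_id]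
    rfl
  letI := φ.hom.toAlgebra
  haveI : Module.Finite P B := Module.Finite.of_surjective (Algebra.linearMap P B) hsurj
  haveI : IsNoetherianRing B := isNoetherianRing_of_surjective P B φ.hom hsurj
  haveI : (DRing.restrictD φ.hom).IsLeftAdjoint := by
    haveI : (ModuleCat.coextendScalars.{u, u, u} φ.hom).Additive := DlzFin27.additive_coextend φ.hom
    exact isLeftAdjoint_mapDerived (ModuleCat.restrictScalars.{u} φ.hom)
      (ModuleCat.restrictCoextendScalarsAdj.{u} φ.hom)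
  let adjR := Adjunction.ofIsLeftAdjoint (DRing.restrictD φ.hom)
  haveI := isEquivalence_tQ P
  haveI := isEquivalence_tQ B
  haveI : PreservesFiniteLimits (tilde.functor P) := M1.tilde_preservesFiniteLimits
  haveI : PreservesFiniteLimits (tilde.functor B) := M1.tilde_preservesFiniteLimits
  obtain ⟨t⟩ := DPush9.nonempty_tildeD_rpush_iso φ
  let τ : DRing.restrictD φ.hom ⋙ tQ P ≅ tQ B ⋙ DCoh.RpushQ (Spec.map φ) hφ' :=
    NatIso.ofComponents (fun N => ObjectProperty.isoMk _ (t.app N).symm)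
      (fun v => ObjectProperty.hom_ext _ (t.inv.naturality v))
  obtain ⟨e₂⟩ := nonempty_rightAdj_square adjR adjφ (tQ B) (tQ P) τ M
  let eL : (lq j).obj L ≅ (tQ P).obj M := ObjectProperty.isoMk _ ((lPRes j).app L.obj ≪≫ eM)
  refine ⟨B, k, inferInstance, (DRing.restrictD φ.hom).rightAdjoint.obj M,
    DlzFin27.isDualizing_rightAdjoint _ adjR hM,
    ⟨((lPRes k).app _).symm ≪≫ (ObjectProperty.ι _).mapIso
      (e₁ ≪≫ (DCoh.RpushQ (Spec.map φ) hφ').rightAdjoint.mapIso eL ≪≫ e₂.symm)⟩⟩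

section Smooth

variable {W Y : Scheme.{u}} [∀ (U V : Scheme.{u}) (j : U ⟶ V) [IsOpenImmersion j],
    PreservesFiniteLimits (Scheme.Modules.restrictFunctor j)]
  [∀ (R : CommRingCat.{u}), PreservesFiniteLimits (tilde.functor R)]

/-- Smooth pullback preserves dualizing complexes. -/
theorem isDualizingSch_lP_smooth [IsLocallyNoetherian W] [IsLocallyNoetherian Y] (g : W ⟶ Y) [Smooth g]
    {K : DCoh.D Y} (hK : Dual2.IsDualizingSch Y K) : Dual2.IsDualizingSch W ((lP g).obj K) :=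
  DlzSch27.isDualizingSch_of_cover fun x => by
    haveI := KFlat.Sch.hasLpull g
    obtain ⟨n⟩ := nonempty_lpull_natIso_lP g
    obtain ⟨V, hV, hxV, -⟩ := exists_isAffineOpen_mem_and_subset (X := Y) (x := g x) (U := ⊤) trivial
    obtain ⟨U, hU, hxU, e⟩ := exists_isAffineOpen_mem_and_subset (X := W) (x := x) (U := g ⁻¹ᵁ V) hxV
    obtain ⟨M, hM, hM'⟩ := DlzSch27.mdl_of_isDualizingSch hK Γ(Y, V) hV.fromSpec
    haveI : IsNoetherianRing Γ(Y, V) := hM.isNoetherianRing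
    let φ := g.appLE V U e
    haveI := DQC.hasLBaseChange φ.hom
    letI := φ.hom.toAlgebra
    haveI : Algebra.Smooth Γ(Y, V) Γ(W, U) := g.smooth_appLE hV hU e
    obtain ⟨a⟩ := DlzSch27.mdl_lpull φ hV.fromSpec hU.fromSpec (hV.SpecMap_appLE_fromSpec g hU e) hM'
    exact ⟨Γ(W, U), hU.fromSpec, inferInstance, by rw [hU.range_fromSpec]; exact hxU, _,
      GorFib27.isDualizing_LBaseChange_smooth hM, ⟨(DPerf.resD hU.fromSpec).mapIso (n.app K).symm ≪≫ a⟩⟩

end Smooth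

section Shriek

variable {X Y Xb : Scheme.{u}} [IsNoetherian Y] (f : X ⟶ Y) [LocallyOfFiniteType f]
  (p : Xb ⟶ Y) [IsProper p] (j : X ⟶ Xb) [IsOpenImmersion j] (hfac : j ≫ p = f) [DCoh.HasRpush p]
  {hp : DCoh.RpushPreservesQCoh p} (a : DCoh.DQCoh Y ⥤ DCoh.DQCoh Xb) (adj : DCoh.RpushQ p hp ⊣ a)
  [∀ (U V : Scheme.{u}) (j : U ⟶ V) [IsOpenImmersion j], PreservesFiniteLimits (Scheme.Modules.restrictFunctor j)]
  [∀ (R : CommRingCat.{u}), PreservesFiniteLimits (tilde.functor R)]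

include hfac adj in
/-- `f^!` of a dualizing complex is dualizing. -/
theorem isDualizingSch_phiF [IsLocallyNoetherian X] (K : DCoh.DQCoh Y) (hK : Dual2.IsDualizingSch Y K.obj)
    (hb : Dual3.IsBddBelowQ Y K) : Dual2.IsDualizingSch X ((phiF j a).obj K) :=
  DlzSch27.isDualizingSch_of_cover fun x => by
    obtain ⟨Z, W, u, _, i, _, g, _, _, _, _, hi, b, adjb, d, hxu, w, ⟨n⟩⟩ := exists_chart f p j hfac adj x
    let L : DCoh.DQCoh W := (shiftFunctor (DCoh.DQCoh W) d).obj ((lq g).obj K)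
    have hg := isDualizingSch_lP_smooth g hK
    obtain ⟨B, k, _, M, hM, ⟨eM⟩⟩ := exists_model_upper i adjb L fun R jR _ => by
      obtain ⟨N, hN, ⟨eN⟩⟩ := DlzSch27.mdl_of_isDualizingSch hg R jR
      haveI : IsNoetherianRing R := hN.isNoetherianRing
      exact ⟨N⟦d⟧, Dlz27.isDualizing_shift hN d, ⟨(DPerf.resD jR).mapIso (shObj ((lq g).obj K) d) ≪≫
        ((DPerf.resD jR).commShiftIso d).app _ ≪≫ (shiftFunctor (DCoh.D (Spec R)) d).mapIso eN ≪≫
          (((DPerf.tildeDD R).commShiftIso d).app N).symm⟩⟩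
    refine ⟨B, k ≫ u, inferInstance, ?_, M, hM,
      ⟨((DPerf.resDComp u k).app _).symm ≪≫ (DPerf.resD k).mapIso
        (((lPRes u).app _).symm ≪≫
          n.app (⟨K, hb⟩ : (Dual3.IsBddBelowQ Y).FullSubcategory)) ≪≫ eM⟩⟩
    obtain ⟨z, hz⟩ := hxu
    exact ⟨inv k z, by rw [← hz, ← Scheme.Hom.comp_apply, ← Category.assoc, IsIso.inv_hom_id, Category.id_comp]⟩

end Shriek

section Bounded

variable {Y : Scheme.{u}} [CompactSpace Y] [∀ (U : Scheme.{u}) (j : U ⟶ Y) [IsOpenImmersion j],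
    PreservesFiniteLimits (Scheme.Modules.restrictFunctor j)]
  [∀ (R : CommRingCat.{u}), PreservesFiniteLimits (tilde.functor R)]

/-- A dualizing complex on a quasi-compact scheme is bounded below. -/
theorem exists_isGE_dualizing {K : DCoh.D Y} (hK : Dual2.IsDualizingSch Y K) : ∃ a : ℤ, K.IsGE a := by
  choose V hV hxV using fun y : Y => exists_isAffineOpen_mem_and_subset (x := y) (U := (⊤ : Y.Opens)) trivial
  obtain ⟨s, hs⟩ := isCompact_univ.elim_finite_subcover (fun y => (V y : Set Y)) (fun y => (V y).isOpen)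
    (fun y _ => Set.mem_iUnion.2 ⟨y, (hxV y).1⟩)
  choose a b ha hb using fun y => exists_bounds_dualizing hK (hV y)
  obtain ⟨m, hm⟩ : ∃ m : ℤ, ∀ y ∈ s, m ≤ a y := by
    obtain ⟨m, hm⟩ := (s.image a).bddBelow
    exact ⟨m, fun y hy => hm (Finset.mem_image_of_mem a hy)⟩
  refine ⟨m, (DerivedCategory.isGE_iff _ _).2 fun i hi =>
    DPerf.isZero_of_cover (fun y : {y // y ∈ s} => V y.1) (fun z => ?_) fun y => ?_⟩
  · obtain ⟨y, hy, hz⟩ := Set.mem_iUnion₂.1 (hs (Set.mem_univ z))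
    exact ⟨⟨y, hy⟩, hz⟩
  · haveI := ha y.1
    exact (DerivedCategory.isZero_of_isGE ((lP (V y.1).ι).obj K) (a y.1) i
      (lt_of_lt_of_le hi (hm y.1 y.2))).of_iso (((DerivedCategory.homologyFunctor _ i).mapIso
        ((lPRes (V y.1).ι).app K) ≪≫ DPerf.hdResIso (V y.1).ι K i).symm)

end Bounded

end Groth.Agent.BC8
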