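import Groth.Agent.Lib.BC8.BidualSch
import Groth.Agent.Lib.BC8.Shriek660
import Groth.Agent.Lib.BC8.CohShriek
import Groth.Agent.Lib.DMon9.ProjQC
import Groth.Agent.Lib.BC8.FiniteShriek

/-! The twisted inverse image commutes with the dualities. -/

set_option autoImplicit false
set_option linter.style.haveILetI false
set_option linter.unusedSectionVars false
set_option backward.isDefEq.respectTransparency false
set_option backward.isDefEq.respectTransparency.types false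
set_option maxHeartbeats 1000000

universe u

open CategoryTheory CategoryTheory.Limits AlgebraicGeometry MonoidalCategory Opposite

attribute [local instance] HasDerivedCategory.standard

noncomputable section

namespace Groth.Agent.BC8

open DMon9

section Formal

universe v w₁ w₂

variable {C : Type w₁} [Category.{v} C] {D : Type w₂} [Category.{v} D]

/-- A right adjoint carries a representing object of `Hom(T -, K)` to one of `Hom(T' -, a K)`. -/
theorem nonempty_representable_square {R : C ⥤ D} {a : D ⥤ C} (adj : R ⊣ a) {T : D ⥤ D} {T' : C ⥤ C}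
    (c : R ⋙ T ≅ T' ⋙ R) {K RK : D} {RK' : C}
    (r : (T.op ⋙ yoneda.obj K).RepresentableBy RK)
    (r' : (T'.op ⋙ yoneda.obj (a.obj K)).RepresentableBy RK') : Nonempty (a.obj RK ≅ RK') := by
  let rA : (R.op ⋙ T.op ⋙ yoneda.obj K).RepresentableBy (a.obj RK) :=
    { homEquiv := fun {E} => (adj.homEquiv E RK).symm.trans r.homEquiv
      homEquiv_comp := fun {E E'} f g => by
        change r.homEquiv ((adj.homEquiv _ _).symm (f ≫ g)) = _
        rw [adj.homEquiv_naturality_left_symm, r.homEquiv_comp]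
        rfl }
  let rB : (T'.op ⋙ R.op ⋙ yoneda.obj K).RepresentableBy RK' :=
    { homEquiv := fun {E} => r'.homEquiv.trans (adj.homEquiv (T'.obj E) K).symm
      homEquiv_comp := fun {E E'} f g => by
        change (adj.homEquiv _ _).symm (r'.homEquiv (f ≫ g)) = _
        rw [r'.homEquiv_comp]
        exact adj.homEquiv_naturality_left_symm _ _ }
  let n : R.op ⋙ T.op ⋙ yoneda.obj K ≅ T'.op ⋙ R.op ⋙ yoneda.obj K :=
    NatIso.ofComponents (fun E => ((yoneda.obj K).mapIso (c.app E.unop).op).symm) (fun {E E'} f => by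
      ext x
      change (c.inv.app E'.unop ≫ T.map (R.map f.unop) ≫ x) = R.map (T'.map f.unop) ≫ c.inv.app E.unop ≫ x
      rw [← Category.assoc, ← Category.assoc]
      exact congrArg (· ≫ x) (c.inv.naturality f.unop).symm)
  exact ⟨(rA.ofIso n).uniqueUpToIso rB⟩

/-- An adjunction restricts to a representation on a full subcategory. -/
theorem nonempty_representable_lift (P : ObjectProperty C) {F G : C ⥤ C} (adj : F ⊣ G) (T : P.FullSubcategory ⥤ P.FullSubcategory)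
    (eT : T ⋙ P.ι ≅ P.ι ⋙ F) (K : P.FullSubcategory) (hG : P (G.obj K.obj)) :
    Nonempty ((T.op ⋙ yoneda.obj K).RepresentableBy ⟨G.obj K.obj, hG⟩) :=
  ⟨{ homEquiv := fun {E} => P.fullyFaithfulι.homEquiv.trans (((adj.homEquiv E.obj K.obj).symm).trans
        ((eT.app E).homFromEquiv.symm.trans P.fullyFaithfulι.homEquiv.symm))
     homEquiv_comp := fun {E E'} f g => by
      apply P.fullyFaithfulι.homEquiv.injective
      change (eT.app E).hom ≫ (adj.homEquiv E.obj K.obj).symm (f.hom ≫ g.hom) =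
        (T.map f).hom ≫ (eT.app E').hom ≫ (adj.homEquiv E'.obj K.obj).symm g.hom
      rw [adj.homEquiv_naturality_left_symm, ← Category.assoc, ← Category.assoc]
      exact congrArg (· ≫ _) (eT.hom.naturality f).symm }⟩

end Formal

section Proper

variable {X Y : Scheme.{u}} (p : X ⟶ Y) [QuasiCompact p] [QuasiSeparated p] [DCoh.HasRpush p] {hp : DCoh.RpushPreservesQCoh p}
  {a : DCoh.DQCoh Y ⥤ DCoh.DQCoh X} (adj : DCoh.RpushQ p hp ⊣ a)
  (N : CochainComplex Y.Modules ℤ) [DCoh.HasLTensorCx N] [DCoh.HasRSheafHom N]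
  (N' : CochainComplex X.Modules ℤ) [DCoh.HasLTensorCx N'] [DCoh.HasRSheafHom N']

include adj in
/-- `a RHom(N, K) ≅ RHom(Lp^* N, a K)`. -/
theorem nonempty_a_rhom (hN : DCoh.IsQCohD (DCoh.toD Y N)) (eN' : DCoh.toD X N' ≅ (lP p).obj (DCoh.toD Y N))
    (K : DCoh.DQCoh Y) (hq : DCoh.IsQCohD ((DCoh.RSheafHom N).obj K.obj))
    (hq' : DCoh.IsQCohD ((DCoh.RSheafHom N').obj (a.obj K).obj)) :
    Nonempty ((a.obj ⟨_, hq⟩).obj ≅ (DCoh.RSheafHom N').obj (a.obj K).obj) := by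
  obtain ⟨t⟩ := nonempty_ltensor_tenR N (DCoh.toD Y N) (Iso.refl _)
  obtain ⟨t'⟩ := nonempty_ltensor_tenR N' _ eN'
  let G : DM Y := DCoh.toD Y N
  let G' : DM X := (dPull p).obj G
  have hG' : DCoh.IsQCohD (G' : DCoh.D X) := isQCohD_lP p hN
  have hT : ∀ E : DCoh.D Y, DCoh.IsQCohD E → DCoh.IsQCohD ((DCoh.LTensorCx N).obj E) := fun E hE =>
    DQC.isQCohD_lTensorCx N hN hE
  have hT' : ∀ E : DCoh.D X, DCoh.IsQCohD E → DCoh.IsQCohD ((DCoh.LTensorCx N').obj E) := fun E hE =>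
    DQC.isQCohD_lTensorCx N' (DQC.isQCohD_of_iso eN'.symm hG') hE
  let T : DCoh.DQCoh Y ⥤ DCoh.DQCoh Y :=
    ObjectProperty.lift _ (ObjectProperty.ι _ ⋙ DCoh.LTensorCx N) fun E => hT E.obj E.property
  let T' : DCoh.DQCoh X ⥤ DCoh.DQCoh X :=
    ObjectProperty.lift _ (ObjectProperty.ι _ ⋙ DCoh.LTensorCx N') fun E => hT' E.obj E.property
  let τ : DCoh.Rpush p ⋙ (tensorRight G : DM Y ⥤ DM Y) ⟶ (tensorRight G' : DM X ⥤ DM X) ⋙ DCoh.Rpush p :=
    { app := fun E => projApp (adjM p) (E : DM X) G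
      naturality := fun E E' f => projApp_natural_left (adjM p) (f : (E : DM X) ⟶ E') G }
  haveI : ∀ E : DCoh.DQCoh X, IsIso (τ.app E.obj) := fun E => isIso_projT p (E.obj : DM X) E.property _ hN
  let c₀ : DCoh.RpushQ p hp ⋙ T ⋙ ObjectProperty.ι _ ≅ (T' ⋙ DCoh.RpushQ p hp) ⋙ ObjectProperty.ι _ :=
    NatIso.ofComponents
      (fun E => t.app ((DCoh.Rpush p).obj E.obj) ≪≫ asIso (τ.app E.obj) ≪≫ (DCoh.Rpush p).mapIso (t'.app E.obj).symm)
      (fun {E E'} f => by
        change (DCoh.LTensorCx N).map ((DCoh.Rpush p).map f.hom) ≫ t.hom.app _ ≫ τ.app E'.obj ≫ _ =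
          (t.hom.app _ ≫ τ.app E.obj ≫ _) ≫ (DCoh.Rpush p).map ((DCoh.LTensorCx N').map f.hom)
        rw [← Category.assoc, t.hom.naturality]
        simp only [Category.assoc]
        congr 1
        rw [← Category.assoc]
        refine Eq.trans (congrArg (· ≫ _) (τ.naturality f.hom)) ?_
        simp only [Category.assoc, Functor.comp_map, Functor.mapIso_hom, Iso.symm_hom, Iso.app_inv]
        rw [← Functor.map_comp, ← Functor.map_comp]
        exact congrArg (fun z => _ ≫ (DCoh.Rpush p).map z) (t'.inv.naturality f.hom))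
  let c : DCoh.RpushQ p hp ⋙ T ≅ T' ⋙ DCoh.RpushQ p hp :=
    Functor.fullyFaithfulCancelRight (ObjectProperty.ι _) c₀
  obtain ⟨r⟩ := nonempty_representable_lift DCoh.IsQCohD (DCoh.RSheafHomAdj N) T (Iso.refl _) K hq
  obtain ⟨r'⟩ := nonempty_representable_lift DCoh.IsQCohD (DCoh.RSheafHomAdj N') T' (Iso.refl _) (a.obj K) hq'
  obtain ⟨e⟩ := nonempty_representable_square adj c r r'
  exact ⟨(ObjectProperty.ι _).mapIso e⟩

end Proper

/-- Dualizing complexes are invariant under isomorphisms. -/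
theorem isDualizingSch_of_iso {X : Scheme.{u}} [∀ (U : Scheme.{u}) (j : U ⟶ X) [IsOpenImmersion j],
      PreservesFiniteLimits (Scheme.Modules.restrictFunctor j)]
    [∀ (R : CommRingCat.{u}), PreservesFiniteLimits (tilde.functor R)] {K K' : DCoh.D X} (e : K ≅ K')
    (h : Dual2.IsDualizingSch X K) : Dual2.IsDualizingSch X K' := fun A _ j _ =>
  let ⟨ω, hω, ⟨eω⟩⟩ := h A j
  ⟨ω, hω, ⟨(DCoh.restrictD j).mapIso e.symm ≪≫ eω⟩⟩

section Open

variable {U X : Scheme.{u}} [∀ (U : Scheme.{u}) (j : U ⟶ X) [IsOpenImmersion j],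
    PreservesFiniteLimits (Scheme.Modules.restrictFunctor j)]

/-- `RHom` commutes with restriction along an open immersion. -/
theorem nonempty_rhom_lP_open (j : U ⟶ X) [IsOpenImmersion j]
    (E : CochainComplex X.Modules ℤ) [DCoh.HasLTensorCx E] [DCoh.HasRSheafHom E]
    (E' : CochainComplex U.Modules ℤ) [DCoh.HasLTensorCx E'] [DCoh.HasRSheafHom E']
    (e : DCoh.toD U E' ≅ (lP j).obj (DCoh.toD X E)) (K : DCoh.D X) :
    Nonempty ((lP j).obj ((DCoh.RSheafHom E).obj K) ≅ (DCoh.RSheafHom E').obj ((lP j).obj K)) := by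
  let V := j.opensRange
  let k := j.isoOpensRange.hom
  have hk : k ≫ V.ι = j := j.isoOpensRange_hom_ι
  let EV := (DCoh.restrictCx V).obj E
  haveI := KFlat.Sch.hasLTensorCx EV
  haveI : DCoh.HasRSheafHom EV := RHom.hasRSheafHom EV
  let eV : DCoh.toD (V : Scheme.{u}) EV ≅ (lP V.ι).obj (DCoh.toD X E) :=
    ((DPerf.resFac V.ι).app E).symm ≪≫ ((lPRes V.ι).app (DCoh.toD X E)).symm
  obtain ⟨a⟩ := nonempty_rhom_lP_iso k EV E' (e ≪≫ ((lPComp k V.ι hk).app _).symm ≪≫ (lP k).mapIso eV.symm)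
    ((DCoh.restrictD V.ι).obj K)
  exact ⟨((lPComp k V.ι hk).app _).symm ≪≫ (lP k).mapIso ((lPRes V.ι).app _ ≪≫
    (RHom.restrictRHomIso V E).app K) ≪≫ a ≪≫ (DCoh.RSheafHom E').mapIso
      ((lP k).mapIso ((lPRes V.ι).app K).symm ≪≫ (lPComp k V.ι hk).app K)⟩

end Open

section Bounded

variable {X : Scheme.{u}} [IsLocallyNoetherian X] [CompactSpace X]
  [∀ (U : Scheme.{u}) (j : U ⟶ X) [IsOpenImmersion j], PreservesFiniteLimits (Scheme.Modules.restrictFunctor j)]
  [∀ (R : CommRingCat.{u}), PreservesFiniteLimits (tilde.functor R)]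

/-- The dual of a bounded below complex is bounded above. -/
theorem exists_isLE_dual {K : DCoh.D X} (hK : Dual2.IsDualizingSch X K) (E : CochainComplex X.Modules ℤ)
    [DCoh.HasLTensorCx E] [DCoh.HasRSheafHom E] (c : ℤ) (hE : (DCoh.toD X E).IsGE c) :
    ∃ b : ℤ, ((DCoh.RSheafHom E).obj K).IsLE b := by
  have key : ∀ V : X.Opens, IsAffineOpen V → ∃ b : ℤ, ((lP V.ι).obj ((DCoh.RSheafHom E).obj K)).IsLE b := by
    intro V hV
    obtain ⟨ω, hω, ⟨eω⟩⟩ := DlzSch27.mdl_of_isDualizingSch hK Γ(X, V) hV.fromSpec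
    haveI : IsNoetherianRing Γ(X, V) := hω.isNoetherianRing
    let Mo := Dlz27.model hω
    let j := hV.fromSpec
    let FZ := (DerivedCategory.Q (C := (Spec Γ(X, V)).Modules)).objPreimage ((lP j).obj (DCoh.toD X E))
    let eZ : DCoh.toD (Spec Γ(X, V)) FZ ≅ (lP j).obj (DCoh.toD X E) :=
      (DerivedCategory.Q (C := (Spec Γ(X, V)).Modules)).objObjPreimageIso _
    haveI := KFlat.Sch.hasLTensorCx FZ
    haveI : DCoh.HasRSheafHom FZ := RHom.hasRSheafHom FZ
    obtain ⟨r⟩ := nonempty_rhom_lP_open j E FZ eZ K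
    let fac := (tilde.functor Γ(X, V)).mapDerivedCategoryFactors
    let I := (DPerf.tildeX Γ(X, V)).obj Mo.W
    haveI : I.IsStrictlyGE Mo.lo := (CochainComplex.isStrictlyGE_iff _ _).2 fun i hi =>
      (tilde.functor Γ(X, V)).map_isZero (Mo.W.isZero_of_isStrictlyGE Mo.lo i hi)
    haveI : I.IsStrictlyLE Mo.hi := (CochainComplex.isStrictlyLE_iff _ _).2 fun i hi =>
      (tilde.functor Γ(X, V)).map_isZero (Mo.W.isZero_of_isStrictlyLE Mo.hi i hi)
    haveI : ∀ i, Injective (I.X i) := fun i => by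
      haveI : Injective (Mo.W.X i) := Mo.inj i
      exact CohMop.injective_tilde (Mo.W.X i)
    haveI : I.IsKInjective := CochainComplex.isKInjective_of_injective I Mo.lo
    let eI : DerivedCategory.Q.obj I ≅ (lP j).obj K :=
      (fac.app Mo.W).symm ≪≫ (DPerf.tildeDD Γ(X, V)).mapIso Mo.e ≪≫ ((lPRes j).app K ≪≫ eω).symm
    have h1 : (DCoh.toD (Spec Γ(X, V)) FZ).IsGE c := by
      haveI := hE
      exact isGE_of_iso eZ.symm (isGE_lP j (DCoh.toD X E) c)
    have h2 := isLE_rhom FZ c h1 ((lP j).obj K) Mo.hi I eI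
    refine ⟨Mo.hi - c, ?_⟩
    haveI := isLE_of_iso r.symm h2
    exact isLE_of_iso ((lPComp hV.isoSpec.hom j hV.isoSpec_hom_fromSpec).app _)
      (isLE_lP hV.isoSpec.hom ((lP j).obj ((DCoh.RSheafHom E).obj K)) (Mo.hi - c))
  choose V hV hxV using fun x : X => exists_isAffineOpen_mem_and_subset (x := x) (U := (⊤ : X.Opens)) trivial
  obtain ⟨s, hs⟩ := isCompact_univ.elim_finite_subcover (fun y => (V y : Set X)) (fun y => (V y).isOpen)
    (fun y _ => Set.mem_iUnion.2 ⟨y, (hxV y).1⟩)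
  choose b hb using fun x => key (V x) (hV x)
  obtain ⟨m, hm⟩ : ∃ m : ℤ, ∀ y ∈ s, b y ≤ m := by
    obtain ⟨m, hm⟩ := (s.image b).bddAbove
    exact ⟨m, fun y hy => hm (Finset.mem_image_of_mem b hy)⟩
  refine ⟨m, isLE_of_lP_cover fun x => ?_⟩
  obtain ⟨y, hy, hx⟩ := Set.mem_iUnion₂.1 (hs (Set.mem_univ x))
  exact ⟨V y, hx, isLE_mono (hb y) (hm y hy)⟩

/-- Derived pullback of a bounded above coherent complex is coherent. -/
theorem isCohD_lP {W : Scheme.{u}} [IsLocallyNoetherian W] (g : W ⟶ X) (C : DCoh.D X) (hC : DCoh.IsCohD C)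
    (b : ℤ) [C.IsLE b] : DCoh.IsCohD ((lP g).obj C) := fun i => by
  haveI : DCoh.HasLpull g := KFlat.Sch.hasLpull g
  obtain ⟨n⟩ := nonempty_lpull_natIso_lP g
  have hpc : DCoh.IsPseudoCoherentD i C := DPerf.isPseudoCoherentD_of_coherent (fun l _ => hC l) b
  exact isCoh_iso ((DerivedCategory.homologyFunctor _ i).mapIso (n.app _))
    (DPerf.isCoh_HD_of_pseudoCoherent (KFlat.Sch.isPseudoCoherent_lpull g hpc)
      (DQC.isQCohD_of_iso (n.app _).symm (isQCohD_lP g (fun l => (hC l).1)) i) le_rfl)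

end Bounded

section Main

variable {X Y Xb : Scheme.{u}} [IsNoetherian Y] (f : X ⟶ Y)
  (p : Xb ⟶ Y) [IsProper p] (j : X ⟶ Xb) [IsOpenImmersion j] (hfac : j ≫ p = f) [DCoh.HasRpush p]
  {hp : DCoh.RpushPreservesQCoh p} (a : DCoh.DQCoh Y ⥤ DCoh.DQCoh Xb) (adj : DCoh.RpushQ p hp ⊣ a)
  [∀ (U V : Scheme.{u}) (j : U ⟶ V) [IsOpenImmersion j], PreservesFiniteLimits (Scheme.Modules.restrictFunctor j)]
  [∀ (R : CommRingCat.{u}), PreservesFiniteLimits (tilde.functor R)]

include hfac adj in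
/-- `f^! M ≅ D_X(Lf^* D_Y M)`. -/
theorem nonempty_shriek_dual (K : DCoh.DQCoh Y) (hKd : Dual2.IsDualizingSch Y K.obj)
    (M : DCoh.DQCoh Y) (c₁ : ℤ) (hM : M.obj.IsGE c₁) (hMc : DCoh.IsCohD M.obj)
    (M' : CochainComplex Y.Modules ℤ) (eM' : DCoh.toD Y M' ≅ M.obj) [DCoh.HasLTensorCx M'] [DCoh.HasRSheafHom M']
    (N' : CochainComplex X.Modules ℤ) (eN' : DCoh.toD X N' ≅ (lP f).obj ((DCoh.RSheafHom M').obj K.obj))
    [DCoh.HasLTensorCx N'] [DCoh.HasRSheafHom N'] :
    Nonempty ((phiF j a).obj M ≅ (DCoh.RSheafHom N').obj ((phiF j a).obj K)) := by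
  haveI : IsLocallyNoetherian Xb := LocallyOfFiniteType.isLocallyNoetherian p
  haveI : CompactSpace Xb := QuasiCompact.compactSpace_of_compactSpace p
  have hM'c : DCoh.IsCohD (DCoh.toD Y M') := fun i =>
    isCoh_iso ((DerivedCategory.homologyFunctor _ i).mapIso eM'.symm) (hMc i)
  obtain ⟨hDc, hbid⟩ := biduality_sch hKd M' hM'c
  let N := (DerivedCategory.Q (C := Y.Modules)).objPreimage ((DCoh.RSheafHom M').obj K.obj)
  let eN : DCoh.toD Y N ≅ (DCoh.RSheafHom M').obj K.obj :=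
    (DerivedCategory.Q (C := Y.Modules)).objObjPreimageIso _
  haveI := KFlat.Sch.hasLTensorCx N
  haveI : DCoh.HasRSheafHom N := RHom.hasRSheafHom N
  obtain ⟨bd⟩ := hbid N ⟨eN⟩
  let eD : (DCoh.RSheafHom N).obj K.obj ≅ M.obj := bd ≪≫ eM'
  obtain ⟨b, hb⟩ := exists_isLE_dual hKd M' c₁ (isGE_of_iso eM'.symm hM)
  haveI : (DCoh.toD Y N).IsLE b := isLE_of_iso eN.symm hb
  have hNc : DCoh.IsCohD (DCoh.toD Y N) := fun i =>
    isCoh_iso ((DerivedCategory.homologyFunctor _ i).mapIso eN.symm) (hDc i)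
  let Nb := (DerivedCategory.Q (C := Xb.Modules)).objPreimage ((lP p).obj (DCoh.toD Y N))
  let eNb : DCoh.toD Xb Nb ≅ (lP p).obj (DCoh.toD Y N) :=
    (DerivedCategory.Q (C := Xb.Modules)).objObjPreimageIso _
  haveI := KFlat.Sch.hasLTensorCx Nb
  haveI : DCoh.HasRSheafHom Nb := RHom.hasRSheafHom Nb
  have hNbc : DCoh.IsCohD (DCoh.toD Xb Nb) := fun i =>
    isCoh_iso ((DerivedCategory.homologyFunctor _ i).mapIso eNb.symm) (isCohD_lP p _ hNc b i)
  have haK : Dual2.IsDualizingSch Xb (a.obj K).obj := by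
    have h := isDualizingSch_phiF p p (𝟙 Xb) (Category.id_comp p) a adj K hKd (exists_isGE_dualizing hKd)
    let G := lP (𝟙 Xb)
    haveI : G.IsEquivalence := isEquivalence_lP_iso _
    exact isDualizingSch_of_iso (G.preimageIso ((lPComp (𝟙 Xb) (𝟙 Xb) (Category.id_comp _)).app (a.obj K).obj)) h
  have hq : DCoh.IsQCohD ((DCoh.RSheafHom N).obj K.obj) := DQC.isQCohD_of_iso eD.symm M.property
  have hq' : DCoh.IsQCohD ((DCoh.RSheafHom Nb).obj (a.obj K).obj) := fun i => ((biduality_sch haK Nb hNbc).1 i).1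
  obtain ⟨e⟩ := nonempty_a_rhom p adj N Nb (fun i => (hNc i).1) eNb K hq hq'
  let eDq : (⟨_, hq⟩ : DCoh.DQCoh Y) ≅ M := ObjectProperty.isoMk _ eD
  obtain ⟨r⟩ := nonempty_rhom_lP_open j Nb N'
    (eN' ≪≫ (lP f).mapIso eN.symm ≪≫ ((lPComp j p hfac).app _).symm ≪≫ (lP j).mapIso eNb.symm) (a.obj K).obj
  exact ⟨(lP j).mapIso ((ObjectProperty.ι _).mapIso (a.mapIso eDq.symm) ≪≫ e) ≪≫ r⟩

end Main

end Groth.Agent.BC8
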