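import Groth.Agent.Lib.BC8.ShriekViaOne
import Groth.Agent.Lib.GorFib27.DegFormula
import Groth.Agent.Lib.GorFib27.Apps
import Groth.Agent.Lib.Dlz27.Local
import Groth.Agent.Lib.CI2.Smooth
import Groth.Agent.Lib.DlzFin27.Apps

/-! Degrees of dualizing complexes on polynomial rings and of the upper shriek. -/

set_option autoImplicit false
set_option linter.style.haveILetI false
set_option linter.unusedSectionVars false
set_option backward.isDefEq.respectTransparency false
set_option backward.isDefEq.respectTransparency.types false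
set_option maxHeartbeats 1000000

universe u

open CategoryTheory CategoryTheory.Limits

attribute [local instance] HasDerivedCategory.standard

noncomputable section

namespace Groth.Agent.BC8

open Dlz27

/-- Maximal points of the closed fibre of affine space have degree `n` for the extension of a normalized complex. -/
theorem subsingleton_hom_maximal_poly {R : Type u} [CommRing R] [IsNoetherianRing R] [IsLocalRing R] (n : ℕ)
    [DRing.HasLBaseChange (algebraMap R (MvPolynomial (Fin n) R))] {ω : Dual.D R} (hω : Dual.IsDualizing R ω)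
    (hn : Dual.IsNormalized R ω) (Q : Ideal (MvPolynomial (Fin n) R)) [Q.IsMaximal]
    (hQ : Q.comap (algebraMap R (MvPolynomial (Fin n) R)) = IsLocalRing.maximalIdeal R) (j : ℤ) (hj : j ≠ n) :
    Subsingleton (Dual.inD (MvPolynomial (Fin n) R) (MvPolynomial (Fin n) R ⧸ Q) ⟶
      ((DRing.LBaseChange (algebraMap R (MvPolynomial (Fin n) R))).obj ω)⟦j⟧) := by
  let P := MvPolynomial (Fin n) R
  let φ := algebraMap R P
  haveI : Algebra.Smooth R P := ⟨inferInstance, inferInstance⟩
  let M := model hω
  haveI := RGamma27.isIso_valueMap_of_flat φ (RingHom.flat_algebraMap_iff.2 inferInstance) M.W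
  let e : (DRing.LBaseChange φ).obj ω ≅ DerivedCategory.Q.obj (eC φ M.W) :=
    ((DRing.LBaseChange φ).mapIso M.e).symm ≪≫ asIso ((DBaseChange.valueMap φ).app M.W)
  have hB := isDualizing_of_iso e (GorFib27.isDualizing_LBaseChange_smooth (B := P) hω)
  let MB := model hB
  let κ := IsLocalRing.ResidueField R
  let g : P →+* MvPolynomial (Fin n) κ := MvPolynomial.map (IsLocalRing.residue R)
  have hg : Function.Surjective g := MvPolynomial.map_surjective _ IsLocalRing.residue_surjective
  let p₀ : PrimeSpectrum P := ⟨RingHom.ker g, RingHom.ker_isPrime g⟩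
  haveI hp₀prime : p₀.asIdeal.IsPrime := p₀.isPrime
  have hker : RingHom.ker g = (IsLocalRing.maximalIdeal R).map φ := by
    rw [MvPolynomial.ker_map, IsLocalRing.ker_residue]
    rfl
  let q : PrimeSpectrum P := ⟨Q, inferInstance⟩
  have hle : p₀ ≤ q := by
    show RingHom.ker g ≤ Q
    rw [hker, Ideal.map_le_iff_le_comap, hQ]
  have hc₀ : PrimeSpectrum.comap φ p₀ = clPt R := by
    refine PrimeSpectrum.ext (le_antisymm (IsLocalRing.le_maximalIdeal (PrimeSpectrum.comap φ p₀).isPrime.ne_top) ?_)
    show IsLocalRing.maximalIdeal R ≤ (RingHom.ker g).comap φ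
    rw [hker]
    exact Ideal.le_comap_map
  obtain ⟨δ, hδ⟩ := GorFib27.exists_depth_fibQuot (A := R) p₀
  have hδ0 : δ = 0 := by
    let N := GorFib27.fibQuot (A := R) p₀
    let L := LocalizedModule p₀.asIdeal.primeCompl N
    let O := Localization.AtPrime p₀.asIdeal
    haveI : IsNoetherianRing O := IsLocalization.isNoetherianRing p₀.asIdeal.primeCompl _ inferInstance
    have hN : p₀.asIdeal ≤ Module.annihilator P N := by
      rw [show Module.annihilator P N = _ from Ideal.annihilator_quotient]
      refine hker.le.trans (le_trans ?_ (Ideal.mul_top _).ge)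
      exact Ideal.map_mono (le_of_eq (congrArg PrimeSpectrum.asIdeal hc₀).symm)
    haveI : Nontrivial L := by
      refine Module.mem_support_iff.1 ?_
      rw [Module.support_eq_zeroLocus, PrimeSpectrum.mem_zeroLocus,
        show Module.annihilator P N = _ from Ideal.annihilator_quotient]
      exact fun x hx => Ideal.map_comap_le ((Ideal.mul_top _).le hx)
    have hann : IsLocalRing.maximalIdeal O ≤ Module.annihilator O L := by
      rw [← Localization.AtPrime.map_eq_maximalIdeal, Ideal.map_le_iff_le_comap]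
      intro x hx
      refine Module.mem_annihilator.2 fun z => ?_
      induction z using LocalizedModule.induction_on with
      | _ m s =>
        rw [algebraMap_smul, LocalizedModule.smul'_mk, Module.mem_annihilator.1 (hN hx), LocalizedModule.zero_mk]
    haveI : Subsingleton (Module.support O L) := ⟨fun a b => Subtype.ext (by
      have key : ∀ c : Module.support O L, c.1.asIdeal = IsLocalRing.maximalIdeal O := fun c => by
        refine le_antisymm (IsLocalRing.le_maximalIdeal c.1.isPrime.ne_top) (hann.trans ?_)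
        have hc := (Set.ext_iff.1 (Module.support_eq_zeroLocus (R := O) (M := L)) c.1).1 c.2
        rw [PrimeSpectrum.mem_zeroLocus] at hc
        exact hc
      exact PrimeSpectrum.ext ((key a).trans (key b).symm))⟩
    have h := (DepthLib.depth_le_supportDim (R := O) (M := L)).trans Order.krullDim_nonpos_of_subsingleton
    rw [hδ] at h
    exact Nat.le_zero.1 (by exact_mod_cast h)
  have hp₀ : deg hB MB p₀ = 0 := by
    rw [GorFib27.deg_eq_deg_add hω M hB MB p₀ δ hδ, hδ0, show PrimeSpectrum.comap (algebraMap R P) p₀ = _ from hc₀,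
      deg_closedPoint hω M hn]
    rfl
  have hht : Order.height (⟨q, hle⟩ : Set.Ici p₀) = (n : ℕ∞) := by
    let e₁ := (Ideal.primeSpectrumOrderIsoZeroLocusOfSurj (I := RingHom.ker g) g hg rfl)
    let e₂ : PrimeSpectrum.zeroLocus (R := P) (RingHom.ker g : Set P) ≃o Set.Ici p₀ :=
      { toFun := fun r => ⟨r.1, r.2⟩
        invFun := fun r => ⟨r.1, r.2⟩
        left_inv := fun _ => rfl
        right_inv := fun _ => rfl
        map_rel_iff' := Iff.rfl }
    let r := (e₁.trans e₂).symm ⟨q, hle⟩
    rw [← Order.height_orderIso (e₁.trans e₂).symm, show (e₁.trans e₂).symm ⟨q, hle⟩ = r from rfl,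
      ← PrimeSpectrum.height_eq_orderHeight]
    have hr : (e₁.trans e₂) r = ⟨q, hle⟩ := OrderIso.apply_symm_apply _ _
    have hrQ : r.asIdeal.comap g = Q := congrArg (fun t => (Subtype.val t).asIdeal) hr
    haveI : r.asIdeal.IsMaximal := by
      rcases Ideal.map_eq_top_or_isMaximal_of_surjective g hg (I := Q) ‹_› with h | h
      · rw [← hrQ, Ideal.map_comap_of_surjective g hg] at h
        exact absurd h r.isPrime.ne_top
      · rwa [← hrQ, Ideal.map_comap_of_surjective g hg] at h
    exact CI2.height_maximal_mvPolynomial r.asIdeal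
  have hq : deg hB MB q = n := by
    have h := (height_eq_deg_sub MB hB p₀ q hle).symm.trans hht
    have hmono := (deg_strictMono hB MB).monotone hle
    rw [hp₀] at h hmono
    have : (deg hB MB q - 0).toNat = n := by exact_mod_cast h
    omega
  have hv := (vanS_iff_hom MB q.asIdeal.primeCompl (P ⧸ Q) j).1
    ((vanS_iff_ne_deg hB MB q j).2 (by rw [hq]; exact hj))
  suffices h : Subsingleton (Dual.inD P (P ⧸ Q) ⟶ (DerivedCategory.Q.obj (eC φ M.W))⟦j⟧) from
    @Equiv.subsingleton _ _ (Iso.homCongr (Iso.refl _) ((shiftFunctor _ j).mapIso e)) h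
  refine subsingleton_of_forall_eq 0 fun f => ?_
  obtain ⟨s, hs⟩ := hv f
  obtain ⟨t, ht⟩ := Ideal.IsMaximal.exists_inv (I := Q) inferInstance s.2
  obtain ⟨i, hi, hi'⟩ := ht
  have hkill : ∀ a ∈ Q, a • f = 0 := fun a ha => by
    have h0 : a • 𝟙 (Dual.inD P (P ⧸ Q)) = 0 := by
      show a • 𝟙 ((DerivedCategory.singleFunctor (ModuleCat.{u} P) 0).obj (ModuleCat.of P (P ⧸ Q))) = 0
      rw [← CategoryTheory.Functor.map_id, ← Functor.map_smul, show a • 𝟙 (ModuleCat.of P (P ⧸ Q)) = 0 from ?_,
        Functor.map_zero]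
      refine ModuleCat.hom_ext (LinearMap.ext fun x => ?_)
      obtain ⟨x, rfl⟩ := Ideal.Quotient.mk_surjective x
      exact Ideal.Quotient.eq_zero_iff_mem.2 (Q.mul_mem_right x ha)
    calc a • f = (a • 𝟙 _) ≫ f := by rw [Linear.smul_comp, Category.id_comp]
      _ = 0 := by rw [h0, zero_comp]
  calc f = (1 : P) • f := (one_smul _ _).symm
    _ = (t * (s : P) + i) • f := by rw [hi']
    _ = 0 := by rw [add_smul, mul_smul, hs, smul_zero, hkill i hi, add_zero]

/-- The upper shriek of a normalized dualizing complex is normalized at maximal points of the closed fibre. -/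
theorem subsingleton_hom_via_maximal {R A : Type u} [CommRing R] [CommRing A] [IsNoetherianRing R] [IsLocalRing R]
    [Algebra R A] (n : ℕ) (ψ : MvPolynomial (Fin n) R →ₐ[R] A) (hψ : Function.Surjective ψ)
    [DRing.HasLBaseChange (algebraMap R (MvPolynomial (Fin n) R))]
    {Rψ : Dual.D (MvPolynomial (Fin n) R) ⥤ Dual.D A} (adj : DRing.restrictD ψ.toRingHom ⊣ Rψ)
    {ω : Dual.D R} (hω : Dual.IsDualizing R ω) (hn : Dual.IsNormalized R ω) (m : Ideal A) [m.IsMaximal]
    (hm : m.comap (algebraMap R A) = IsLocalRing.maximalIdeal R) (i : ℤ) (hi : i ≠ 0) :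
    Subsingleton (Dual.inD A (A ⧸ m) ⟶ (Dual2.shriekVia n Rψ ω)⟦i⟧) := by
  let P := MvPolynomial (Fin n) R
  let Q := m.comap ψ.toRingHom
  haveI : Q.IsMaximal := Ideal.comap_isMaximal_of_surjective _ hψ
  have hQ : Q.comap (algebraMap R P) = IsLocalRing.maximalIdeal R := by
    rw [← hm, Ideal.comap_comap]
    congr 1
    exact ψ.comp_algebraMap
  let L := (DRing.LBaseChange (algebraMap R P)).obj ω
  haveI := subsingleton_hom_maximal_poly n hω hn Q hQ ((n : ℤ) + i) (by omega)
  letI := adj.rightAdjointCommShift ℤ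
  let eL : ((Rψ.obj L)⟦(n : ℤ)⟧)⟦i⟧ ≅ Rψ.obj (L⟦(n : ℤ) + i⟧) :=
    ((shiftFunctorAdd _ (n : ℤ) i).symm.app _) ≪≫ ((Rψ.commShiftIso ((n : ℤ) + i)).app L).symm
  let v : P ⧸ Q →+* A ⧸ m := Ideal.quotientMap m ψ.toRingHom le_rfl
  have hv : Function.Bijective v := ⟨Ideal.quotientMap_injective, Ideal.quotientMap_surjective hψ⟩
  let em : (ModuleCat.restrictScalars.{u} ψ.toRingHom).obj (ModuleCat.of A (A ⧸ m)) ≅ ModuleCat.of P (P ⧸ Q) :=
    (LinearEquiv.toModuleIso
      ({ (RingEquiv.ofBijective v hv).toAddEquiv with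
          map_smul' := fun a x => by
            obtain ⟨x, rfl⟩ := Ideal.Quotient.mk_surjective x
            exact congrArg (Ideal.Quotient.mk m) (map_mul ψ.toRingHom a x) } :
        (P ⧸ Q) ≃ₗ[P] ((ModuleCat.restrictScalars.{u} ψ.toRingHom).obj (ModuleCat.of A (A ⧸ m))))).symm
  let eM : (DRing.restrictD ψ.toRingHom).obj (Dual.inD A (A ⧸ m)) ≅ Dual.inD P (P ⧸ Q) :=
    ((ModuleCat.restrictScalars.{u} ψ.toRingHom).mapDerivedCategorySingleFunctor 0).app (ModuleCat.of A (A ⧸ m)) ≪≫
      (DerivedCategory.singleFunctor (ModuleCat.{u} P) 0).mapIso em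
  exact @Equiv.subsingleton _ _ ((Iso.homCongr (Iso.refl _) eL).trans ((adj.homEquiv _ _).symm.trans
    (Iso.homCongr eM (Iso.refl _)))) ‹_›

end Groth.Agent.BC8
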