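import Groth.Agent.Lib.BC8.EtaleShriek

/-!
Flat base change for the twisted inverse image.
-/

set_option autoImplicit false
set_option linter.unusedSectionVars false
set_option linter.style.haveILetI false
set_option backward.isDefEq.respectTransparency false
set_option backward.isDefEq.respectTransparency.types false
set_option maxHeartbeats 800000

universe u

open CategoryTheory CategoryTheory.Limits AlgebraicGeometry

attribute [local instance] HasDerivedCategory.standard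

namespace Groth.Agent.BC8

open DMon9

/-- The derived pullback of the prelude on `D_QCoh` is the monoidal one. -/
theorem nonempty_lpullQ_iso_lq {Y' Y : Scheme.{u}} (g : Y' ⟶ Y) [DCoh.HasLpull g] (h : Dual3.LpullPreservesQCoh g) :
    Nonempty (Dual3.LpullQ g h ≅ lq g) := by
  obtain ⟨l⟩ := nonempty_lpull_natIso_lP g
  exact ⟨NatIso.ofComponents (fun K => ObjectProperty.isoMk _ (l.app K.obj))
    (fun v => ObjectProperty.hom_ext _ (l.hom.naturality v.hom))⟩

variable {U Y Xb U' Y' Xb' : Scheme.{u}} [IsNoetherian Y] [IsNoetherian Y'] {f : U ⟶ Y} {g : Y' ⟶ Y} [Flat g]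
  {f' : U' ⟶ Y'} {g' : U' ⟶ U} (hsqU : IsPullback g' f' f g) {p : Xb ⟶ Y} [IsProper p]
  {j : U ⟶ Xb} [IsOpenImmersion j] (hfac : j ≫ p = f) [DCoh.HasRpush p] {hp : DCoh.RpushPreservesQCoh p}
  {a : DCoh.DQCoh Y ⥤ DCoh.DQCoh Xb} (adj : DCoh.RpushQ p hp ⊣ a)
  {p' : Xb' ⟶ Y'} [IsProper p'] {j' : U' ⟶ Xb'} [IsOpenImmersion j'] (hfac' : j' ≫ p' = f')
  [DCoh.HasRpush p'] {hp' : DCoh.RpushPreservesQCoh p'}
  {a' : DCoh.DQCoh Y' ⥤ DCoh.DQCoh Xb'} (adj' : DCoh.RpushQ p' hp' ⊣ a')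

include hsqU hfac hfac' adj adj' in
/-- `Lg'^* ∘ f^! ≅ f'^! ∘ Lg^*` on bounded below objects. -/
theorem nonempty_shriek_flat :
    Nonempty (Dual3.bddι Y ⋙ a ⋙ ObjectProperty.ι _ ⋙ lP j ⋙ lP g' ≅
      Dual3.bddι Y ⋙ lq g ⋙ a' ⋙ ObjectProperty.ι _ ⋙ lP j') := by
  haveI : CompactSpace Xb := QuasiCompact.compactSpace_of_compactSpace p
  haveI : QuasiSeparatedSpace Xb := quasiSeparatedSpace_of_quasiSeparated p
  let W := pullback p g
  let π : W ⟶ Xb := pullback.fst p g
  let pW : W ⟶ Y' := pullback.snd p g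
  have hsq : IsPullback π pW p g := IsPullback.of_hasPullback p g
  let s : U' ⟶ W := pullback.lift (g' ≫ j) f' (by rw [Category.assoc, hfac, hsqU.w])
  have hs1 : s ≫ π = g' ≫ j := pullback.lift_fst _ _ _
  have hs2 : s ≫ pW = f' := pullback.lift_snd _ _ _
  have hsqs : IsPullback g' s j π := IsPullback.of_bot (by rw [hs2, hfac]; exact hsqU) hs1.symm hsq
  haveI : IsOpenImmersion s := MorphismProperty.of_isPullback hsqs (inferInstance : IsOpenImmersion j)
  haveI : CompactSpace W := QuasiCompact.compactSpace_of_compactSpace pW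
  haveI : QuasiSeparatedSpace W := quasiSeparatedSpace_of_quasiSeparated pW
  haveI := qc_of_qcqs g
  haveI := qc_of_qcqs π
  haveI := DBC9.hasRpush π
  haveI := DBC9.hasRpush pW
  haveI := DBC9.hasRpush g
  haveI : DCoh.HasLpull g := KFlat.Sch.hasLpull g
  let hW := rpushPreserves pW
  haveI := isLeftAdjoint_rpushQ pW hW
  let adjW := Adjunction.ofIsLeftAdjoint (DCoh.RpushQ pW hW)
  obtain ⟨σ, hσm⟩ := exists_mult_sq hsq.w.symm
  have hgood := good_of_flat hsq (Or.inr inferInstance)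
  have hσ := isIso_bc_sigQ (hf := hp) (hf' := hW) hgood σ
  have hQP := qp_proper p
  have hQP' := qp_proper pW
  have htor : TorI p g := torI_of_flat (Or.inr inferInstance)
  have htd := hasFiniteTorDim_of_flat g
  have hβ : ∀ K : (Dual3.IsBddBelowQ Y).FullSubcategory, IsIso (beta₀ adj adjW σ hσ K.obj) := fun K => by
    obtain ⟨c, hc⟩ := K.property
    haveI := hc
    exact isIso_beta₀_bddBelow adj adjW hQP hQP' hsq htor htd σ hσm hσ K.obj c
  let nβ : Dual3.bddι Y ⋙ a ⋙ lq π ≅ Dual3.bddι Y ⋙ lq g ⋙ (DCoh.RpushQ pW hW).rightAdjoint :=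
    NatIso.ofComponents (fun K => haveI := hβ K; asIso (beta₀ adj adjW σ hσ K.obj))
      (fun {K K'} v => beta₀_natural adj adjW σ hσ ((Dual3.bddι Y).map v))
  obtain ⟨w⟩ := nonempty_shriek_indep (hs2.trans hfac'.symm) adjW adj'
  exact ⟨Functor.isoWhiskerLeft (Dual3.bddι Y ⋙ a ⋙ ObjectProperty.ι _)
      (lPComp g' j rfl ≪≫ (lPComp s π hs1).symm) ≪≫
    Functor.isoWhiskerRight nβ (ObjectProperty.ι _ ⋙ lP s) ≪≫
    Functor.isoWhiskerLeft (lqPlus g htd) w⟩

end Groth.Agent.BC8
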