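import Groth.Agent.Lib.BC8.LineModel
import Groth.Agent.Lib.BC8.FlatShriek
import Groth.Agent.Lib.TwistBC9.LocFree
import Mathlib.AlgebraicGeometry.AffineSpace

/-!
The twisted inverse image of the affine line.
-/

set_option autoImplicit false
set_option linter.unusedSectionVars false
set_option linter.style.haveILetI false
set_option backward.isDefEq.respectTransparency false
set_option backward.isDefEq.respectTransparency.types false
set_option maxHeartbeats 800000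

universe u

open CategoryTheory CategoryTheory.Limits AlgebraicGeometry MonoidalCategory

attribute [local instance] HasDerivedCategory.standard

namespace Groth.Agent.BC8

open DMon9

variable {X : Scheme.{u}}

/-- Shifts of the structure sheaf. -/
noncomputable def shiftOne (X : Scheme.{u}) (k : ℤ) : (TwistBC9.oneD X 0)⟦k⟧ ≅ TwistBC9.oneD X (-k) :=
  ((DerivedCategory.singleFunctors X.Modules).shiftIso k (-k) 0 (by omega)).app (Coh.structureModule X)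

/-- The structure sheaf in one degree, monoidally typed. -/
noncomputable def oneMIso (X : Scheme.{u}) (a : ℤ) : TwistBC9.oneD X a ≅ (qK X).obj (TwistBC9.oneK X a) :=
  (DerivedCategory.singleFunctorIsoCompQ X.Modules a).app (Coh.structureModule X)

/-- Tensoring with the structure sheaf in one degree. -/
theorem nonempty_tenL_one (a : ℤ) (G : DCoh.D X) (e : G ≅ TwistBC9.oneD X a) :
    Nonempty (tenL G ≅ shiftFunctor (DCoh.D X) (-a)) := by
  obtain ⟨s⟩ := TwistBC9.nonempty_oneShift (X := X) a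
  let g : (G : DM X) ≅ (qM X).obj (TwistBC9.oneK X a) := (e ≪≫ oneMIso X a :)
  exact ⟨((MonoidalCategory.tensoringLeft (DM X)).mapIso g :) ≪≫ s⟩

/-- Tensoring the structure sheaf in one degree. -/
theorem nonempty_ten_one (a : ℤ) (G : DCoh.D X) :
    Nonempty ((tenL G).obj (TwistBC9.oneD X a) ≅ G⟦-a⟧) := by
  obtain ⟨s⟩ := TwistBC9.nonempty_oneShift (X := X) a
  haveI := KFlat.Sch.hasLTensorCx (TwistBC9.oneK X a).obj
  obtain ⟨c⟩ := DMon9.nonempty_commIso (TwistBC9.oneK X a)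
  let G' : DM X := G
  let w : (TwistBC9.oneD X a : DM X) ≅ (qM X).obj (TwistBC9.oneK X a) := (oneMIso X a :)
  exact ⟨(whiskerLeftIso G' w :) ≪≫ (c.app G).symm ≪≫ s.app G⟩

/-- The monoidal unit. -/
noncomputable def unitIso {P : Scheme.{u}} {O : DCoh.DQCoh P}
    (eO : O.obj ≅ DCoh.inD P (Coh.structureModule P)) : (O.obj : DM P) ≅ 𝟙_ (DM P) :=
  (eO ≪≫ (DerivedCategory.singleFunctorIsoCompQ P.Modules 0).app (Coh.structureModule P) :
    O.obj ≅ (qK P).obj (𝟙_ (KF P)))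

/-- The structure sheaf in `D_QCoh`. -/
noncomputable def oQ (Y : Scheme.{u}) : DCoh.DQCoh Y :=
  ⟨TwistBC9.oneD Y 0, DGen9.isQCohD_of_isPerfect (TwistBC9.isPerfect_oneD Y)⟩

theorem isBdd_oQ (Y : Scheme.{u}) : Dual3.IsBddBelowQ Y (oQ Y) :=
  ⟨0, inferInstanceAs (DerivedCategory.IsGE (TwistBC9.oneD Y 0) 0)⟩

section Formal

variable {U Y Xb : Scheme.{u}} [IsNoetherian Y] (f : U ⟶ Y) [Smooth f] [IsSeparated f] [QuasiCompact f]
  (p : Xb ⟶ Y) [IsProper p]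
  (j : U ⟶ Xb) [IsOpenImmersion j] (hfac : j ≫ p = f) [DCoh.HasRpush p] {hp : DCoh.RpushPreservesQCoh p}
  {a : DCoh.DQCoh Y ⥤ DCoh.DQCoh Xb} (adj : DCoh.RpushQ p hp ⊣ a)

include hfac adj in
/-- `f^!O ≅ O[1]` forces `f^! ≅ Lf^*[1]`. -/
theorem nonempty_shriek_shift (e : (lP j).obj (a.obj (oQ Y)).obj ≅ TwistBC9.oneD U (-1)) :
    Nonempty (Dual3.bddι Y ⋙ a ⋙ ObjectProperty.ι _ ⋙ lP j ≅
      Dual3.bddι Y ⋙ ObjectProperty.ι _ ⋙ lP f ⋙ shiftFunctor (DCoh.D U) (1 : ℤ)) := by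
  haveI : IsLocallyNoetherian U := LocallyOfFiniteType.isLocallyNoetherian f
  haveI : CompactSpace U := QuasiCompact.compactSpace_of_compactSpace f
  haveI : IsNoetherian U := { }
  haveI : IsLocallyNoetherian (pullback f f) := LocallyOfFiniteType.isLocallyNoetherian (pullback.fst f f ≫ f)
  haveI : CompactSpace (pullback f f : Scheme.{u}) := QuasiCompact.compactSpace_of_compactSpace (pullback.fst f f ≫ f)
  haveI : IsNoetherian (pullback f f) := { }
  haveI := DBC9.hasRpush (pullback.diagonal f)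
  let hΔ := rpushPreserves (pullback.diagonal f)
  haveI := isLeftAdjoint_rpushQ (pullback.diagonal f) hΔ
  let adjΔ := Adjunction.ofIsLeftAdjoint (DCoh.RpushQ (pullback.diagonal f) hΔ)
  let E := ((DCoh.RpushQ (pullback.diagonal f) hΔ).rightAdjoint.obj (oQ (pullback f f))).obj
  obtain ⟨n⟩ := nonempty_shriek_diag f p j hfac adj adjΔ (oQ _) (unitIso (Iso.refl _))
  obtain ⟨l⟩ := TwistBC9.nonempty_lP_oneM f 0
  obtain ⟨t⟩ := nonempty_ten_one (-1) E
  let eE : E⟦-(-1 : ℤ)⟧ ≅ TwistBC9.oneD U 0 :=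
    t.symm ≪≫ (tenL E).mapIso e.symm ≪≫ (n.app ⟨oQ Y, isBdd_oQ Y⟩).symm ≪≫ l
  obtain ⟨s⟩ := nonempty_tenL_one 1 E
    (((shiftFunctorCompIsoId (DCoh.D U) (-(-1 : ℤ)) (-1) (by omega)).app E).symm ≪≫
      (shiftFunctor (DCoh.D U) (-1 : ℤ)).mapIso eE ≪≫ shiftOne U (-1))
  exact ⟨((Functor.isoWhiskerLeft (Dual3.bddι Y ⋙ a ⋙ ObjectProperty.ι _ ⋙ lP j)
      (Functor.isoWhiskerRight s (shiftFunctor (DCoh.D U) (1 : ℤ)) ≪≫ shiftFunctorCompIsoId (DCoh.D U) (-1 : ℤ) 1 (by omega))).symm) ≪≫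
    Functor.isoWhiskerRight n.symm (shiftFunctor (DCoh.D U) (1 : ℤ))⟩

end Formal

/-- `f^!O ≅ O[1]` for the affine line over `ℤ`. -/
theorem nonempty_lineZ_shriek
    [DCoh.HasRpush (CohB1.ProjSpace.toSpec 1 ZR.{u})] {hp : DCoh.RpushPreservesQCoh (CohB1.ProjSpace.toSpec 1 ZR.{u})}
    {a : DCoh.DQCoh (Spec (CommRingCat.of ZR.{u})) ⥤ DCoh.DQCoh (CohB1.ProjSpace 1 ZR.{u})}
    (adj : DCoh.RpushQ (CohB1.ProjSpace.toSpec 1 ZR.{u}) hp ⊣ a) :
    Nonempty ((lP (ProjSpace.chart 1 ZR.{u} 0)).obj (a.obj (oQ _)).obj ≅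
      TwistBC9.oneD (Spec (CommRingCat.of ZA.{u})) (-1)) := by
  haveI : IsNoetherianRing ZR.{u} := isNoetherianRing_of_ringEquiv ℤ ULift.ringEquiv.symm
  have hfac : ProjSpace.chart 1 ZR.{u} 0 ≫ CohB1.ProjSpace.toSpec 1 ZR.{u} = lineZ :=
    ProjSpace.chart_toSpec 1 ZR.{u} 0
  haveI : Smooth lineZ.{u} := hfac ▸ inferInstance
  haveI : IsLocallyNoetherian (Spec (CommRingCat.of ZA.{u})) := LocallyOfFiniteType.isLocallyNoetherian lineZ
  haveI : IsNoetherian (Spec (CommRingCat.of ZA.{u})) := { }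
  haveI : IsLocallyNoetherian (pullback lineZ.{u} lineZ.{u}) :=
    LocallyOfFiniteType.isLocallyNoetherian (pullback.fst lineZ.{u} lineZ.{u} ≫ lineZ)
  haveI : IsNoetherian (pullback lineZ.{u} lineZ.{u}) := { }
  haveI := DBC9.hasRpush (pullback.diagonal lineZ.{u})
  let hΔ := rpushPreserves (pullback.diagonal lineZ.{u})
  haveI := isLeftAdjoint_rpushQ (pullback.diagonal lineZ.{u}) hΔ
  let adjΔ := Adjunction.ofIsLeftAdjoint (DCoh.RpushQ (pullback.diagonal lineZ.{u}) hΔ)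
  obtain ⟨r⟩ := nonempty_lineZ_diag adjΔ (oQ _) (Iso.refl _)
  obtain ⟨n⟩ := nonempty_shriek_diag lineZ (CohB1.ProjSpace.toSpec 1 ZR.{u}) (ProjSpace.chart 1 ZR.{u} 0) hfac adj
    adjΔ (oQ _) (unitIso (Iso.refl _))
  obtain ⟨l⟩ := TwistBC9.nonempty_lP_oneM lineZ.{u} 0
  let E := ((DCoh.RpushQ (pullback.diagonal lineZ.{u}) hΔ).rightAdjoint.obj (oQ (pullback lineZ.{u} lineZ.{u}))).obj
  obtain ⟨s⟩ := nonempty_tenL_one 1 E (((shiftFunctorCompIsoId (DCoh.D _) (1 : ℤ) (-1) (by omega)).app E).symm ≪≫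
    (shiftFunctor (DCoh.D _) (-1 : ℤ)).mapIso r ≪≫ shiftOne _ (-1))
  exact ⟨((shiftFunctorCompIsoId (DCoh.D _) (-1 : ℤ) 1 (by omega)).app _).symm ≪≫
    (shiftFunctor (DCoh.D _) (1 : ℤ)).mapIso ((s.app _).symm ≪≫ (n.app ⟨oQ _, isBdd_oQ _⟩).symm ≪≫ l) ≪≫
    shiftOne _ 1⟩

variable {U Y : Scheme.{u}} [IsNoetherian Y] (f : U ⟶ Y) (q : Y ⟶ Spec (CommRingCat.of ZR.{u}))
  (g : U ⟶ Spec (CommRingCat.of ZA.{u})) (hsq : IsPullback g f lineZ.{u} q)
  {Xb : Scheme.{u}} (p : Xb ⟶ Y) [IsProper p] (j : U ⟶ Xb) [IsOpenImmersion j] (hfac : j ≫ p = f)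
  [DCoh.HasRpush p] {hp : DCoh.RpushPreservesQCoh p}
  {a : DCoh.DQCoh Y ⥤ DCoh.DQCoh Xb} (adj : DCoh.RpushQ p hp ⊣ a)

include hsq hfac adj in
/-- `f^! ≅ Lf^*[1]` for the affine line over a Noetherian scheme. -/
theorem nonempty_shriek_line :
    Nonempty (Dual3.bddι Y ⋙ a ⋙ ObjectProperty.ι _ ⋙ lP j ≅
      Dual3.bddι Y ⋙ ObjectProperty.ι _ ⋙ lP f ⋙ shiftFunctor (DCoh.D U) (1 : ℤ)) := by
  haveI : IsNoetherianRing ZR.{u} := isNoetherianRing_of_ringEquiv ℤ ULift.ringEquiv.symm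
  let p0 := CohB1.ProjSpace.toSpec 1 ZR.{u}
  let j0 := ProjSpace.chart 1 ZR.{u} 0
  have hfac0 : j0 ≫ p0 = lineZ := ProjSpace.chart_toSpec 1 ZR.{u} 0
  haveI : Smooth lineZ.{u} := hfac0 ▸ inferInstance
  haveI : Smooth f := MorphismProperty.of_isPullback hsq ‹Smooth lineZ.{u}›
  haveI : IsSeparated f := MorphismProperty.of_isPullback hsq (inferInstance : IsSeparated lineZ.{u})
  haveI : QuasiCompact f := MorphismProperty.of_isPullback hsq (inferInstance : QuasiCompact lineZ.{u})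
  haveI : CompactSpace (CohB1.ProjSpace 1 ZR.{u}) := QuasiCompact.compactSpace_of_compactSpace p0
  haveI : QuasiSeparatedSpace (CohB1.ProjSpace 1 ZR.{u}) := quasiSeparatedSpace_of_quasiSeparated p0
  let W := pullback p0 q
  let π : W ⟶ CohB1.ProjSpace 1 ZR.{u} := pullback.fst p0 q
  let pW : W ⟶ Y := pullback.snd p0 q
  have hsqW : IsPullback π pW p0 q := IsPullback.of_hasPullback p0 q
  let s : U ⟶ W := pullback.lift (g ≫ j0) f (by rw [Category.assoc, hfac0, hsq.w])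
  have hs1 : s ≫ π = g ≫ j0 := pullback.lift_fst _ _ _
  have hs2 : s ≫ pW = f := pullback.lift_snd _ _ _
  have hsqs : IsPullback g s j0 π := IsPullback.of_bot (by rw [hs2, hfac0]; exact hsq) hs1.symm hsqW
  haveI : IsOpenImmersion s := MorphismProperty.of_isPullback hsqs (inferInstance : IsOpenImmersion j0)
  haveI : CompactSpace W := QuasiCompact.compactSpace_of_compactSpace pW
  haveI : QuasiSeparatedSpace W := quasiSeparatedSpace_of_quasiSeparated pW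
  haveI := qc_of_qcqs q
  haveI := qs_of_qcqs q
  haveI := qc_of_qcqs π
  haveI := qs_of_qcqs π
  haveI := DBC9.hasRpush π
  haveI := DBC9.hasRpush pW
  haveI := DBC9.hasRpush q
  haveI := DBC9.hasRpush p0
  let h0 := rpushPreserves p0
  let hW := rpushPreserves pW
  haveI := isLeftAdjoint_rpushQ p0 h0
  haveI := isLeftAdjoint_rpushQ pW hW
  let adj0 := Adjunction.ofIsLeftAdjoint (DCoh.RpushQ p0 h0)
  let adjW := Adjunction.ofIsLeftAdjoint (DCoh.RpushQ pW hW)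
  haveI : LocallyOfFinitePresentation p0 := inferInstance
  obtain ⟨σ, hσm⟩ := exists_mult_sq hsqW.w.symm
  have hgood := good_of_flat hsqW (Or.inl inferInstance)
  have hσ := isIso_bc_sigQ (hf := h0) (hf' := hW) hgood σ
  haveI := isIso_beta₀_flat adj0 adjW hsqW (Or.inl inferInstance)
    (fun J => Dual8.preservesCoproducts adj0 (fun P hP => PerfPush9.isPerfect_rpush_flat p0 P hP) J) σ hσm hσ (oQ _)
  obtain ⟨lq0⟩ := TwistBC9.nonempty_lP_oneM q 0
  obtain ⟨m⟩ := nonempty_lineZ_shriek adj0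
  obtain ⟨lg⟩ := TwistBC9.nonempty_lP_oneM g (-1)
  obtain ⟨w⟩ := nonempty_shriek_indep (hfac.trans hs2.symm) adj adjW
  let eq : (lq q).obj (oQ _) ≅ oQ Y := ObjectProperty.isoMk _ lq0
  refine nonempty_shriek_shift f p j hfac adj (w.app ⟨oQ Y, isBdd_oQ Y⟩ ≪≫ ?_)
  exact (lP s).mapIso ((ObjectProperty.ι _).mapIso
      ((DCoh.RpushQ pW hW).rightAdjoint.mapIso eq.symm ≪≫ (asIso (beta₀ adj0 adjW σ hσ (oQ _))).symm)) ≪≫
    (lPComp s π hs1 ≪≫ (lPComp g j0 rfl).symm).app _ ≪≫ (lP g).mapIso m ≪≫ lg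

end Groth.Agent.BC8
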