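import Groth.Agent.Lib.BC8.ShriekPres
import Groth.Agent.Lib.BC8.DlzShriek
import Groth.Agent.Lib.BC8.FlatShriek

/-! The algebraic upper shriek read on affine schemes. -/

set_option autoImplicit false
set_option linter.style.haveILetI false
set_option linter.unusedSectionVars false
set_option backward.isDefEq.respectTransparency false
set_option backward.isDefEq.respectTransparency.types false
set_option maxHeartbeats 1000000

universe u

open CategoryTheory CategoryTheory.Limits AlgebraicGeometry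

attribute [local instance] HasDerivedCategory.standard

noncomputable section

namespace Groth.Agent.BC8

open DMon9

/-- `tilde` intertwines restriction and direct image, and so their right adjoints. -/
theorem nonempty_tQ_upper {P B : CommRingCat.{u}} (φ : P ⟶ B) [DCoh.HasRpush (Spec.map φ)]
    {hφ : DCoh.RpushPreservesQCoh (Spec.map φ)} {a : DCoh.DQCoh (Spec P) ⥤ DCoh.DQCoh (Spec B)}
    (adja : DCoh.RpushQ (Spec.map φ) hφ ⊣ a) {R : Dual.D P ⥤ Dual.D B} (adjR : DRing.restrictD φ.hom ⊣ R)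
    (M : Dual.D P) : Nonempty ((tQ B).obj (R.obj M) ≅ a.obj ((tQ P).obj M)) := by
  haveI := isEquivalence_tQ P
  haveI := isEquivalence_tQ B
  haveI : PreservesFiniteLimits (tilde.functor P) := M1.tilde_preservesFiniteLimits
  haveI : PreservesFiniteLimits (tilde.functor B) := M1.tilde_preservesFiniteLimits
  obtain ⟨t⟩ := DPush9.nonempty_tildeD_rpush_iso φ
  let τ : DRing.restrictD φ.hom ⋙ tQ P ≅ tQ B ⋙ DCoh.RpushQ (Spec.map φ) hφ :=
    NatIso.ofComponents (fun N => ObjectProperty.isoMk _ (t.app N).symm)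
      (fun v => ObjectProperty.hom_ext _ (t.inv.naturality v))
  exact nonempty_rightAdj_square adjR adja (tQ B) (tQ P) τ M

/-- `tilde` intertwines base change and pullback. -/
def tQLq {A B : CommRingCat.{u}} (φ : A ⟶ B) [DRing.HasLBaseChange φ.hom] (M : Dual.D A) :
    (lq (Spec.map φ)).obj ((tQ A).obj M) ≅ (tQ B).obj ((DRing.LBaseChange φ.hom).obj M) :=
  ObjectProperty.isoMk _ ((DBC9.lPTildeIso φ).app M)

theorem isBdd_tQ {A : CommRingCat.{u}} (M : Dual.D A) (c : ℤ) (h : ∀ i : ℤ, i < c → Subsingleton (Dual.HD A M i)) :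
    Dual3.IsBddBelowQ (Spec A) ((tQ A).obj M) := by
  haveI : PreservesFiniteLimits (tilde.functor A) := M1.tilde_preservesFiniteLimits
  refine ⟨c, (DerivedCategory.isGE_iff _ c).2 fun i hi => ?_⟩
  haveI := h i hi
  exact ((tilde.functor A).map_isZero (ModuleCat.isZero_of_subsingleton
    ((DerivedCategory.homologyFunctor (ModuleCat.{u} A) i).obj M))).of_iso
      ((WayOut.mapDerivedHomologyIso (tilde.functor A) i).app M)

/-- Flat base change of `RHom_P(B, -)` for a quotient `B`. -/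
theorem nonempty_bc_ring {P B P' B' : CommRingCat.{u}} [IsNoetherianRing P] [IsNoetherianRing P'] (φ : P ⟶ B) (γ : P ⟶ P')
    (φ' : P' ⟶ B') (γ' : B ⟶ B') (hsurj : Function.Surjective φ.hom) (hγ : γ.hom.Flat)
    (H : IsPushout φ γ γ' φ') [DRing.HasLBaseChange γ.hom] [DRing.HasLBaseChange γ'.hom]
    {R : Dual.D P ⥤ Dual.D B} (adj : DRing.restrictD φ.hom ⊣ R) {R' : Dual.D P' ⥤ Dual.D B'}
    (adj' : DRing.restrictD φ'.hom ⊣ R') (M : Dual.D P) (c : ℤ)
    (hM : ∀ i : ℤ, i < c → Subsingleton (Dual.HD P M i)) :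
    Nonempty ((DRing.LBaseChange γ'.hom).obj (R.obj M) ≅ R'.obj ((DRing.LBaseChange γ.hom).obj M)) := by
  haveI : IsClosedImmersion (Spec.map φ) := IsClosedImmersion.spec_of_surjective φ hsurj
  haveI : Flat (Spec.map γ) := (HasRingHomProperty.Spec_iff (P := @Flat)).2 hγ
  have hsq : IsPullback (Spec.map γ') (Spec.map φ') (Spec.map φ) (Spec.map γ) :=
    isPullback_SpecMap_of_isPushout _ _ _ _ H
  haveI : IsClosedImmersion (Spec.map φ') := MorphismProperty.of_isPullback hsq ‹_›
  haveI := DBC9.hasRpush (Spec.map φ)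
  haveI := DBC9.hasRpush (Spec.map φ')
  haveI := isLeftAdjoint_rpushQ (Spec.map φ) (rpushPreserves (Spec.map φ))
  haveI := isLeftAdjoint_rpushQ (Spec.map φ') (rpushPreserves (Spec.map φ'))
  let aq := Adjunction.ofIsLeftAdjoint (DCoh.RpushQ (Spec.map φ) (rpushPreserves (Spec.map φ)))
  let aq' := Adjunction.ofIsLeftAdjoint (DCoh.RpushQ (Spec.map φ') (rpushPreserves (Spec.map φ')))
  obtain ⟨n⟩ := nonempty_shriek_flat hsq (Category.id_comp (Spec.map φ)) aq (Category.id_comp (Spec.map φ')) aq'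
  let K : (Dual3.IsBddBelowQ (Spec P)).FullSubcategory := ⟨(tQ P).obj M, isBdd_tQ M c hM⟩
  obtain ⟨e⟩ := nonempty_tQ_upper φ aq adj M
  obtain ⟨e'⟩ := nonempty_tQ_upper φ' aq' adj' ((DRing.LBaseChange γ.hom).obj M)
  haveI := isEquivalence_tQ B'
  refine ⟨(tQ B').preimageIso ((tQLq γ' (R.obj M)).symm ≪≫ (lq (Spec.map γ')).mapIso e ≪≫ ?_ ≪≫
    (DCoh.RpushQ (Spec.map φ') (rpushPreserves (Spec.map φ'))).rightAdjoint.mapIso (tQLq γ M) ≪≫ e'.symm)⟩
  exact ObjectProperty.isoMk _ ((lP (Spec.map γ')).mapIso ((DBC9.lPId (Spec B)).app _).symm ≪≫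
    n.app K ≪≫ (DBC9.lPId (Spec B')).app _)

end Groth.Agent.BC8
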