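import Groth.Agent.Lib.BC8.ShriekViaComp
import Groth.Agent.Lib.BC8.LciInvert
import Groth.Agent.Lib.BC8.RelPerfShriek
import Groth.Agent.Lib.Exact8.TorIndBC
import Groth.Agent.Lib.Dlz27.Shift

/-! The algebraic upper shriek of the base ring: invertibility, base change to fibres. -/

set_option autoImplicit false
set_option linter.style.haveILetI false
set_option linter.unusedSectionVars false
set_option backward.isDefEq.respectTransparency false
set_option backward.isDefEq.respectTransparency.types false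
set_option maxHeartbeats 1000000

universe u

open CategoryTheory CategoryTheory.Limits AlgebraicGeometry

attribute [local instance] HasDerivedCategory.standard

noncomputable section

namespace Groth.Agent.BC8

open DMon9

/-- `tilde` of the ring is the structure sheaf. -/
def tQOne (P : CommRingCat.{u}) : (tQ P).obj (Dual.inD P P) ≅ oQ (Spec P) :=
  ObjectProperty.isoMk _ (DGen9.KO.oneIso (R := P)).symm

/-- Base change of the ring in degree zero. -/
theorem nonempty_lbc_one {R P : CommRingCat.{u}} (φ : R ⟶ P) [DRing.HasLBaseChange φ.hom] :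
    Nonempty ((DRing.LBaseChange φ.hom).obj (Dual.inD R R) ≅ Dual.inD P P) := by
  haveI := isEquivalence_tQ P
  obtain ⟨l⟩ := TwistBC9.nonempty_lP_oneM (Spec.map φ) 0
  let e : (lq (Spec.map φ)).obj (oQ (Spec R)) ≅ oQ (Spec P) := ObjectProperty.isoMk _ l
  exact ⟨(tQ P).preimageIso ((tQLq φ _).symm ≪≫ (lq (Spec.map φ)).mapIso (tQOne R) ≪≫ e ≪≫ (tQOne P).symm)⟩

/-- A shifted structure sheaf comes from a shifted ring. -/
theorem nonempty_of_oneD {S : CommRingCat.{u}} (x : Dual.D S) (n : ℤ)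
    (e : ((tQ S).obj x).obj ≅ TwistBC9.oneD (Spec S) n) : Nonempty (x ≅ (Dual.inD S S)⟦-n⟧) := by
  haveI := isEquivalence_tQ S
  haveI : PreservesFiniteLimits (tilde.functor S) := M1.tilde_preservesFiniteLimits
  let T := DPerf.tildeDD S
  let e1 : T.obj ((Dual.inD S S)⟦-n⟧) ≅ TwistBC9.oneD (Spec S) n :=
    (T.commShiftIso (-n)).app _ ≪≫ (shiftFunctor (DCoh.D (Spec S)) (-n)).mapIso (DGen9.KO.oneIso (R := S)).symm ≪≫
      (((DerivedCategory.singleFunctors (Spec S).Modules).shiftIso (-n) n 0 (by omega)).app (Coh.structureModule (Spec S)))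
  exact ⟨(tQ S).preimageIso (ObjectProperty.isoMk _ (e ≪≫ e1.symm))⟩

/-- Tor independent base change of `RHom_P(B, -)` for a perfect quotient `B`. -/
theorem nonempty_bc_ring_tor {P B P' B' : CommRingCat.{u}} [IsNoetherianRing P] [IsNoetherianRing B] (φ : P ⟶ B)
    (γ : P ⟶ P') (φ' : P' ⟶ B') (γ' : B ⟶ B') (hsurj : Function.Surjective φ.hom)
    (hperf : MoreMor.IsPerfectMor (Spec.map φ)) (H : IsPushout φ γ γ' φ')
    (hT : DBC9.TorIndep γ.hom φ.hom) (hT' : DBC9.TorIndep φ.hom γ.hom)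
    [DRing.HasLBaseChange γ.hom] [DRing.HasLBaseChange γ'.hom]
    {R : Dual.D P ⥤ Dual.D B} (adj : DRing.restrictD φ.hom ⊣ R) {R' : Dual.D P' ⥤ Dual.D B'}
    (adj' : DRing.restrictD φ'.hom ⊣ R') (M : Dual.D P) :
    Nonempty ((DRing.LBaseChange γ'.hom).obj (R.obj M) ≅ R'.obj ((DRing.LBaseChange γ.hom).obj M)) := by
  haveI : IsClosedImmersion (Spec.map φ) := IsClosedImmersion.spec_of_surjective φ hsurj
  have hsq : IsPullback (Spec.map γ') (Spec.map φ') (Spec.map φ) (Spec.map γ) :=
    isPullback_SpecMap_of_isPushout _ _ _ _ H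
  haveI : IsClosedImmersion (Spec.map φ') := MorphismProperty.of_isPullback hsq ‹_›
  haveI := DBC9.hasRpush (Spec.map φ)
  haveI := DBC9.hasRpush (Spec.map φ')
  haveI := DBC9.hasRpush (Spec.map γ)
  haveI := DBC9.hasRpush (Spec.map γ')
  haveI := qc_of_qcqs (Spec.map γ)
  haveI := qs_of_qcqs (Spec.map γ)
  haveI := qc_of_qcqs (Spec.map γ')
  haveI := qs_of_qcqs (Spec.map γ')
  let hf := rpushPreserves (Spec.map φ)
  let hf' := rpushPreserves (Spec.map φ')
  haveI := isLeftAdjoint_rpushQ (Spec.map φ) hf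
  haveI := isLeftAdjoint_rpushQ (Spec.map φ') hf'
  let aq := Adjunction.ofIsLeftAdjoint (DCoh.RpushQ (Spec.map φ) hf)
  let aq' := Adjunction.ofIsLeftAdjoint (DCoh.RpushQ (Spec.map φ') hf')
  have hgood := DBC9.good_spec φ γ hT _ _ hsq
  have hgood' := DBC9.good_spec γ φ hT' _ _ hsq.flip
  obtain ⟨σ, hσm⟩ := exists_mult_sq hsq.w.symm
  have hσ := isIso_bc_sigQ (hf := hf) (hf' := hf') hgood σ
  haveI := isIso_beta₀_of_refl (hg := rpushPreserves (Spec.map γ)) (hg' := rpushPreserves (Spec.map γ')) aq aq'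
    hgood hgood' (fun J => hcop_of_perfectMor (Spec.map φ) hperf aq J) (refl_affine (Spec.map γ')) σ hσm hσ
    ((tQ P).obj M)
  obtain ⟨e⟩ := nonempty_tQ_upper φ aq adj M
  obtain ⟨e'⟩ := nonempty_tQ_upper φ' aq' adj' ((DRing.LBaseChange γ.hom).obj M)
  haveI := isEquivalence_tQ B'
  exact ⟨(tQ B').preimageIso ((tQLq γ' (R.obj M)).symm ≪≫ (lq (Spec.map γ')).mapIso e ≪≫
    asIso (beta₀ aq aq' σ hσ ((tQ P).obj M)) ≪≫
    (DCoh.RpushQ (Spec.map φ') hf').rightAdjoint.mapIso (tQLq γ M) ≪≫ e'.symm)⟩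

/-- `RHom_P(B, P)` for a complete intersection `B`. -/
theorem exists_upper_regSeq {P B : CommRingCat.{u}} [IsNoetherianRing P] (φ : P ⟶ B) (hsurj : Function.Surjective φ.hom)
    (rs : List P) (hreg : RingTheory.Sequence.IsWeaklyRegular P rs) (hker : RingHom.ker φ.hom = Ideal.ofList rs)
    {R : Dual.D P ⥤ Dual.D B} (adj : DRing.restrictD φ.hom ⊣ R) :
    Nonempty (R.obj (Dual.inD P P) ≅ (Dual.inD B B)⟦-(rs.length : ℤ)⟧) := by
  haveI : IsClosedImmersion (Spec.map φ) := IsClosedImmersion.spec_of_surjective φ hsurj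
  haveI := DBC9.hasRpush (Spec.map φ)
  haveI := isLeftAdjoint_rpushQ (Spec.map φ) (rpushPreserves (Spec.map φ))
  let aq := Adjunction.ofIsLeftAdjoint (DCoh.RpushQ (Spec.map φ) (rpushPreserves (Spec.map φ)))
  haveI : PreservesFiniteLimits (tilde.functor P) := M1.tilde_preservesFiniteLimits
  obtain ⟨r⟩ := nonempty_regSeq rs.length _ _ φ hsurj rs rfl hreg hker aq (oQ _) (Iso.refl _)
  obtain ⟨r'⟩ := nonempty_unshift _ _ r
  obtain ⟨e⟩ := nonempty_tQ_upper φ aq adj (Dual.inD P P)
  exact nonempty_of_oneD _ _ ((ObjectProperty.ι _).mapIso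
    (e ≪≫ (DCoh.RpushQ (Spec.map φ) (rpushPreserves (Spec.map φ))).rightAdjoint.mapIso (tQOne P)) ≪≫ r')

/-- The upper shriek of the ring is `RHom_P(A, P)[n]`. -/
theorem nonempty_via_one {R A : Type u} [CommRing R] [CommRing A] [Algebra R A] (n : ℕ)
    [DRing.HasLBaseChange (algebraMap R (MvPolynomial (Fin n) R))]
    (Rψ : Dual.D (MvPolynomial (Fin n) R) ⥤ Dual.D A) :
    Nonempty (Dual2.shriekVia n Rψ (Dual.inD R R) ≅
      (Rψ.obj (Dual.inD (MvPolynomial (Fin n) R) (MvPolynomial (Fin n) R)))⟦(n : ℤ)⟧) := by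
  haveI : DRing.HasLBaseChange (CommRingCat.ofHom (algebraMap R (MvPolynomial (Fin n) R))).hom := ‹_›
  obtain ⟨l⟩ := nonempty_lbc_one (R := CommRingCat.of R) (P := CommRingCat.of (MvPolynomial (Fin n) R))
    (CommRingCat.ofHom (algebraMap R (MvPolynomial (Fin n) R)))
  exact ⟨(shiftFunctor (Dual.D A) (n : ℤ)).mapIso (Rψ.mapIso l)⟩

/-- For a local complete intersection the upper shriek of the ring is locally a shifted ring. -/
theorem exists_invertible_lci {R A : Type u} [CommRing R] [CommRing A] [IsNoetherianRing R] [IsNoetherianRing A]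
    [Algebra R A] (hl : LCI.IsLCI R A) (n : ℕ) (ψ : MvPolynomial (Fin n) R →ₐ[R] A) (hψ : Function.Surjective ψ)
    [DRing.HasLBaseChange (algebraMap R (MvPolynomial (Fin n) R))]
    {Rψ : Dual.D (MvPolynomial (Fin n) R) ⥤ Dual.D A} (adj : DRing.restrictD ψ.toRingHom ⊣ Rψ)
    [hL : ∀ f : A, DRing.HasLBaseChange (algebraMap A (Localization.Away f))] (q₀ : PrimeSpectrum A) :
    ∃ (f : A) (_ : f ∉ q₀.asIdeal) (m : ℤ),
      Nonempty ((DRing.LBaseChange (algebraMap A (Localization.Away f))).obj (Dual2.shriekVia n Rψ (Dual.inD R R)) ≅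
        (Dual.inD (Localization.Away f) (Localization.Away f))⟦m⟧) := by
  obtain ⟨-, k, F, hF, hKR⟩ := hl
  haveI := DQC.hasLBaseChange (algebraMap R (MvPolynomial (Fin k) R))
  haveI := isLeftAdjoint_restrictD F.toRingHom
  let adjF := Adjunction.ofIsLeftAdjoint (DRing.restrictD F.toRingHom)
  obtain ⟨w⟩ := nonempty_via_indep n ψ hψ adj k F hF adjF (Dual.inD R R)
  obtain ⟨o⟩ := nonempty_via_one k (DRing.restrictD F.toRingHom).rightAdjoint (R := R) (A := A)
  let P := MvPolynomial (Fin k) R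
  let q : PrimeSpectrum P := PrimeSpectrum.comap F.toRingHom q₀
  have hle : RingHom.ker F.toRingHom ≤ q.asIdeal := fun t ht => by
    show F.toRingHom t ∈ q₀.asIdeal
    rw [RingHom.mem_ker.1 ht]
    exact zero_mem _
  obtain ⟨l, hl, hspan⟩ := PerfLCI4.exists_ex_atPrime hKR q.asIdeal hle
  obtain ⟨g, hg, rs, hreg, hker⟩ := PerfLCI4.exists_away_regular q hle hl hspan
  let Pg := Localization.Away g
  let A' := Localization.Away (F g)
  let φ : Pg →+* A' := IsLocalization.Away.map Pg A' F.toRingHom g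
  haveI : IsLocalization ((Submonoid.powers g).map F.toRingHom) A' := by
    rw [Submonoid.map_powers]; exact inferInstanceAs (IsLocalization (Submonoid.powers (F g)) A')
  have hs : Function.Surjective φ :=
    IsLocalization.map_surjective_of_surjective (g := F.toRingHom) (Submonoid.powers g) Pg A' hF
  have hk : RingHom.ker φ = Ideal.ofList rs := by
    rw [← hker]
    exact IsLocalization.ker_map (S := Pg) A' F.toRingHom (Submonoid.map_powers F.toRingHom g)
  have H : IsPushout (CommRingCat.ofHom F.toRingHom) (CommRingCat.ofHom (algebraMap P Pg))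
      (CommRingCat.ofHom (algebraMap A A')) (CommRingCat.ofHom φ) := by
    letI : Algebra P A := F.toRingHom.toAlgebra
    letI : Algebra Pg A' := φ.toAlgebra
    haveI : IsScalarTower P Pg A' :=
      IsScalarTower.of_algebraMap_eq fun x => by
        refine (IsScalarTower.algebraMap_apply P A A' x).trans ?_
        show _ = φ (algebraMap P Pg x)
        simp only [φ, IsLocalization.Away.map]
        exact (IsLocalization.map_eq _ x).symm
    haveI : IsLocalization (Algebra.algebraMapSubmonoid A (Submonoid.powers g)) A' :=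
      ‹IsLocalization ((Submonoid.powers g).map F.toRingHom) A'›
    haveI : Algebra.IsPushout P A Pg A' := Algebra.isPushout_of_isLocalization (Submonoid.powers g) Pg A A'
    exact CommRingCat.isPushout_of_isPushout P A Pg A'
  haveI := DQC.hasLBaseChange (algebraMap P Pg)
  haveI := isLeftAdjoint_restrictD φ
  let adjg := Adjunction.ofIsLeftAdjoint (DRing.restrictD φ)
  haveI : IsNoetherianRing Pg := IsLocalization.isNoetherianRing (Submonoid.powers g) Pg inferInstance
  obtain ⟨b⟩ := nonempty_bc_ring (P := CommRingCat.of P) (B := CommRingCat.of A) (P' := CommRingCat.of Pg)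
    (B' := CommRingCat.of A') (CommRingCat.ofHom F.toRingHom) (CommRingCat.ofHom (algebraMap P Pg))
    (CommRingCat.ofHom φ) (CommRingCat.ofHom (algebraMap A A')) hF
    (RingHom.flat_algebraMap_iff.2 (IsLocalization.flat Pg (Submonoid.powers g))) H adjF adjg (Dual.inD P P) 0
    (fun i hi => ModuleCat.subsingleton_of_isZero (DerivedCategory.isZero_of_isGE _ 0 i hi))
  haveI : DRing.HasLBaseChange (CommRingCat.ofHom (algebraMap P Pg)).hom := ‹_›
  obtain ⟨l1⟩ := nonempty_lbc_one (R := CommRingCat.of P) (P := CommRingCat.of Pg) (CommRingCat.ofHom (algebraMap P Pg))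
  obtain ⟨r⟩ := exists_upper_regSeq (P := CommRingCat.of Pg) (B := CommRingCat.of A') (CommRingCat.ofHom φ) hs rs
    hreg.toIsWeaklyRegular hk adjg
  obtain ⟨aA⟩ := DBaseChange.nonempty_adjunction (algebraMap A A')
  letI := aA.leftAdjointCommShift ℤ
  refine ⟨F g, fun hm => hg hm, -(rs.length : ℤ) + k, ⟨(DRing.LBaseChange (algebraMap A A')).mapIso (w ≪≫ o) ≪≫
    ((DRing.LBaseChange (algebraMap A A')).commShiftIso (k : ℤ)).app _ ≪≫
    (shiftFunctor (Dual.D A') (k : ℤ)).mapIso (b ≪≫ (DRing.restrictD φ).rightAdjoint.mapIso l1 ≪≫ r) ≪≫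
    ((shiftFunctorAdd' (Dual.D A') (-(rs.length : ℤ)) (k : ℤ) _ rfl).app _).symm⟩⟩

end Groth.Agent.BC8
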