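import Groth.Agent.Lib.BC8.PolyShriek
import Groth.Agent.Lib.BC8.ShriekViaOne

/-! The twisted inverse image on affine charts is the algebraic upper shriek. -/

set_option autoImplicit false
set_option linter.style.haveILetI false
set_option linter.unusedSectionVars false
set_option backward.isDefEq.respectTransparency false
set_option backward.isDefEq.respectTransparency.types false
set_option maxHeartbeats 1000000

universe u

open CategoryTheory CategoryTheory.Limits AlgebraicGeometry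

attribute [local instance] HasDerivedCategory.standard

noncomputable section

namespace Groth.Agent.BC8

open DMon9

variable {X Y Xb : Scheme.{u}} [IsNoetherian Y] (f : X ⟶ Y) [LocallyOfFiniteType f]
  (p : Xb ⟶ Y) [IsProper p] (j : X ⟶ Xb) [IsOpenImmersion j] (hfac : j ≫ p = f) [DCoh.HasRpush p]
  {hp : DCoh.RpushPreservesQCoh p} {a : DCoh.DQCoh Y ⥤ DCoh.DQCoh Xb} (adj : DCoh.RpushQ p hp ⊣ a)

include hfac adj in
/-- On affine charts `f^!O` is `φ^!A`. -/
theorem nonempty_via_sheaf (V : Y.Opens) (hV : IsAffineOpen V) (U : X.Opens) (hU : IsAffineOpen U)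
    (e : U ≤ f ⁻¹ᵁ V) [Algebra Γ(Y, V) Γ(X, U)] (halg : algebraMap Γ(Y, V) Γ(X, U) = (f.appLE V U e).hom) (n : ℕ)
    (F : MvPolynomial (Fin n) Γ(Y, V) →ₐ[Γ(Y, V)] Γ(X, U)) (hF : Function.Surjective F)
    [DRing.HasLBaseChange (algebraMap Γ(Y, V) (MvPolynomial (Fin n) Γ(Y, V)))]
    {Rψ : Dual.D (MvPolynomial (Fin n) Γ(Y, V)) ⥤ Dual.D Γ(X, U)} (adjψ : DRing.restrictD F.toRingHom ⊣ Rψ) :
    Nonempty ((lP hU.fromSpec).obj ((lP j).obj (a.obj (oQ Y)).obj) ≅
      (DPerf.tildeDD Γ(X, U)).obj (Dual2.shriekVia n Rψ (Dual.inD Γ(Y, V) Γ(Y, V)))) := by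
  let A := Γ(Y, V)
  let B := Γ(X, U)
  haveI : IsNoetherianRing A := IsLocallyNoetherian.component_noetherian ⟨V, hV⟩
  let P := MvPolynomial (Fin n) A
  let φ : CommRingCat.of P ⟶ B := CommRingCat.ofHom F.toRingHom
  haveI : IsClosedImmersion (Spec.map φ) := IsClosedImmersion.spec_of_surjective _ hF
  haveI : IsNoetherianRing P := inferInstance
  haveI : IsNoetherianRing B := isNoetherianRing_of_surjective P B F.toRingHom hF
  let p₀ := CohB1.ProjSpace.toSpec n A
  let jW := polyToProj A n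
  let h : Spec (CommRingCat.of P) ⟶ Spec A := jW ≫ p₀
  have hs : h = polyStr A n := polyToProj_toSpec A n
  haveI : Smooth (polyStr A n) := (HasRingHomProperty.Spec_iff (P := @Smooth)).2
    (RingHom.smooth_algebraMap.2 ⟨inferInstance, inferInstance⟩)
  haveI : Smooth h := hs ▸ inferInstance
  haveI : IsNoetherian (Spec A) := inferInstance
  haveI : CompactSpace (CohB1.ProjSpace n A) := QuasiCompact.compactSpace_of_compactSpace p₀
  haveI : IsLocallyNoetherian (CohB1.ProjSpace n A) := LocallyOfFiniteType.isLocallyNoetherian p₀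
  haveI : IsNoetherian (CohB1.ProjSpace n A) := { }
  haveI : IsSeparated h := inferInstance
  haveI : QuasiCompact h := qc_of_qcqs h
  haveI := DBC9.hasRpush p₀
  let h₀ := rpushPreserves p₀
  haveI := isLeftAdjoint_rpushQ p₀ h₀
  let adj₀ := Adjunction.ofIsLeftAdjoint (DCoh.RpushQ p₀ h₀)
  let i : Spec B ⟶ Spec (CommRingCat.of P) := Spec.map φ
  haveI := DBC9.hasRpush i
  let hi := rpushPreserves i
  haveI := isLeftAdjoint_rpushQ i hi
  let adji := Adjunction.ofIsLeftAdjoint (DCoh.RpushQ i hi)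
  let k : Spec B ⟶ CohB1.ProjSpace n A := i ≫ jW
  haveI : QuasiCompact k := qc_of_qcqs k
  let p' : k.image ⟶ Spec A := k.imageι ≫ p₀
  haveI : CompactSpace k.image := QuasiCompact.compactSpace_of_compactSpace k.imageι
  haveI : QuasiSeparatedSpace k.image := quasiSeparatedSpace_of_quasiSeparated k.imageι
  haveI := DBC9.hasRpush p'
  let h' := rpushPreserves p'
  haveI := isLeftAdjoint_rpushQ p' h'
  let adj' := Adjunction.ofIsLeftAdjoint (DCoh.RpushQ p' h')
  have hfac' : k.toImage ≫ p' = i ≫ h := by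
    rw [← Category.assoc, Scheme.Hom.toImage_imageι]
    simp [k, h]
  have hih : i ≫ h = Spec.map (f.appLE V U e) := by
    rw [hs, ← Spec.map_comp]
    congr 1
    ext t
    exact (F.commutes t).trans (RingHom.congr_fun halg t)
  have w : hU.fromSpec ≫ j ≫ p = (k.toImage ≫ p') ≫ hV.fromSpec := by
    rw [hfac, hfac', hih, hV.SpecMap_appLE_fromSpec f hU e]
  obtain ⟨m⟩ := nonempty_loc_iso adj hV.fromSpec hU.fromSpec adj' w
  obtain ⟨c⟩ := nonempty_shriek_comp (f := i) (g := h) (jf := 𝟙 _) (pf := i)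
    (Category.id_comp _) rfl hfac' adji adj₀ adj'
  let htd := hasFiniteTorDim_of_flat hV.fromSpec
  let K : (Dual3.IsBddBelowQ Y).FullSubcategory := ⟨oQ Y, isBdd_oQ Y⟩
  obtain ⟨ps⟩ := nonempty_poly_shriek A n adj₀
  obtain ⟨lv⟩ := TwistBC9.nonempty_lP_oneM hV.fromSpec 0
  haveI : PreservesFiniteLimits (tilde.functor (CommRingCat.of P)) := M1.tilde_preservesFiniteLimits
  let L : Dual.D P := (Dual.inD P P)⟦(n : ℤ)⟧
  let T := DPerf.tildeDD (CommRingCat.of P)
  let eL : T.obj L ≅ TwistBC9.oneD (Spec (CommRingCat.of P)) (-(n : ℤ)) :=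
    (T.commShiftIso (n : ℤ)).app _ ≪≫
      (shiftFunctor (DCoh.D _) (n : ℤ)).mapIso (DGen9.KO.oneIso (R := CommRingCat.of P)).symm ≪≫
      (((DerivedCategory.singleFunctors (Spec (CommRingCat.of P)).Modules).shiftIso (n : ℤ) (-(n : ℤ)) 0 (by omega)).app
        (Coh.structureModule (Spec (CommRingCat.of P))))
  let eo : (lq hV.fromSpec).obj (oQ Y) ≅ oQ (Spec A) := ObjectProperty.isoMk _ lv
  let eq : (lq jW).obj ((DCoh.RpushQ p₀ h₀).rightAdjoint.obj ((lq hV.fromSpec).obj (oQ Y))) ≅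
      (tQ (CommRingCat.of P)).obj L :=
    (lq jW).mapIso ((DCoh.RpushQ p₀ h₀).rightAdjoint.mapIso eo) ≪≫ ObjectProperty.isoMk _ (ps ≪≫ eL.symm)
  obtain ⟨t⟩ := nonempty_tQ_upper φ adji adjψ L
  obtain ⟨o⟩ := nonempty_via_one n Rψ (R := A) (A := B)
  letI := adjψ.rightAdjointCommShift ℤ
  exact ⟨m.app K ≪≫ c.app ((lqPlus hV.fromSpec htd).obj K) ≪≫
    (DBC9.lPId _).app _ ≪≫ (ObjectProperty.ι _).mapIso ((DCoh.RpushQ i hi).rightAdjoint.mapIso eq ≪≫ t.symm) ≪≫
    (DPerf.tildeDD B).mapIso ((Rψ.commShiftIso (n : ℤ)).app _ ≪≫ o.symm)⟩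

end Groth.Agent.BC8
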