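import Groth.Agent.Lib.BC8.PolyShriek
import Groth.Agent.Lib.BC8.ShriekViaOne
import Groth.Agent.Lib.BC8.ViaSheaf
import Groth.Agent.Lib.BC8.Shriek660
import Groth.Agent.Lib.BC8.AffineLine
import Groth.Agent.Lib.BC8.ShriekBridge

/-! The twisted inverse image of bounded below objects on affine charts is the algebraic upper shriek. -/

set_option autoImplicit false
set_option linter.style.haveILetI false
set_option linter.unusedSectionVars false
set_option backward.isDefEq.respectTransparency false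
set_option backward.isDefEq.respectTransparency.types false
set_option maxHeartbeats 1000000

universe u

open CategoryTheory CategoryTheory.Limits AlgebraicGeometry

attribute [local instance] HasDerivedCategory.standard

noncomputable section

namespace Groth.Agent.BC8

open DMon9

variable {X Y Xb : Scheme.{u}} [IsNoetherian Y] (f : X ⟶ Y) [LocallyOfFiniteType f]
  (p : Xb ⟶ Y) [IsProper p] (j : X ⟶ Xb) [IsOpenImmersion j] (hfac : j ≫ p = f) [DCoh.HasRpush p]
  {hp : DCoh.RpushPreservesQCoh p} {a : DCoh.DQCoh Y ⥤ DCoh.DQCoh Xb} (adj : DCoh.RpushQ p hp ⊣ a)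

include hfac adj in
/-- On affine charts `f^!K` is `φ^!ω`. -/
theorem nonempty_via_sheaf_gen {A B : CommRingCat.{u}} [IsNoetherianRing A] (v : Spec A ⟶ Y) [IsOpenImmersion v]
    (u : Spec B ⟶ X) [IsOpenImmersion u] (φ₀ : A ⟶ B) (hu : u ≫ f = Spec.map φ₀ ≫ v)
    [Algebra A B] (halg : algebraMap A B = φ₀.hom) (n : ℕ)
    (F : MvPolynomial (Fin n) A →ₐ[A] B) (hF : Function.Surjective F)
    [DRing.HasLBaseChange (algebraMap A (MvPolynomial (Fin n) A))]
    {Rψ : Dual.D (MvPolynomial (Fin n) A) ⥤ Dual.D B} (adjψ : DRing.restrictD F.toRingHom ⊣ Rψ)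
    (K : (Dual3.IsBddBelowQ Y).FullSubcategory) (ω : Dual.D A)
    (eK : (lP v).obj K.obj.obj ≅ (DPerf.tildeDD A).obj ω) :
    Nonempty ((lP u).obj ((lP j).obj (a.obj K.obj).obj) ≅
      (DPerf.tildeDD B).obj (Dual2.shriekVia n Rψ ω)) := by
  let P := MvPolynomial (Fin n) A
  let φ : CommRingCat.of P ⟶ B := CommRingCat.ofHom F.toRingHom
  haveI : IsClosedImmersion (Spec.map φ) := IsClosedImmersion.spec_of_surjective _ hF
  haveI : IsNoetherianRing P := inferInstance
  haveI : IsNoetherianRing B := isNoetherianRing_of_surjective P B F.toRingHom hF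
  let p₀ := CohB1.ProjSpace.toSpec n A
  let jW := polyToProj A n
  let h : Spec (CommRingCat.of P) ⟶ Spec A := jW ≫ p₀
  have hs : h = polyStr A n := polyToProj_toSpec A n
  haveI : Smooth (polyStr A n) := (HasRingHomProperty.Spec_iff (P := @Smooth)).2
    (RingHom.smooth_algebraMap.2 ⟨inferInstance, inferInstance⟩)
  haveI : Smooth h := hs ▸ inferInstance
  haveI : IsNoetherian (Spec A) := inferInstance
  haveI : CompactSpace (CohB1.ProjSpace n A) := QuasiCompact.compactSpace_of_compactSpace p₀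
  haveI : IsLocallyNoetherian (CohB1.ProjSpace n A) := LocallyOfFiniteType.isLocallyNoetherian p₀
  haveI : IsNoetherian (CohB1.ProjSpace n A) := { }
  haveI : IsSeparated h := inferInstance
  haveI : QuasiCompact h := qc_of_qcqs h
  haveI := DBC9.hasRpush p₀
  let h₀ := rpushPreserves p₀
  haveI := isLeftAdjoint_rpushQ p₀ h₀
  let adj₀ := Adjunction.ofIsLeftAdjoint (DCoh.RpushQ p₀ h₀)
  let i : Spec B ⟶ Spec (CommRingCat.of P) := Spec.map φ
  haveI := DBC9.hasRpush i
  let hi := rpushPreserves i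
  haveI := isLeftAdjoint_rpushQ i hi
  let adji := Adjunction.ofIsLeftAdjoint (DCoh.RpushQ i hi)
  let k : Spec B ⟶ CohB1.ProjSpace n A := i ≫ jW
  haveI : QuasiCompact k := qc_of_qcqs k
  let p' : k.image ⟶ Spec A := k.imageι ≫ p₀
  haveI : CompactSpace k.image := QuasiCompact.compactSpace_of_compactSpace k.imageι
  haveI : QuasiSeparatedSpace k.image := quasiSeparatedSpace_of_quasiSeparated k.imageι
  haveI := DBC9.hasRpush p'
  let h' := rpushPreserves p'
  haveI := isLeftAdjoint_rpushQ p' h'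
  let adj' := Adjunction.ofIsLeftAdjoint (DCoh.RpushQ p' h')
  have hfac' : k.toImage ≫ p' = i ≫ h := by
    rw [← Category.assoc, Scheme.Hom.toImage_imageι]
    simp [k, h]
  have hih : i ≫ h = Spec.map φ₀ := by
    rw [hs, ← Spec.map_comp]
    congr 1
    ext t
    exact (F.commutes t).trans (RingHom.congr_fun halg t)
  have w : u ≫ j ≫ p = (k.toImage ≫ p') ≫ v := by
    rw [hfac, hfac', hih, hu]
  obtain ⟨m⟩ := nonempty_loc_iso adj v u adj' w
  obtain ⟨c⟩ := nonempty_shriek_comp (f := i) (g := h) (jf := 𝟙 _) (pf := i)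
    (Category.id_comp _) rfl hfac' adji adj₀ adj'
  let htd := hasFiniteTorDim_of_flat v
  obtain ⟨ps⟩ := nonempty_poly_shriek A n adj₀
  have hperf : MoreMor.IsPerfectMor h := (PCMor4.isPerfectMor_iff h).2 (PCMor4.pfMor_of_flat h)
  obtain ⟨psi⟩ := nonempty_shriek_psi h hperf p₀ jW rfl _ adj₀
  obtain ⟨s1⟩ := nonempty_tenL_one (-(n : ℤ)) _ ps
  haveI : PreservesFiniteLimits (tilde.functor (CommRingCat.of P)) := M1.tilde_preservesFiniteLimits
  let K' : (Dual3.IsBddBelowQ (Spec A)).FullSubcategory := (lqPlus v htd).obj K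
  let φA : A ⟶ CommRingCat.of P := CommRingCat.ofHom (algebraMap A P)
  haveI : DRing.HasLBaseChange φA.hom := ‹DRing.HasLBaseChange (algebraMap A (MvPolynomial (Fin n) A))›
  let L₀ : Dual.D P := (DRing.LBaseChange φA.hom).obj ω
  let L : Dual.D P := L₀⟦(n : ℤ)⟧
  let T := DPerf.tildeDD (CommRingCat.of P)
  let el : (lP h).obj K'.obj.obj ≅ T.obj L₀ :=
    (lP h).mapIso eK ≪≫ (eqToIso (by rw [hs]) : (lP h).obj _ ≅ (lP (polyStr A n)).obj _) ≪≫
      (DBC9.lPTildeIso φA).app ω
  let eq : (lq jW).obj ((DCoh.RpushQ p₀ h₀).rightAdjoint.obj ((lq v).obj K.obj)) ≅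
      (tQ (CommRingCat.of P)).obj L :=
    ObjectProperty.isoMk _ ((psi.app K').symm ≪≫ s1.app _ ≪≫ eqToIso (by rw [neg_neg]; rfl) ≪≫
      (shiftFunctor (DCoh.D _) (n : ℤ)).mapIso el ≪≫ ((T.commShiftIso (n : ℤ)).app L₀).symm)
  obtain ⟨t⟩ := nonempty_tQ_upper φ adji adjψ L
  letI := adjψ.rightAdjointCommShift ℤ
  exact ⟨m.app K ≪≫ c.app ((lqPlus v htd).obj K) ≪≫
    (DBC9.lPId _).app _ ≪≫ (ObjectProperty.ι _).mapIso ((DCoh.RpushQ i hi).rightAdjoint.mapIso eq ≪≫ t.symm) ≪≫
    (DPerf.tildeDD B).mapIso ((Rψ.commShiftIso (n : ℤ)).app L₀)⟩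

end Groth.Agent.BC8
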