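import Groth.Agent.Lib.BC8.DlzDim
import Groth.Agent.Lib.BC8.ViaSheafGen
import Groth.Agent.Lib.BC8.ViaNormalized
import Groth.Agent.Lib.BC8.DualShriek
import Groth.Agent.Lib.BC8.DlzShriek
import Groth.Agent.Lib.BC8.CohShriek
import Groth.Agent.S1782

/-! The dualizing complex of a proper scheme over a Noetherian local ring is normalized. -/

set_option autoImplicit false
set_option linter.style.haveILetI false
set_option linter.unusedSectionVars false
set_option backward.isDefEq.respectTransparency false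
set_option backward.isDefEq.respectTransparency.types false
set_option maxHeartbeats 1000000

universe u

open CategoryTheory CategoryTheory.Limits AlgebraicGeometry

attribute [local instance] HasDerivedCategory.standard

noncomputable section

namespace Groth.Agent.BC8

open DMon9

variable {A : CommRingCat.{u}} [IsLocalRing A] [IsNoetherianRing A] {ω : Dual.D A}
  (hω : Dual.IsDualizing A ω) (hn : Dual.IsNormalized A ω)
  {X : Scheme.{u}} (f : X ⟶ Spec A) [IsProper f] [DCoh.HasRpush f]
  {hf : DCoh.RpushPreservesQCoh f} {a : DCoh.DQCoh (Spec A) ⥤ DCoh.DQCoh X} (adj : DCoh.RpushQ f hf ⊣ a)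
  [∀ (U V : Scheme.{u}) (j : U ⟶ V) [IsOpenImmersion j], PreservesFiniteLimits (Scheme.Modules.restrictFunctor j)]
  [∀ (R : CommRingCat.{u}), PreservesFiniteLimits (tilde.functor R)]
  {W : DCoh.DQCoh (Spec A)} (eW : W.obj ≅ (DPerf.tildeDD A).obj ω)

include hω eW in
theorem isDualizingSch_source : Dual2.IsDualizingSch (Spec A) W.obj :=
  DlzSch27.isDualizingSch_of_cover fun x =>
    ⟨A, 𝟙 (Spec A), inferInstance, ⟨x, rfl⟩, ω, hω,
      ⟨((lPRes (𝟙 (Spec A))).app _).symm ≪≫ (DBC9.lPId _).app _ ≪≫ eW⟩⟩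

include hω eW in
theorem isBdd_source : Dual3.IsBddBelowQ (Spec A) W := exists_isGE_dualizing (isDualizingSch_source hω eW)

include hω eW adj in
theorem isDualizingSch_proper [IsLocallyNoetherian X] : Dual2.IsDualizingSch X (a.obj W).obj :=
  isDualizingSch_of_iso ((DBC9.lPId X).app _)
    (isDualizingSch_phiF f f (𝟙 X) (Category.id_comp f) a adj W (isDualizingSch_source hω eW)
      (isBdd_source hω eW))

include hn in
/-- Closed points have degree zero. -/
theorem dlt_eq_zero_of_isClosed [IsLocallyNoetherian X] (x : X) (hx : IsClosed ({x} : Set X)) :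
    dlt (isDualizingSch_proper hω f adj eW) x = 0 := by
  obtain ⟨U, hU, hxU, -⟩ := exists_isAffineOpen_mem_and_subset (X := X) (x := x) (U := ⊤) trivial
  let B := Γ(X, U)
  let u : Spec B ⟶ X := hU.fromSpec
  obtain ⟨φ₀, hφ₀⟩ := Spec.map_surjective (u ≫ f)
  letI : Algebra A B := φ₀.hom.toAlgebra
  haveI : LocallyOfFiniteType (Spec.map φ₀) := by rw [hφ₀]; infer_instance
  haveI : Algebra.FiniteType A B :=
    RingHom.finiteType_algebraMap.1 ((HasRingHomProperty.Spec_iff (P := @LocallyOfFiniteType)).1 ‹_›)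
  haveI : IsNoetherianRing B := Algebra.FiniteType.isNoetherianRing A B
  obtain ⟨m, F, hF⟩ := Algebra.FiniteType.iff_quotient_mvPolynomial''.1 (inferInstance : Algebra.FiniteType A B)
  haveI := DQC.hasLBaseChange (algebraMap A (MvPolynomial (Fin m) A))
  haveI := isLeftAdjoint_restrictD F.toRingHom
  let adjψ := Adjunction.ofIsLeftAdjoint (DRing.restrictD F.toRingHom)
  obtain ⟨v⟩ := nonempty_via_sheaf_gen f f (𝟙 X) (Category.id_comp f) adj (𝟙 (Spec A)) u φ₀
    (by rw [hφ₀, Category.comp_id]) rfl m F hF adjψ ⟨W, isBdd_source hω eW⟩ ω ((DBC9.lPId _).app _ ≪≫ eW)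
  have hd : Dual.IsDualizing B (Dual2.shriekVia m (DRing.restrictD F.toRingHom).rightAdjoint ω) :=
    S1782.result A B m F hF _ adjψ ω hω
  let C : DlzChart (a.obj W).obj := ⟨B, u, inferInstance, _, inferInstance, hd, Dlz27.model hd,
    ⟨((lPRes u).app _).symm ≪≫ (lP u).mapIso ((DBC9.lPId X).app _).symm ≪≫ v⟩⟩
  let q : PrimeSpectrum B := hU.primeIdealOf ⟨x, hxU⟩
  have hq : u q = x := hU.fromSpec_primeIdealOf ⟨x, hxU⟩
  haveI hqm : q.asIdeal.IsMaximal := (PrimeSpectrum.isClosed_singleton_iff_isMaximal q).1 (by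
    have h := hx.preimage u.continuous
    rw [← hq, ← Set.image_singleton, Set.preimage_image_eq _ u.isOpenEmbedding.injective] at h
    exact h)
  have hcl : q.asIdeal.comap (algebraMap A B) = IsLocalRing.maximalIdeal A := by
    have h : IsClosed (f '' {x}) := f.isClosedMap _ hx
    rw [Set.image_singleton, ← hq, ← Scheme.Hom.comp_apply, ← hφ₀] at h
    exact IsLocalRing.eq_maximalIdeal ((PrimeSpectrum.isClosed_singleton_iff_isMaximal
      (PrimeSpectrum.comap φ₀.hom q)).1 h)
  show _ = (0 : ℤ)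
  rw [← hq, show u q = C.j q from rfl, dlt_eq _ C]
  by_contra hne
  refine (Dlz27.vanS_iff_ne_deg C.dualizing C.M q _).1 ((Dlz27.vanS_iff_hom C.M q.asIdeal.primeCompl
    (B ⧸ q.asIdeal) _).2 fun g => ⟨1, ?_⟩) rfl
  haveI := subsingleton_hom_via_maximal m F hF adjψ hω hn q.asIdeal hcl (C.deg q) hne
  exact Subsingleton.elim _ _

end Groth.Agent.BC8
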