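import Groth.Agent.Lib.BC8.SuppMV
import Groth.Agent.Lib.RelPCS8.Noeth
import Groth.Agent.Lib.DPerf.Noeth

/-! Proper morphisms to Noetherian schemes have pseudo-coherent direct images of perfect objects. -/

set_option autoImplicit false
set_option linter.style.haveILetI false

universe u

open CategoryTheory CategoryTheory.Limits AlgebraicGeometry

attribute [local instance] HasDerivedCategory.standard

namespace Groth.Agent.BC8

theorem pc_rpush_perfect {X Y : Scheme.{u}} [IsNoetherian Y] (f : X ⟶ Y) [IsProper f] [DCoh.HasRpush f]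
    {E : DCoh.D X} (hE : DCoh.IsPerfect E) (m : ℤ) : DCoh.IsPseudoCoherentD m ((DCoh.Rpush f).obj E) := by
  haveI : IsLocallyNoetherian X := LocallyOfFiniteType.isLocallyNoetherian f
  haveI : CompactSpace X := QuasiCompact.compactSpace_of_compactSpace f
  obtain ⟨a, ha⟩ := DPerf.exists_isGE_of_perfect hE
  haveI := ha
  have hm : ∀ m : ℤ, DCoh.IsPseudoCoherentD m E := fun m =>
    DPerf.isPseudoCoherentD_of_approx ((DPerf.isPerfect_iff_approx.1 hE).mono_set (Set.subset_univ _))
  have hq : DCoh.IsQCohD E := fun i => DPerf.isQCoh_HD (hm (i - 1)) (by omega)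
  exact RelPCS8.Noeth.pc_rpush f E a (fun i => DPerf.isCoh_HD_of_pseudoCoherent (hm i) (hq i) le_rfl) hm m

theorem qp_proper {X Y : Scheme.{u}} [IsNoetherian Y] (f : X ⟶ Y) [IsProper f] [DCoh.HasRpush f] : QP f :=
  fun R₀ h => ⟨R₀, CategoryStruct.id _, CategoryStruct.id _, h, Category.id_comp _, fun m => pc_rpush_perfect f h m⟩

end Groth.Agent.BC8
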