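import Groth.Agent.Lib.BC8.BetaFinal
import Groth.Agent.Lib.BC8.QPProper
import Groth.Agent.Lib.DMV.Derived

/-!
The twisted inverse image of an open immersion is restriction.
-/

set_option autoImplicit false
set_option linter.unusedSectionVars false
set_option linter.style.haveILetI false
set_option backward.isDefEq.respectTransparency false
set_option backward.isDefEq.respectTransparency.types false
set_option maxHeartbeats 800000

universe u

open CategoryTheory CategoryTheory.Limits AlgebraicGeometry Pretriangulated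

attribute [local instance] HasDerivedCategory.standard

namespace Groth.Agent.BC8

open DMon9

/-- Direct images along equal morphisms. -/
noncomputable def rpushEq {A B : Scheme.{u}} {f g : A ⟶ B} (h : f = g) [DCoh.HasRpush f] [DCoh.HasRpush g] :
    DCoh.Rpush f ≅ DCoh.Rpush g :=
  eqToIso (by subst h; rfl)

section Natural

variable {X Y X' Y' : Scheme.{u}} {f : X ⟶ Y} {g : Y' ⟶ Y} {f' : X' ⟶ Y'} {g' : X' ⟶ X}
  [DCoh.HasRpush f] [DCoh.HasRpush f'] {hf : DCoh.RpushPreservesQCoh f} {hf' : DCoh.RpushPreservesQCoh f'}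
  {a : DCoh.DQCoh Y ⥤ DCoh.DQCoh X} {a' : DCoh.DQCoh Y' ⥤ DCoh.DQCoh X'}
  (adj : DCoh.RpushQ f hf ⊣ a) (adj' : DCoh.RpushQ f' hf' ⊣ a') (σ : lP g ⋙ lP f' ≅ lP f ⋙ lP g')
  (hσ : ∀ E, IsIso ((DBC9.bc (adjq f hf) (adjq f' hf') (sigQ σ).hom).app E))

theorem beta₀_natural {K K' : DCoh.DQCoh Y} (v : K ⟶ K') :
    (lq g').map (a.map v) ≫ beta₀ adj adj' σ hσ K' = beta₀ adj adj' σ hσ K ≫ a'.map ((lq g).map v) := by
  haveI := hσ (a.obj K)
  haveI := hσ (a.obj K')
  rw [beta₀, beta₀, ← adj'.homEquiv_naturality_left, ← adj'.homEquiv_naturality_right]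
  congr 1
  rw [Category.assoc, IsIso.eq_inv_comp, ← Functor.map_comp,
    show adj.counit.app K ≫ v = (DCoh.RpushQ f hf).map (a.map v) ≫ adj.counit.app K' from
      (adj.counit.naturality v).symm, Functor.map_comp]
  have hn := (DBC9.bc (adjq f hf) (adjq f' hf') (sigQ σ).hom).naturality (a.map v)
  dsimp at hn ⊢
  rw [← reassoc_of% hn, IsIso.hom_inv_id_assoc]

end Natural

/-- Direct images vanish off the image. -/
theorem isZero_res_rpush_disjoint {A W : Scheme.{u}} (f : A ⟶ W) [DCoh.HasRpush f] (V : W.Opens)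
    (hV : f ⁻¹ᵁ V = ⊥) (E : DCoh.D A) : IsZero ((DPerf.resD V.ι).obj ((DCoh.Rpush f).obj E)) := by
  haveI := DBC9.hasRpush (f ∣_ V)
  obtain ⟨c⟩ := DMV.nonempty_restrictD_rpush f V
  haveI : IsEmpty (f ⁻¹ᵁ V : Scheme.{u}) := by rw [hV]; exact ⟨fun x => x.2⟩
  obtain ⟨_, _⟩ := DPush.exists_commShift_isTriangulated (f ∣_ V)
  refine IsZero.of_iso ((DCoh.Rpush (f ∣_ V)).map_isZero ?_) (c.app E)
  exact DPush.isZero_of_isZero_HD _ fun i => DPerf.isZero_of_stalks fun x => isEmptyElim x

/-- An open immersion into a Noetherian scheme is quasi-compact. -/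
theorem qc_of_noeth {U Y : Scheme.{u}} [IsNoetherian Y] (f : U ⟶ Y) [IsOpenImmersion f] : QuasiCompact f :=
  ⟨fun V _ _ => f.isOpenEmbedding.isInducing.isCompact_iff.2
    (TopologicalSpace.NoetherianSpace.isCompact (f '' (f ⁻¹' V)))⟩

/-- A section composed with its retraction. -/
noncomputable def rpushSection {U W : Scheme.{u}} (s : U ⟶ W) (p : W ⟶ U) (h : s ≫ p = 𝟙 U) [DCoh.HasRpush s]
    [DCoh.HasRpush p] : DCoh.Rpush s ⋙ DCoh.Rpush p ≅ 𝟭 (DCoh.D U) :=
  haveI := DBC9.hasRpush (s ≫ p)
  haveI := DBC9.hasRpush (𝟙 U)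
  DPush.compIso s p ≪≫ rpushEq h ≪≫ DBC9.rpushId U

variable {X W : Scheme.{u}} (s : X ⟶ W) [IsOpenImmersion s] [DCoh.HasRpush s] [QuasiCompact s]
  (hs : DCoh.RpushPreservesQCoh s) (hcl : IsClosed (Set.range s))

include hcl in
/-- For an open and closed immersion direct image is also left adjoint to restriction. -/
theorem bijective_res_clopen (A : DCoh.D X) (B : DCoh.D W) :
    Function.Bijective fun φ : (DCoh.Rpush s).obj A ⟶ B => φ ≫ (adjLP s).unit.app B := by
  haveI := DBC9.isIso_counit_openImmersion s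
  let η := (adjLP s).unit.app B
  obtain ⟨Z, g, h, hT⟩ := distinguished_cocone_triangle η
  let t : W.Opens := ⟨(Set.range s)ᶜ, hcl.isOpen_compl⟩
  haveI hη : IsIso ((DPerf.resD s).map η) := by
    refine (NatIso.isIso_map_iff (lPRes s) η).1 ?_
    haveI : IsIso ((lP s).map η ≫ (adjLP s).counit.app ((lP s).obj B)) := by
      rw [show (lP s).map η ≫ (adjLP s).counit.app ((lP s).obj B) = 𝟙 _ from (adjLP s).left_triangle_components B]
      infer_instance
    exact IsIso.of_isIso_comp_right _ ((adjLP s).counit.app ((lP s).obj B))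
  have hz : IsZero ((DPerf.resD s).obj Z) :=
    (Triangle.isZero₃_iff_isIso₁ _ ((DPerf.resD s).map_distinguished _ hT)).2 hη
  haveI := DBC9.hasRpush t.ι
  have key : ∀ C : DCoh.D W, IsZero ((DPerf.resD s).obj C) → ∀ φ : (DCoh.Rpush s).obj A ⟶ C, φ = 0 := by
    intro C hC φ
    let ηt := (adjLP t.ι).unit.app C
    haveI : IsIso ηt := by
      refine RHom.isIso_of_cover _ fun x => ?_
      by_cases hx : x ∈ Set.range s
      · refine ⟨s.opensRange, hx, ?_⟩
        refine IsZero.isIso ?_ (isZero_res_rpush_disjoint t.ι s.opensRange ?_ _) _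
        · exact DGen9.isZero_resD_of_suppOn _ (DGen9.suppOn_of_isZero_resD s hC) fun u => not_not.2 u.2
        · ext u
          exact iff_of_false (fun hu => u.2 hu) id
      · refine ⟨t, hx, (NatIso.isIso_map_iff (lPRes t.ι) ηt).1 ?_⟩
        haveI := DBC9.isIso_counit_openImmersion t.ι
        haveI : IsIso ((lP t.ι).map ηt ≫ (adjLP t.ι).counit.app ((lP t.ι).obj C)) := by
          rw [show (lP t.ι).map ηt ≫ (adjLP t.ι).counit.app ((lP t.ι).obj C) = 𝟙 _ from
            (adjLP t.ι).left_triangle_components C]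
          infer_instance
        exact IsIso.of_isIso_comp_right _ ((adjLP t.ι).counit.app ((lP t.ι).obj C))
    refine (cancel_mono ηt).1 (((adjLP t.ι).homEquiv _ _).symm.injective ?_)
    refine (((lPRes t.ι).app _).isZero_iff.2 (isZero_res_rpush_disjoint s t ?_ A)).eq_of_src _ _
    ext u
    exact iff_of_false (fun hu => hu ⟨u, rfl⟩) id
  refine ⟨fun φ φ' hφ => sub_eq_zero.1 ?_, fun y => ?_⟩
  · obtain ⟨v, hv⟩ := Triangle.coyoneda_exact₂ _ (inv_rot_of_distTriang _ hT) (φ - φ')
      (show (φ - φ') ≫ η = 0 by rw [Preadditive.sub_comp, sub_eq_zero]; exact hφ)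
    have hz' : IsZero ((DPerf.resD s).obj (Z⟦(-1 : ℤ)⟧)) :=
      ((shiftFunctor _ (-1 : ℤ)).map_isZero hz).of_iso (((DPerf.resD s).commShiftIso (-1 : ℤ)).app Z)
    rw [hv, key _ hz' v, zero_comp]
  · obtain ⟨v, hv⟩ := Triangle.coyoneda_exact₂ _ hT y (show y ≫ g = 0 from key _ hz _)
    exact ⟨v, hv.symm⟩

/-- The adjunction for an open and closed immersion. -/
noncomputable def adjClopen : DCoh.RpushQ s hs ⊣ lq s :=
  haveI := DBC9.isIso_counit_openImmersion s
  Adjunction.mkOfHomEquiv
    { homEquiv := fun A B =>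
        { toFun := fun φ => ObjectProperty.homMk
            (inv ((adjLP s).counit.app A.obj) ≫ (lP s).map φ.hom)
          invFun := fun ψ => ObjectProperty.homMk
            ((Equiv.ofBijective _ (bijective_res_clopen s hcl A.obj B.obj)).symm ((DCoh.Rpush s).map ψ.hom))
          left_inv := fun φ => ObjectProperty.hom_ext _ (by
            apply (bijective_res_clopen s hcl A.obj B.obj).1
            refine (Equiv.ofBijective _ (bijective_res_clopen s hcl A.obj B.obj)).apply_symm_apply _ |>.trans ?_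
            refine Eq.symm (((adjLP s).unit.naturality φ.hom).trans ?_)
            show (adjLP s).unit.app _ ≫ (DCoh.Rpush s).map ((lP s).map φ.hom) =
              (DCoh.Rpush s).map (inv ((adjLP s).counit.app A.obj) ≫ (lP s).map φ.hom)
            rw [Functor.map_comp, Functor.map_inv]
            congr 1
            refine (cancel_mono ((DCoh.Rpush s).map ((adjLP s).counit.app A.obj))).1 ?_
            rw [IsIso.inv_hom_id]
            exact (adjLP s).right_triangle_components A.obj)
          right_inv := fun ψ => ObjectProperty.hom_ext _ (by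
            show inv ((adjLP s).counit.app A.obj) ≫ (lP s).map
              ((Equiv.ofBijective _ (bijective_res_clopen s hcl A.obj B.obj)).symm ((DCoh.Rpush s).map ψ.hom)) = ψ.hom
            refine (IsIso.inv_comp_eq _).2 ?_
            apply ((adjLP s).homEquiv _ _).injective
            rw [Adjunction.homEquiv_unit, Adjunction.homEquiv_unit, Functor.map_comp,
              ← Category.assoc ((adjLP s).unit.app _), (adjLP s).right_triangle_components]
            refine Eq.trans ((adjLP s).unit.naturality _).symm (Eq.trans ?_ (Category.id_comp _).symm)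
            exact (Equiv.ofBijective _ (bijective_res_clopen s hcl A.obj B.obj)).apply_symm_apply _) }
      homEquiv_naturality_left_symm := fun {A A' B} v ψ => ObjectProperty.hom_ext _ (by
        apply (bijective_res_clopen s hcl A.obj B.obj).1
        refine ((Equiv.ofBijective _ (bijective_res_clopen s hcl A.obj B.obj)).apply_symm_apply _).trans ?_
        refine Eq.trans ?_ (Category.assoc _ _ _).symm
        refine Eq.trans ((DCoh.Rpush s).map_comp _ _) (congrArg ((DCoh.Rpush s).map v.hom ≫ ·) ?_)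
        exact ((Equiv.ofBijective _ (bijective_res_clopen s hcl A'.obj B.obj)).apply_symm_apply _).symm)
      homEquiv_naturality_right := fun {A B B'} φ v => ObjectProperty.hom_ext _ (by
        show inv ((adjLP s).counit.app A.obj) ≫ (lP s).map (φ.hom ≫ v.hom) =
          (inv ((adjLP s).counit.app A.obj) ≫ (lP s).map φ.hom) ≫ (lP s).map v.hom
        rw [Functor.map_comp, Category.assoc]) }

section Shriek

variable {U Y Xb : Scheme.{u}} [IsNoetherian Y] (f : U ⟶ Y) [IsOpenImmersion f] (p : Xb ⟶ Y) [IsProper p]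
  (j : U ⟶ Xb) [IsOpenImmersion j] (hfac : j ≫ p = f) [DCoh.HasRpush p] {hp : DCoh.RpushPreservesQCoh p}
  {a : DCoh.DQCoh Y ⥤ DCoh.DQCoh Xb} (adj : DCoh.RpushQ p hp ⊣ a)

include hfac adj in
/-- `a(K)|_U ≅ K|_U` on bounded below objects. -/
theorem nonempty_shriek_open :
    Nonempty (Dual3.bddι Y ⋙ a ⋙ ObjectProperty.ι _ ⋙ lP j ≅ Dual3.bddι Y ⋙ ObjectProperty.ι _ ⋙ lP f) := by
  haveI : CompactSpace Xb := QuasiCompact.compactSpace_of_compactSpace p
  haveI : QuasiSeparatedSpace Xb := quasiSeparatedSpace_of_quasiSeparated p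
  haveI : IsLocallyNoetherian U := LocallyOfFiniteType.isLocallyNoetherian f
  haveI : QuasiCompact f := qc_of_noeth f
  haveI : CompactSpace U := QuasiCompact.compactSpace_of_compactSpace f
  haveI : QuasiSeparatedSpace U := quasiSeparatedSpace_of_quasiSeparated f
  let W := pullback p f
  let π : W ⟶ Xb := pullback.fst p f
  let pW : W ⟶ U := pullback.snd p f
  have hsq : IsPullback π pW p f := IsPullback.of_hasPullback p f
  let s : U ⟶ W := pullback.lift j (𝟙 U) (by rw [hfac, Category.id_comp])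
  have hs1 : s ≫ π = j := pullback.lift_fst _ _ _
  have hs2 : s ≫ pW = 𝟙 U := pullback.lift_snd _ _ _
  haveI : IsOpenImmersion (s ≫ π) := hs1 ▸ inferInstance
  haveI : IsOpenImmersion s := IsOpenImmersion.of_comp s π
  haveI : IsClosedImmersion (s ≫ pW) := hs2 ▸ inferInstance
  haveI : IsClosedImmersion s := IsClosedImmersion.of_comp s pW
  haveI : CompactSpace W := QuasiCompact.compactSpace_of_compactSpace pW
  haveI : QuasiSeparatedSpace W := quasiSeparatedSpace_of_quasiSeparated pW
  haveI := qc_of_qcqs π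
  haveI := qc_of_qcqs s
  haveI := DBC9.hasRpush π
  haveI := DBC9.hasRpush pW
  haveI := DBC9.hasRpush s
  haveI := DBC9.hasRpush f
  let hW := rpushPreserves pW
  let hs := rpushPreserves s
  haveI := isLeftAdjoint_rpushQ pW hW
  let adjW := Adjunction.ofIsLeftAdjoint (DCoh.RpushQ pW hW)
  obtain ⟨σ, hσm⟩ := exists_mult_sq hsq.w.symm
  have hgood := good_of_flat hsq (Or.inr inferInstance)
  have hσ := isIso_bc_sigQ (hf := hp) (hf' := hW) hgood σ
  have hQP := qp_proper p
  have hβ : ∀ K : (Dual3.IsBddBelowQ Y).FullSubcategory, IsIso (beta₀ adj adjW σ hσ K.obj) := fun K => by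
    obtain ⟨c, hc⟩ := K.property
    haveI := hc
    exact isIso_beta₀_open adj adjW hQP hsq σ hσ K.obj c
  let nβ : Dual3.bddι Y ⋙ lq f ⋙ (DCoh.RpushQ pW hW).rightAdjoint ≅ Dual3.bddι Y ⋙ a ⋙ lq π :=
    (NatIso.ofComponents (fun K => haveI := hβ K; asIso (beta₀ adj adjW σ hσ K.obj))
      (fun {K K'} v => beta₀_natural adj adjW σ hσ ((Dual3.bddι Y).map v))).symm
  let comp' : DCoh.RpushQ s hs ⋙ DCoh.RpushQ pW hW ≅ 𝟭 _ :=
    NatIso.ofComponents (fun A => ObjectProperty.isoMk _ ((rpushSection s pW hs2).app A.obj))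
      (fun v => ObjectProperty.hom_ext _ ((rpushSection s pW hs2).hom.naturality v.hom))
  let w : (DCoh.RpushQ pW hW).rightAdjoint ⋙ lq s ≅ 𝟭 _ :=
    Adjunction.rightAdjointUniq (((adjClopen s hs (s.isClosedEmbedding.isClosed_range)).comp adjW).ofNatIsoLeft comp')
      Adjunction.id
  exact ⟨(Functor.isoWhiskerLeft (Dual3.bddι Y ⋙ a ⋙ ObjectProperty.ι _) (lPComp s π hs1)).symm ≪≫
    Functor.isoWhiskerRight nβ.symm (lq s ⋙ ObjectProperty.ι _) ≪≫
    Functor.isoWhiskerLeft (Dual3.bddι Y ⋙ lq f) (Functor.isoWhiskerRight w (ObjectProperty.ι _))⟩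

end Shriek

end Groth.Agent.BC8
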