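import Groth.Agent.Lib.BC8.OpenShriek

/-!
The twisted inverse image through compactifications: independence.
-/

set_option autoImplicit false
set_option linter.unusedSectionVars false
set_option linter.style.haveILetI false
set_option backward.isDefEq.respectTransparency false
set_option backward.isDefEq.respectTransparency.types false
set_option maxHeartbeats 800000

universe u

open CategoryTheory CategoryTheory.Limits AlgebraicGeometry Pretriangulated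

attribute [local instance] HasDerivedCategory.standard

namespace Groth.Agent.BC8

open DMon9

variable {X Y : Scheme.{u}}

section Bdd

variable {f : X ⟶ Y} [DCoh.HasRpush f] {hf : DCoh.RpushPreservesQCoh f} [CompactSpace Y] [QuasiCompact f]
  [QuasiSeparated f] {a : DCoh.DQCoh Y ⥤ DCoh.DQCoh X} (adj : DCoh.RpushQ f hf ⊣ a)

include adj in
/-- The right adjoint of `Rf_*` preserves bounded below objects, with a uniform shift. -/
theorem exists_isGE_a :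
    ∃ N : ℕ, ∀ (K : DCoh.DQCoh Y) (c : ℤ), K.obj.IsGE c → (a.obj K).obj.IsGE (c - N) := by
  obtain ⟨N, hN⟩ := exists_rpush_bound f
  refine ⟨N, fun K c hc => ?_⟩
  let t : Triangulated.TStructure (DCoh.D X) := DerivedCategory.TStructure.t
  let L : DCoh.DQCoh X := ⟨(t.truncLT (c - N)).obj (a.obj K).obj, DMV.isQCohD_truncLT _ (a.obj K).property _⟩
  haveI : DerivedCategory.IsLE L.obj (c - N - 1) := t.isLE_truncLT_obj _ _ _ (by omega)
  haveI : (DerivedCategory.TStructure.t : Triangulated.TStructure (DCoh.D Y)).IsLE ((DCoh.Rpush f).obj L.obj) (c - 1) :=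
    isLE_mono (hN L.obj L.property (c - N - 1) inferInstance) (by omega)
  haveI : (DerivedCategory.TStructure.t : Triangulated.TStructure (DCoh.D Y)).IsGE K.obj c := hc
  let ι : L ⟶ a.obj K := ObjectProperty.homMk ((t.truncLTι (c - N)).app (a.obj K).obj)
  have hsub : Subsingleton (L ⟶ a.obj K) := by
    haveI : (DerivedCategory.TStructure.t : Triangulated.TStructure (DCoh.D Y)).IsLE ((DCoh.RpushQ f hf).obj L).obj
      (c - 1) := inferInstanceAs ((DerivedCategory.TStructure.t : Triangulated.TStructure (DCoh.D Y)).IsLE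
        ((DCoh.Rpush f).obj L.obj) (c - 1))
    haveI : Subsingleton ((DCoh.RpushQ f hf).obj L ⟶ K) := ⟨fun x y => ObjectProperty.hom_ext _ (sub_eq_zero.1
      ((DerivedCategory.TStructure.t : Triangulated.TStructure (DCoh.D Y)).zero (x.hom - y.hom) (c - 1) c (by omega)))⟩
    exact (adj.homEquiv L K).symm.subsingleton
  have h0 : (t.truncLTι (c - N)).app (a.obj K).obj = 0 :=
    congrArg (fun u => u.hom) (hsub.elim ι (ObjectProperty.homMk 0))
  have hz : IsZero L.obj := (IsZero.iff_id_eq_zero _).2 (t.to_truncLT_obj_ext (by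
    show 𝟙 L.obj ≫ (t.truncLTι (c - N)).app (a.obj K).obj = 0 ≫ (t.truncLTι (c - N)).app (a.obj K).obj
    rw [h0, comp_zero, comp_zero]))
  exact (DerivedCategory.isGE_iff _ _).2 fun i hi => by
    haveI := DerTrunc.isIso_homology_truncLTι (a.obj K).obj (c - N) i hi
    exact ((DerivedCategory.homologyFunctor _ i).map_isZero hz).of_iso
      (asIso ((DerivedCategory.homologyFunctor _ i).map ((t.truncLTι (c - N)).app (a.obj K).obj))).symm

include adj in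
theorem isBdd_a (K : (Dual3.IsBddBelowQ Y).FullSubcategory) : Dual3.IsBddBelowQ X (a.obj K.obj) := by
  obtain ⟨c, hc⟩ := K.property
  obtain ⟨N, hN⟩ := exists_isGE_a adj
  exact ⟨c - N, hN K.obj c hc⟩

/-- The right adjoint on bounded below objects. -/
noncomputable def aPlus : (Dual3.IsBddBelowQ Y).FullSubcategory ⥤ (Dual3.IsBddBelowQ X).FullSubcategory :=
  ObjectProperty.lift _ (Dual3.bddι Y ⋙ a) (isBdd_a adj)

end Bdd

section Comp

variable {W : Scheme.{u}} {π : X ⟶ W} {p : W ⟶ Y} {r : X ⟶ Y} [DCoh.HasRpush π] [DCoh.HasRpush p] [DCoh.HasRpush r]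
  {hπ : DCoh.RpushPreservesQCoh π} {hp : DCoh.RpushPreservesQCoh p} {hr : DCoh.RpushPreservesQCoh r}
  {aπ : DCoh.DQCoh W ⥤ DCoh.DQCoh X} {ap : DCoh.DQCoh Y ⥤ DCoh.DQCoh W} {ar : DCoh.DQCoh Y ⥤ DCoh.DQCoh X}

/-- Direct images compose on `D_QCoh`. -/
noncomputable def compQ (h : π ≫ p = r) (hπ : DCoh.RpushPreservesQCoh π) (hp : DCoh.RpushPreservesQCoh p)
    (hr : DCoh.RpushPreservesQCoh r) : DCoh.RpushQ π hπ ⋙ DCoh.RpushQ p hp ≅ DCoh.RpushQ r hr :=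
  haveI := DBC9.hasRpush (π ≫ p)
  NatIso.ofComponents (fun A => ObjectProperty.isoMk _ ((DPush.compIso π p ≪≫ rpushEq h).app A.obj))
    (fun v => ObjectProperty.hom_ext _ ((DPush.compIso π p ≪≫ rpushEq h).hom.naturality v.hom))

/-- Right adjoints of composite direct images. -/
noncomputable def compA (adjπ : DCoh.RpushQ π hπ ⊣ aπ) (adjp : DCoh.RpushQ p hp ⊣ ap) (adjr : DCoh.RpushQ r hr ⊣ ar)
    (h : π ≫ p = r) : ap ⋙ aπ ≅ ar :=
  Adjunction.rightAdjointUniq ((adjπ.comp adjp).ofNatIsoLeft (compQ h hπ hp hr)) adjr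

end Comp

section Indep

variable {U Xb X₃ : Scheme.{u}} [IsNoetherian Y] {p₁ : Xb ⟶ Y} [IsProper p₁] {p₃ : X₃ ⟶ Y}
  {j₁ : U ⟶ Xb} [IsOpenImmersion j₁] {j₃ : U ⟶ X₃} [IsOpenImmersion j₃]
  [DCoh.HasRpush p₁] [DCoh.HasRpush p₃] {h₁ : DCoh.RpushPreservesQCoh p₁} {h₃ : DCoh.RpushPreservesQCoh p₃}
  {a₁ : DCoh.DQCoh Y ⥤ DCoh.DQCoh Xb} {a₃ : DCoh.DQCoh Y ⥤ DCoh.DQCoh X₃}

/-- Refining a compactification does not change the twisted inverse image. -/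
theorem nonempty_shriek_refine (adj₁ : DCoh.RpushQ p₁ h₁ ⊣ a₁) (adj₃ : DCoh.RpushQ p₃ h₃ ⊣ a₃) (π : X₃ ⟶ Xb)
    [IsProper π] (hπ : π ≫ p₁ = p₃) (hj : j₃ ≫ π = j₁) :
    Nonempty (Dual3.bddι Y ⋙ a₃ ⋙ ObjectProperty.ι _ ⋙ lP j₃ ≅ Dual3.bddι Y ⋙ a₁ ⋙ ObjectProperty.ι _ ⋙ lP j₁) := by
  haveI : IsLocallyNoetherian Xb := LocallyOfFiniteType.isLocallyNoetherian p₁
  haveI : CompactSpace Xb := QuasiCompact.compactSpace_of_compactSpace p₁
  haveI : IsNoetherian Xb := { }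
  haveI : CompactSpace X₃ := QuasiCompact.compactSpace_of_compactSpace π
  haveI : QuasiSeparatedSpace X₃ := quasiSeparatedSpace_of_quasiSeparated π
  haveI := DBC9.hasRpush π
  let hp := rpushPreserves π
  haveI := isLeftAdjoint_rpushQ π hp
  let adjπ := Adjunction.ofIsLeftAdjoint (DCoh.RpushQ π hp)
  obtain ⟨n⟩ := nonempty_shriek_open j₁ π j₃ hj adjπ
  exact ⟨(Functor.isoWhiskerLeft (Dual3.bddι Y)
      (Functor.isoWhiskerRight (compA adjπ adj₁ adj₃ hπ) (ObjectProperty.ι _ ⋙ lP j₃))).symm ≪≫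
    Functor.isoWhiskerLeft (aPlus adj₁) n⟩

end Indep

/-- Two compactifications are dominated by a third one. -/
theorem exists_dominating {U Y X₁ X₂ : Scheme.{u}} [IsNoetherian Y] (p₁ : X₁ ⟶ Y) [IsProper p₁] (p₂ : X₂ ⟶ Y)
    [IsProper p₂] (j₁ : U ⟶ X₁) [IsOpenImmersion j₁] (j₂ : U ⟶ X₂) (h : j₁ ≫ p₁ = j₂ ≫ p₂) :
    ∃ (X₃ : Scheme.{u}) (j₃ : U ⟶ X₃) (_ : IsOpenImmersion j₃) (π₁ : X₃ ⟶ X₁) (π₂ : X₃ ⟶ X₂)
      (_ : IsProper π₁) (_ : IsProper π₂), j₃ ≫ π₁ = j₁ ∧ j₃ ≫ π₂ = j₂ ∧ π₁ ≫ p₁ = π₂ ≫ p₂ := by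
  haveI : IsLocallyNoetherian X₁ := LocallyOfFiniteType.isLocallyNoetherian p₁
  haveI : CompactSpace X₁ := QuasiCompact.compactSpace_of_compactSpace p₁
  haveI : IsNoetherian X₁ := { }
  let P := pullback p₁ p₂
  let k : U ⟶ P := pullback.lift j₁ j₂ h
  have hk1 : k ≫ pullback.fst p₁ p₂ = j₁ := pullback.lift_fst _ _ _
  have hk2 : k ≫ pullback.snd p₁ p₂ = j₂ := pullback.lift_snd _ _ _
  haveI : IsImmersion (k ≫ pullback.fst p₁ p₂) := hk1 ▸ inferInstance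
  haveI : IsImmersion k := IsImmersion.of_comp k (pullback.fst p₁ p₂)
  haveI : QuasiCompact (k ≫ pullback.fst p₁ p₂) := hk1 ▸ qc_of_noeth j₁
  haveI : QuasiCompact k := QuasiCompact.of_comp k (pullback.fst p₁ p₂)
  refine ⟨k.image, k.toImage, inferInstance, k.imageι ≫ pullback.fst p₁ p₂, k.imageι ≫ pullback.snd p₁ p₂,
    inferInstance, inferInstance, ?_, ?_, ?_⟩
  · rw [← Category.assoc, Scheme.Hom.toImage_imageι, hk1]
  · rw [← Category.assoc, Scheme.Hom.toImage_imageι, hk2]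
  · rw [Category.assoc, Category.assoc, pullback.condition]

/-- The twisted inverse image does not depend on the compactification. -/
theorem nonempty_shriek_indep {U Y X₁ X₂ : Scheme.{u}} [IsNoetherian Y] {p₁ : X₁ ⟶ Y} [IsProper p₁] {p₂ : X₂ ⟶ Y}
    [IsProper p₂] {j₁ : U ⟶ X₁} [IsOpenImmersion j₁] {j₂ : U ⟶ X₂} [IsOpenImmersion j₂]
    (h : j₁ ≫ p₁ = j₂ ≫ p₂) [DCoh.HasRpush p₁] [DCoh.HasRpush p₂] {h₁ : DCoh.RpushPreservesQCoh p₁}
    {h₂ : DCoh.RpushPreservesQCoh p₂} {a₁ : DCoh.DQCoh Y ⥤ DCoh.DQCoh X₁} {a₂ : DCoh.DQCoh Y ⥤ DCoh.DQCoh X₂}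
    (adj₁ : DCoh.RpushQ p₁ h₁ ⊣ a₁) (adj₂ : DCoh.RpushQ p₂ h₂ ⊣ a₂) :
    Nonempty (Dual3.bddι Y ⋙ a₁ ⋙ ObjectProperty.ι _ ⋙ lP j₁ ≅ Dual3.bddι Y ⋙ a₂ ⋙ ObjectProperty.ι _ ⋙ lP j₂) := by
  obtain ⟨X₃, j₃, _, π₁, π₂, _, _, e₁, e₂, e⟩ := exists_dominating p₁ p₂ j₁ j₂ h
  haveI : CompactSpace X₃ := QuasiCompact.compactSpace_of_compactSpace (π₁ ≫ p₁)
  haveI : QuasiSeparatedSpace X₃ := quasiSeparatedSpace_of_quasiSeparated (π₁ ≫ p₁)
  haveI := DBC9.hasRpush (π₁ ≫ p₁)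
  let h₃ := rpushPreserves (π₁ ≫ p₁)
  haveI := isLeftAdjoint_rpushQ (π₁ ≫ p₁) h₃
  let adj₃ := Adjunction.ofIsLeftAdjoint (DCoh.RpushQ (π₁ ≫ p₁) h₃)
  obtain ⟨n₁⟩ := nonempty_shriek_refine adj₁ adj₃ π₁ rfl e₁
  obtain ⟨n₂⟩ := nonempty_shriek_refine adj₂ adj₃ π₂ e.symm e₂
  exact ⟨n₁.symm ≪≫ n₂⟩

end Groth.Agent.BC8
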