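import Groth.Agent.Lib.BC8.TopDualRel
import Groth.Agent.Lib.SheafVan16.Noetherian
import Groth.Agent.Lib.EffCartier.Basic
import Groth.Agent.Lib.CurveCoh17.AffPush
import Groth.Agent.Lib.ModM1.Push
import Groth.Agent.Lib.BC8.OpenShriek
import Groth.Agent.Lib.BC8.Shriek
import Groth.Agent.Lib.DMV.Seq
import Groth.Agent.Lib.ModM1.Stalk

/-! Representing duals of top cohomology on varieties; vanishing off a Cartier divisor. -/

set_option autoImplicit false
set_option linter.style.haveILetI false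
set_option linter.unusedSectionVars false
set_option backward.isDefEq.respectTransparency false
set_option backward.isDefEq.respectTransparency.types false
set_option maxHeartbeats 1000000

universe u

open CategoryTheory CategoryTheory.Limits AlgebraicGeometry Opposite TopologicalSpace

attribute [local instance] HasDerivedCategory.standard

noncomputable section

namespace Groth.Agent.BC8

variable (k : Type u) [Field k] {X : Scheme.{u}} [X.Over (Spec (CommRingCat.of k))]

/-- `ω` represents the dual of `H^d` on quasi-coherent modules. -/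
def Repr (d : ℕ) (ω : X.Modules) : Prop :=
  Coh.IsQCoh ω ∧ ∃ t : Coh.HH X ω d →ₗ[k] k, ∀ F : X.Modules, Coh.IsQCoh F → ∀ ψ : Coh.HH X F d →ₗ[k] k,
    ∃! φ : F ⟶ ω, ∀ x : Coh.HH X F d, ψ x = t (Sheaf.H.map ((SheafOfModules.toSheaf X.ringCatSheaf).map φ) d x)

variable {k} {d : ℕ} {ω : X.Modules}

theorem Repr.hom_eq_zero (h : Repr k d ω) {F : X.Modules} (hF : Coh.IsQCoh F) [Subsingleton (Coh.HH X F d)]
    (φ : F ⟶ ω) : φ = 0 := by
  obtain ⟨t, ht⟩ := h.2
  obtain ⟨ψ, -, hu⟩ := ht F hF 0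
  exact (hu φ fun x => by rw [Subsingleton.elim x 0, map_zero, map_zero, map_zero]).trans
    (hu 0 fun x => by rw [Subsingleton.elim x 0, map_zero, map_zero, map_zero]).symm

theorem Repr.subsingleton (h : Repr k d ω) {F : X.Modules} (hF : Coh.IsQCoh F) (h0 : ∀ φ : F ⟶ ω, φ = 0) :
    Subsingleton (Coh.HH X F d) := by
  obtain ⟨t, ht⟩ := h.2
  refine subsingleton_of_forall_eq 0 fun x => (Module.forall_dual_apply_eq_zero_iff k x).1 fun ψ => ?_
  obtain ⟨φ, hφ, -⟩ := ht F hF ψ
  rw [hφ x, h0 φ, Functor.map_zero]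
  exact (congrArg t (show Sheaf.H.map (0 : Coh.toAb F ⟶ Coh.toAb ω) d x = 0 by
    change ((Sheaf.functorH _ d).map (0 : Coh.toAb F ⟶ Coh.toAb ω)).hom x = 0
    rw [Functor.map_zero]; rfl)).trans (map_zero t)

theorem isZero_of_subsingleton_HH (h : Repr k d ω) [Subsingleton (Coh.HH X ω d)] : IsZero ω :=
  (IsZero.iff_id_eq_zero ω).2 (h.hom_eq_zero h.1 (𝟙 ω))

theorem supp_of_forall_eq_zero {F : X.Modules} (D : X.Opens)
    (hD : ∀ (W : X.Opens), W ≤ D → ∀ s : F.presheaf.obj (op W), s = 0) :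
    SheafVan16.Supp ((D : Set X)ᶜ) ((CohFound.abF X).obj F) := fun x hx a => by
  obtain ⟨W, hxW, s, rfl⟩ := TopCat.Presheaf.exists_germ_eq ((CohFound.abF X).obj F).obj a
  have hz : F.presheaf.map (homOfLE (inf_le_left : W ⊓ D ≤ W)).op s = 0 := hD (W ⊓ D) inf_le_right _
  rw [← TopCat.Presheaf.germ_res_apply ((CohFound.abF X).obj F).obj (homOfLE (inf_le_left : W ⊓ D ≤ W)) x
    ⟨hxW, not_not.1 hx⟩ s]
  exact (congrArg _ hz).trans (map_zero _)

theorem isAffineHom_ι' {X : Scheme.{u}} [X.IsSeparated] {D : X.Opens} (hD : IsAffineOpen D) : IsAffineHom D.ι := by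
  haveI : IsAffine D.toScheme := hD
  haveI : IsSeparated (terminal.from X) := inferInstance
  exact IsAffineHom.of_comp D.ι (terminal.from X)

/-- Sections of `ω` on an irreducible space are detected on any nonempty affine open. -/
theorem Repr.injective_restrict (h : Repr k d ω) [IsNoetherian X] [IrreducibleSpace X] [X.IsSeparated]
    (hd : topologicalKrullDim X ≤ (d : WithBot ℕ∞)) (D : X.Opens) (hDa : IsAffineOpen D) (hDne : (D : Set X).Nonempty)
    (V : X.Opens) : Function.Injective (ω.presheaf.map (homOfLE (inf_le_left : V ⊓ D ≤ V)).op) := by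
  haveI : IsAffine D.toScheme := hDa
  haveI : IsAffineHom D.ι := isAffineHom_ι' hDa
  let η := (Scheme.Modules.restrictAdjunction D.ι).unit.app ω
  have hq : Coh.IsQCoh ((Scheme.Modules.pushforward D.ι).obj (ω.restrict D.ι)) :=
    M1.isQCoh_push D.ι (M1.isQCoh_restrict h.1 D.ι)
  have hK : Coh.IsQCoh (kernel η) := M1.isQCoh_kernel h.1 hq η
  have hzero : ∀ (W : X.Opens), W ≤ D → ∀ s : (kernel η).presheaf.obj (op W), s = 0 := fun W hW s => by
    haveI : Mono ((Scheme.Modules.toPresheaf X).map (kernel.ι η)) := inferInstance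
    have hinj : Function.Injective ((kernel.ι η).app W) :=
      (AddCommGrpCat.mono_iff_injective _).1 (NatTrans.mono_iff_mono_app _ |>.1
        (inferInstance : Mono ((Scheme.Modules.toPresheaf X).map (kernel.ι η))) (op W))
    refine hinj (Eq.trans ?_ (map_zero _).symm)
    have h1 : η.app W ((kernel.ι η).app W s) = 0 := by
      have := congrArg (fun f : kernel η ⟶ _ => f.app W s) (kernel.condition η)
      exact this.trans rfl
    have hle : D.ι ''ᵁ (D.ι ⁻¹ᵁ W) = W := by
      rw [Scheme.Hom.image_preimage_eq_opensRange_inf, Scheme.Opens.opensRange_ι]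
      exact inf_eq_right.2 hW
    haveI : IsIso (homOfLE (D.ι.image_preimage_le W)) := ⟨⟨homOfLE hle.ge, Subsingleton.elim _ _, Subsingleton.elim _ _⟩⟩
    rw [show η.app W = ω.presheaf.map (homOfLE (D.ι.image_preimage_le W)).op from
      Scheme.Modules.restrictAdjunction_unit_app_app D.ι ω W] at h1
    exact (ConcreteCategory.bijective_of_isIso (ω.presheaf.map (homOfLE (D.ι.image_preimage_le W)).op)).1
      (h1.trans (map_zero _).symm)
  have hι : kernel.ι η = 0 := by
    by_cases hu : (D : Set X) = Set.univ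
    · apply (Scheme.Modules.toPresheaf X).map_injective
      ext W s
      have hs : s = 0 := hzero W (fun x _ => show x ∈ (D : Set X) from hu ▸ trivial) s
      rw [hs, map_zero, map_zero]
    · haveI : Subsingleton (Coh.HH X (kernel η) d) := by
        let Z : Closeds X := ⟨(D : Set X)ᶜ, D.isOpen.isClosed_compl⟩
        let T : Closeds X := ⊤
        have hlt : Z < T := lt_of_le_of_ne le_top fun e => hDne.ne_empty (Set.compl_univ_iff.1 (congrArg SetLike.coe e))
        have hT : topologicalKrullDim (T : Set X) ≤ (d : WithBot ℕ∞) :=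
          le_trans Topology.IsInducing.subtypeVal.topologicalKrullDim_le hd
        obtain ⟨h0, hm⟩ := SheafVan16.dim_lt (Z' := Z) (IrreducibleSpace.isIrreducible_univ X) hlt hT
        obtain ⟨m, rfl⟩ : ∃ m, d = m + 1 := ⟨d - 1, by
          rcases Nat.eq_zero_or_pos d with hd0 | hd0
          · exact absurd (congrArg SetLike.coe (h0 hd0)) fun e => hu (Set.compl_empty_iff.1 e)
          · omega⟩
        rw [CohFound.subsingleton_HH_iff]
        exact SheafVan16.van_of_supp Z m (hm m rfl) _ (supp_of_forall_eq_zero D hzero) (m + 1) (by omega)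
      exact h.hom_eq_zero hK _
  haveI : Mono η := Preadditive.mono_of_kernel_zero hι
  have hinj : Function.Injective (η.app V) :=
    (AddCommGrpCat.mono_iff_injective _).1 (NatTrans.mono_iff_mono_app _ |>.1
      (inferInstance : Mono ((Scheme.Modules.toPresheaf X).map η)) (op V))
  rw [show η.app V = ω.presheaf.map (homOfLE (D.ι.image_preimage_le V)).op from
    Scheme.Modules.restrictAdjunction_unit_app_app D.ι ω V] at hinj
  have hle : D.ι ''ᵁ (D.ι ⁻¹ᵁ V) = V ⊓ D := by
    rw [Scheme.Hom.image_preimage_eq_opensRange_inf, Scheme.Opens.opensRange_ι, inf_comm]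
  rw [show (homOfLE (inf_le_left : V ⊓ D ≤ V)).op =
    (homOfLE (D.ι.image_preimage_le V)).op ≫ (eqToHom hle.symm).op from Subsingleton.elim _ _, ω.presheaf.map_comp]
  exact (ConcreteCategory.bijective_of_isIso (ω.presheaf.map (eqToHom hle.symm).op)).1.comp hinj

section Adj

variable (k) (X) [IsNoetherian X] [QuasiCompact (X ↘ Spec (CommRingCat.of k))]
  [QuasiSeparated (X ↘ Spec (CommRingCat.of k))] [DCoh.HasRpush (X ↘ Spec (CommRingCat.of k))]

/-- The dualizing complex of the ground field, as a sheaf complex. -/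
def W₀ : DCoh.DQCoh (Spec (CommRingCat.of k)) :=
  haveI : PreservesFiniteLimits (tilde.functor (CommRingCat.of k)) := M1.tilde_preservesFiniteLimits
  haveI : ∀ (R : CommRingCat.{u}), PreservesFiniteLimits (tilde.functor R) := fun R => M1.tilde_preservesFiniteLimits
  (FMAdj9.tildeQ (CommRingCat.of k)).obj (Dual.inD k k)

theorem isGE_W₀ : (W₀ k).obj.IsGE 0 := by
  haveI : ∀ (R : CommRingCat.{u}), PreservesFiniteLimits (tilde.functor R) := fun R => M1.tilde_preservesFiniteLimits
  haveI : (Dual.inD k k).IsGE 0 :=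
    inferInstanceAs (DerivedCategory.IsGE ((DerivedCategory.singleFunctor _ 0).obj _) 0)
  exact (DerivedCategory.isGE_iff _ _).2 fun i hi =>
    IsZero.of_iso ((tilde.functor (CommRingCat.of k)).map_isZero (DerivedCategory.isZero_of_isGE (Dual.inD k k) 0 i hi))
      (DPerf.hdTildeIso (R := CommRingCat.of k) (Dual.inD k k) i)

/-- Cohomology vanishes above the dimension. -/
theorem subsingleton_HH_above (d : ℕ) (hd : topologicalKrullDim X ≤ (d : WithBot ℕ∞)) (F : X.Modules) {i : ℕ}
    (hi : d < i) : Subsingleton (Coh.HH X F i) := by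
  rw [CohFound.subsingleton_HH_iff]
  exact SheafVan16.van_of_supp (⊤ : Closeds X) d
    (le_trans Topology.IsInducing.subtypeVal.topologicalKrullDim_le hd) _
    (fun x hx => absurd (Set.mem_univ x) hx) i hi

variable {hp : DCoh.RpushPreservesQCoh (X ↘ Spec (CommRingCat.of k))}
  {a : DCoh.DQCoh (Spec (CommRingCat.of k)) ⥤ DCoh.DQCoh X}
  (adj : DCoh.RpushQ (X ↘ Spec (CommRingCat.of k)) hp ⊣ a)

include adj in
/-- `H⁻ᵈ` of the right adjoint represents the dual of `H^d`. -/
theorem repr_of_adj (d : ℕ) (hd : topologicalKrullDim X ≤ (d : WithBot ℕ∞)) :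
    Repr k d (DCoh.HD (a.obj (W₀ k)).obj (-((d : ℤ) - 0))) := by
  haveI : ∀ (R : CommRingCat.{u}), PreservesFiniteLimits (tilde.functor R) := fun R => M1.tilde_preservesFiniteLimits
  let f := X ↘ Spec (CommRingCat.of k)
  haveI : QuasiSeparatedSpace X := quasiSeparatedSpace_of_quasiSeparated f
  have hN : ∀ M : X.Modules, Coh.IsQCoh M → ∀ i : ℤ, (d : ℤ) < i →
      IsZero (DCoh.HD ((DCoh.Rpush f).obj (DCoh.inD X M)) i) := fun M hM i hi => by
    obtain ⟨M', ⟨eM⟩⟩ := DQC.exists_iso_of_isQCohD (R := CommRingCat.of k) _ (hp _ (isQCohD_inD' hM))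
    obtain ⟨m, rfl⟩ := Int.eq_ofNat_of_zero_le (show 0 ≤ i by omega)
    obtain ⟨v⟩ := PCHH9.nonempty_HH_linearEquiv k X M M' eM m
    haveI := subsingleton_HH_above X d hd M (i := m) (by exact_mod_cast hi)
    haveI : Subsingleton (Dual.HD k M' m) := v.symm.toEquiv.subsingleton
    exact IsZero.of_iso ((tilde.functor (CommRingCat.of k)).map_isZero (ModuleCat.isZero_of_subsingleton _))
      ((DerivedCategory.homologyFunctor _ _).mapIso eM.symm ≪≫ DPerf.hdTildeIso M' (m : ℤ))
  let ω : Dual.D k := Dual.inD k k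
  haveI : ω.IsGE 0 := inferInstanceAs (DerivedCategory.IsGE ((DerivedCategory.singleFunctor _ 0).obj _) 0)
  haveI := isGE_W₀ k
  let eW : (W₀ k).obj ≅ (DPerf.tildeDD (CommRingCat.of k)).obj ω := Iso.refl _
  haveI : (a.obj (W₀ k)).obj.IsGE (-((d : ℤ) - 0)) := by
    rw [show -((d : ℤ) - 0) = 0 - (d : ℤ) by ring]
    exact isGE_rightAdjoint f d hN adj (W₀ k) 0
  obtain ⟨t, ht⟩ := exists_represents k X adj eW d 0 Coh.IsQCoh (fun _ h => h)
    fun F _ i hi => subsingleton_HH_above X d hd F hi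
  let u : Dual.HD k ω 0 ≃ₗ[k] k :=
    (((DerivedCategory.singleFunctorCompHomologyFunctorIso (ModuleCat.{u} k) 0).app (ModuleCat.of k k))).toLinearEquiv
  refine ⟨(a.obj (W₀ k)).property _, u.toLinearMap ∘ₗ t, fun F hF ψ => ?_⟩
  obtain ⟨φ, h1, h2⟩ := ht F hF (u.symm.toLinearMap ∘ₗ ψ)
  exact ⟨φ, fun x => (LinearEquiv.symm_apply_eq u).1 (h1 x),
    fun φ' h' => h2 φ' fun x => (LinearEquiv.symm_apply_eq u).2 (h' x)⟩

end Adj

/-- Vanishing of top cohomology descends along proper birational maps. -/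
theorem subsingleton_of_birational {U U' : Scheme.{u}} [U.Over (Spec (CommRingCat.of k))]
    [U'.Over (Spec (CommRingCat.of k))] [IsNoetherian U] [IsNoetherian U'] [U.IsSeparated] [IrreducibleSpace U]
    [IsSeparated (U ↘ Spec (CommRingCat.of k))] [QuasiCompact (U ↘ Spec (CommRingCat.of k))]
    [IsSeparated (U' ↘ Spec (CommRingCat.of k))] [QuasiCompact (U' ↘ Spec (CommRingCat.of k))]
    (π : U' ⟶ U) [IsProper π] (hπ : π ≫ (U ↘ Spec (CommRingCat.of k)) = U' ↘ Spec (CommRingCat.of k))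
    (U₀ : U.Opens) (hne : (U₀ : Set U).Nonempty) (j : U₀.toScheme ⟶ U') [IsOpenImmersion j] (hj : j ≫ π = U₀.ι)
    (d : ℕ) (hd : topologicalKrullDim U ≤ (d : WithBot ℕ∞)) (hd' : topologicalKrullDim U' ≤ (d : WithBot ℕ∞))
    (h0 : ∀ G : U'.Modules, Coh.IsQCoh G → Subsingleton (Coh.HH U' G d))
    (F : U.Modules) (hF : Coh.IsQCoh F) : Subsingleton (Coh.HH U F d) := by
  let r := U ↘ Spec (CommRingCat.of k)
  let r' := U' ↘ Spec (CommRingCat.of k)
  haveI : IsNoetherian (Spec (CommRingCat.of k)) := inferInstance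
  haveI := DBC9.hasRpush r
  haveI := DBC9.hasRpush r'
  haveI := DBC9.hasRpush π
  let hp := rpushPreserves r
  let hp' := rpushPreserves r'
  let hq := rpushPreserves π
  haveI := isLeftAdjoint_rpushQ r hp
  haveI := isLeftAdjoint_rpushQ r' hp'
  haveI := isLeftAdjoint_rpushQ π hq
  let adj := Adjunction.ofIsLeftAdjoint (DCoh.RpushQ r hp)
  let adj' := Adjunction.ofIsLeftAdjoint (DCoh.RpushQ r' hp')
  let adjπ := Adjunction.ofIsLeftAdjoint (DCoh.RpushQ π hq)
  have hω := repr_of_adj k U adj d hd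
  have hω' := repr_of_adj k U' adj' d hd'
  let e : ℤ := -((d : ℤ) - 0)
  let K := ((DCoh.RpushQ r hp).rightAdjoint).obj (W₀ k)
  let K' := ((DCoh.RpushQ r' hp').rightAdjoint).obj (W₀ k)
  haveI : QuasiSeparatedSpace U := quasiSeparatedSpace_of_quasiSeparated r
  obtain ⟨N, hN⟩ := exists_isGE_a adj
  have hKb : Dual3.IsBddBelowQ U K := ⟨0 - N, hN (W₀ k) 0 (isGE_W₀ k)⟩
  obtain ⟨n⟩ := nonempty_shriek_open U₀.ι π j hj adjπ
  let eK : (DMon9.lP U₀.ι).obj K.obj ≅ (DMon9.lP j).obj K'.obj :=
    (n.app ⟨K, hKb⟩).symm ≪≫ (DMon9.lP j).mapIso ((ObjectProperty.ι _).mapIso ((compA adjπ adj adj' hπ).app (W₀ k)))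
  haveI : Subsingleton (Coh.HH U' (DCoh.HD K'.obj e) d) := h0 _ hω'.1
  have hz' : IsZero (DCoh.HD K'.obj e) := isZero_of_subsingleton_HH hω'
  have hz : IsZero ((DCoh.HD K.obj e).restrict U₀.ι) :=
    IsZero.of_iso ((Scheme.Modules.restrictFunctor j).map_isZero hz')
      ((DPerf.hdResIso U₀.ι K.obj e).symm ≪≫
        (DerivedCategory.homologyFunctor _ e).mapIso
          ((DMon9.lPRes U₀.ι).symm.app K.obj ≪≫ eK ≪≫ (DMon9.lPRes j).app K'.obj) ≪≫
        DPerf.hdResIso j K'.obj e)
  obtain ⟨x, hx⟩ := hne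
  obtain ⟨D, hDa, hxD, hDU⟩ := exists_isAffineOpen_mem_and_subset (show x ∈ U₀ from hx)
  refine hω.subsingleton hF fun φ => ?_
  apply (Scheme.Modules.toPresheaf U).map_injective
  ext V s
  apply hω.injective_restrict hd D hDa ⟨x, hxD⟩ V
  haveI := DMV.subsingleton_sections_of_isZero hz (O := V ⊓ D) (inf_le_right.trans hDU)
  exact Subsingleton.elim _ _

/-- Top cohomology of the complement of an effective Cartier divisor on a proper variety vanishes. -/
theorem subsingleton_HH_cmpl {X : Scheme.{u}} [X.Over (Spec (CommRingCat.of k))]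
    [IsProper (X ↘ Spec (CommRingCat.of k))] [IsIntegral X] (I : X.IdealSheafData)
    (hI : BlowUp.IsEffCartierIdeal I) (hne : (EffCartier.cmpl I : Set X) ≠ Set.univ)
    [(EffCartier.cmpl I).toScheme.Over (Spec (CommRingCat.of k))]
    (hover : (EffCartier.cmpl I).ι ≫ (X ↘ Spec (CommRingCat.of k)) =
      (EffCartier.cmpl I).toScheme ↘ Spec (CommRingCat.of k))
    (d : ℕ) (hd : topologicalKrullDim X ≤ (d : WithBot ℕ∞))
    (G : (EffCartier.cmpl I).toScheme.Modules) (hG : Coh.IsQCoh G) :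
    Subsingleton (Coh.HH (EffCartier.cmpl I).toScheme G d) := by
  haveI : ∀ (U V : Scheme.{u}) (j : U ⟶ V) [IsOpenImmersion j],
      PreservesFiniteLimits (Scheme.Modules.restrictFunctor j) := fun U V j _ => inferInstance
  haveI : ∀ (R : CommRingCat.{u}), PreservesFiniteLimits (tilde.functor R) := fun R => M1.tilde_preservesFiniteLimits
  let f := X ↘ Spec (CommRingCat.of k)
  haveI : IsLocallyNoetherian X := LocallyOfFiniteType.isLocallyNoetherian f
  haveI : CompactSpace X := QuasiCompact.compactSpace_of_compactSpace f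
  haveI : IsNoetherian X := { }
  haveI : IsNoetherian (Spec (CommRingCat.of k)) := inferInstance
  haveI : IsSeparated (terminal.from (Spec (CommRingCat.of k))) := inferInstance
  haveI : X.IsSeparated := ⟨by
    rw [← terminal.comp_from f]; infer_instance⟩
  haveI := DBC9.hasRpush f
  let hp := rpushPreserves f
  haveI := isLeftAdjoint_rpushQ f hp
  let adj := Adjunction.ofIsLeftAdjoint (DCoh.RpushQ f hp)
  have hω := repr_of_adj k X adj d hd
  let eW : (W₀ k).obj ≅ (DPerf.tildeDD (CommRingCat.of k)).obj (Dual.inD k k) := Iso.refl _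
  have hK := isDualizingSch_proper (A := CommRingCat.of k) (isDualizing_self_field k) f adj eW
  let ω := DCoh.HD ((((DCoh.RpushQ f hp).rightAdjoint).obj (W₀ k))).obj (-((d : ℤ) - 0))
  have hM : Coh.IsCoh ω := isCohD_dualizing hK _
  let U' := EffCartier.cmpl I
  haveI : IsAffineHom U'.ι := EffCartier.isAffineHom_interior hI
  haveI : G.IsQuasicoherent := hG
  obtain ⟨T⟩ := CurveCoh17.nonempty_hequiv_push (A := k) (f := U'.ι) hover G d
  let P := (Scheme.Modules.pushforward U'.ι).obj G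
  have hP : Coh.IsQCoh P := M1.isQCoh_push U'.ι hG
  haveI : Coh.IsQCoh P := hP
  haveI : Subsingleton (Coh.HH X P d) := hω.subsingleton hP fun φ => by
    obtain ⟨x, hx⟩ := (Set.ne_univ_iff_exists_notMem _).1 hne
    obtain ⟨U, hxU, g, hg⟩ := EffCartier.isEffCartierIdeal_iff.1 hI x
    have hbo : X.basicOpen g = U' ⊓ U.1 := EffCartier.basicOpen_eq hg
    have hgm : X.presheaf.germ U.1 x hxU g ∈ IsLocalRing.maximalIdeal (X.presheaf.stalk x) := fun h => by
      have h' : x ∈ U' ⊓ U.1 := hbo ▸ (X.mem_basicOpen g x hxU).2 h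
      exact hx h'.1
    have hu : IsUnit (U'.ι.app U.1 g) := by
      have h1 : U'.toScheme.basicOpen (U'.ι.app U.1 g) = U'.ι ⁻¹ᵁ U.1 := by
        rw [← Scheme.preimage_basicOpen, hbo]
        ext y
        exact ⟨fun h => h.2, fun h => ⟨y.2, h⟩⟩
      refine RingedSpace.isUnit_of_isUnit_germ U'.toScheme.toRingedSpace _ _ fun y hy => ?_
      rw [← h1] at hy
      exact (Scheme.mem_basicOpen _ _ _ _).1 hy
    have hzero : ∀ m : Γ(P, U.1), φ.app U.1 m = 0 := fun m => by
      have hgerm : ω.presheaf.germ U.1 x hxU (φ.app U.1 m) = 0 := by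
        haveI := M1.finite_stalk hM.1 hM.2 x
        haveI : IsNoetherianRing (X.presheaf.stalk x) := inferInstance
        rw [← Submodule.mem_bot (R := X.presheaf.stalk x), ← Ideal.iInf_pow_smul_eq_bot_of_isLocalRing
          (M := ω.presheaf.stalk x) (IsLocalRing.maximalIdeal (X.presheaf.stalk x))
          (IsLocalRing.maximalIdeal.isMaximal _).ne_top, Submodule.mem_iInf]
        intro n
        obtain ⟨m', hm'⟩ : ∃ m' : Γ(P, U.1), g ^ n • m' = m := by
          let m₀ : Γ(G, U'.ι ⁻¹ᵁ U.1) := m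
          let c : Γ(U'.toScheme, U'.ι ⁻¹ᵁ U.1) := ((hu.pow n).unit⁻¹).val
          refine ⟨c • m₀, ?_⟩
          show U'.ι.app U.1 (g ^ n) • (c • m₀) = m₀
          rw [map_pow, smul_smul, IsUnit.mul_val_inv, one_smul]
        rw [← hm', Scheme.Modules.Hom.app_smul, M1.germ_smul, map_pow]
        exact Submodule.smul_mem_smul (Ideal.pow_mem_pow hgm n) trivial
      obtain ⟨W, hxW, i₁, i₂, he⟩ := ω.presheaf.germ_eq x hxU hxU (φ.app U.1 m) 0 (hgerm.trans (map_zero _).symm)
      obtain ⟨D, hDa, hxD, hDW⟩ := exists_isAffineOpen_mem_and_subset (show x ∈ W from hxW)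
      apply hω.injective_restrict hd D hDa ⟨x, hxD⟩ U.1
      rw [map_zero]
      have h2 := congrArg (ω.presheaf.map (homOfLE (show U.1 ⊓ D ≤ W from inf_le_right.trans hDW)).op) he
      rw [map_zero, map_zero] at h2
      refine Eq.trans ?_ h2
      have hres : ∀ (A B C : X.Opens) (a : A ⟶ B) (b : B ⟶ C) (c : A ⟶ C) (z : Γ(ω, C)),
          ω.presheaf.map a.op (ω.presheaf.map b.op z) = ω.presheaf.map c.op z := fun A B C a b c z => by
        rw [Subsingleton.elim c (a ≫ b), op_comp, Functor.map_comp]; rfl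
      exact (hres _ _ _ _ i₁ _ (φ.app U.1 m)).symm
    refine Scheme.Modules.hom_ext _ _ fun V => ?_
    ext m
    apply hω.injective_restrict hd U.1 U.2 ⟨x, hxU⟩ V
    refine Eq.trans ?_ (map_zero _).symm
    refine M1.section_ext _ _ fun y hy => ?_
    rw [map_zero, TopCat.Presheaf.germ_res_apply]
    obtain ⟨r, m', hr, hm'⟩ := M1.exists_germ_smul_eq P U.2 hy.2 (P.presheaf.germ V y hy.1 m)
    refine hr.smul_left_cancel.1 ?_
    rw [smul_zero]
    have hW₀ : y ∈ V ⊓ U.1 := hy
    have h4 : P.presheaf.germ (V ⊓ U.1) y hW₀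
        (X.presheaf.map (homOfLE (inf_le_right : V ⊓ U.1 ≤ U.1)).op r •
          P.presheaf.map (homOfLE (inf_le_left : V ⊓ U.1 ≤ V)).op m) =
        P.presheaf.germ (V ⊓ U.1) y hW₀ (P.presheaf.map (homOfLE (inf_le_right : V ⊓ U.1 ≤ U.1)).op m') := by
      rw [M1.germ_smul, TopCat.Presheaf.germ_res_apply, TopCat.Presheaf.germ_res_apply,
        TopCat.Presheaf.germ_res_apply]
      exact hm'
    obtain ⟨W, hyW, i₁, i₂, he⟩ := P.presheaf.germ_eq y hW₀ hW₀ _ _ h4
    have h5 := congrArg (φ.app W) he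
    rw [Scheme.Modules.map_smul, Scheme.Modules.Hom.app_smul] at h5
    have nat : ∀ (A B : X.Opens) (i : A ⟶ B) (z : Γ(P, B)),
        φ.app A (P.presheaf.map i.op z) = ω.presheaf.map i.op (φ.app B z) := fun A B i z =>
      congr($(((Scheme.Modules.toPresheaf X).map φ).naturality i.op) z)
    rw [nat, nat, nat, nat, hzero, map_zero, map_zero] at h5
    have h6 := congrArg (ω.presheaf.germ W y hyW) h5
    rw [map_zero, M1.germ_smul, TopCat.Presheaf.germ_res_apply, TopCat.Presheaf.germ_res_apply,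
      TopCat.Presheaf.germ_res_apply, TopCat.Presheaf.germ_res_apply] at h6
    exact h6
  exact T.symm.toEquiv.subsingleton

end Groth.Agent.BC8
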