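import Groth.Agent.Lib.BC8.ShriekViaFlat
import Groth.Agent.Lib.FMAdj9.PointShift
import Groth.Agent.Lib.DMod.PCModule

/-! Dualizing complexes that are shifted rings. -/

set_option autoImplicit false
set_option linter.style.haveILetI false
set_option linter.unusedSectionVars false
set_option backward.isDefEq.respectTransparency false
set_option backward.isDefEq.respectTransparency.types false
set_option maxHeartbeats 1000000

universe u

open CategoryTheory CategoryTheory.Limits
open scoped TensorProduct

attribute [local instance] HasDerivedCategory.standard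

noncomputable section

namespace Groth.Agent.BC8

theorem nonempty_lbc_one_shift {A B : Type u} [CommRing A] [CommRing B] (f : A →+* B) [DRing.HasLBaseChange f]
    (m : ℤ) : Nonempty ((DRing.LBaseChange f).obj ((Dual.inD A A)⟦m⟧) ≅ (Dual.inD B B)⟦m⟧) := by
  haveI : DRing.HasLBaseChange (CommRingCat.ofHom f).hom := ‹_›
  obtain ⟨o⟩ := nonempty_lbc_one (R := CommRingCat.of A) (P := CommRingCat.of B) (CommRingCat.ofHom f)
  obtain ⟨a⟩ := DBaseChange.nonempty_adjunction f
  letI := a.leftAdjointCommShift ℤ
  exact ⟨((DRing.LBaseChange f).commShiftIso m).app _ ≪≫ (shiftFunctor _ m).mapIso o⟩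

/-- Spreading out a local shift of the ring. -/
theorem exists_away_shift {A : Type u} [CommRing A] [IsNoetherianRing A] (M : Dual.D A)
    (hM : DRing.IsPseudoCoherent' A M) (a : ℤ) [M.IsGE a] (q : PrimeSpectrum A)
    [DRing.HasLBaseChange ((Ideal.Quotient.mk (IsLocalRing.maximalIdeal (Localization q.asIdeal.primeCompl))).comp
      (algebraMap A (Localization q.asIdeal.primeCompl)))] (j₀ : ℤ)
    (h : Nonempty ((DRing.LBaseChange ((Ideal.Quotient.mk
        (IsLocalRing.maximalIdeal (Localization q.asIdeal.primeCompl))).comp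
      (algebraMap A (Localization q.asIdeal.primeCompl)))).obj M ≅
      (DerivedCategory.singleFunctor _ j₀).obj (ModuleCat.of _
        (Localization q.asIdeal.primeCompl ⧸ IsLocalRing.maximalIdeal (Localization q.asIdeal.primeCompl))))) :
    ∃ (f : A) (_ : f ∉ q.asIdeal) (m : ℤ), ∀ [DRing.HasLBaseChange (algebraMap A (Localization.Away f))],
      Nonempty ((DRing.LBaseChange (algebraMap A (Localization.Away f))).obj M ≅
        (Dual.inD (Localization.Away f) (Localization.Away f))⟦m⟧) := by
  obtain ⟨F, B, hB, hF, ⟨eF⟩⟩ := hM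
  haveI := (DMod.vanishesAbove_iff F B).1 hB
  let L := Localization q.asIdeal.primeCompl
  haveI := DQC.hasLBaseChange (algebraMap A L)
  obtain ⟨e⟩ := h
  obtain ⟨c⟩ := FMAdj9.nonempty_loc_single q F B hF j₀ ⟨(DRing.LBaseChange _).mapIso eF ≪≫ e⟩
  haveI : (DRing.toD F).IsGE a := DerivedCategory.TStructure.t.isGE_of_iso eF.symm a
  obtain ⟨eW⟩ := DMod.exists_truncFrom_iso F a
  let W := DMod.truncFrom F a
  have hV := (DMod.vanishesOutside_iff W a B).1 (DMod.vanishesOutside_truncFrom F a B)
  haveI := hV.1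
  haveI := hV.2
  have hfin : ∀ i, _root_.Module.Finite A (W.homology i) := fun i => by
    haveI : _root_.Module.Finite A
      ((HomologicalComplex.homologyFunctor (ModuleCat.{u} A) (ComplexShape.up ℤ) i).obj F) :=
      TorBal.finite_homology_of_termwiseFinite (fun k => (hF k).1) i
    exact _root_.Module.Finite.equiv (((DerivedCategory.homologyFunctorFactors _ i).app F).symm ≪≫
      (DerivedCategory.homologyFunctor _ i).mapIso eW.symm ≪≫
      (DerivedCategory.homologyFunctorFactors _ i).app W).toLinearEquiv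
  obtain ⟨lc⟩ := Dlz27.exists_LBaseChange_iso q.asIdeal.primeCompl W
  have hone : Dlz27.OneFree W q := (Dlz27.oneFree_iff_exists_iso W q).2 ⟨-j₀,
    ⟨lc.symm ≪≫ (DRing.LBaseChange (algebraMap A L)).mapIso eW ≪≫ c ≪≫
      (((DerivedCategory.singleFunctors (ModuleCat.{u} L)).shiftIso (-j₀) j₀ 0 (by omega)).app _).symm⟩⟩
  obtain ⟨f, m, hf, ⟨ef⟩⟩ := DlzSch27.exists_away_of_oneFree W a B hfin q hone
  refine ⟨f, hf, m, fun {_} => ?_⟩
  haveI : DRing.HasLBaseChange (algebraMap A (Localization (Submonoid.powers f))) := DQC.hasLBaseChange _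
  obtain ⟨lf⟩ := Dlz27.exists_LBaseChange_iso (Submonoid.powers f) W
  exact ⟨(DRing.LBaseChange (algebraMap A (Localization (Submonoid.powers f)))).mapIso (eW ≪≫ eF).symm ≪≫ lf ≪≫ ef⟩

/-- Localizations of a dualizing complex are dualizing. -/
theorem isDualizing_lbc_loc {B : Type u} [CommRing B] [IsNoetherianRing B] {M : Dual.D B}
    (hM : Dual.IsDualizing B M) (q : PrimeSpectrum B)
    [DRing.HasLBaseChange (algebraMap B (Localization q.asIdeal.primeCompl))] :
    Dual.IsDualizing (Localization q.asIdeal.primeCompl)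
      ((DRing.LBaseChange (algebraMap B (Localization q.asIdeal.primeCompl))).obj M) := by
  let Mo := Dlz27.model hM
  obtain ⟨l⟩ := Dlz27.exists_LBaseChange_iso q.asIdeal.primeCompl Mo.W
  exact Dlz27.isDualizing_of_iso (l.symm ≪≫ (DRing.LBaseChange _).mapIso Mo.e) (Dlz27.isDualizing_omegaAt hM Mo q)

/-- Over a Gorenstein ring a dualizing complex is locally a shift of the ring. -/
theorem exists_loc_shift_of_gorenstein {B : Type u} [CommRing B] [hB : LocCoh.IsGorensteinRing B] {M : Dual.D B}
    (hM : Dual.IsDualizing B M) (q : PrimeSpectrum B)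
    [DRing.HasLBaseChange (algebraMap B (Localization q.asIdeal.primeCompl))] :
    ∃ m : ℤ, Nonempty ((DRing.LBaseChange (algebraMap B (Localization q.asIdeal.primeCompl))).obj M ≅
      (Dual.inD (Localization q.asIdeal.primeCompl) (Localization q.asIdeal.primeCompl))⟦m⟧) := by
  haveI : IsNoetherianRing (Localization q.asIdeal.primeCompl) :=
    IsLocalization.isNoetherianRing q.asIdeal.primeCompl _ inferInstance
  exact Dlz27.exists_shift_iso ((Dlz27.gorenstein_iff_isDualizing (Localization.AtPrime q.asIdeal)).1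
    (hB.isGorensteinLocalRing_localization q.asIdeal)) (isDualizing_lbc_loc hM q)

/-- A localized dualizing complex which is a shift of the ring. -/
theorem isGorensteinLocalRing_of_shift {B : Type u} [CommRing B] [IsNoetherianRing B] {M : Dual.D B}
    (hM : Dual.IsDualizing B M) (q : PrimeSpectrum B)
    [DRing.HasLBaseChange (algebraMap B (Localization q.asIdeal.primeCompl))] (m : ℤ)
    (e : (DRing.LBaseChange (algebraMap B (Localization q.asIdeal.primeCompl))).obj M ≅
      (Dual.inD (Localization q.asIdeal.primeCompl) (Localization q.asIdeal.primeCompl))⟦m⟧) :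
    LocCoh.IsGorensteinLocalRing (Localization.AtPrime q.asIdeal) := by
  haveI : IsNoetherianRing (Localization q.asIdeal.primeCompl) :=
    IsLocalization.isNoetherianRing q.asIdeal.primeCompl _ inferInstance
  exact (Dlz27.gorenstein_iff_isDualizing (Localization.AtPrime q.asIdeal)).2 (Dlz27.isDualizing_of_iso
    ((shiftFunctor _ (-m)).mapIso e ≪≫ (shiftFunctorCompIsoId _ m (-m) (add_neg_cancel m)).app _)
    (Dlz27.isDualizing_shift (isDualizing_lbc_loc hM q) (-m)))

theorem nonempty_lbc_congr {A B : Type u} [CommRing A] [CommRing B] {f g : A →+* B} (h : f = g)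
    [DRing.HasLBaseChange f] [DRing.HasLBaseChange g] :
    Nonempty (DRing.LBaseChange f ≅ DRing.LBaseChange g) := by
  subst h; exact ⟨Iso.refl _⟩

variable {R A : Type u} [CommRing R] [CommRing A] [IsNoetherianRing A] [Algebra R A]

/-- Gorenstein fibres are detected by a relative dualizing complex. -/
theorem gorenstein_fibres_iff (ω : Dual.D A) (hpc : DRing.IsPseudoCoherent' A ω) (lo : ℤ) [ω.IsGE lo]
    [∀ f : A, DRing.HasLBaseChange (algebraMap A (Localization.Away f))]
    (hN : ∀ p : PrimeSpectrum R, IsNoetherianRing (p.asIdeal.ResidueField ⊗[R] A))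
    (hfib : ∀ (p : PrimeSpectrum R)
      [DRing.HasLBaseChange (Algebra.TensorProduct.includeRight : A →ₐ[R] p.asIdeal.ResidueField ⊗[R] A).toRingHom],
      Dual.IsDualizing (p.asIdeal.ResidueField ⊗[R] A) ((DRing.LBaseChange
        (Algebra.TensorProduct.includeRight : A →ₐ[R] p.asIdeal.ResidueField ⊗[R] A).toRingHom).obj ω)) :
    (∀ p : PrimeSpectrum R, LocCoh.IsGorensteinRing (A ⊗[R] p.asIdeal.ResidueField)) ↔
    (∀ q : PrimeSpectrum A, ∃ (f : A) (_ : f ∉ q.asIdeal) (m : ℤ),
      Nonempty ((DRing.LBaseChange (algebraMap A (Localization.Away f))).obj ω ≅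
        (Dual.inD (Localization.Away f) (Localization.Away f))⟦m⟧)) := by
  constructor
  · intro hG q
    let p : PrimeSpectrum R := PrimeSpectrum.comap (algebraMap R A) q
    let k := p.asIdeal.ResidueField
    let B := k ⊗[R] A
    let b : A →+* B := (Algebra.TensorProduct.includeRight : A →ₐ[R] B).toRingHom
    haveI := DQC.hasLBaseChange b
    haveI := hG p
    haveI : LocCoh.IsGorensteinRing B :=
      Goren15.isGorensteinRing_of_ringEquiv (Algebra.TensorProduct.comm R A k).toRingEquiv
    let L := Localization q.asIdeal.primeCompl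
    let κ := L ⧸ IsLocalRing.maximalIdeal L
    letI : Field κ := Ideal.Quotient.field _
    let φ : A →+* κ := (Ideal.Quotient.mk (IsLocalRing.maximalIdeal L)).comp (algebraMap A L)
    let φₐ : A →ₐ[R] κ :=
      (Ideal.Quotient.mkₐ R (IsLocalRing.maximalIdeal L)).comp (IsScalarTower.toAlgHom R A L)
    have hker : RingHom.ker φ = q.asIdeal := by
      ext x
      rw [RingHom.mem_ker, RingHom.comp_apply, Ideal.Quotient.eq_zero_iff_mem]
      exact IsLocalization.AtPrime.to_map_mem_maximal_iff L q.asIdeal x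
    have h1 : p.asIdeal ≤ RingHom.ker (φ.comp (algebraMap R A)) := fun r hr => by
      have : algebraMap R A r ∈ RingHom.ker φ := by rw [hker]; exact hr
      exact this
    have h2 : p.asIdeal.primeCompl ≤ (IsUnit.submonoid κ).comap (φ.comp (algebraMap R A)) := fun r hr => by
      refine isUnit_iff_ne_zero.2 fun h => hr ?_
      have : algebraMap R A r ∈ RingHom.ker φ := h
      rw [hker] at this
      exact this
    let χ : k →ₐ[R] κ := ⟨Ideal.ResidueField.lift p.asIdeal (φ.comp (algebraMap R A)) h1 h2,
      fun r => (Ideal.ResidueField.lift_algebraMap _ _ h1 h2 r).trans (φₐ.commutes r)⟩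
    let Φ : B →ₐ[R] κ := Algebra.TensorProduct.lift χ φₐ fun _ _ => Commute.all _ _
    have hΦ : Φ.toRingHom.comp b = φ := RingHom.ext fun x => by
      show Φ (1 ⊗ₜ[R] x) = φ x
      refine (Algebra.TensorProduct.lift_tmul χ φₐ _ 1 x).trans ?_
      rw [map_one, one_mul]
      rfl
    haveI hP : (RingHom.ker Φ.toRingHom).IsPrime := RingHom.ker_isPrime _
    let q' : PrimeSpectrum B := ⟨RingHom.ker Φ.toRingHom, hP⟩
    let L' := Localization q'.asIdeal.primeCompl
    let π : L' →+* κ := IsLocalization.lift (M := q'.asIdeal.primeCompl) (S := L') (g := Φ.toRingHom)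
      fun y => isUnit_iff_ne_zero.2 fun h => y.2 h
    have hπ : π.comp (algebraMap B L') = Φ.toRingHom := IsLocalization.lift_comp _
    haveI := DQC.hasLBaseChange (algebraMap B L')
    haveI := DQC.hasLBaseChange ((algebraMap B L').comp b)
    haveI := DQC.hasLBaseChange π
    haveI := DQC.hasLBaseChange (π.comp ((algebraMap B L').comp b))
    haveI : DRing.HasLBaseChange φ := DQC.hasLBaseChange φ
    obtain ⟨m, ⟨em⟩⟩ := exists_loc_shift_of_gorenstein (hfib p) q'
    obtain ⟨c1⟩ := nonempty_lbcComp b (algebraMap B L')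
    obtain ⟨c2⟩ := nonempty_lbcComp ((algebraMap B L').comp b) π
    obtain ⟨c3⟩ := nonempty_lbc_congr (f := π.comp ((algebraMap B L').comp b)) (g := φ)
      (by rw [← RingHom.comp_assoc, hπ, hΦ])
    obtain ⟨o⟩ := nonempty_lbc_one_shift π m
    obtain ⟨f, hf, m', h⟩ := exists_away_shift ω hpc lo q (-m) ⟨(c3.symm ≪≫ c2.symm).app ω ≪≫
      (DRing.LBaseChange π).mapIso (c1.symm.app ω ≪≫ em) ≪≫ o ≪≫
      ((DerivedCategory.singleFunctors (ModuleCat.{u} κ)).shiftIso m (-m) 0 (by omega)).app _⟩
    exact ⟨f, hf, m', h⟩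
  · intro h p
    let k := p.asIdeal.ResidueField
    let B := k ⊗[R] A
    haveI := hN p
    let b : A →+* B := (Algebra.TensorProduct.includeRight : A →ₐ[R] B).toRingHom
    haveI := DQC.hasLBaseChange b
    haveI : LocCoh.IsGorensteinRing B := ⟨fun q' hq' => by
      let L' := Localization q'.primeCompl
      let ι : B →+* L' := algebraMap B L'
      obtain ⟨f, hf, m, ⟨e⟩⟩ := h (PrimeSpectrum.comap b ⟨q', hq'⟩)
      have hu : ∀ y : Submonoid.powers f, IsUnit ((ι.comp b) y) := fun y => by
        obtain ⟨j, hj⟩ := y.2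
        rw [← hj, map_pow]
        exact (IsLocalization.map_units (M := q'.primeCompl) L' ⟨b f, hf⟩).pow j
      let g : Localization.Away f →+* L' := IsLocalization.lift hu
      haveI := DQC.hasLBaseChange ι
      haveI := DQC.hasLBaseChange g
      haveI := DQC.hasLBaseChange (ι.comp b)
      haveI := DQC.hasLBaseChange (g.comp (algebraMap A (Localization.Away f)))
      obtain ⟨c1⟩ := nonempty_lbcComp b ι
      obtain ⟨c2⟩ := nonempty_lbcComp (algebraMap A (Localization.Away f)) g
      obtain ⟨c3⟩ := nonempty_lbc_congr (f := ι.comp b) (g := g.comp (algebraMap A (Localization.Away f)))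
        (IsLocalization.lift_comp hu).symm
      obtain ⟨o⟩ := nonempty_lbc_one_shift g m
      exact isGorensteinLocalRing_of_shift (hfib p) ⟨q', hq'⟩ m
        ((c1 ≪≫ c3 ≪≫ c2.symm).app ω ≪≫ (DRing.LBaseChange g).mapIso e ≪≫ o)⟩
    exact Goren15.isGorensteinRing_of_ringEquiv (Algebra.TensorProduct.comm R k A).toRingEquiv

end Groth.Agent.BC8
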