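import Groth.Agent.Lib.BC8.ShriekBridge
import Groth.Agent.Lib.RelPCS4.FlatBC

/-! Composition and flat base change for the algebraic upper shriek. -/

set_option autoImplicit false
set_option linter.style.haveILetI false
set_option linter.unusedSectionVars false
set_option backward.isDefEq.respectTransparency false
set_option backward.isDefEq.respectTransparency.types false
set_option maxHeartbeats 1000000

universe u

open CategoryTheory CategoryTheory.Limits MvPolynomial

attribute [local instance] HasDerivedCategory.standard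

noncomputable section

namespace Groth.Agent.BC8

/-- A bound below for a flat base change. -/
theorem subsingleton_HD_lbc {A B : Type u} [CommRing A] [CommRing B] [IsNoetherianRing A] [IsNoetherianRing B]
    (φ : A →+* B) (hφ : φ.Flat) [DRing.HasLBaseChange φ] (K : Dual.D A) (i : ℤ) [Subsingleton (Dual.HD A K i)] :
    Subsingleton (Dual.HD B ((DRing.LBaseChange φ).obj K) i) := by
  obtain ⟨J, -, -, ⟨e⟩⟩ := RGamma27.exists_res K
  haveI := RGamma27.isIso_valueMap_of_flat φ hφ J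
  refine ModuleCat.subsingleton_of_isZero (IsZero.of_iso ?_
    ((DerivedCategory.homologyFunctor (ModuleCat.{u} B) i).mapIso
      ((DRing.LBaseChange φ).mapIso e ≪≫ asIso ((DBaseChange.valueMap φ).app J)) ≪≫
      DBaseChange.hdEquiv _ i ≪≫ DBaseChange.homologyExtIso φ hφ J i))
  exact (ModuleCat.extendScalars.{u, u, u} φ).map_isZero ((ModuleCat.isZero_of_subsingleton
    ((DerivedCategory.homologyFunctor (ModuleCat.{u} A) i).obj K)).of_iso
    ((DBaseChange.hdEquiv J i).symm ≪≫ (DerivedCategory.homologyFunctor (ModuleCat.{u} A) i).mapIso e.symm))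

/-- The upper shriek of a composite. -/
theorem nonempty_via_comp {A B C : Type u} [CommRing A] [CommRing B] [CommRing C] [IsNoetherianRing A]
    [IsNoetherianRing B] [IsNoetherianRing C] [Algebra A B] [Algebra B C] [Algebra A C] [IsScalarTower A B C]
    (n : ℕ) (ψ : MvPolynomial (Fin n) A →ₐ[A] B) (hψ : Function.Surjective ψ)
    [DRing.HasLBaseChange (algebraMap A (MvPolynomial (Fin n) A))]
    {Rψ : Dual.D (MvPolynomial (Fin n) A) ⥤ Dual.D B} (adj : DRing.restrictD ψ.toRingHom ⊣ Rψ)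
    (m : ℕ) (χ : MvPolynomial (Fin m) B →ₐ[B] C) (hχ : Function.Surjective χ)
    [DRing.HasLBaseChange (algebraMap B (MvPolynomial (Fin m) B))]
    {Rχ : Dual.D (MvPolynomial (Fin m) B) ⥤ Dual.D C} (adjχ : DRing.restrictD χ.toRingHom ⊣ Rχ)
    (k : ℕ) (θ : MvPolynomial (Fin k) A →ₐ[A] C) (hθ : Function.Surjective θ)
    [DRing.HasLBaseChange (algebraMap A (MvPolynomial (Fin k) A))]
    {Rθ : Dual.D (MvPolynomial (Fin k) A) ⥤ Dual.D C} (adjθ : DRing.restrictD θ.toRingHom ⊣ Rθ)
    (K : Dual.D A) (c : ℤ) (hK : ∀ i : ℤ, i < c → Subsingleton (Dual.HD A K i)) :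
    Nonempty (Dual2.shriekVia k Rθ K ≅ Dual2.shriekVia m Rχ (Dual2.shriekVia n Rψ K)) := by
  let P := MvPolynomial (Fin n) A
  let P' := MvPolynomial (Fin m) P
  let α := algebraMap A P
  let γ : P →+* P' := MvPolynomial.C
  let φ' : P' →+* MvPolynomial (Fin m) B := MvPolynomial.map ψ.toRingHom
  have H := (RelPCS4.isPushout_poly ψ.toRingHom m).flip
  have hφ' : Function.Surjective φ' := MvPolynomial.map_surjective _ hψ
  have hγ : γ.Flat := RingHom.flat_algebraMap_iff.2 (inferInstance : Module.Flat P P')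
  haveI := DQC.hasLBaseChange γ
  haveI := DQC.hasLBaseChange (γ.comp α)
  haveI : DRing.HasLBaseChange (MvPolynomial.C : B →+* MvPolynomial (Fin m) B) := DQC.hasLBaseChange _
  let L := (DRing.LBaseChange α).obj K
  have hL : ∀ i : ℤ, i < c → Subsingleton (Dual.HD P L i) := fun i hi =>
    haveI := hK i hi
    subsingleton_HD_lbc α (RingHom.flat_algebraMap_iff.2 inferInstance) K i
  haveI := isLeftAdjoint_restrictD φ'
  let adjφ' := Adjunction.ofIsLeftAdjoint (DRing.restrictD φ')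
  obtain ⟨b⟩ := nonempty_bc_ring (P := CommRingCat.of P) (B := CommRingCat.of B) (P' := CommRingCat.of P')
    (B' := CommRingCat.of (MvPolynomial (Fin m) B)) (CommRingCat.ofHom ψ.toRingHom) (CommRingCat.ofHom γ)
    (CommRingCat.ofHom φ') (CommRingCat.ofHom MvPolynomial.C) hψ hγ H adj adjφ' L c hL
  obtain ⟨l⟩ := nonempty_lbcComp α γ
  let E : MvPolynomial (Fin (m + n)) A ≃ₐ[A] P' :=
    (renameEquiv A (finSumFinEquiv (m := m) (n := n)).symm).trans (sumAlgEquiv A (Fin m) (Fin n))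
  let θ₁ : P' →+* C := χ.toRingHom.comp φ'
  let θ₀ : MvPolynomial (Fin (m + n)) A →ₐ[A] C :=
    { θ₁.comp E.toAlgHom.toRingHom with
      commutes' := fun r => by
        show χ (φ' (E (algebraMap A _ r))) = algebraMap A C r
        rw [AlgEquiv.commutes]
        show χ (MvPolynomial.map ψ.toRingHom (MvPolynomial.C (algebraMap A P r))) = _
        rw [MvPolynomial.map_C]
        show χ (MvPolynomial.C (ψ (algebraMap A P r))) = _
        rw [AlgHom.commutes, IsScalarTower.algebraMap_apply A B C]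
        exact χ.commutes _ }
  have hθ₀ : Function.Surjective θ₀ := (hχ.comp hφ').comp E.surjective
  haveI := DQC.hasLBaseChange (algebraMap A (MvPolynomial (Fin (m + n)) A))
  haveI := isLeftAdjoint_restrictD θ₀.toRingHom
  let adj₀ := Adjunction.ofIsLeftAdjoint (DRing.restrictD θ₀.toRingHom)
  let adj₁ : DRing.restrictD θ₁ ⊣ (DRing.restrictD φ').rightAdjoint ⋙ Rχ :=
    (adjχ.comp adjφ').ofNatIsoLeft (resCompN φ' χ.toRingHom)
  obtain ⟨e⟩ := nonempty_change (algebraMap A (MvPolynomial (Fin (m + n)) A)) (γ.comp α) E.toAlgHom.toRingHom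
    E.symm.toAlgHom.toRingHom θ₀.toRingHom θ₁ (RingHom.ext fun r => E.commutes r)
    (RingHom.ext fun p => congrArg θ₁ (E.apply_symm_apply p))
    (isSecDeg_equiv _ _ (RingHom.ext E.symm_apply_apply) (RingHom.ext E.apply_symm_apply)) adj₀ adj₁ K
  obtain ⟨w⟩ := nonempty_via_indep k θ hθ adjθ (m + n) θ₀ hθ₀ adj₀ K
  obtain ⟨aγ⟩ := DBaseChange.nonempty_adjunction (MvPolynomial.C : B →+* MvPolynomial (Fin m) B)
  letI := aγ.leftAdjointCommShift ℤ
  letI := adjχ.rightAdjointCommShift ℤ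
  refine ⟨w ≪≫ (shiftFunctor (Dual.D C) ((m + n : ℕ) : ℤ)).mapIso
      (((shiftFunctorZero' (Dual.D C) (-0) neg_zero).app _).symm ≪≫ e.symm ≪≫
        Rχ.mapIso ((DRing.restrictD φ').rightAdjoint.mapIso (l.app K).symm ≪≫ b.symm)) ≪≫
    (shiftFunctorAdd' (Dual.D C) (n : ℤ) (m : ℤ) ((m + n : ℕ) : ℤ) (by push_cast; ring)).app _ ≪≫
    (shiftFunctor (Dual.D C) (m : ℤ)).mapIso (((Rχ.commShiftIso (n : ℤ)).app _).symm ≪≫
      Rχ.mapIso (((DRing.LBaseChange (MvPolynomial.C : B →+* MvPolynomial (Fin m) B)).commShiftIso (n : ℤ)).app _).symm)⟩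

open scoped TensorProduct in
/-- Flat base change of the upper shriek. -/
theorem nonempty_via_bc {R R' A : Type u} [CommRing R] [CommRing R'] [CommRing A] [IsNoetherianRing R]
    [IsNoetherianRing R'] [IsNoetherianRing A] [Algebra R R'] [Module.Flat R R'] [Algebra R A]
    [IsNoetherianRing (R' ⊗[R] A)]
    (n : ℕ) (ψ : MvPolynomial (Fin n) R →ₐ[R] A) (hψ : Function.Surjective ψ)
    [DRing.HasLBaseChange (algebraMap R (MvPolynomial (Fin n) R))]
    {Rψ : Dual.D (MvPolynomial (Fin n) R) ⥤ Dual.D A} (adj : DRing.restrictD ψ.toRingHom ⊣ Rψ)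
    (m : ℕ) (ψ' : MvPolynomial (Fin m) R' →ₐ[R'] (R' ⊗[R] A)) (hψ' : Function.Surjective ψ')
    [DRing.HasLBaseChange (algebraMap R' (MvPolynomial (Fin m) R'))]
    {Rψ' : Dual.D (MvPolynomial (Fin m) R') ⥤ Dual.D (R' ⊗[R] A)} (adj' : DRing.restrictD ψ'.toRingHom ⊣ Rψ')
    [DRing.HasLBaseChange (Algebra.TensorProduct.includeRight : A →ₐ[R] R' ⊗[R] A).toRingHom]
    [DRing.HasLBaseChange (algebraMap R R')] (K : Dual.D R) (c : ℤ)
    (hK : ∀ i : ℤ, i < c → Subsingleton (Dual.HD R K i)) :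
    Nonempty ((DRing.LBaseChange (Algebra.TensorProduct.includeRight : A →ₐ[R] R' ⊗[R] A).toRingHom).obj
      (Dual2.shriekVia n Rψ K) ≅ Dual2.shriekVia m Rψ' ((DRing.LBaseChange (algebraMap R R')).obj K)) := by
  let P := MvPolynomial (Fin n) R
  let P' := MvPolynomial (Fin n) R'
  let ρ := algebraMap R R'
  let α := algebraMap R P
  let γ : P →+* P' := MvPolynomial.map ρ
  let b : A →+* R' ⊗[R] A := (Algebra.TensorProduct.includeRight : A →ₐ[R] R' ⊗[R] A).toRingHom
  let φ' : P' →ₐ[R'] R' ⊗[R] A := aeval fun i => b (ψ (MvPolynomial.X i))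
  have hsq : φ'.toRingHom.comp γ = b.comp ψ.toRingHom := by
    refine MvPolynomial.ringHom_ext (fun r => ?_) fun i => ?_
    · show φ' (MvPolynomial.map ρ (MvPolynomial.C r)) = b (ψ (MvPolynomial.C r))
      rw [MvPolynomial.map_C, ← MvPolynomial.algebraMap_eq, AlgHom.commutes, ← MvPolynomial.algebraMap_eq,
        AlgHom.commutes]
      exact ((Algebra.TensorProduct.includeRight : A →ₐ[R] R' ⊗[R] A).commutes r).symm
    · show φ' (MvPolynomial.map ρ (MvPolynomial.X i)) = b (ψ (MvPolynomial.X i))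
      rw [MvPolynomial.map_X, aeval_X]
  have H : IsPushout (CommRingCat.ofHom ψ.toRingHom) (CommRingCat.ofHom γ) (CommRingCat.ofHom b)
      (CommRingCat.ofHom φ'.toRingHom) := by
    refine IsPushout.of_left ?_ (CommRingCat.hom_ext hsq.symm) (RelPCS4.isPushout_poly ρ n)
    rw [← CommRingCat.ofHom_comp, ← CommRingCat.ofHom_comp,
      show ψ.toRingHom.comp MvPolynomial.C = algebraMap R A from ψ.comp_algebraMap,
      show φ'.toRingHom.comp MvPolynomial.C = algebraMap R' (R' ⊗[R] A) from φ'.comp_algebraMap]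
    exact (CommRingCat.isPushout_tensorProduct R R' A).flip
  have hφ' : Function.Surjective φ' := RelPCS4.surjective_of_isPushout H hψ
  have hρ : ρ.Flat := RingHom.flat_algebraMap_iff.2 inferInstance
  have hγ : γ.Flat := by
    haveI : AlgebraicGeometry.Flat (AlgebraicGeometry.Spec.map (CommRingCat.ofHom ρ)) :=
      (AlgebraicGeometry.HasRingHomProperty.Spec_iff (P := @AlgebraicGeometry.Flat)).2 hρ
    exact (AlgebraicGeometry.HasRingHomProperty.Spec_iff (P := @AlgebraicGeometry.Flat)).1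
      (MorphismProperty.of_isPullback (AlgebraicGeometry.isPullback_SpecMap_of_isPushout _ _ _ _
        (RelPCS4.isPushout_poly ρ n)).flip this)
  haveI := DQC.hasLBaseChange γ
  haveI := DQC.hasLBaseChange (γ.comp α)
  haveI := DQC.hasLBaseChange ((algebraMap R' P').comp ρ)
  haveI := DQC.hasLBaseChange (algebraMap R' P')
  haveI : DRing.HasLBaseChange b := ‹_›
  let L := (DRing.LBaseChange α).obj K
  have hL : ∀ i : ℤ, i < c → Subsingleton (Dual.HD P L i) := fun i hi =>
    haveI := hK i hi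
    subsingleton_HD_lbc α (RingHom.flat_algebraMap_iff.2 inferInstance) K i
  haveI := isLeftAdjoint_restrictD φ'.toRingHom
  let adjφ' := Adjunction.ofIsLeftAdjoint (DRing.restrictD φ'.toRingHom)
  obtain ⟨e⟩ := nonempty_bc_ring (P := CommRingCat.of P) (B := CommRingCat.of A) (P' := CommRingCat.of P')
    (B' := CommRingCat.of (R' ⊗[R] A)) (CommRingCat.ofHom ψ.toRingHom) (CommRingCat.ofHom γ)
    (CommRingCat.ofHom φ'.toRingHom) (CommRingCat.ofHom b) hψ hγ H adj adjφ' L c hL
  obtain ⟨l⟩ := nonempty_lbcComp α γ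
  obtain ⟨l'⟩ := nonempty_lbcComp ρ (algebraMap R' P')
  have hαγ : γ.comp α = (algebraMap R' P').comp ρ := RingHom.ext fun r => MvPolynomial.map_C ρ r
  have l₃ : Nonempty ((DRing.LBaseChange (γ.comp α)).obj K ≅ (DRing.LBaseChange ((algebraMap R' P').comp ρ)).obj K) := by
    revert ‹DRing.HasLBaseChange (γ.comp α)›
    rw [hαγ]
    intro _ _
    exact ⟨Iso.refl _⟩
  obtain ⟨ab⟩ := DBaseChange.nonempty_adjunction b
  letI := ab.leftAdjointCommShift ℤ
  obtain ⟨w⟩ := nonempty_via_indep m ψ' hψ' adj' n φ' hφ' adjφ' ((DRing.LBaseChange ρ).obj K)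
  exact ⟨((DRing.LBaseChange b).commShiftIso (n : ℤ)).app _ ≪≫
    (shiftFunctor (Dual.D (R' ⊗[R] A)) (n : ℤ)).mapIso (e ≪≫
      (DRing.restrictD φ'.toRingHom).rightAdjoint.mapIso (l.app K ≪≫ l₃.some ≪≫ (l'.app K).symm)) ≪≫ w.symm⟩

end Groth.Agent.BC8
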