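import Groth.Agent.Lib.BC8.ShriekViaFlat
import Groth.Agent.Lib.BC8.ShriekViaComp
import Groth.Agent.Lib.BC8.ShriekBridge
import Groth.Agent.Lib.RelPCS4.FlatBC

/-! Composition and flat base change for the algebraic upper shriek. -/

set_option autoImplicit false
set_option linter.style.haveILetI false
set_option linter.unusedSectionVars false
set_option backward.isDefEq.respectTransparency false
set_option backward.isDefEq.respectTransparency.types false
set_option maxHeartbeats 1000000

universe u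

open CategoryTheory CategoryTheory.Limits MvPolynomial

attribute [local instance] HasDerivedCategory.standard

noncomputable section

namespace Groth.Agent.BC8

open scoped TensorProduct in
/-- Base change of the upper shriek of a flat algebra. -/
theorem nonempty_via_bc_flat {R R' A : Type u} [CommRing R] [CommRing R'] [CommRing A] [IsNoetherianRing R]
    [IsNoetherianRing R'] [IsNoetherianRing A] [Algebra R R'] [Algebra R A] [Module.Flat R A]
    [IsNoetherianRing (R' ⊗[R] A)]
    (n : ℕ) (ψ : MvPolynomial (Fin n) R →ₐ[R] A) (hψ : Function.Surjective ψ)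
    [DRing.HasLBaseChange (algebraMap R (MvPolynomial (Fin n) R))]
    {Rψ : Dual.D (MvPolynomial (Fin n) R) ⥤ Dual.D A} (adj : DRing.restrictD ψ.toRingHom ⊣ Rψ)
    (m : ℕ) (ψ' : MvPolynomial (Fin m) R' →ₐ[R'] (R' ⊗[R] A)) (hψ' : Function.Surjective ψ')
    [DRing.HasLBaseChange (algebraMap R' (MvPolynomial (Fin m) R'))]
    {Rψ' : Dual.D (MvPolynomial (Fin m) R') ⥤ Dual.D (R' ⊗[R] A)} (adj' : DRing.restrictD ψ'.toRingHom ⊣ Rψ')
    [DRing.HasLBaseChange (Algebra.TensorProduct.includeRight : A →ₐ[R] R' ⊗[R] A).toRingHom]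
    [DRing.HasLBaseChange (algebraMap R R')] (K : Dual.D R) :
    Nonempty ((DRing.LBaseChange (Algebra.TensorProduct.includeRight : A →ₐ[R] R' ⊗[R] A).toRingHom).obj
      (Dual2.shriekVia n Rψ K) ≅ Dual2.shriekVia m Rψ' ((DRing.LBaseChange (algebraMap R R')).obj K)) := by
  let P := MvPolynomial (Fin n) R
  let P' := MvPolynomial (Fin n) R'
  let ρ := algebraMap R R'
  let α := algebraMap R P
  let γ : P →+* P' := MvPolynomial.map ρ
  let b : A →+* R' ⊗[R] A := (Algebra.TensorProduct.includeRight : A →ₐ[R] R' ⊗[R] A).toRingHom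
  let φ' : P' →ₐ[R'] R' ⊗[R] A := aeval fun i => b (ψ (MvPolynomial.X i))
  have hsq : φ'.toRingHom.comp γ = b.comp ψ.toRingHom := by
    refine MvPolynomial.ringHom_ext (fun r => ?_) fun i => ?_
    · show φ' (MvPolynomial.map ρ (MvPolynomial.C r)) = b (ψ (MvPolynomial.C r))
      rw [MvPolynomial.map_C, ← MvPolynomial.algebraMap_eq, AlgHom.commutes, ← MvPolynomial.algebraMap_eq,
        AlgHom.commutes]
      exact ((Algebra.TensorProduct.includeRight : A →ₐ[R] R' ⊗[R] A).commutes r).symm
    · show φ' (MvPolynomial.map ρ (MvPolynomial.X i)) = b (ψ (MvPolynomial.X i))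
      rw [MvPolynomial.map_X, aeval_X]
  have H : IsPushout (CommRingCat.ofHom ψ.toRingHom) (CommRingCat.ofHom γ) (CommRingCat.ofHom b)
      (CommRingCat.ofHom φ'.toRingHom) := by
    refine IsPushout.of_left ?_ (CommRingCat.hom_ext hsq.symm) (RelPCS4.isPushout_poly ρ n)
    rw [← CommRingCat.ofHom_comp, ← CommRingCat.ofHom_comp,
      show ψ.toRingHom.comp MvPolynomial.C = algebraMap R A from ψ.comp_algebraMap,
      show φ'.toRingHom.comp MvPolynomial.C = algebraMap R' (R' ⊗[R] A) from φ'.comp_algebraMap]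
    exact (CommRingCat.isPushout_tensorProduct R R' A).flip
  have hφ' : Function.Surjective φ' := RelPCS4.surjective_of_isPushout H hψ
  have hT : DBC9.TorIndep γ ψ.toRingHom :=
    Exact8.torIndep_pushout (RelPCS4.isPushout_poly ρ n) (CommRingCat.ofHom ψ.toRingHom)
      (RingHom.flat_algebraMap_iff.2 (inferInstance : Module.Flat R P)) (by
        rw [← CommRingCat.ofHom_comp, show ψ.toRingHom.comp MvPolynomial.C = algebraMap R A from ψ.comp_algebraMap]
        exact RingHom.flat_algebraMap_iff.2 inferInstance)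
  have hT' : DBC9.TorIndep ψ.toRingHom γ := fun q hq => by
    have h0 := hT q hq
    obtain ⟨k, rfl⟩ : ∃ k, q = k + 1 := ⟨q - 1, by omega⟩
    letI : Module P A := ψ.toRingHom.toModule
    letI : Module P P' := γ.toModule
    exact ModuleCat.subsingleton_of_isZero
      ((TorSymm3.isZero_tor_comm k P' A).1 (@ModuleCat.isZero_of_subsingleton _ _ _ h0))
  haveI := DQC.hasLBaseChange γ
  haveI := DQC.hasLBaseChange (γ.comp α)
  haveI := DQC.hasLBaseChange ((algebraMap R' P').comp ρ)
  haveI := DQC.hasLBaseChange (algebraMap R' P')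
  haveI : DRing.HasLBaseChange b := ‹_›
  let L := (DRing.LBaseChange α).obj K
  haveI := isLeftAdjoint_restrictD φ'.toRingHom
  let adjφ' := Adjunction.ofIsLeftAdjoint (DRing.restrictD φ'.toRingHom)
  obtain ⟨e⟩ := nonempty_bc_ring_tor (P := CommRingCat.of P) (B := CommRingCat.of A) (P' := CommRingCat.of P')
    (B' := CommRingCat.of (R' ⊗[R] A)) (CommRingCat.ofHom ψ.toRingHom) (CommRingCat.ofHom γ)
    (CommRingCat.ofHom φ'.toRingHom) (CommRingCat.ofHom b) hψ (isPerfectMor_pres n ψ hψ) H hT hT' adj adjφ' L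
  obtain ⟨l⟩ := nonempty_lbcComp α γ
  obtain ⟨l'⟩ := nonempty_lbcComp ρ (algebraMap R' P')
  have hαγ : γ.comp α = (algebraMap R' P').comp ρ := RingHom.ext fun r => MvPolynomial.map_C ρ r
  have l₃ : Nonempty ((DRing.LBaseChange (γ.comp α)).obj K ≅ (DRing.LBaseChange ((algebraMap R' P').comp ρ)).obj K) := by
    revert ‹DRing.HasLBaseChange (γ.comp α)›
    rw [hαγ]
    intro _ _
    exact ⟨Iso.refl _⟩
  obtain ⟨ab⟩ := DBaseChange.nonempty_adjunction b
  letI := ab.leftAdjointCommShift ℤ
  obtain ⟨w⟩ := nonempty_via_indep m ψ' hψ' adj' n φ' hφ' adjφ' ((DRing.LBaseChange ρ).obj K)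
  exact ⟨((DRing.LBaseChange b).commShiftIso (n : ℤ)).app _ ≪≫
    (shiftFunctor (Dual.D (R' ⊗[R] A)) (n : ℤ)).mapIso (e ≪≫
      (DRing.restrictD φ'.toRingHom).rightAdjoint.mapIso (l.app K ≪≫ l₃.some ≪≫ (l'.app K).symm)) ≪≫ w.symm⟩

end Groth.Agent.BC8
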