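import Groth.Agent.Lib.BC8.ShriekViaAmp
import Groth.Agent.Lib.BC8.ShriekViaBC
import Groth.Agent.Lib.FibDim14.BaseChange

/-! The tor amplitude over the base of the upper shriek of a flat algebra. -/

set_option autoImplicit false
set_option linter.style.haveILetI false
set_option linter.unusedSectionVars false
set_option backward.isDefEq.respectTransparency false
set_option backward.isDefEq.respectTransparency.types false
set_option maxHeartbeats 1000000

universe u

open CategoryTheory CategoryTheory.Limits MonoidalCategory AlgebraicGeometry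
open scoped TensorProduct

attribute [local instance] HasDerivedCategory.standard

noncomputable section

namespace Groth.Agent.BC8

/-- Vanishing below minus the bound on all local fibre dimensions. -/
theorem subsingleton_via_low {R A : Type u} [CommRing R] [CommRing A] [IsNoetherianRing R] [IsNoetherianRing A]
    [Algebra R A] (n : ℕ) (ψ : MvPolynomial (Fin n) R →ₐ[R] A) (hψ : Function.Surjective ψ)
    [DRing.HasLBaseChange (algebraMap R (MvPolynomial (Fin n) R))]
    {Rψ : Dual.D (MvPolynomial (Fin n) R) ⥤ Dual.D A} (adj : DRing.restrictD ψ.toRingHom ⊣ Rψ) (d : ℕ)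
    (hd : ∀ q : PrimeSpectrum A,
      FlatMor.fibreDimAt (Spec.map (CommRingCat.ofHom (algebraMap R A))) q ≤ (d : WithBot ℕ∞))
    (i : ℤ) (hi : i < -(d : ℤ)) : Subsingleton (Dual.HD A (Dual2.shriekVia n Rψ (Dual.inD R R)) i) := by
  refine subsingleton_of_forall_eq 0 fun m => ?_
  by_contra hm
  let J : Ideal A := LinearMap.ker (LinearMap.toSpanSingleton A _ m)
  have hJ : J ≠ ⊤ := fun h => hm (by
    have h1 : (1 : A) ∈ J := h ▸ Submodule.mem_top
    exact (one_smul A m).symm.trans h1)
  obtain ⟨M, hM, hJM⟩ := Ideal.exists_le_maximal J hJ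
  obtain ⟨g, hg, hvan⟩ := exists_away_low n ψ hψ adj ⟨M, hM.isPrime⟩ d (hd _)
  obtain ⟨s, ⟨k, rfl⟩, hs⟩ := (LocalizedModule.subsingleton_iff (S := Submonoid.powers g)).1 (hvan i hi) m
  exact hg (hM.isPrime.mem_of_pow_mem k (hJM hs))

/-- Vanishing of cyclic tensor products below gives a flat cokernel. -/
theorem flat_coker_cyclic {R : Type u} [CommRing R] (F : DRing.Cx R) (c : ℤ) (hF : _root_.Module.Flat R (F.X (c + 1)))
    (h : ∀ I : Ideal R,
      Subsingleton (((DBaseChange.tm (ModuleCat.of R (R ⧸ I))).obj F).homology c)) :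
    _root_.Module.Flat R (F.X (c + 1) ⧸ LinearMap.range (F.d c (c + 1)).hom) := by
  rw [_root_.Module.Flat.iff_lTensor_injective]
  intro I _
  rw [injective_iff_map_eq_zero]
  intro z hz
  let f := I.subtype
  let d₁ := (F.d c (c + 1)).hom
  let d₀ := (F.d (c - 1) c).hom
  let π := (LinearMap.range d₁).mkQ
  let q := Submodule.mkQ (I : Submodule R R)
  have hq : Function.Surjective q := Submodule.mkQ_surjective _
  have hfq : Function.Exact f q := LinearMap.exact_subtype_mkQ _
  have hdπ : Function.Exact d₁ π := LinearMap.exact_map_mkQ_range d₁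
  obtain ⟨w, rfl⟩ := LinearMap.rTensor_surjective I (Submodule.mkQ_surjective (LinearMap.range d₁)) z
  have e₁ : π.rTensor R (f.lTensor _ w) = 0 := by
    rw [← hz]
    exact LinearMap.congr_fun
      ((LinearMap.rTensor_comp_lTensor _ _ _).trans (LinearMap.lTensor_comp_rTensor _ _ _).symm) w
  obtain ⟨v, hv⟩ := (rTensor_exact R hdπ (Submodule.mkQ_surjective _) _).1 e₁
  have e₂ : d₁.rTensor _ (q.lTensor _ v) = 0 := by
    rw [show d₁.rTensor _ (q.lTensor _ v) = q.lTensor _ (d₁.rTensor R v) from LinearMap.congr_fun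
      ((LinearMap.rTensor_comp_lTensor _ _ _).trans (LinearMap.lTensor_comp_rTensor _ _ _).symm) v, hv,
      ← LinearMap.comp_apply, ← LinearMap.lTensor_comp, hfq.linearMap_comp_eq_zero,
      LinearMap.lTensor_zero, LinearMap.zero_apply]
  obtain ⟨u, hu⟩ := (DMod.subsingleton_homology_iff ((DBaseChange.tm (ModuleCat.of R (R ⧸ I))).obj F)
    (i := c - 1) (k := c + 1) (by simp) (by simp)).1 (h I) _ e₂
  change d₀.rTensor _ u = q.lTensor _ v at hu
  obtain ⟨u', rfl⟩ := LinearMap.lTensor_surjective (F.X (c - 1)) hq u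
  have e₃ : q.lTensor _ (v - d₀.rTensor R u') = 0 := by
    rw [map_sub, sub_eq_zero, ← hu]
    exact LinearMap.congr_fun
      ((LinearMap.rTensor_comp_lTensor _ _ _).trans (LinearMap.lTensor_comp_rTensor _ _ _).symm) u'
  obtain ⟨v', hv'⟩ := (lTensor_exact (F.X c) hfq hq _).1 e₃
  have hdd : d₁.rTensor R (d₀.rTensor R u') = 0 := by
    rw [← LinearMap.comp_apply, ← LinearMap.rTensor_comp,
      show d₁ ∘ₗ d₀ = 0 from congrArg ModuleCat.Hom.hom (F.d_comp_d (c - 1) c (c + 1)),
      LinearMap.rTensor_zero, LinearMap.zero_apply]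
  have e₄ : f.lTensor (F.X (c + 1)) (d₁.rTensor I v') = f.lTensor _ w := by
    rw [← hv, show f.lTensor (F.X (c + 1)) (d₁.rTensor I v') = d₁.rTensor R (f.lTensor _ v') from
      LinearMap.congr_fun
        ((LinearMap.lTensor_comp_rTensor _ _ _).trans (LinearMap.rTensor_comp_lTensor _ _ _).symm) v',
      hv', map_sub, hdd, sub_zero]
  rw [← _root_.Module.Flat.lTensor_preserves_injective_linearMap f I.subtype_injective e₄, ← LinearMap.comp_apply,
    ← LinearMap.rTensor_comp, hdπ.linearMap_comp_eq_zero, LinearMap.rTensor_zero, LinearMap.zero_apply]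

/-- Cyclic tensor products of a restriction from base change of algebras. -/
theorem subsingleton_tm_res {R A : Type u} [CommRing R] [CommRing A] [Algebra R A] (I : Ideal R) (F : DRing.Cx A) (l : ℤ)
    (h : Subsingleton (((DBaseChange.extCx
      (Algebra.TensorProduct.includeRight : A →ₐ[R] (R ⧸ I) ⊗[R] A).toRingHom).obj F).homology l)) :
    Subsingleton (((DBaseChange.tm (ModuleCat.of R (R ⧸ I))).obj
      ((DRing.restrictCx (algebraMap R A)).obj F)).homology l) := by
  let N := ModuleCat.of R (R ⧸ I)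
  let ψ : A →+* (R ⧸ I) ⊗[R] A := (Algebra.TensorProduct.includeRight : A →ₐ[R] (R ⧸ I) ⊗[R] A).toRingHom
  let c := TensorProduct.comm R A (R ⧸ I)
  let e : ModuleCat.of A (A ⊗[R] N) ≅ DBaseChange.algMod ψ := LinearEquiv.toModuleIso
    ({ c.toAddEquiv with
        map_smul' := fun x z => by
          show c (x • (z : A ⊗[R] (R ⧸ I))) = ψ x * c z
          induction z using TensorProduct.induction_on with
          | zero => simp
          | add z w hz hw => rw [smul_add, map_add, map_add, hz, hw, mul_add]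
          | tmul y k => simp [c, ψ, TensorProduct.smul_tmul', Algebra.TensorProduct.tmul_mul_tmul] } :
      (A ⊗[R] (R ⧸ I)) ≃ₗ[A] DBaseChange.algMod ψ)
  let r := DRing.restrictCx (algebraMap R A)
  let e₁ : (DRing.restrictCx (ψ.comp (algebraMap R A))).obj ((DBaseChange.extCx ψ).obj F) ≅
      r.obj ((DBaseChange.tm (DBaseChange.algMod ψ)).obj F) :=
    (NatIso.mapHomologicalComplex (DBaseChange.resExtIso (algebraMap R A) ψ _ rfl) (ComplexShape.up ℤ)).app F
  let e₂ : (DBaseChange.tm (DBaseChange.algMod ψ)).obj F ≅ (DBaseChange.tm (ModuleCat.of A (A ⊗[R] N))).obj F :=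
    (NatIso.mapHomologicalComplex ((tensoringRight (ModuleCat.{u} A)).mapIso e.symm) (ComplexShape.up ℤ)).app F
  let e₃ : r.obj ((DBaseChange.tm (ModuleCat.of A (A ⊗[R] N))).obj F) ≅ (DBaseChange.tm N).obj (r.obj F) :=
    (NatIso.mapHomologicalComplex (DBaseChange.tensorResIso N) (ComplexShape.up ℤ)).app F
  exact ((HomologicalComplex.homologyFunctor _ _ l).mapIso
    (e₁ ≪≫ r.mapIso e₂ ≪≫ e₃)).toLinearEquiv.toEquiv.subsingleton_congr.1
      ((DBaseChange.subsingleton_homology_res_iff (ψ.comp (algebraMap R A)) _ l).2 h)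

/-- Base changes to quotients of the base vanish below minus the fibre dimension. -/
theorem subsingleton_bc_low {R A : Type u} [CommRing R] [CommRing A] [IsNoetherianRing R] [IsNoetherianRing A]
    [Algebra R A] [Module.Flat R A] (n : ℕ) (ψ : MvPolynomial (Fin n) R →ₐ[R] A) (hψ : Function.Surjective ψ)
    [DRing.HasLBaseChange (algebraMap R (MvPolynomial (Fin n) R))]
    {Rψ : Dual.D (MvPolynomial (Fin n) R) ⥤ Dual.D A} (adj : DRing.restrictD ψ.toRingHom ⊣ Rψ) (d : ℕ)
    (hd : ∀ q : PrimeSpectrum A,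
      FlatMor.fibreDimAt (Spec.map (CommRingCat.ofHom (algebraMap R A))) q ≤ (d : WithBot ℕ∞))
    (I : Ideal R) [DRing.HasLBaseChange (Algebra.TensorProduct.includeRight : A →ₐ[R] (R ⧸ I) ⊗[R] A).toRingHom]
    (i : ℤ) (hi : i < -(d : ℤ)) :
    Subsingleton (Dual.HD ((R ⧸ I) ⊗[R] A)
      ((DRing.LBaseChange (Algebra.TensorProduct.includeRight : A →ₐ[R] (R ⧸ I) ⊗[R] A).toRingHom).obj
        (Dual2.shriekVia n Rψ (Dual.inD R R))) i) := by
  let R' := R ⧸ I
  let A' := R' ⊗[R] A
  haveI : Algebra.FiniteType R A := Algebra.FiniteType.of_surjective ψ hψ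
  haveI : IsNoetherianRing A' := Algebra.FiniteType.isNoetherianRing R' A'
  obtain ⟨m, ψ', hψ'⟩ := Algebra.FiniteType.iff_quotient_mvPolynomial''.1 (inferInstance : Algebra.FiniteType R' A')
  haveI := DQC.hasLBaseChange (algebraMap R R')
  haveI := DQC.hasLBaseChange (algebraMap R' (MvPolynomial (Fin m) R'))
  haveI := isLeftAdjoint_restrictD ψ'.toRingHom
  let adj' := Adjunction.ofIsLeftAdjoint (DRing.restrictD ψ'.toRingHom)
  obtain ⟨t⟩ := nonempty_via_bc_flat n ψ hψ adj m ψ' hψ' adj' (Dual.inD R R)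
  haveI : DRing.HasLBaseChange (CommRingCat.ofHom (algebraMap R R')).hom := ‹_›
  obtain ⟨o⟩ := nonempty_lbc_one (R := CommRingCat.of R) (P := CommRingCat.of R') (CommRingCat.ofHom (algebraMap R R'))
  have hd' : ∀ q' : PrimeSpectrum A',
      FlatMor.fibreDimAt (Spec.map (CommRingCat.ofHom (algebraMap R' A'))) q' ≤ (d : WithBot ℕ∞) := fun q' => by
    have hsq : IsPullback (Spec.map (CommRingCat.ofHom
        (Algebra.TensorProduct.includeRight : A →ₐ[R] A').toRingHom))
        (Spec.map (CommRingCat.ofHom (algebraMap R' A'))) (Spec.map (CommRingCat.ofHom (algebraMap R A)))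
        (Spec.map (CommRingCat.ofHom (algebraMap R R'))) :=
      (isPullback_SpecMap_of_isPushout _ _ _ _ (CommRingCat.isPushout_tensorProduct R R' A).flip)
    haveI : LocallyOfFiniteType (Spec.map (CommRingCat.ofHom (algebraMap R A))) :=
      (HasRingHomProperty.Spec_iff (P := @LocallyOfFiniteType)).2 (RingHom.finiteType_algebraMap.2 inferInstance)
    haveI : LocallyOfFiniteType (Spec.map (CommRingCat.ofHom (algebraMap R' A'))) :=
      (HasRingHomProperty.Spec_iff (P := @LocallyOfFiniteType)).2 (RingHom.finiteType_algebraMap.2 inferInstance)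
    rw [FibDim14.fibreDimAt_baseChange hsq q']
    exact hd _
  haveI := subsingleton_via_low m ψ' hψ' adj' d hd' i hi
  exact ModuleCat.subsingleton_of_isZero ((ModuleCat.isZero_of_subsingleton
    ((DerivedCategory.homologyFunctor (ModuleCat.{u} A') i).obj (Dual2.shriekVia m (DRing.restrictD ψ'.toRingHom).rightAdjoint (Dual.inD R' R')))).of_iso
      ((DerivedCategory.homologyFunctor _ i).mapIso
        (t ≪≫ (shiftFunctor (Dual.D A') (m : ℤ)).mapIso ((DRing.restrictD ψ'.toRingHom).rightAdjoint.mapIso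
          ((DRing.LBaseChange (algebraMap R' (MvPolynomial (Fin m) R'))).mapIso o)))))

/-- The tor amplitude over the base. -/
theorem torAmp_via_self {R A : Type u} [CommRing R] [CommRing A] [IsNoetherianRing R] [IsNoetherianRing A]
    [Algebra R A] [Module.Flat R A] (n : ℕ) (ψ : MvPolynomial (Fin n) R →ₐ[R] A) (hψ : Function.Surjective ψ)
    [DRing.HasLBaseChange (algebraMap R (MvPolynomial (Fin n) R))]
    {Rψ : Dual.D (MvPolynomial (Fin n) R) ⥤ Dual.D A} (adj : DRing.restrictD ψ.toRingHom ⊣ Rψ) (d : ℕ)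
    (hd : ∀ q : PrimeSpectrum A,
      FlatMor.fibreDimAt (Spec.map (CommRingCat.ofHom (algebraMap R A))) q ≤ (d : WithBot ℕ∞)) :
    DRing.HasTorAmplitudeIn R (-(d : ℤ)) 0
      ((DRing.restrictD (algebraMap R A)).obj (Dual2.shriekVia n Rψ (Dual.inD R R))) := by
  let ω := Dual2.shriekVia n Rψ (Dual.inD R R)
  haveI : ω.IsLE 0 := isLE_via_one n ψ hψ adj
  obtain ⟨F, hF, hFf, ⟨e⟩⟩ := DMod.exists_free_resolution ω 0
  let r := DRing.restrictCx (algebraMap R A)
  have hflat : ∀ i, _root_.Module.Flat R ((r.obj F).X i) := fun i => by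
    haveI := hFf i
    exact DBaseChange.flat_res (F.X i)
  haveI : (r.obj F).IsStrictlyLE 0 := (CochainComplex.isStrictlyLE_iff _ _).2 fun j hj =>
    Functor.map_isZero (ModuleCat.restrictScalars.{u} (algebraMap R A)) (F.isZero_of_isStrictlyLE 0 j hj)
  have hvan : ∀ i : ℤ, i < -(d : ℤ) → Subsingleton ((r.obj F).homology i) := fun i hi => by
    refine (DBaseChange.subsingleton_homology_res_iff _ F i).2 ?_
    haveI := subsingleton_via_low n ψ hψ adj d hd i hi
    exact (DMod.subsingleton_HD_toD_iff F i).1 (ModuleCat.subsingleton_of_isZero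
      ((ModuleCat.isZero_of_subsingleton ((DerivedCategory.homologyFunctor (ModuleCat.{u} A) i).obj ω)).of_iso ((DerivedCategory.homologyFunctor _ i).mapIso e)))
  obtain ⟨c, hc⟩ : ∃ c : ℤ, c + 1 = -(d : ℤ) := ⟨-(d : ℤ) - 1, by omega⟩
  haveI : (DRing.toD (r.obj F)).IsGE (-(d : ℤ)) := (DMod.isGE_iff _ _).2 fun i hi =>
    (DMod.subsingleton_HD_toD_iff _ i).2 (hvan i hi)
  obtain ⟨e'⟩ := DMod.exists_truncFrom_iso (r.obj F) (-(d : ℤ))
  refine ⟨DMod.truncFrom (r.obj F) (-(d : ℤ)), DMod.vanishesOutside_truncFrom (r.obj F) _ 0,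
    DMod.truncFrom_mem DMod.modClass_flat (r.obj F) _ (fun i _ => hflat i) ?_,
    ⟨e' ≪≫ ((ModuleCat.restrictScalars.{u} (algebraMap R A)).mapDerivedCategoryFactors.app F).symm ≪≫
      (DRing.restrictD (algebraMap R A)).mapIso e⟩⟩
  rw [← hc]
  have hh : ∀ j, j = c → _root_.Module.Flat R ((r.obj F).X (c + 1) ⧸ LinearMap.range ((r.obj F).d j (c + 1)).hom) := by
    intro j hj
    subst hj
    refine flat_coker_cyclic (r.obj F) j (hflat _) fun I => subsingleton_tm_res I F j ?_
    let b := (Algebra.TensorProduct.includeRight : A →ₐ[R] (R ⧸ I) ⊗[R] A).toRingHom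
    haveI := DQC.hasLBaseChange b
    haveI := subsingleton_bc_low n ψ hψ adj d hd I j (by omega)
    exact (DMod.subsingleton_HD_toD_iff _ j).1 (ModuleCat.subsingleton_of_isZero
      ((ModuleCat.isZero_of_subsingleton ((DerivedCategory.homologyFunctor (ModuleCat.{u} ((R ⧸ I) ⊗[R] A)) j).obj ((DRing.LBaseChange b).obj ω))).of_iso
        ((DerivedCategory.homologyFunctor _ j).mapIso
          ((DBaseChange.valueIso b F (DBaseChange.adapted_of_flat F 0 fun i => haveI := hFf i; inferInstance)).symm ≪≫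
            (DRing.LBaseChange b).mapIso e))))
  have := hh (c + 1 - 1) (by omega)
  exact _root_.Module.Flat.of_linearEquiv (DMod.truncFromBotEquiv (r.obj F) (c + 1)).symm

end Groth.Agent.BC8
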