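import Groth.Agent.Lib.BC8.ReflForm
import Groth.Agent.Lib.BC8.CohShriek
import Groth.Agent.Lib.RHom.PCoh
import Groth.Agent.Lib.RHom.Restrict
import Mathlib.CategoryTheory.Monad.Adjunction

/-! Reflexivity of the twisted inverse image of the structure sheaf along a perfect morphism. -/

set_option autoImplicit false
set_option linter.style.haveILetI false
set_option linter.unusedSectionVars false
set_option backward.isDefEq.respectTransparency false
set_option backward.isDefEq.respectTransparency.types false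
set_option maxHeartbeats 800000

universe u

open CategoryTheory CategoryTheory.Limits AlgebraicGeometry MonoidalCategory Pretriangulated

attribute [local instance] HasDerivedCategory.standard

namespace Groth.Agent.BC8

open DMon9 KFlat KFlat.Sch

attribute [local instance] preadditiveDM

/-- Extension by zero is fully faithful left adjoint to pullback to an open. -/
theorem exists_extZero_adj {X : Scheme.{u}} (V : X.Opens) :
    ∃ adj : CxOX.extZeroD V.ι ⊣ lP V.ι, IsIso adj.unit := by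
  let F := CxOX.extZero V.ι
  let G := Scheme.Modules.restrictFunctor V.ι
  let adj₀ : CxOX.extZeroD V.ι ⊣ DPerf.resD V.ι := DMV.adjD (CxOX.extZeroAdj V.ι)
  haveI : IsIso (CxOX.extZeroAdj V.ι).unit := NatIso.isIso_of_isIso_app _
  let n : F ⋙ G ≅ 𝟭 _ := (asIso (CxOX.extZeroAdj V.ι).unit).symm
  let Fc := F.mapHomologicalComplex (ComplexShape.up ℤ)
  let Gc := G.mapHomologicalComplex (ComplexShape.up ℤ)
  letI : Localization.Lifting DerivedCategory.Q
      (HomologicalComplex.quasiIso (V : Scheme.{u}).Modules (ComplexShape.up ℤ))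
      (Fc ⋙ Gc ⋙ DerivedCategory.Q) (CxOX.extZeroD V.ι ⋙ DPerf.resD V.ι) :=
    ⟨(Functor.associator _ _ _).symm ≪≫ Functor.isoWhiskerRight F.mapDerivedCategoryFactors _ ≪≫
      Functor.associator _ _ _ ≪≫ Functor.isoWhiskerLeft _ G.mapDerivedCategoryFactors⟩
  letI : Localization.Lifting DerivedCategory.Q
      (HomologicalComplex.quasiIso (V : Scheme.{u}).Modules (ComplexShape.up ℤ))
      (DerivedCategory.Q : _ ⥤ DCoh.D (V : Scheme.{u})) (𝟭 _) :=
    ⟨Functor.rightUnitor _⟩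
  let j₀ : CxOX.extZeroD V.ι ⋙ DPerf.resD V.ι ≅ 𝟭 _ :=
    Localization.liftNatIso DerivedCategory.Q (HomologicalComplex.quasiIso (V : Scheme.{u}).Modules (ComplexShape.up ℤ))
      (Fc ⋙ Gc ⋙ DerivedCategory.Q) DerivedCategory.Q _ _
      ((Functor.associator _ _ _).symm ≪≫ Functor.isoWhiskerRight
        (NatIso.mapHomologicalComplex n (ComplexShape.up ℤ) ≪≫ Functor.mapHomologicalComplexIdIso _ _) _ ≪≫
        Functor.leftUnitor _)
  let adj := adj₀.ofNatIsoRight (lPRes V.ι).symm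
  exact ⟨adj, adj.isIso_unit_of_iso (Functor.isoWhiskerLeft _ (lPRes V.ι) ≪≫ j₀)⟩

/-- On an affine scheme maps out of shifted structure sheaves detect isomorphisms of quasi-coherent objects. -/
theorem isIso_of_bijective_one {Z : Scheme.{u}} [IsAffine Z] {A B : DCoh.D Z} (hA : DCoh.IsQCohD A)
    (hB : DCoh.IsQCohD B) (φ : A ⟶ B)
    (h : ∀ m : ℤ, Function.Bijective fun x : TwistBC9.oneD Z m ⟶ A => x ≫ φ) : IsIso φ := by
  obtain ⟨C, g, δ, hT⟩ := distinguished_cocone_triangle φ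
  have hC : DCoh.IsQCohD C := DPush.isQCohD_obj₃ _ hT hA hB
  refine (Triangle.isZero₃_iff_isIso₁ _ hT).1 ?_
  let σ := shiftFunctor (DCoh.D Z) (1 : ℤ)
  have h0 : ∀ (m : ℤ) (s : TwistBC9.oneD Z m ⟶ C), s = 0 := by
    intro m s
    obtain ⟨e⟩ := nonempty_shiftOne' Z (m + 1) 1
    let e' : (TwistBC9.oneD Z (m + 1))⟦(1 : ℤ)⟧ ≅ TwistBC9.oneD Z m :=
      e ≪≫ eqToIso (by congr 1; omega)
    have h1 : s ≫ δ = 0 := by
      obtain ⟨t, ht⟩ := σ.map_surjective (e'.hom ≫ s ≫ δ)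
      have ht0 : t ≫ φ = 0 := σ.map_injective (by
        rw [σ.map_comp, ht, σ.map_zero, Category.assoc, Category.assoc,
          show δ ≫ σ.map φ = 0 from comp_distTriang_mor_zero₃₁ _ hT, comp_zero, comp_zero])
      have : t = 0 := (h (m + 1)).1 (ht0.trans zero_comp.symm)
      rw [this, σ.map_zero] at ht
      exact (cancel_epi e'.hom).1 (ht.symm.trans comp_zero.symm)
    obtain ⟨t, ht⟩ := Triangle.coyoneda_exact₃ _ hT s h1
    obtain ⟨t', rfl⟩ := (h m).2 t
    rw [ht]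
    show (t' ≫ φ) ≫ g = 0
    rw [Category.assoc, show φ ≫ g = 0 from comp_distTriang_mor_zero₁₂ _ hT, comp_zero]
  have hz : ∀ m, IsZero (DCoh.HD C m) := fun m => by
    refine DPerf.isZero_of_cover (fun _ : PUnit.{1} => (⊤ : Z.Opens))
      (fun x => ⟨PUnit.unit, trivial⟩) fun _ => ?_
    refine DPush.isZero_restrict_of_sections_affine (hC m) (isAffineOpen_top Z) ⟨fun s t => ?_⟩
    refine ((DQC.genHom ⊤ _).symm).injective ?_
    obtain ⟨s', hs⟩ := (DQC.bijective_θ C hC (isAffineOpen_top Z) m).2 ((DQC.genHom ⊤ _).symm s)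
    obtain ⟨t', ht⟩ := (DQC.bijective_θ C hC (isAffineOpen_top Z) m).2 ((DQC.genHom ⊤ _).symm t)
    let e : TwistBC9.oneD Z m ≅ (DerivedCategory.singleFunctor Z.Modules m).obj ((DQC.gen Z).obj ⊤) :=
      (DerivedCategory.singleFunctor Z.Modules m).mapIso (RHom.topIso (X := Z))
    rw [← hs, ← ht, (cancel_epi e.hom).1 ((h0 m (e.hom ≫ s')).trans (h0 m (e.hom ≫ t')).symm)]
  haveI : IsIso (0 : C ⟶ C) :=
    (DerivedCategory.isIso_iff Z.Modules _).2 fun i => ⟨0, (hz i).eq_of_src _ _, (hz i).eq_of_src _ _⟩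
  exact (IsZero.iff_id_eq_zero C).2 (by rw [← IsIso.hom_inv_id (0 : C ⟶ C), zero_comp])

section TenBij

variable {X : Scheme.{u}}

/-- Tensoring with `G` is bijective on maps from `T` to the structure sheaf. -/
def TenBij (G T : DCoh.D X) : Prop := Function.Bijective fun y : T ⟶ oneD X => (tenL G).map y

theorem bijective_map_iso {C D : Type*} [Category* C] [Category* D] {F F' : C ⥤ D} (e : F ≅ F') {A B : C}
    (h : Function.Bijective fun y : A ⟶ B => F.map y) : Function.Bijective fun y : A ⟶ B => F'.map y := by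
  have : (fun y : A ⟶ B => F'.map y) = (e.app A).homCongr (e.app B) ∘ fun y : A ⟶ B => F.map y := by
    funext y
    simp [Iso.homCongr]
  rw [this]
  exact (Equiv.bijective _).comp h

theorem bijective_map_obj {C D : Type*} [Category* C] [Category* D] (F : C ⥤ D) {A A' B B' : C} (e : A ≅ A')
    (e' : B ≅ B') (h : Function.Bijective fun y : A ⟶ B => F.map y) :
    Function.Bijective fun y : A' ⟶ B' => F.map y := by
  have : (fun y : A' ⟶ B' => F.map y) =
      (F.mapIso e).homCongr (F.mapIso e') ∘ (fun y : A ⟶ B => F.map y) ∘ (e.homCongr e').symm := by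
    funext y
    simp [Iso.homCongr]
    try rw [← F.map_comp, ← F.map_comp, ← F.map_comp, ← F.map_comp]
  rw [this]
  exact (Equiv.bijective _).comp (h.comp (Equiv.bijective _))

theorem tenBij_congr {G G' : DCoh.D X} (e : tenL G ≅ tenL G') {T : DCoh.D X} (h : TenBij G T) : TenBij G' T :=
  bijective_map_iso e h

theorem tenBij_shift {G B : DCoh.D X} (d : ℤ) (e : tenL G ≅ tenL B ⋙ shiftFunctor (DCoh.D X) d) {T : DCoh.D X}
    (h : TenBij B T) : TenBij G T :=
  bijective_map_iso e.symm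
    (((Functor.FullyFaithful.ofFullyFaithful (shiftFunctor (DCoh.D X) d)).homEquiv).bijective.comp h)

theorem tenBij_obj {G T T' : DCoh.D X} (e : T ≅ T') (h : TenBij G T) : TenBij G T' :=
  bijective_map_obj _ e (Iso.refl _) h

/-- The tensor unit is the structure sheaf. -/
noncomputable def oneIso (X : Scheme.{u}) : TwistBC9.oneD X 0 ≅ oneD X :=
  (unitIso (O := oQ X) (Iso.refl _) :)

/-- Transport along an isomorphism of schemes. -/
theorem tenBij_of_iso {V Z : Scheme.{u}} (k : V ⟶ Z) [IsIso k] {G T : DCoh.D Z} (h : TenBij G T) :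
    TenBij ((lP k).obj G) ((lP k).obj T) := by
  haveI : (lP k).IsEquivalence :=
    (CategoryTheory.Equivalence.mk (lP k) (lP (inv k))
      ((DBC9.lPId Z).symm ≪≫ (lPComp (inv k) k (IsIso.inv_hom_id k)).symm)
      (lPComp k (inv k) (IsIso.hom_inv_id k) ≪≫ DBC9.lPId V)).isEquivalence_functor
  let δ : tenL G ⋙ lP k ≅ lP k ⋙ tenL ((lP k).obj G) := (Functor.Monoidal.commTensorLeft (dPull k) (G : DM Z)).symm
  have h1 : Function.Bijective fun y : T ⟶ oneD Z => (lP k ⋙ tenL ((lP k).obj G)).map y :=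
    bijective_map_iso δ (((Functor.FullyFaithful.ofFullyFaithful (lP k)).homEquiv).bijective.comp h)
  have h2 : Function.Bijective fun y : (lP k).obj T ⟶ (lP k).obj (oneD Z) => (tenL ((lP k).obj G)).map y :=
    (Function.Bijective.of_comp_iff _
      ((Functor.FullyFaithful.ofFullyFaithful (lP k)).homEquiv (X := T) (Y := oneD Z)).bijective).1 h1
  obtain ⟨l⟩ := TwistBC9.nonempty_lP_oneM k 0
  exact bijective_map_obj _ (Iso.refl _) ((lP k).mapIso (oneIso Z).symm ≪≫ l ≪≫ oneIso V) h2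

end TenBij

section Closed

variable {Z W : Scheme.{u}} [IsNoetherian W] (i : Z ⟶ W) [IsClosedImmersion i] [DCoh.HasRpush i]
  {hi : DCoh.RpushPreservesQCoh i} {b : DCoh.DQCoh W ⥤ DCoh.DQCoh Z} (adjb : DCoh.RpushQ i hi ⊣ b)

include adjb in
/-- Reflexivity for a perfect closed immersion. -/
theorem bij_upper (hperf : MoreMor.IsPerfectMor i) (T : DCoh.D W) (hT : DCoh.IsQCohD T) :
    TenBij (b.obj (oQ W)).obj ((lP i).obj T) := by
  haveI : CompactSpace Z := QuasiCompact.compactSpace_of_compactSpace i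
  haveI : QuasiSeparatedSpace Z := quasiSeparatedSpace_of_quasiSeparated i
  let C : DM W := (rM i).obj (𝟙_ (DM Z))
  have hC : DCoh.IsPerfect (C : DCoh.D W) := by
    have h1 : DCoh.IsPerfect ((DCoh.Rpush i).obj (TwistBC9.oneD Z 0)) :=
      RelPCS8.TorRpush.isPerfect_rpush i hperf _ 0 (TwistBC9.isPerfect_oneD Z)
    exact DGen9.isPerfect_of_iso ((DCoh.Rpush i).mapIso (oneIso Z) :) h1
  obtain ⟨D, hD, ⟨pr⟩⟩ := exists_pairing_left_perfect C hC
  haveI := pr
  let G : DM Z := (b.obj (oQ W)).obj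
  let eW : ((oQ W).obj : DM W) ≅ 𝟙_ (DM W) := unitIso (Iso.refl _)
  let ε : (rM i).obj G ⟶ 𝟙_ (DM W) := (adjb.counit.app (oQ W)).hom ≫ eW.hom
  have hG : DCoh.IsQCohD (G : DCoh.D Z) := (b.obj (oQ W)).property
  have hε : ∀ K : DM Z, DCoh.IsQCohD (K : DCoh.D Z) →
      Function.Bijective fun u : K ⟶ G => (rM i).map u ≫ ε := by
    intro K hK
    let Kq : DCoh.DQCoh Z := ⟨K, hK⟩
    let ι := ObjectProperty.fullyFaithfulι (DCoh.IsQCohD (X := W))
    let e : (K ⟶ G) ≃ ((rM i).obj K ⟶ 𝟙_ (DM W)) :=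
      (((ObjectProperty.fullyFaithfulι (DCoh.IsQCohD (X := Z))).homEquiv (X := Kq) (Y := b.obj (oQ W))).symm.trans
        ((adjb.homEquiv Kq (oQ W)).symm.trans (ι.homEquiv.trans eW.homToEquiv)))
    convert e.bijective using 1
    funext u
    show (rM i).map u ≫ _ = ((adjb.homEquiv Kq (oQ W)).symm _).hom ≫ eW.hom
    rw [adjb.homEquiv_counit]
    exact (Category.assoc _ _ _).symm
  haveI : IsIso (qApp (adjM i) D) := isIso_qApp i D (DGen9.isQCohD_of_isPerfect hD)
  haveI : IsIso (qApp (adjM i) ((rM i).obj G)) := isIso_qApp i _ (hi _ hG)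
  haveI : IsIso (projApp (adjM i) G (T : DM W)) := isIso_projT i G hG T hT
  have h := bijective_whisker (adjM i) ε (Q := D) (T := (T : DM W))
    (hε _ (isQCohD_lP i (DGen9.isQCohD_of_isPerfect hD))) (hε _ (isQCohD_lP i (hi _ hG)))
    (hε _ (isQCohD_tensor (A := G) (B := (dPull i).obj (T : DM W)) hG (isQCohD_lP i hT)))
  exact h

end Closed

variable {X Y Xb : Scheme.{u}} [IsNoetherian Y] (f : X ⟶ Y) [LocallyOfFiniteType f]
  (hperf : MoreMor.IsPerfectMor f)
  (p : Xb ⟶ Y) [IsProper p] (j : X ⟶ Xb) [IsOpenImmersion j] (hfac : j ≫ p = f) [DCoh.HasRpush p]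
  {hp : DCoh.RpushPreservesQCoh p} (a : DCoh.DQCoh Y ⥤ DCoh.DQCoh Xb) (adj : DCoh.RpushQ p hp ⊣ a)

include hperf hfac adj in
/-- Locally, tensoring with `f^!O` is bijective on maps to the structure sheaf. -/
theorem exists_bij (x : X) :
    ∃ V : X.Opens, x ∈ V ∧ IsAffine (V : Scheme.{u}) ∧
      ∀ m : ℤ, TenBij ((lP V.ι).obj ((phiF j a).obj (oQ Y))) (TwistBC9.oneD (V : Scheme.{u}) m) := by
  obtain ⟨Z, W, u, _, i, _, g, _, _, _, _, hi, b, adjb, d, hxu, w, ⟨n⟩⟩ := exists_chart f p j hfac adj x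
  haveI : IsAffine Z := isAffine_of_isAffineHom i
  have hiperf : MoreMor.IsPerfectMor i := (PCMor4.isPerfectMor_iff i).2
    (PCMor4.pfMor_of_comp_smooth i g (w ▸ PCMor4.pfMor_comp u f (PCMor4.pfMor_of_flat u)
      ((PCMor4.isPerfectMor_iff f).1 hperf)))
  let k : (u.opensRange : Scheme.{u}) ⟶ Z := u.isoOpensRange.inv
  have hk : k ≫ u = u.opensRange.ι := Scheme.Hom.isoOpensRange_inv_comp u
  haveI : IsIso k := inferInstanceAs (IsIso u.isoOpensRange.inv)
  obtain ⟨_, _⟩ := exists_triangulated i hi adjb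
  let G : DCoh.D Z := (lP u).obj ((phiF j a).obj (oQ Y))
  let B : DCoh.D Z := (b.obj (oQ W)).obj
  obtain ⟨l⟩ := TwistBC9.nonempty_lP_oneM g 0
  let eg : (lq g).obj (oQ Y) ≅ oQ W := ObjectProperty.isoMk _ l
  obtain ⟨s⟩ := nonempty_tenL_one (-d) (TwistBC9.oneD Z (-d)) (Iso.refl _)
  let s' : tenL (TwistBC9.oneD Z (-d)) ≅ shiftFunctor (DCoh.D Z) d :=
    s ≪≫ eqToIso (by rw [neg_neg])
  let eG : G ≅ (tenL (TwistBC9.oneD Z (-d))).obj B :=
    n.app (⟨oQ Y, isBdd_oQ Y⟩ : (Dual3.IsBddBelowQ Y).FullSubcategory) ≪≫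
      (ObjectProperty.ι _).mapIso (b.mapIso ((shiftFunctor (DCoh.DQCoh W) d).mapIso eg) ≪≫
        (b.commShiftIso d).app (oQ W)) ≪≫ shObj (b.obj (oQ W)) d ≪≫ (s'.app B).symm
  obtain ⟨t⟩ := nonempty_tenL_congr eG
  let S : DM Z := TwistBC9.oneD Z (-d)
  let B' : DM Z := B
  let tt : tenL ((tenL (TwistBC9.oneD Z (-d))).obj B) ≅ tenL B ⋙ shiftFunctor (DCoh.D Z) d :=
    (MonoidalCategory.tensorLeftTensor S B' :) ≪≫ Functor.isoWhiskerLeft (tenL B) s'
  refine ⟨u.opensRange, hxu, IsAffine.of_isIso k, fun m => ?_⟩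
  obtain ⟨li⟩ := TwistBC9.nonempty_lP_oneM i m
  obtain ⟨lk⟩ := TwistBC9.nonempty_lP_oneM k m
  have hZ : TenBij G (TwistBC9.oneD Z m) := tenBij_shift d (t ≪≫ tt)
    (tenBij_obj li (bij_upper i adjb hiperf (TwistBC9.oneD W m)
      (DGen9.isQCohD_of_isPerfect (isPerfect_of_locShift (locShift_one W m)))))
  obtain ⟨tκ⟩ := nonempty_tenL_congr ((lPComp k u hk).app ((phiF j a).obj (oQ Y)))
  exact tenBij_congr tκ (tenBij_obj lk (tenBij_of_iso k hZ))

include hperf hfac adj in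
/-- The map to the endomorphisms of `f^!O` is an isomorphism. -/
theorem isIso_adjunct [CompactSpace X] (E : CochainComplex X.Modules ℤ) [DCoh.HasLTensorCx E] [DCoh.HasRSheafHom E]
    (eE : DCoh.toD X E ≅ (phiF j a).obj (oQ Y))
    (υ : (DCoh.LTensorCx E).obj (DCoh.inD X (Coh.structureModule X)) ≅ DCoh.toD X E) :
    IsIso ((DCoh.RSheafHomAdj E).homEquiv _ _ υ.hom) := by
  haveI : IsLocallyNoetherian X := LocallyOfFiniteType.isLocallyNoetherian f
  obtain ⟨N, hΦ, -, -⟩ := exists_amp f hperf p j hfac a adj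
  have hO : (oQ Y).obj.IsGE 0 ∧ (oQ Y).obj.IsLE 0 :=
    ⟨inferInstanceAs (DerivedCategory.IsGE ((DerivedCategory.singleFunctor Y.Modules 0).obj (Coh.structureModule Y)) 0),
      inferInstanceAs (DerivedCategory.IsLE ((DerivedCategory.singleFunctor Y.Modules 0).obj (Coh.structureModule Y)) 0)⟩
  have hcohO : ∀ l, Coh.IsCoh (DCoh.HD (oQ Y).obj l) := by
    haveI := DPush9.isWeakSerre_coh Y
    exact WayOut.cohIn_single (fun M : Y.Modules => Coh.IsCoh M) (M1.isCoh_structureModule Y) 0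
  haveI hEge : (DCoh.toD X E).IsGE (0 - N) := isGE_of_iso eE.symm (hΦ.1 _ _ hO.1)
  haveI hEle : (DCoh.toD X E).IsLE (0 + N) := isLE_of_iso eE.symm (hΦ.2 _ _ _ hO.1 hO.2)
  have hEcoh : DCoh.IsCohD (DCoh.toD X E) := fun l =>
    isCoh_iso ((DerivedCategory.homologyFunctor _ l).mapIso eE.symm)
      (isCoh_HD_phiF f p j hfac a adj (oQ Y) 0 hO.1 hcohO l)
  let O := DCoh.inD X (Coh.structureModule X)
  let R := (DCoh.RSheafHom E).obj (DCoh.toD X E)
  have hR : DCoh.IsQCohD R := fun l => RHom.isQCoh_HD_rhom E (DCoh.toD X E) (0 - N) (m := 0 - N - l - 1)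
    (DPerf.isPseudoCoherentD_of_coherent (fun q _ => hEcoh q) (0 + N)) (fun q => (hEcoh q).1) l (by omega)
  have hO' : DCoh.IsQCohD O := DGen9.isQCohD_of_isPerfect (TwistBC9.isPerfect_oneD X)
  let φ : O ⟶ R := (DCoh.RSheafHomAdj E).homEquiv _ _ υ.hom
  obtain ⟨θ⟩ := nonempty_ltensor_tenL E ((phiF j a).obj (oQ Y)) eE
  refine isIso_of_lP_cover φ fun x => ?_
  obtain ⟨V, hx, hV, hbij⟩ := exists_bij f hperf p j hfac a adj x
  haveI := hV
  haveI := KFlat.Sch.hasLTensorCx ((DCoh.restrictCx V).obj E)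
  obtain ⟨adjV, _⟩ := exists_extZero_adj V
  let χ : lP V.ι ⋙ tenL ((lP V.ι).obj ((phiF j a).obj (oQ Y))) ≅ DCoh.LTensorCx E ⋙ lP V.ι :=
    (Functor.Monoidal.commTensorLeft (dPull V.ι) ((phiF j a).obj (oQ Y) : DM X) :
      lP V.ι ⋙ tenL ((lP V.ι).obj ((phiF j a).obj (oQ Y))) ≅ tenL ((phiF j a).obj (oQ Y)) ⋙ lP V.ι) ≪≫
      Functor.isoWhiskerRight θ.symm _
  obtain ⟨l⟩ := TwistBC9.nonempty_lP_oneM V.ι 0
  refine ⟨V, hx, isIso_of_bijective_one (isQCohD_lP _ hO') (isQCohD_lP _ hR) _ fun m => ?_⟩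
  exact bijective_restrict_adjunct adjV (DCoh.RSheafHomAdj E) χ (TwistBC9.oneD (V : Scheme.{u}) m)
    ⟨_, ⟨((RHom.projD V E).app _).symm⟩⟩ υ
    (bijective_map_obj _ (Iso.refl _) (oneIso _).symm (hbij m) |>
      bijective_map_obj _ (Iso.refl _) l.symm)

end Groth.Agent.BC8
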