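import Groth.Agent.Lib.BC8.ShriekViaOne
import Groth.Agent.Lib.BC8.Refl
import Groth.Agent.Lib.BC8.DlzTen
import Groth.Agent.Lib.DlzFin27.Apps

/-! The algebraic upper shriek of a flat ring map. -/

set_option autoImplicit false
set_option linter.style.haveILetI false
set_option linter.unusedSectionVars false
set_option backward.isDefEq.respectTransparency false
set_option backward.isDefEq.respectTransparency.types false
set_option maxHeartbeats 1000000

universe u

open CategoryTheory CategoryTheory.Limits AlgebraicGeometry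
open scoped TensorProduct

attribute [local instance] HasDerivedCategory.standard

noncomputable section

namespace Groth.Agent.BC8

open DMon9

/-- Reflexivity read in the derived category of modules. -/
theorem end_bijective_of_tenBij {A : Type u} [CommRing A] (ω : Dual.D A)
    (h : ∀ m : ℤ, TenBij ((DPerf.tildeDD (CommRingCat.of A)).obj ω) (TwistBC9.oneD (Spec (CommRingCat.of A)) m)) :
    Function.Bijective (fun a : A => a • 𝟙 ω) ∧ ∀ i : ℤ, i ≠ 0 → Subsingleton (ω ⟶ ω⟦i⟧) := by
  let S := Spec (CommRingCat.of A)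
  letI : S.Over (Spec (CommRingCat.of A)) := ⟨𝟙 S⟩
  haveI := PCHH9.linear_tilde A (rfl : (S ↘ Spec (CommRingCat.of A)) = 𝟙 S)
  let T := DPerf.tildeDD (CommRingCat.of A)
  let G := T.obj ω
  let E : CochainComplex S.Modules ℤ := (DerivedCategory.Q (C := S.Modules)).objPreimage G
  let eE : DCoh.toD S E ≅ G := (DerivedCategory.Q (C := S.Modules)).objObjPreimageIso G
  haveI := KFlat.Sch.hasLTensorCx E
  haveI : (DCoh.LTensorCx E).Linear A := ExtFin9.linear_LT A E
  obtain ⟨tl⟩ := nonempty_ltensor_tenL E G eE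
  obtain ⟨tr⟩ := nonempty_ltensor_tenR E G eE
  let F := DCoh.LTensorCx E
  let P := DGen9.pt (R := A) 0
  let eO : ∀ k : ℤ, T.obj (P⟦-k⟧) ≅ TwistBC9.oneD S k := fun k =>
    (T.commShiftIso (-k)).app P ≪≫ (shiftFunctor (DCoh.D S) (-k)).mapIso (DGen9.KO.oneIso (R := CommRingCat.of A)).symm ≪≫
      (((DerivedCategory.singleFunctors S.Modules).shiftIso (-k) k 0 (by omega)).app (Coh.structureModule S))
  have eF : ∀ k : ℤ, Nonempty (F.obj (TwistBC9.oneD S k) ≅ T.obj (ω⟦-k⟧)) := fun k => by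
    obtain ⟨s⟩ := nonempty_tenL_one k (TwistBC9.oneD S k) (Iso.refl _)
    exact ⟨tr.app (TwistBC9.oneD S k) ≪≫ s.app G ≪≫ ((T.commShiftIso (-k)).app ω).symm⟩
  have hT : ∀ N M, Function.Bijective fun f : N ⟶ M => T.map f := DQC.bijective_map
  have hF : ∀ m : ℤ, Function.Bijective fun y : TwistBC9.oneD S m ⟶ TwistBC9.oneD S 0 => F.map y := fun m =>
    bijective_map_iso tl.symm (bijective_map_obj _ (Iso.refl _) (oneIso S).symm (h m))
  obtain ⟨i0⟩ := eF 0
  refine ⟨?_, fun i hi => ?_⟩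
  · have h1 : Function.Bijective fun a : A => a • 𝟙 (TwistBC9.oneD S 0) :=
      bijective_smul_of_iso A (eO 0) (bijective_smul_map A T (hT _ _) (bijective_smul_pt A (-0)))
    have h2 : Function.Bijective fun a : A => a • 𝟙 (F.obj (TwistBC9.oneD S 0)) :=
      bijective_smul_map A F (hF 0) h1
    have h3 := bijective_smul_of_iso A i0 h2
    have h4 : (fun a : A => a • 𝟙 (T.obj (ω⟦(-0 : ℤ)⟧))) =
        (fun f : ω⟦(-0 : ℤ)⟧ ⟶ ω⟦(-0 : ℤ)⟧ => T.map f) ∘ fun a : A => a • 𝟙 (ω⟦(-0 : ℤ)⟧) := by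
      funext a
      exact ((T.map_smul _ _).trans (congrArg (a • ·) (T.map_id _))).symm
    rw [h4] at h3
    exact bijective_smul_of_iso A ((shiftFunctorZero' (Dual.D A) (-0) neg_zero).app ω)
      ((Function.Bijective.of_comp_iff' (hT _ _) _).1 h3)
  · obtain ⟨iM⟩ := eF i
    haveI := subsingleton_pt (A := A) (n := i) hi
    haveI s1 : Subsingleton (P⟦-i⟧ ⟶ P⟦(-0 : ℤ)⟧) := subsingleton_hom_shift (-i) (-0) i (by omega)
    haveI t1 : Subsingleton (TwistBC9.oneD S i ⟶ TwistBC9.oneD S 0) :=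
      (((eO i).homCongr (eO 0)).symm.trans (Equiv.ofBijective _ (hT _ _)).symm).subsingleton
    haveI t2 : Subsingleton (F.obj (TwistBC9.oneD S i) ⟶ F.obj (TwistBC9.oneD S 0)) :=
      (Equiv.ofBijective _ (hF i)).symm.subsingleton
    haveI t3 : Subsingleton (ω⟦-i⟧ ⟶ ω⟦(-0 : ℤ)⟧) :=
      ((Equiv.ofBijective _ (hT _ _)).trans (iM.homCongr i0).symm).subsingleton
    exact ((Functor.FullyFaithful.ofFullyFaithful (shiftFunctor (Dual.D A) (-i))).homEquiv.trans
      ((Iso.refl _).homCongr (((shiftFunctorCompIsoId (Dual.D A) i (-i) (by omega)).app ω) ≪≫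
        ((shiftFunctorZero' (Dual.D A) (-0) neg_zero).app ω).symm))).subsingleton

variable {R A : Type u} [CommRing R] [CommRing A] [IsNoetherianRing R] [IsNoetherianRing A] [Algebra R A]
  [Module.Flat R A] (n : ℕ) (ψ : MvPolynomial (Fin n) R →ₐ[R] A) (hψ : Function.Surjective ψ)

include hψ in
/-- A presentation of a flat algebra is perfect. -/
theorem isPerfectMor_pres : MoreMor.IsPerfectMor (Spec.map (CommRingCat.ofHom ψ.toRingHom)) := by
  let P := MvPolynomial (Fin n) R
  let φ : CommRingCat.of P ⟶ CommRingCat.of A := CommRingCat.ofHom ψ.toRingHom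
  haveI : IsClosedImmersion (Spec.map φ) := IsClosedImmersion.spec_of_surjective _ hψ
  let s : Spec (CommRingCat.of P) ⟶ Spec (CommRingCat.of R) := Spec.map (CommRingCat.ofHom (algebraMap R P))
  haveI : Smooth s := (HasRingHomProperty.Spec_iff (P := @Smooth)).2
    (RingHom.smooth_algebraMap.2 ⟨inferInstance, inferInstance⟩)
  have hft : Algebra.FiniteType R A := Algebra.FiniteType.of_surjective ψ hψ
  refine (PCMor4.isPerfectMor_iff _).2 (PCMor4.pfMor_of_comp_smooth _ s ?_)
  rw [← Spec.map_comp, ← CommRingCat.ofHom_comp, show ψ.toRingHom.comp (algebraMap R P) = algebraMap R A from ψ.comp_algebraMap]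
  haveI : Flat (Spec.map (CommRingCat.ofHom (algebraMap R A))) :=
    (HasRingHomProperty.Spec_iff (P := @Flat)).2 (RingHom.flat_algebraMap_iff.2 inferInstance)
  haveI : LocallyOfFinitePresentation (Spec.map (CommRingCat.ofHom (algebraMap R A))) :=
    (HasRingHomProperty.Spec_iff (P := @LocallyOfFinitePresentation)).2
      (RingHom.finitePresentation_algebraMap.2 (Algebra.FinitePresentation.of_finiteType.1 hft))
  exact PCMor4.pfMor_of_flat _

variable {Rψ : Dual.D (MvPolynomial (Fin n) R) ⥤ Dual.D A} (adj : DRing.restrictD ψ.toRingHom ⊣ Rψ)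

include hψ adj in
/-- For a flat algebra `RHom_P(A, P)` is relatively perfect and reflexive. -/
theorem isRelPerfect_upper_flat :
    DRing.IsPerfect (MvPolynomial (Fin n) R)
        ((DRing.restrictD ψ.toRingHom).obj (Rψ.obj (Dual.inD (MvPolynomial (Fin n) R) (MvPolynomial (Fin n) R)))) ∧
    Function.Bijective (fun a : A => a • 𝟙 (Rψ.obj (Dual.inD (MvPolynomial (Fin n) R) (MvPolynomial (Fin n) R)))) ∧
    ∀ i : ℤ, i ≠ 0 → Subsingleton (Rψ.obj (Dual.inD (MvPolynomial (Fin n) R) (MvPolynomial (Fin n) R)) ⟶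
      (Rψ.obj (Dual.inD (MvPolynomial (Fin n) R) (MvPolynomial (Fin n) R)))⟦i⟧) := by
  let P := MvPolynomial (Fin n) R
  let φ : CommRingCat.of P ⟶ CommRingCat.of A := CommRingCat.ofHom ψ.toRingHom
  let ω₀ := Rψ.obj (Dual.inD P P)
  haveI : IsClosedImmersion (Spec.map φ) := IsClosedImmersion.spec_of_surjective _ hψ
  have hperf := isPerfectMor_pres n ψ hψ
  haveI := DBC9.hasRpush (Spec.map φ)
  let hφ := rpushPreserves (Spec.map φ)
  haveI := isLeftAdjoint_rpushQ (Spec.map φ) hφ
  let aq := Adjunction.ofIsLeftAdjoint (DCoh.RpushQ (Spec.map φ) hφ)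
  haveI : PreservesFiniteLimits (tilde.functor (CommRingCat.of P)) := M1.tilde_preservesFiniteLimits
  haveI : PreservesFiniteLimits (tilde.functor (CommRingCat.of A)) := M1.tilde_preservesFiniteLimits
  haveI : IsNoetherian (Spec (CommRingCat.of P)) := inferInstance
  obtain ⟨t⟩ := nonempty_tQ_upper φ aq (R := Rψ) adj (Dual.inD P P)
  let eW : (DPerf.tildeDD (CommRingCat.of A)).obj ω₀ ≅
      ((DCoh.RpushQ (Spec.map φ) hφ).rightAdjoint.obj (oQ (Spec (CommRingCat.of P)))).obj :=
    (ObjectProperty.ι _).mapIso (t ≪≫ (DCoh.RpushQ (Spec.map φ) hφ).rightAdjoint.mapIso (tQOne (CommRingCat.of P)))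
  refine ⟨?_, end_bijective_of_tenBij ω₀ fun m => ?_⟩
  · obtain ⟨p⟩ := DPush9.nonempty_tildeD_rpush_iso φ
    exact (DPerf.perfect_tilde_iff (R := CommRingCat.of P) _).1 (DGen9.isPerfect_of_iso
      ((DCoh.Rpush (Spec.map φ)).mapIso eW.symm ≪≫ p.app ω₀)
      (isPerfect_rpush_a aq hperf (oQ _) (locShift_one _ 0)))
  · obtain ⟨li⟩ := TwistBC9.nonempty_lP_oneM (Spec.map φ) m
    obtain ⟨tκ⟩ := nonempty_tenL_congr eW.symm
    exact tenBij_congr tκ (tenBij_obj li (bij_upper (Spec.map φ) aq hperf (TwistBC9.oneD _ m)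
      (DGen9.isQCohD_of_isPerfect (isPerfect_of_locShift (locShift_one _ m)))))

include hψ adj in
/-- Base change of the upper shriek of a flat algebra to a fibre is dualizing. -/
theorem isDualizing_fibre (k : Type u) [Field k] [Algebra R k]
    [DRing.HasLBaseChange (Algebra.TensorProduct.includeRight : A →ₐ[R] k ⊗[R] A).toRingHom] :
    Dual.IsDualizing (k ⊗[R] A) ((DRing.LBaseChange (Algebra.TensorProduct.includeRight : A →ₐ[R] k ⊗[R] A).toRingHom).obj
      (Rψ.obj (Dual.inD (MvPolynomial (Fin n) R) (MvPolynomial (Fin n) R)))) := by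
  let P := MvPolynomial (Fin n) R
  let P' := MvPolynomial (Fin n) k
  let ρ := algebraMap R k
  let γ : P →+* P' := MvPolynomial.map ρ
  let b : A →+* k ⊗[R] A := (Algebra.TensorProduct.includeRight : A →ₐ[R] k ⊗[R] A).toRingHom
  let φ' : P' →ₐ[k] k ⊗[R] A := MvPolynomial.aeval fun i => b (ψ (MvPolynomial.X i))
  have hsq : φ'.toRingHom.comp γ = b.comp ψ.toRingHom := by
    refine MvPolynomial.ringHom_ext (fun r => ?_) fun i => ?_
    · show φ' (MvPolynomial.map ρ (MvPolynomial.C r)) = b (ψ (MvPolynomial.C r))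
      rw [MvPolynomial.map_C, ← MvPolynomial.algebraMap_eq, AlgHom.commutes, ← MvPolynomial.algebraMap_eq,
        AlgHom.commutes]
      exact ((Algebra.TensorProduct.includeRight : A →ₐ[R] k ⊗[R] A).commutes r).symm
    · show φ' (MvPolynomial.map ρ (MvPolynomial.X i)) = b (ψ (MvPolynomial.X i))
      rw [MvPolynomial.map_X, MvPolynomial.aeval_X]
  have hC : IsPushout (CommRingCat.ofHom (MvPolynomial.C : R →+* P)) (CommRingCat.ofHom ρ) (CommRingCat.ofHom γ)
      (CommRingCat.ofHom (MvPolynomial.C : k →+* P')) := RelPCS4.isPushout_poly ρ n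
  have H : IsPushout (CommRingCat.ofHom ψ.toRingHom) (CommRingCat.ofHom γ) (CommRingCat.ofHom b)
      (CommRingCat.ofHom φ'.toRingHom) := by
    refine IsPushout.of_left ?_ (CommRingCat.hom_ext hsq.symm) hC
    rw [← CommRingCat.ofHom_comp, ← CommRingCat.ofHom_comp,
      show ψ.toRingHom.comp MvPolynomial.C = algebraMap R A from ψ.comp_algebraMap,
      show φ'.toRingHom.comp MvPolynomial.C = algebraMap k (k ⊗[R] A) from φ'.comp_algebraMap]
    exact (CommRingCat.isPushout_tensorProduct R k A).flip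
  have hT : DBC9.TorIndep γ ψ.toRingHom :=
    Exact8.torIndep_pushout hC (CommRingCat.ofHom ψ.toRingHom)
      (RingHom.flat_algebraMap_iff.2 (inferInstance : Module.Flat R P)) (by
        rw [← CommRingCat.ofHom_comp, show ψ.toRingHom.comp MvPolynomial.C = algebraMap R A from ψ.comp_algebraMap]
        exact RingHom.flat_algebraMap_iff.2 inferInstance)
  have hT' : DBC9.TorIndep ψ.toRingHom γ := fun q hq => by
    have h0 := hT q hq
    obtain ⟨m, rfl⟩ : ∃ m, q = m + 1 := ⟨q - 1, by omega⟩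
    letI : Module P A := ψ.toRingHom.toModule
    letI : Module P P' := γ.toModule
    exact ModuleCat.subsingleton_of_isZero
      ((TorSymm3.isZero_tor_comm m P' A).1 (@ModuleCat.isZero_of_subsingleton _ _ _ h0))
  have hφ' : Function.Surjective φ' := RelPCS4.surjective_of_isPushout H hψ
  haveI : IsNoetherianRing (k ⊗[R] A) := isNoetherianRing_of_surjective _ _ φ'.toRingHom hφ'
  haveI := DQC.hasLBaseChange γ
  haveI : DRing.HasLBaseChange (CommRingCat.ofHom γ).hom := ‹_›
  haveI : DRing.HasLBaseChange b := ‹_›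
  haveI := isLeftAdjoint_restrictD φ'.toRingHom
  let adj' := Adjunction.ofIsLeftAdjoint (DRing.restrictD φ'.toRingHom)
  obtain ⟨e⟩ := nonempty_bc_ring_tor (P := CommRingCat.of P) (B := CommRingCat.of A) (P' := CommRingCat.of P')
    (B' := CommRingCat.of (k ⊗[R] A)) (CommRingCat.ofHom ψ.toRingHom) (CommRingCat.ofHom γ)
    (CommRingCat.ofHom φ'.toRingHom) (CommRingCat.ofHom b) hψ (isPerfectMor_pres n ψ hψ) H hT hT' adj adj' (Dual.inD P P)
  obtain ⟨l⟩ := nonempty_lbc_one (R := CommRingCat.of P) (P := CommRingCat.of P') (CommRingCat.ofHom γ)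
  haveI := DQC.hasLBaseChange (algebraMap k P')
  haveI : DRing.HasLBaseChange (CommRingCat.ofHom (algebraMap k P')).hom := ‹_›
  obtain ⟨l'⟩ := nonempty_lbc_one (R := CommRingCat.of k) (P := CommRingCat.of P') (CommRingCat.ofHom (algebraMap k P'))
  have hk : Dual.IsDualizing k (Dual.inD k k) :=
    (Dlz27.gorenstein_iff_isDualizing k).1 (@S0342.result k _ inferInstance)
  haveI : Algebra.Smooth k P' := ⟨inferInstance, inferInstance⟩
  letI : Algebra P' (k ⊗[R] A) := φ'.toRingHom.toAlgebra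
  haveI : Module.Finite P' (k ⊗[R] A) := RingHom.Finite.of_surjective _ hφ'
  exact Dlz27.isDualizing_of_iso (e ≪≫ (DRing.restrictD φ'.toRingHom).rightAdjoint.mapIso l).symm
    (DlzFin27.isDualizing_rightAdjoint _ adj' (Dlz27.isDualizing_of_iso l' (GorFib27.isDualizing_LBaseChange_smooth hk)))

end Groth.Agent.BC8
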