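import Groth.Agent.Lib.BC8.ViaNormalized
import Groth.Agent.Lib.BC8.ShriekViaBC
import Groth.Agent.Lib.BC8.ShriekViaTorAmp
import Groth.Agent.Lib.BC8.FibreOne
import Groth.Agent.Lib.DlzSchCM27.Main
import Groth.Agent.S1782
import Groth.Agent.S1801

/-! Cohen–Macaulay fibres and the cohomology of the upper shriek of the base. -/

set_option autoImplicit false
set_option linter.style.haveILetI false
set_option linter.unusedSectionVars false
set_option backward.isDefEq.respectTransparency false
set_option backward.isDefEq.respectTransparency.types false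
set_option maxHeartbeats 1000000

universe u

open CategoryTheory CategoryTheory.Limits AlgebraicGeometry
open scoped TensorProduct

attribute [local instance] HasDerivedCategory.standard

noncomputable section

namespace Groth.Agent.BC8

open Dlz27

theorem isDualizing_self_field (k : Type u) [Field k] : Dual.IsDualizing k (Dual.inD k k) :=
  (gorenstein_iff_isDualizing k).1 (Goren15.gorenstein_of_injective _ (Module.injective_of_isSemisimpleRing _ _))

theorem isNormalized_self_field (k : Type u) [Field k] : Dual.IsNormalized k (Dual.inD k k) := by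
  intro i hi
  let hω := isDualizing_self_field k
  let M := model hω
  have hz : Subsingleton (Dual.HD k (Dual.inD k k) i) := by
    rcases lt_or_gt_of_ne hi with h | h
    · exact ModuleCat.subsingleton_of_isZero (DerivedCategory.isZero_of_isGE _ 0 i h)
    · exact ModuleCat.subsingleton_of_isZero (DerivedCategory.isZero_of_isLE _ 0 i h)
  let S := (IsLocalRing.maximalIdeal k).primeCompl
  have hv : VanS M.W S (k ⧸ IsLocalRing.maximalIdeal k) i := by
    refine ((vanS_self_iff M S i).2 fun z => ⟨1, Subsingleton.elim _ _⟩).equiv ?_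
    exact ((Submodule.quotEquivOfEq _ _ (IsLocalRing.maximalIdeal_eq_bot : IsLocalRing.maximalIdeal k = ⊥)).trans
      (Submodule.quotEquivOfEqBot ⊥ rfl)).symm
  refine subsingleton_of_forall_eq 0 fun f => ?_
  obtain ⟨s, hs⟩ := (vanS_iff_hom M S _ i).1 hv f
  exact (isUnit_of_notMem_maximalIdeal s.2).smul_eq_zero.1 hs

/-- The dualizing complex of a finitely generated algebra over a field at a Cohen–Macaulay closed point. -/
theorem eq_neg_dim_of_nontrivial {k T : Type u} [Field k] [CommRing T] [Algebra k T] (n : ℕ)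
    (θ : MvPolynomial (Fin n) k →ₐ[k] T) (hθ : Function.Surjective θ)
    [DRing.HasLBaseChange (algebraMap k (MvPolynomial (Fin n) k))]
    {Rθ : Dual.D (MvPolynomial (Fin n) k) ⥤ Dual.D T} (adj : DRing.restrictD θ.toRingHom ⊣ Rθ)
    (m : Ideal T) [m.IsMaximal] [LocCoh.IsCohenMacaulayLocalRing (Localization.AtPrime m)] (d : ℕ)
    (hd : ringKrullDim (Localization.AtPrime m) = (d : WithBot ℕ∞)) (i : ℤ) (hi : i ≠ -(d : ℤ)) :
    Subsingleton (LocalizedModule m.primeCompl (Dual.HD T (Dual2.shriekVia n Rθ (Dual.inD k k)) i)) := by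
  haveI : IsNoetherianRing T := isNoetherianRing_of_surjective _ _ θ.toRingHom hθ
  let hT := S1782.result k T n θ hθ Rθ adj (Dual.inD k k) (isDualizing_self_field k)
  let M := model hT
  let q : PrimeSpectrum T := ⟨m, inferInstance⟩
  have hdeg : deg hT M q = 0 := by
    by_contra hne
    refine (vanS_iff_ne_deg hT M q _).1 ((vanS_iff_hom M m.primeCompl (T ⧸ m) _).2 fun f => ⟨1, ?_⟩) rfl
    haveI := subsingleton_hom_via_maximal n θ hθ adj (isDualizing_self_field k) (isNormalized_self_field k) m
      (((Ideal.eq_bot_or_top _).resolve_right (Ideal.comap_ne_top _ (Ideal.IsMaximal.ne_top ‹_›))).trans IsLocalRing.maximalIdeal_eq_bot.symm)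
      (deg hT M q) hne
    exact Subsingleton.elim _ _
  have hdepth : LocCoh.depth (Localization.AtPrime m) (LocalizedModule m.primeCompl T) = d := by
    have h := LocCoh.IsCohenMacaulayLocalRing.supportDim_eq_depth (R := Localization.AtPrime m)
    rw [Module.supportDim_self_eq_ringKrullDim, hd] at h
    rw [DepthLib.depth_localizedModule_self]
    exact_mod_cast h.symm
  obtain ⟨-, hnv⟩ := vanS_of_depth hT M q d T hdepth
  rw [hdeg] at hnv
  by_contra hns
  rw [not_subsingleton_iff_nontrivial] at hns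
  have h1 := (nontrivial_localized_HD_iff M q i).1 hns
  obtain ⟨j, hj, huniq⟩ := (DlzSchCM27.isCM_iff_existsUnique hT q).1 ‹_›
  exact hi ((huniq i hns).trans (huniq (-(d : ℤ)) ((nontrivial_localized_HD_iff M q _).2 (by simpa using hnv))).symm)

theorem exists_functional {K V : Type u} [Field K] [AddCommGroup V] [Module K V] {z : V} (hz : z ≠ 0) :
    ∃ c : V →ₗ[K] K, c z ≠ 0 :=
  Module.Projective.exists_dual_ne_zero K hz

/-- Derived base change is exact at the top: the top cohomology does not vanish at primes of its support. -/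
theorem nontrivial_lbc_top {B T : Type u} [CommRing B] [CommRing T] (φ : B →+* T) [DRing.HasLBaseChange φ]
    (K : Dual.D B) (n : ℤ) [K.IsLE n] [Module.Finite B (Dual.HD B K n)] (ξ : PrimeSpectrum T)
    (h : Nontrivial (LocalizedModule (PrimeSpectrum.comap φ ξ).asIdeal.primeCompl (Dual.HD B K n))) :
    Nontrivial (LocalizedModule ξ.asIdeal.primeCompl (Dual.HD T ((DRing.LBaseChange φ).obj K) n)) := by
  obtain ⟨P, hP, hfree, ⟨e⟩⟩ := DMod.exists_free_resolution K n
  haveI := hP
  let G := (DBaseChange.extCx φ).obj P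
  haveI := DBaseChange.isStrictlyLE_ext φ P n
  let eG : (DRing.LBaseChange φ).obj K ≅ DRing.toD G := (DRing.LBaseChange φ).mapIso e.symm ≪≫
    DBaseChange.valueIso φ P (DBaseChange.adapted_of_flat P n (DBaseChange.flat_of_free hfree))
  let lK : P.homology n ≃ₗ[B] Dual.HD B K n := ((DBaseChange.hdEquiv P n).symm ≪≫
    (DerivedCategory.homologyFunctor (ModuleCat.{u} B) n).mapIso e).toLinearEquiv
  let lG : G.homology n ≃ₗ[T] Dual.HD T ((DRing.LBaseChange φ).obj K) n :=
    ((DerivedCategory.homologyFunctor (ModuleCat.{u} T) n).mapIso eG ≪≫ DBaseChange.hdEquiv G n).toLinearEquiv.symm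
  let p : Ideal B := (PrimeSpectrum.comap φ ξ).asIdeal
  let κ := p.ResidueField
  haveI : Module.Finite B (P.homology n) := Module.Finite.equiv lK.symm
  haveI : Nontrivial (κ ⊗[B] P.homology n) := by
    have hmem : (PrimeSpectrum.comap φ ξ) ∈ Module.support B (P.homology n) := by
      rw [lK.support_eq]; exact h
    exact (Module.mem_support_iff_nontrivial_residueField_tensorProduct _).1 hmem
  obtain ⟨z, hz⟩ := exists_ne (0 : κ ⊗[B] P.homology n)
  let ι : κ →+* ξ.asIdeal.ResidueField := Ideal.ResidueField.map p ξ.asIdeal φ rfl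
  haveI hsurjπ : Function.Surjective (P.homologyπ n).hom := DMod.homologyπ_surjective P n
  by_contra hns
  rw [not_nontrivial_iff_subsingleton] at hns
  haveI := hns
  have hkill : ∀ x : G.X n, ∃ s : T, s ∉ ξ.asIdeal ∧ ∃ y, G.d (n - 1) n y = s • x := fun x => by
    obtain ⟨w, hw⟩ := DMod.exists_cycle (K := G) (j := n) (k := n + 1) (by simp) x
      (@Subsingleton.elim _ (ModuleCat.subsingleton_of_isZero (G.isZero_of_isStrictlyLE n _ (by omega))) _ _)
    obtain ⟨s, hs, hs'⟩ := LocalizedModule.subsingleton_iff.1 hns (lG (G.homologyπ n w))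
    refine ⟨s, hs, ?_⟩
    rw [← map_smul, lG.map_eq_zero_iff, ← map_smul] at hs'
    obtain ⟨y, hy⟩ := (DMod.homologyπ_eq_zero_iff (K := G) (j := n) (i := n - 1) (by simp) (s • w)).1 hs'
    exact ⟨y, by rw [hy, map_smul, hw]⟩
  have hι : ∀ b : B, ι (algebraMap B κ b) = algebraMap T ξ.asIdeal.ResidueField (φ b) := fun b =>
    Ideal.ResidueField.map_algebraMap p ξ.asIdeal φ rfl b
  let Lres : ModuleCat.{u} T := ModuleCat.of T ξ.asIdeal.ResidueField
  let adjE := ModuleCat.extendRestrictScalarsAdj.{u} φ
  let M := (ModuleCat.restrictScalars.{u} φ).obj Lres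
  let g : κ →ₗ[B] M :=
    { toFun := ι
      map_add' := map_add ι
      map_smul' := fun b x => by
        show ι (b • x) = φ b • ι x
        rw [Algebra.smul_def, map_mul, hι, Algebra.smul_def] }
  obtain ⟨hh, hh1⟩ : ∃ m : P.homology n, (1 : κ) ⊗ₜ[B] m ≠ 0 := by
    by_contra hcon
    push Not at hcon
    refine hz ?_
    clear hz
    induction z using TensorProduct.induction_on with
    | zero => rfl
    | tmul a m => rw [show a ⊗ₜ[B] m = a • ((1 : κ) ⊗ₜ[B] m) by rw [TensorProduct.smul_tmul', smul_eq_mul, mul_one],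
        hcon, smul_zero]
    | add a b ha hb => rw [ha, hb, add_zero]
  obtain ⟨c, hc⟩ := exists_functional (K := κ) hh1
  let l₀ : P.homology n →ₗ[B] κ := (c.restrictScalars B) ∘ₗ (TensorProduct.mk B κ (P.homology n) 1)
  have hhne : l₀ hh ≠ 0 := hc
  obtain ⟨w, hw⟩ := hsurjπ hh
  have hcyc : ∀ x : P.X n, ∃ v, P.iCycles n v = x := fun x => DMod.exists_cycle (K := P) (j := n) (k := n + 1)
    (by simp) x (@Subsingleton.elim _ (ModuleCat.subsingleton_of_isZero (P.isZero_of_isStrictlyLE n _ (by omega))) _ _)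
  let cyc : P.cycles n ≃ₗ[B] P.X n := LinearEquiv.ofBijective (P.iCycles n).hom
    ⟨DMod.iCycles_injective P n, fun x => hcyc x⟩
  let ℓ : P.X n →ₗ[B] M := g ∘ₗ l₀ ∘ₗ (P.homologyπ n).hom ∘ₗ cyc.symm.toLinearMap
  have hℓd : ∀ y, ℓ (P.d (n - 1) n y) = 0 := fun y => by
    obtain ⟨v, hv⟩ := hcyc (P.d (n - 1) n y)
    have h0 : P.homologyπ n v = 0 := (DMod.homologyπ_eq_zero_iff (K := P) (j := n) (i := n - 1) (by simp) v).2 ⟨y, hv.symm⟩
    have h1 : cyc.symm (P.d (n - 1) n y) = v := cyc.symm_apply_eq.2 hv.symm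
    show g (l₀ (P.homologyπ n (cyc.symm (P.d (n - 1) n y)))) = 0
    rw [h1, h0, map_zero, map_zero]
  let ℓ₀ : P.X n ⟶ M := ConcreteCategory.ofHom (C := ModuleCat.{u} B) ℓ
  let L : G.X n ⟶ Lres := (adjE.homEquiv _ _).symm ℓ₀
  have hdL : G.d (n - 1) n ≫ L = 0 := by
    show (ModuleCat.extendScalars.{u, u, u} φ).map (P.d (n - 1) n) ≫ L = 0
    refine (adjE.homEquiv_naturality_left_symm _ _).symm.trans ?_
    have : P.d (n - 1) n ≫ ℓ₀ = 0 := ModuleCat.hom_ext (LinearMap.ext fun y => hℓd y)
    rw [this, adjE.homEquiv_counit]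
    simp
  obtain ⟨s, hs, y, hy⟩ := hkill ((adjE.unit.app (P.X n)) (P.iCycles n w))
  have hL : L ((adjE.unit.app (P.X n)) (P.iCycles n w)) = ℓ (P.iCycles n w) := by
    have h1 : adjE.unit.app (P.X n) ≫ (ModuleCat.restrictScalars.{u} φ).map L = ℓ₀ := by
      exact (adjE.homEquiv_unit (f := L)).symm.trans (Equiv.apply_symm_apply _ _)
    exact congrArg (fun f => f.hom (P.iCycles n w)) h1
  have h2 : s • (show Lres from ℓ (P.iCycles n w)) = 0 := by
    rw [← hL, ← map_smul, ← hy, ← ModuleCat.comp_apply, hdL]; rfl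
  have h3 : ℓ (P.iCycles n w) ≠ 0 := by
    show g (l₀ (P.homologyπ n (cyc.symm (P.iCycles n w)))) ≠ 0
    rw [show cyc.symm (P.iCycles n w) = w from cyc.symm_apply_apply w, hw]
    exact fun h0 => hhne (ι.injective (h0.trans (map_zero ι).symm))
  rw [Algebra.smul_def, mul_eq_zero] at h2
  rcases h2 with h2 | h2
  · exact hs (Ideal.algebraMap_residueField_eq_zero.1 h2)
  · exact h3 h2

section Fibres

variable {A B : Type u} [CommRing A] [CommRing B] [IsNoetherianRing A] [IsNoetherianRing B] [Algebra A B]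
  [Module.Flat A B] (n : ℕ) (ψ : MvPolynomial (Fin n) A →ₐ[A] B) (hψ : Function.Surjective ψ)
  [DRing.HasLBaseChange (algebraMap A (MvPolynomial (Fin n) A))]
  {Rψ : Dual.D (MvPolynomial (Fin n) A) ⥤ Dual.D B} (adj : DRing.restrictD ψ.toRingHom ⊣ Rψ)

include hψ adj in
/-- The fibre at a Cohen–Macaulay closed point of the fibre. -/
theorem eq_neg_dim_fibre (k : Type u) [Field k] [Algebra A k]
    [DRing.HasLBaseChange (Algebra.TensorProduct.includeRight : B →ₐ[A] k ⊗[A] B).toRingHom]
    (m : Ideal (k ⊗[A] B)) [m.IsMaximal] [LocCoh.IsCohenMacaulayLocalRing (Localization.AtPrime m)] (d : ℕ)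
    (hd : ringKrullDim (Localization.AtPrime m) = (d : WithBot ℕ∞)) (i : ℤ) (hi : i ≠ -(d : ℤ)) :
    Subsingleton (LocalizedModule m.primeCompl (Dual.HD (k ⊗[A] B)
      ((DRing.LBaseChange (Algebra.TensorProduct.includeRight : B →ₐ[A] k ⊗[A] B).toRingHom).obj
        (Dual2.shriekVia n Rψ (Dual.inD A A))) i)) := by
  haveI : Algebra.FiniteType A B := Algebra.FiniteType.of_surjective ψ hψ
  haveI : IsNoetherianRing (k ⊗[A] B) := Algebra.FiniteType.isNoetherianRing k _
  obtain ⟨r, θ, hθ⟩ := Algebra.FiniteType.iff_quotient_mvPolynomial''.1 (inferInstance : Algebra.FiniteType k (k ⊗[A] B))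
  haveI := DQC.hasLBaseChange (algebraMap k (MvPolynomial (Fin r) k))
  haveI := isLeftAdjoint_restrictD θ.toRingHom
  let adjθ := Adjunction.ofIsLeftAdjoint (DRing.restrictD θ.toRingHom)
  haveI := DQC.hasLBaseChange (algebraMap A k)
  obtain ⟨b⟩ := nonempty_via_bc_flat n ψ hψ adj r θ hθ adjθ (Dual.inD A A)
  haveI : DRing.HasLBaseChange (CommRingCat.ofHom (algebraMap A k)).hom := ‹DRing.HasLBaseChange (algebraMap A k)›
  obtain ⟨o⟩ := nonempty_lbc_one (R := CommRingCat.of A) (P := CommRingCat.of k) (CommRingCat.ofHom (algebraMap A k))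
  let e : (DRing.LBaseChange (Algebra.TensorProduct.includeRight : B →ₐ[A] k ⊗[A] B).toRingHom).obj
      (Dual2.shriekVia n Rψ (Dual.inD A A)) ≅
      Dual2.shriekVia r (DRing.restrictD θ.toRingHom).rightAdjoint (Dual.inD k k) :=
    b ≪≫ (shiftFunctor _ (r : ℤ)).mapIso ((DRing.restrictD θ.toRingHom).rightAdjoint.mapIso
      ((DRing.LBaseChange (algebraMap k (MvPolynomial (Fin r) k))).mapIso o))
  haveI := eq_neg_dim_of_nontrivial r θ hθ adjθ m d hd i hi
  exact Function.Injective.subsingleton (LocalizedModule.map_injective m.primeCompl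
    ((DerivedCategory.homologyFunctor _ i).mapIso e).toLinearEquiv.toLinearMap
    ((DerivedCategory.homologyFunctor _ i).mapIso e).toLinearEquiv.injective)

include hψ adj in
/-- Cohen–Macaulay fibres of dimension `d`: the upper shriek of the base sits in degree `-d`. -/
theorem subsingleton_via_of_CM (d : ℕ)
    (hd : ∀ q : PrimeSpectrum B, FlatMor.fibreDimAt (Spec.map (CommRingCat.ofHom (algebraMap A B))) q ≤ (d : WithBot ℕ∞))
    (hCM : ∀ (p : PrimeSpectrum A) (m : Ideal (p.asIdeal.ResidueField ⊗[A] B)) [m.IsMaximal],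
      LocCoh.IsCohenMacaulayLocalRing (Localization.AtPrime m) ∧
        ringKrullDim (Localization.AtPrime m) = (d : WithBot ℕ∞)) (i : ℤ) (hi : i ≠ -(d : ℤ)) :
    Subsingleton (Dual.HD B (Dual2.shriekVia n Rψ (Dual.inD A A)) i) := by
  let ω := Dual2.shriekVia n Rψ (Dual.inD A A)
  haveI : Algebra.FiniteType A B := Algebra.FiniteType.of_surjective ψ hψ
  obtain ⟨⟨lo, hi', hb⟩, hfin, -, -, -⟩ := S1801.result A B n ψ hψ Rψ adj
  rcases lt_or_gt_of_ne hi with hlt | hgt
  · refine _root_.Module.subsingleton_of_localization_maximal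
      (fun (P : Ideal B) [P.IsMaximal] => LocalizedModule P.primeCompl (Dual.HD B ω i))
      (fun (P : Ideal B) [P.IsMaximal] => LocalizedModule.mkLinearMap P.primeCompl _) fun P hP => ?_
    obtain ⟨g, hg, hvan⟩ := exists_away_low n ψ hψ adj ⟨P, hP.isPrime⟩ d (hd _)
    haveI := hvan i hlt
    rw [LocalizedModule.subsingleton_iff]
    intro t
    obtain ⟨s, ⟨e, rfl⟩, hs⟩ := (LocalizedModule.subsingleton_iff (S := Submonoid.powers g)).1 ‹_› t
    exact ⟨g ^ e, fun hk => hg (hP.isPrime.mem_of_pow_mem e hk), hs⟩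
  · have step : ∀ c : ℤ, -(d : ℤ) < c → ω.IsLE c → Subsingleton (Dual.HD B ω c) := fun c hc hle => by
      haveI := hle
      haveI := hfin c
      refine _root_.Module.subsingleton_of_localization_maximal
        (fun (P : Ideal B) [P.IsMaximal] => LocalizedModule P.primeCompl (Dual.HD B ω c))
        (fun (P : Ideal B) [P.IsMaximal] => LocalizedModule.mkLinearMap P.primeCompl _) fun P hP => ?_
      by_contra hns
      rw [not_subsingleton_iff_nontrivial] at hns
      let q : PrimeSpectrum B := ⟨P, hP.isPrime⟩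
      let p : PrimeSpectrum A := PrimeSpectrum.comap (algebraMap A B) q
      let r := PrimeSpectrum.preimageEquivFiber A B p ⟨q, rfl⟩
      let b := (Algebra.TensorProduct.includeRight : B →ₐ[A] p.asIdeal.ResidueField ⊗[A] B).toRingHom
      have hr : PrimeSpectrum.comap b r = q :=
        congrArg Subtype.val ((PrimeSpectrum.preimageEquivFiber A B p).symm_apply_apply ⟨q, rfl⟩)
      haveI := DQC.hasLBaseChange b
      have h1 := nontrivial_lbc_top b ω c r (by rw [hr]; exact hns)
      obtain ⟨m, hm, hle'⟩ := Ideal.exists_le_maximal r.asIdeal r.isPrime.ne_top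
      haveI := hm
      obtain ⟨hcm, hdim⟩ := hCM p m
      haveI := hcm
      haveI := eq_neg_dim_fibre n ψ hψ adj p.asIdeal.ResidueField m d hdim c (by omega)
      haveI := h1
      refine not_subsingleton_iff_nontrivial.2 h1 (LocalizedModule.subsingleton_iff.2 fun t => ?_)
      obtain ⟨s, hs, hs'⟩ := LocalizedModule.subsingleton_iff.1 ‹Subsingleton (LocalizedModule m.primeCompl _)› t
      exact ⟨s, fun h => hs (hle' h), hs'⟩
    have key : ∀ j : ℕ, -(d : ℤ) ≤ hi' - j → ω.IsLE (hi' - j) := by
      intro j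
      induction j with
      | zero => exact fun _ => (DMod.isLE_iff ω _).2 fun l hl => hb l (Or.inr (by simpa using hl))
      | succ j ih =>
        intro hj
        haveI := ih (by omega)
        refine (DMod.isLE_iff ω _).2 fun l hl => ?_
        rcases eq_or_lt_of_le (show hi' - j ≤ l by omega) with h | h
        · rw [← h]; exact step _ (by omega) inferInstance
        · exact (DMod.isLE_iff ω (hi' - j)).1 inferInstance l h
    rcases lt_or_ge hi' i with h | h
    · exact hb i (Or.inr h)
    · have hle := key (hi' - i).toNat (by omega)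
      exact step i hgt (by rwa [show hi' - ((hi' - i).toNat : ℤ) = i by omega] at hle)

end Fibres

theorem subsingleton_hd_loc_iff {B : Type u} [CommRing B] [IsNoetherianRing B] (q : PrimeSpectrum B) (K : Dual.D B)
    [DRing.HasLBaseChange (algebraMap B (Localization q.asIdeal.primeCompl))] (i : ℤ) :
    Subsingleton (Dual.HD (Localization q.asIdeal.primeCompl)
      ((DRing.LBaseChange (algebraMap B (Localization q.asIdeal.primeCompl))).obj K) i) ↔
    Subsingleton (LocalizedModule q.asIdeal.primeCompl (Dual.HD B K i)) := by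
  let W := DerivedCategory.Q.objPreimage K
  let e : DRing.toD W ≅ K := DerivedCategory.Q.objObjPreimageIso K
  obtain ⟨l⟩ := Dlz27.exists_LBaseChange_iso q.asIdeal.primeCompl W
  let a := ((DerivedCategory.homologyFunctor _ i).mapIso
    (((DRing.LBaseChange _).mapIso e).symm ≪≫ l)).toLinearEquiv.trans (homLocEquiv q.asIdeal.primeCompl W i).symm
  let h : W.homology i ≃ₗ[B] Dual.HD B K i := ((DBaseChange.hdEquiv W i).symm ≪≫
    (DerivedCategory.homologyFunctor (ModuleCat.{u} B) i).mapIso e).toLinearEquiv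
  rw [a.toEquiv.subsingleton_congr, LocalizedModule.subsingleton_iff]
  constructor
  · intro hs m
    obtain ⟨s, hs1, hs2⟩ := LocalizedModule.subsingleton_iff.1
      (@Equiv.subsingleton _ _ (Shrink.linearEquiv.{u} (Localization q.asIdeal.primeCompl)
        (LocalizedModule q.asIdeal.primeCompl (W.homology i))).symm.toEquiv hs) (h.symm m)
    exact ⟨s, hs1, h.symm.injective (by rw [map_smul, hs2, map_zero])⟩
  · intro hs
    haveI : Subsingleton (LocalizedModule q.asIdeal.primeCompl (W.homology i)) :=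
      LocalizedModule.subsingleton_iff.2 fun m => by
        obtain ⟨s, hs1, hs2⟩ := hs (h m)
        exact ⟨s, hs1, h.injective (by rw [map_smul, hs2, map_zero])⟩
    exact (Shrink.linearEquiv.{u} (Localization q.asIdeal.primeCompl)
        (LocalizedModule q.asIdeal.primeCompl (W.homology i))).toEquiv.subsingleton

/-- A single cohomology module forces Cohen–Macaulay fibres. -/
theorem isCM_fibre_of_single {B T : Type u} [CommRing B] [CommRing T] [IsNoetherianRing B] [IsNoetherianRing T]
    (φ : B →+* T) [DRing.HasLBaseChange φ] (ω : Dual.D B) (c : ℤ)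
    (hsingle : ∀ i, i ≠ c → Subsingleton (Dual.HD B ω i)) [Module.Finite B (Dual.HD B ω c)]
    (hT : Dual.IsDualizing T ((DRing.LBaseChange φ).obj ω)) (r : PrimeSpectrum T) :
    LocCoh.IsCohenMacaulayLocalRing (Localization.AtPrime r.asIdeal) ∧
      ∀ i, Nontrivial (LocalizedModule r.asIdeal.primeCompl (Dual.HD T ((DRing.LBaseChange φ).obj ω) i)) ↔ i = c := by
  haveI hle : ω.IsLE c := (DMod.isLE_iff ω c).2 fun l hl => hsingle l (by omega)
  haveI := DBaseChange.isLE_obj (φ := φ) ω c
  let M := model hT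
  have hmin : ∀ ξ : PrimeSpectrum T, ξ.asIdeal ∈ minimalPrimes T → c = deg hT M ξ := fun ξ hξ => by
    let q := PrimeSpectrum.comap φ ξ
    have hd := (nontrivial_localized_HD_iff M ξ _).2 (fun h => ((vanS_self_minimal_iff M hT ξ hξ _).1 h) rfl)
    rcases subsingleton_or_nontrivial (LocalizedModule q.asIdeal.primeCompl (Dual.HD B ω c)) with h0 | h0
    · exfalso
      haveI : IsNoetherianRing (Localization q.asIdeal.primeCompl) :=
        IsLocalization.isNoetherianRing q.asIdeal.primeCompl _ inferInstance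
      haveI := DQC.hasLBaseChange (algebraMap B (Localization q.asIdeal.primeCompl))
      haveI := DQC.hasLBaseChange (algebraMap T (Localization ξ.asIdeal.primeCompl))
      let g : Localization q.asIdeal.primeCompl →+* Localization ξ.asIdeal.primeCompl :=
        Localization.localRingHom q.asIdeal ξ.asIdeal φ rfl
      have hg : g.comp (algebraMap B _) = (algebraMap T _).comp φ :=
        RingHom.ext fun x => Localization.localRingHom_to_map q.asIdeal ξ.asIdeal φ rfl x
      haveI := DQC.hasLBaseChange g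
      haveI := DQC.hasLBaseChange (g.comp (algebraMap B (Localization q.asIdeal.primeCompl)))
      haveI := DQC.hasLBaseChange ((algebraMap T (Localization ξ.asIdeal.primeCompl)).comp φ)
      let K' := (DRing.LBaseChange (algebraMap B (Localization q.asIdeal.primeCompl))).obj ω
      have hall : ∀ j, Subsingleton (Dual.HD _ K' j) := fun j => (subsingleton_hd_loc_iff q ω j).2 (by
        by_cases hj : j = c
        · rw [hj]; exact h0
        · haveI := hsingle j hj
          exact LocalizedModule.subsingleton_iff.2 fun m => ⟨1, Submonoid.one_mem _, Subsingleton.elim _ _⟩)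
      haveI : K'.IsLE (deg hT M ξ - 1) := (DMod.isLE_iff _ _).2 fun l _ => hall l
      haveI hgLE := DBaseChange.isLE_obj (φ := g) K' (deg hT M ξ - 1)
      obtain ⟨c1⟩ := nonempty_lbcComp φ (algebraMap T (Localization ξ.asIdeal.primeCompl))
      obtain ⟨c2⟩ := nonempty_lbcComp (algebraMap B (Localization q.asIdeal.primeCompl)) g
      obtain ⟨c3⟩ := nonempty_lbc_congr hg
      let e := ((c1 ≪≫ c3.symm ≪≫ c2.symm).app ω)
      have hz : Subsingleton (Dual.HD (Localization ξ.asIdeal.primeCompl)
          ((DRing.LBaseChange (algebraMap T (Localization ξ.asIdeal.primeCompl))).obj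
            ((DRing.LBaseChange φ).obj ω)) (deg hT M ξ)) :=
        ((DerivedCategory.homologyFunctor _ (deg hT M ξ)).mapIso e).toLinearEquiv.toEquiv.subsingleton_congr.2
          ((DMod.isLE_iff _ (deg hT M ξ - 1)).1 hgLE _ (by omega))
      haveI := (subsingleton_hd_loc_iff ξ _ _).1 hz
      exact false_of_nontrivial_of_subsingleton (α := LocalizedModule ξ.asIdeal.primeCompl
        (Dual.HD T ((DRing.LBaseChange φ).obj ω) (deg hT M ξ)))
    · have h1 := (nontrivial_localized_HD_iff M ξ c).1 (nontrivial_lbc_top φ ω c ξ h0)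
      by_contra hne
      exact h1 ((vanS_self_minimal_iff M hT ξ hξ c).2 hne)
  have honly : ∀ i, Nontrivial (LocalizedModule r.asIdeal.primeCompl
      (Dual.HD T ((DRing.LBaseChange φ).obj ω) i)) → i = c := fun i hi => by
    rcases lt_trichotomy i c with h | h | h
    · exfalso
      refine (nontrivial_localized_HD_iff M r i).1 hi (vanS_low hT M r i T fun r' _ hr' => ?_)
      obtain ⟨ξ, hξ, hξle⟩ := Ideal.exists_minimalPrimes_le (I := (⊥ : Ideal T)) (J := r'.asIdeal) bot_le
      have hmono := (deg_strictMono hT M).monotone (show (⟨ξ, hξ.1.1⟩ : PrimeSpectrum T) ≤ r' from hξle)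
      rw [← hmin ⟨ξ, hξ.1.1⟩ hξ] at hmono
      omega
    · exact h
    · exfalso
      haveI := (DMod.isLE_iff ((DRing.LBaseChange φ).obj ω) c).1 inferInstance i h
      haveI : Subsingleton (LocalizedModule r.asIdeal.primeCompl (Dual.HD T ((DRing.LBaseChange φ).obj ω) i)) :=
        LocalizedModule.subsingleton_iff.2 fun m => ⟨1, Submonoid.one_mem _, Subsingleton.elim _ _⟩
      haveI := hi
      exact false_of_nontrivial_of_subsingleton (α := LocalizedModule r.asIdeal.primeCompl
        (Dual.HD T ((DRing.LBaseChange φ).obj ω) i))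
  haveI : Nontrivial (LocalizedModule r.asIdeal.primeCompl T) := by
    show r ∈ Module.support T T
    rw [Module.support_eq_zeroLocus, PrimeSpectrum.mem_zeroLocus]
    exact fun a ha => by simp [show a = 0 by simpa using Module.mem_annihilator.1 ha 1]
  obtain ⟨e, he⟩ := DepthLib.exists_depth_eq_natCast (R := Localization.AtPrime r.asIdeal)
    (M := LocalizedModule r.asIdeal.primeCompl T)
  have hne := (nontrivial_localized_HD_iff M r _).2 (vanS_of_depth hT M r e T he).2
  exact ⟨(DlzSchCM27.isCM_iff_existsUnique hT r).2 ⟨_, hne, fun j hj => (honly j hj).trans (honly _ hne).symm⟩,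
    fun i => ⟨honly i, fun h => by rw [h, ← honly _ hne]; exact hne⟩⟩

end Groth.Agent.BC8
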