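import Groth.Agent.Lib.BC8.RegShriek
import Groth.Agent.Lib.BC8.LichCore
import Groth.Agent.Lib.BC8.DlzProper
import Groth.Agent.Lib.BC8.ViaCM
import Groth.Agent.Lib.SecDiv18.Basic
import Groth.Agent.Lib.RegImm26.Noeth
import Groth.Agent.Lib.Slice.CMFlat
import Groth.Agent.Lib.SMT.CMBasic
import Groth.Agent.Lib.TensorMod.PullTensor
import Groth.Agent.Lib.ExtFil4.Uniq
import Groth.Agent.Lib.TensorMod.InvCrit
import Groth.Agent.Lib.TensorMod.QCohTensor
import Groth.Prelude.Def_Canon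

/-! The adjunction formula for an effective Cartier divisor. -/

set_option autoImplicit false
set_option linter.style.haveILetI false
set_option linter.unusedSectionVars false
set_option backward.isDefEq.respectTransparency false
set_option backward.isDefEq.respectTransparency.types false
set_option maxHeartbeats 1000000

universe u

open CategoryTheory CategoryTheory.Limits AlgebraicGeometry Opposite

attribute [local instance] HasDerivedCategory.standard

noncomputable section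

namespace Groth.Agent.BC8

section CM

variable {X : Scheme.{u}} [IsLocallyNoetherian X] [CompactSpace X]
  [∀ (U : Scheme.{u}) (j : U ⟶ X) [IsOpenImmersion j], PreservesFiniteLimits (Scheme.Modules.restrictFunctor j)]
  [∀ (R : CommRingCat.{u}), PreservesFiniteLimits (tilde.functor R)]
  {K : DCoh.D X} (hK : Dual2.IsDualizingSch X K) (hn : ∀ x : X, IsClosed ({x} : Set X) → dlt hK x = 0)
  (n : ℕ) (hdim : topologicalKrullDim X = (n : WithBot ℕ∞))

include hK

theorem subsingleton_degrees {x : X} (hCM : LocCoh.IsCohenMacaulayLocalRing (X.presheaf.stalk x)) {i j : ℤ}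
    (hi : Nontrivial ((DCoh.HD K i).presheaf.stalk x)) (hj : Nontrivial ((DCoh.HD K j).presheaf.stalk x)) : i = j := by
  obtain ⟨C, q, rfl⟩ := exists_dlzChart hK x
  obtain ⟨e⟩ := DlzSchCM27.exists_stalk_ringEquiv C.j q
  obtain ⟨m, -, hm⟩ := (DlzSchCM27.isCM_iff_existsUnique C.dualizing q).1 (SMT.isCM_of_ringEquiv e hCM)
  have h : ∀ t, Nontrivial ((DCoh.HD K t).presheaf.stalk (C.j q)) → t = m := fun t ht =>
    hm t ((Dlz27.nontrivial_localized_HD_iff C.M q t).2 ((C.nontrivial_stalk_iff q t).1 ht))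
  exact (h i hi).trans (h j hj).symm

theorem antitone_dlt {x y : X} (h : x ≤ y) : dlt hK y ≤ dlt hK x := by
  by_cases h' : y ≤ x
  · exact (congrArg (dlt hK) (Specializes.antisymm (show x ⤳ y from h') (show y ⤳ x from h)).eq).ge
  · exact (dlt_strictAnti hK (lt_of_le_not_ge h h')).le

include hn hdim

theorem exists_isMax_le (x : X) : ∃ ξ : X, x ≤ ξ ∧ IsMax ξ := by
  obtain ⟨m, ⟨ξ, hξ, rfl⟩, hmin⟩ := Int.exists_least_of_bdd (P := fun m => ∃ y : X, x ≤ y ∧ dlt hK y = m)
    ⟨-(n : ℤ), fun m ⟨y, _, hy⟩ => hy ▸ neg_le_dlt hK hn n hdim y⟩ ⟨_, x, le_rfl, rfl⟩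
  refine ⟨ξ, hξ, fun y hy => ?_⟩
  by_contra hne
  have := dlt_strictAnti hK (lt_of_le_not_ge hy hne)
  have := hmin _ ⟨y, hξ.trans hy, rfl⟩
  omega

variable (hCM : ∀ x : X, LocCoh.IsCohenMacaulayLocalRing (X.presheaf.stalk x))
  (heq : ∀ x : X, IsClosed ({x} : Set X) → ringKrullDim (X.presheaf.stalk x) = n)

include hCM heq

theorem dlt_eq_neg_of_isMax {ξ : X} (hmax : IsMax ξ) : dlt hK ξ = -(n : ℤ) := by
  obtain ⟨c, hc, hcξ⟩ := exists_closed_le hK ξ
  have hlo := neg_le_dlt hK hn n hdim ξ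
  suffices h : Order.coheight c ≤ ((-dlt hK ξ).toNat : ℕ∞) by
    have h' := (ringKrullDim_stalk_eq_coheight c).symm.trans (heq c hc)
    have h2 : Order.coheight c = (n : ℕ∞) := by exact_mod_cast h'
    rw [h2] at h
    have h3 : n ≤ (-dlt hK ξ).toNat := by exact_mod_cast h
    have := dlt_nonpos hK hn ξ
    omega
  refine Order.coheight_le fun l hl => ?_
  have key : ∀ a : Fin (l.length + 1), dlt hK (l a) ≤ -(a : ℤ) := fun a => by
    induction a using Fin.induction with
    | zero => simpa using dlt_nonpos hK hn (l 0)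
    | succ a ih =>
      have := dlt_strictAnti hK (l.strictMono (Fin.castSucc_lt_succ (i := a)))
      simp only [Fin.val_castSucc] at ih
      simp only [Fin.val_succ, Nat.cast_add, Nat.cast_one]; omega
  have hlast : dlt hK (l (Fin.last l.length)) ≤ -(l.length : ℤ) := by simpa using key (Fin.last l.length)
  obtain ⟨ξ', h1, h2⟩ := exists_isMax_le hK hn n hdim (l (Fin.last l.length))
  have hcl : c ≤ l (Fin.last l.length) := hl ▸ l.monotone (Fin.zero_le _)
  have he := subsingleton_degrees hK (hCM c) (nontrivial_dlt_of_isMax hK hcξ hmax)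
    (nontrivial_dlt_of_isMax hK (hcl.trans h1) h2)
  have h3 : dlt hK ξ' ≤ dlt hK (l (Fin.last l.length)) := antitone_dlt hK h1
  exact_mod_cast (show l.length ≤ (-dlt hK ξ).toNat by omega)

/-- On an equidimensional Cohen–Macaulay scheme the normalized dualizing complex lives in one degree. -/
theorem isZero_HD_of_CM (i : ℤ) (hi : i ≠ -(n : ℤ)) : IsZero (DCoh.HD K i) :=
  DPerf.isZero_of_stalks fun x => not_nontrivial_iff_subsingleton.1 fun h => by
    obtain ⟨ξ, hξ, hmax⟩ := exists_isMax_le hK hn n hdim x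
    exact hi ((subsingleton_degrees hK (hCM x) h (nontrivial_dlt_of_isMax hK hξ hmax)).trans
      (dlt_eq_neg_of_isMax hK hn n hdim hCM heq hmax))

end CM

section Divisor

variable {X D : Scheme.{u}} (i : D ⟶ X) [IsClosedImmersion i] (hI : PicF.IsInvertible (ClSub.idealMod i.ker))

include hI

theorem exists_local_generator (z : D) :
    ∃ U : X.affineOpens, i z ∈ U.1 ∧ ∃ f ∈ nonZeroDivisors Γ(X, U.1), RingHom.ker (i.app U.1).hom = Ideal.span {f} := by
  obtain ⟨U, hU, f, hf, e⟩ := SecDiv.isEffCartierIdeal_of_isInvertible i.ker hI (i z)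
  exact ⟨U, hU, f, hf, (Scheme.Hom.ker_apply i U).symm.trans e⟩

theorem isRegularImmersion_one : RegImm.IsRegularImmersionOfCodim RegImm.Kind.regular 1 i := by
  refine ⟨inferInstance, fun z => ?_⟩
  obtain ⟨U, hU, f, hf, e⟩ := exists_local_generator i hI z
  refine ⟨U, hU, IsZariskiLocalAtTarget.restrict (P := @IsClosedImmersion) ‹_› U.1, [f], rfl, ?_,
    e.trans (Ideal.ofList_singleton f).symm⟩
  refine ⟨(RingTheory.Sequence.isWeaklyRegular_singleton_iff _ f).2
    (IsLeftRegular.isSMulRegular (isRegular_iff_mem_nonZeroDivisors.2 hf).left), fun htop => ?_⟩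
  rw [Ideal.ofList_singleton, ← e, Ideal.smul_eq_mul, Ideal.mul_top] at htop
  have h1 : (1 : Γ(X, U.1)) ∈ RingHom.ker (i.app U.1).hom := htop ▸ Submodule.mem_top
  rw [RingHom.mem_ker, map_one] at h1
  haveI : Nonempty (i ⁻¹ᵁ U.1) := ⟨⟨z, hU⟩⟩
  exact one_ne_zero h1

theorem stalk_CM [IsLocallyNoetherian X] (z : D) (hCM : LocCoh.IsCohenMacaulayLocalRing (X.presheaf.stalk (i z))) :
    LocCoh.IsCohenMacaulayLocalRing (D.presheaf.stalk z) ∧
      ringKrullDim (D.presheaf.stalk z) + 1 = ringKrullDim (X.presheaf.stalk (i z)) := by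
  obtain ⟨U, hU, f, hf, e⟩ := exists_local_generator i hI z
  let g := X.presheaf.germ U.1 (i z) hU
  have hk : RingHom.ker (i.stalkMap z).hom = Ideal.span {g.hom f} := by
    rw [RegImm26.ker_stalkMap_eq i z U.2 hU, e, Ideal.map_span, Set.image_singleton]
  letI : Algebra Γ(X, U.1) (X.presheaf.stalk (i z)) := g.hom.toAlgebra
  haveI : IsLocalization.AtPrime (X.presheaf.stalk (i z)) (U.2.primeIdealOf ⟨i z, hU⟩).asIdeal :=
    U.2.isLocalization_stalk ⟨i z, hU⟩
  haveI : Module.Flat Γ(X, U.1) (X.presheaf.stalk (i z)) :=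
    IsLocalization.flat _ (U.2.primeIdealOf ⟨i z, hU⟩).asIdeal.primeCompl
  have hreg : IsSMulRegular (X.presheaf.stalk (i z)) (g.hom f) := by
    have h0 : IsSMulRegular Γ(X, U.1) f := IsLeftRegular.isSMulRegular (isRegular_iff_mem_nonZeroDivisors.2 hf).left
    exact h0.of_flat
  have hm : g.hom f ∈ IsLocalRing.maximalIdeal (X.presheaf.stalk (i z)) :=
    IsLocalRing.le_maximalIdeal (RingHom.ker_ne_top _) (hk.ge (Ideal.mem_span_singleton_self _))
  haveI := hCM
  obtain ⟨h1, h2⟩ := Slice.isCM_quotient_span_singleton hm hreg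
  let eq : (X.presheaf.stalk (i z) ⧸ Ideal.span {g.hom f}) ≃+* D.presheaf.stalk z :=
    (Ideal.quotEquivOfEq hk.symm).trans (RingHom.quotientKerEquivOfSurjective (i.stalkMap_surjective z))
  exact ⟨SMT.isCM_of_ringEquiv eq h1, ringKrullDim_eq_of_ringEquiv eq ▸ h2⟩

end Divisor

section Uniq

variable {k : Type u} [Field k] {X : Scheme.{u}} [X.Over (Spec (CommRingCat.of k))] {d : ℕ}

theorem Repr.nonempty_iso {ω ω' : X.Modules} (h : Repr k d ω) (h' : Repr k d ω') : Nonempty (ω ≅ ω') := by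
  obtain ⟨t, ht⟩ := h.2
  obtain ⟨t', ht'⟩ := h'.2
  obtain ⟨φ, hφ, -⟩ := ht' ω h.1 t
  obtain ⟨ψ, hψ, -⟩ := ht ω' h'.1 t'
  have hc : ∀ {A B C : X.Modules} (a : A ⟶ B) (b : B ⟶ C) (x : Coh.HH X A d),
      Sheaf.H.map ((SheafOfModules.toSheaf X.ringCatSheaf).map (a ≫ b)) d x =
        Sheaf.H.map ((SheafOfModules.toSheaf X.ringCatSheaf).map b) d
          (Sheaf.H.map ((SheafOfModules.toSheaf X.ringCatSheaf).map a) d x) := fun a b x => by
    rw [Functor.map_comp]; exact Sheaf.H.map_comp_apply _ _ _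
  have hi : ∀ {A : X.Modules} (x : Coh.HH X A d),
      Sheaf.H.map ((SheafOfModules.toSheaf X.ringCatSheaf).map (𝟙 A)) d x = x := fun {A} x => by
    rw [CategoryTheory.Functor.map_id]; exact Sheaf.H.map_id_apply _
  obtain ⟨u, -, hu⟩ := ht ω h.1 t
  obtain ⟨u', -, hu'⟩ := ht' ω' h'.1 t'
  exact ⟨⟨φ, ψ, (hu _ fun x => by rw [hc, ← hψ, ← hφ]).trans (hu _ fun x => by rw [hi]).symm,
    (hu' _ fun x => by rw [hc, ← hφ, ← hψ]).trans (hu' _ fun x => by rw [hi]).symm⟩⟩

theorem repr_of_isRDualOver {ω : X.Modules} {tr : Coh.HH X ω d →ₗ[k] k} (h : Canon.IsRDualOver k X d ω tr) :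
    Repr k d ω := by
  refine ⟨h.1, tr, fun F hF ψ => ?_⟩
  obtain ⟨φ, hφ⟩ := (h.2 F hF).2 ψ
  exact ⟨φ, fun x => (LinearMap.congr_fun hφ x).symm, fun φ' h' => (h.2 F hF).1
    (hφ.symm ▸ LinearMap.ext fun x => (h' x).symm)⟩

end Uniq

section Adjunction

variable (k : Type u) [Field k] {X D : Scheme.{u}} [X.Over (Spec (CommRingCat.of k))]
  [IsProper (X ↘ Spec (CommRingCat.of k))]

/-- The adjunction formula. -/
theorem nonempty_adjunction_formula (n : ℕ) (hn : topologicalKrullDim X = (n : WithBot ℕ∞))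
    (hCM : ∀ x : X, LocCoh.IsCohenMacaulayLocalRing (X.presheaf.stalk x))
    (heq : ∀ x : X, IsClosed ({x} : Set X) → ringKrullDim (X.presheaf.stalk x) = n)
    (ωX : X.Modules) (hωX : Repr k n ωX) (i : D ⟶ X) [IsClosedImmersion i]
    [D.Over (Spec (CommRingCat.of k))] (hover : i ≫ (X ↘ Spec (CommRingCat.of k)) = D ↘ Spec (CommRingCat.of k))
    (m : ℕ) (hm : n = m + 1) (hdimD : topologicalKrullDim D ≤ (m : WithBot ℕ∞))
    (hI : PicF.IsInvertible (ClSub.idealMod i.ker)) (OD : X.Modules) (hOD : ClSub.IsInverseOf OD (ClSub.idealMod i.ker))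
    (ωD : D.Modules) (hωD : Repr k m ωD) :
    Nonempty (ωD ≅ (Scheme.Modules.pullback i).obj (CohB1.tensorMod OD ωX)) := by
  haveI : ∀ (U V : Scheme.{u}) (j : U ⟶ V) [IsOpenImmersion j],
      PreservesFiniteLimits (Scheme.Modules.restrictFunctor j) := fun U V j _ => inferInstance
  haveI : ∀ (R : CommRingCat.{u}), PreservesFiniteLimits (tilde.functor R) := fun R => M1.tilde_preservesFiniteLimits
  let f := X ↘ Spec (CommRingCat.of k)
  let g := D ↘ Spec (CommRingCat.of k)
  haveI : IsLocallyNoetherian X := LocallyOfFiniteType.isLocallyNoetherian f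
  haveI : CompactSpace X := QuasiCompact.compactSpace_of_compactSpace f
  haveI : IsNoetherian X := { }
  haveI : IsProper g := by rw [show g = i ≫ f from hover.symm]; infer_instance
  haveI : IsLocallyNoetherian D := LocallyOfFiniteType.isLocallyNoetherian g
  haveI : CompactSpace D := QuasiCompact.compactSpace_of_compactSpace g
  haveI : IsNoetherian (Spec (CommRingCat.of k)) := inferInstance
  haveI : IsNoetherian D := { }
  haveI := DBC9.hasRpush f
  haveI := DBC9.hasRpush g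
  haveI := DBC9.hasRpush i
  let hp := rpushPreserves f
  let hpD := rpushPreserves g
  let hpi := rpushPreserves i
  haveI := isLeftAdjoint_rpushQ f hp
  haveI := isLeftAdjoint_rpushQ g hpD
  haveI := isLeftAdjoint_rpushQ i hpi
  let adj := Adjunction.ofIsLeftAdjoint (DCoh.RpushQ f hp)
  let adjD := Adjunction.ofIsLeftAdjoint (DCoh.RpushQ g hpD)
  let adji := Adjunction.ofIsLeftAdjoint (DCoh.RpushQ i hpi)
  let eW : (W₀ k).obj ≅ (DPerf.tildeDD (CommRingCat.of k)).obj (Dual.inD k k) := Iso.refl _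
  have hK := isDualizingSch_proper (A := CommRingCat.of k) (isDualizing_self_field k) f adj eW
  have hcl := dlt_eq_zero_of_isClosed (A := CommRingCat.of k) (isDualizing_self_field k)
    (isNormalized_self_field k) f adj eW
  let K := (DCoh.RpushQ f hp).rightAdjoint.obj (W₀ k)
  have hz : ∀ t : ℤ, t ≠ -(n : ℤ) → IsZero (DCoh.HD K.obj t) := isZero_HD_of_CM hK hcl n hn hCM heq
  haveI : K.obj.IsGE (-(n : ℤ)) := (DerivedCategory.isGE_iff _ _).2 fun t ht => hz t ht.ne
  haveI : K.obj.IsLE (-(n : ℤ)) := (DerivedCategory.isLE_iff _ _).2 fun t ht => hz t ht.ne'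
  obtain ⟨M, ⟨eM⟩⟩ := K.obj.exists_iso_singleFunctor_obj_of_isGE_of_isLE (-(n : ℤ))
  have hωK := repr_of_adj k X adj n hn.le
  obtain ⟨eω⟩ := hωK.nonempty_iso hωX
  let eMω : M ≅ ωX := ((DerivedCategory.singleFunctorCompHomologyFunctorIso _ _).app M).symm ≪≫
    (DerivedCategory.homologyFunctor _ _).mapIso eM.symm ≪≫
    eqToIso (show DCoh.HD K.obj (-(n : ℤ)) = DCoh.HD K.obj (-((n : ℤ) - 0)) by rw [sub_zero]) ≪≫ eω
  have hMq : Coh.IsQCoh ωX := hωX.1
  let eK : K.obj ≅ ((DerivedCategory.singleFunctor X.Modules 0).obj ωX)⟦(n : ℤ)⟧ :=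
    eM ≪≫ (DerivedCategory.singleFunctor X.Modules _).mapIso eMω ≪≫
      (((DerivedCategory.singleFunctors X.Modules).shiftIso (n : ℤ) (-(n : ℤ)) 0 (by omega)).app ωX).symm
  have hKb : Dual3.IsBddBelowQ X K := ⟨-(n : ℤ), inferInstanceAs (K.obj.IsGE _)⟩
  haveI := RHom.preservesFiniteColimits_push i
  haveI := RHom.preservesLimits_pushforward i
  haveI : EnoughInjectives X.Modules := inferInstance
  haveI : HasInjectiveResolutions (ModSite.Mod X.sheaf) := inferInstanceAs (HasInjectiveResolutions X.Modules)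
  haveI := HomO15.isLeftAdjoint i
  haveI : ModSite.HasSheafHom (O := X.sheaf) ((Scheme.Modules.pushforward i).obj (Coh.structureModule D)) :=
    CohMop.isLeftAdjoint_tenR _
  haveI := isLeftAdjoint_mapDerived (Scheme.Modules.pushforward i) (Adjunction.ofIsLeftAdjoint (Scheme.Modules.pushforward i))
  let adjR := Adjunction.ofIsLeftAdjoint (Dual3.pushD i)
  let R := (Dual3.pushD i).rightAdjoint
  obtain ⟨_, _⟩ := exists_triangulated_upper (Scheme.Modules.pushforward i) adjR
  obtain ⟨ni⟩ := nonempty_upper_natIso i adjR adji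
    (fun L => by obtain ⟨c, hc⟩ := L.property; exact isQCohD_upper i adjR L.obj.obj c hc L.obj.property)
  let KD := (DCoh.RpushQ g hpD).rightAdjoint.obj (W₀ k)
  let e₁ : KD.obj ≅ (R.obj ((DerivedCategory.singleFunctor X.Modules 0).obj ωX))⟦(n : ℤ)⟧ :=
    ((ObjectProperty.ι _).mapIso ((compA adji adj adjD hover).app (W₀ k))).symm ≪≫ ni.app ⟨K, hKb⟩ ≪≫
      R.mapIso eK ≪≫ (R.commShiftIso (n : ℤ)).app _
  obtain ⟨w⟩ := nonempty_push_hd_upper i adjR ωX 1
  let E : DCoh.HD KD.obj (-((m : ℤ) - 0)) ≅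
      DCoh.HD (R.obj ((DerivedCategory.singleFunctor X.Modules 0).obj ωX)) ((1 : ℕ) : ℤ) :=
    (DerivedCategory.homologyFunctor _ _).mapIso e₁ ≪≫
      ((DerivedCategory.homologyFunctor D.Modules 0).shiftIso (n : ℤ) (-((m : ℤ) - 0)) ((1 : ℕ) : ℤ)
        (by omega)).app _
  let L := Omega.conormal i
  have hL : ExtPow.IsExtPow 1 (Omega.conormal i) L := ExtFil4.isExtPow_one _
  have hreg := isRegularImmersion_one i hI
  obtain ⟨v⟩ := FundIso12.nonempty_ext_iso_dual i hreg hL hMq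
  have hLinv : PicF.IsInvertible L := FundIso12.isInvertible_det i hreg hL
  obtain ⟨eOD⟩ := hOD
  let iOD := (Scheme.Modules.pullback i).obj OD
  let eL : CohB1.tensorMod L iOD ≅ Coh.structureModule D :=
    M2.tensorComm _ _ ≪≫ (M2.pullTensorIso i OD (ClSub.idealMod i.ker)).symm ≪≫
      (Scheme.Modules.pullback i).mapIso eOD ≪≫ PicLoc.pullbackStructureIso i
  obtain ⟨eD⟩ := ES11.nonempty_dual_iso_of_inverse hLinv eL
  let N := (Scheme.Modules.pullback i).obj (CohB1.tensorMod OD ωX)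
  let q : (Scheme.Modules.pushforward i).obj (DCoh.HD KD.obj (-((m : ℤ) - 0))) ≅ (Scheme.Modules.pushforward i).obj N :=
    (Scheme.Modules.pushforward i).mapIso E ≪≫ w ≪≫ v.symm ≪≫
      (Scheme.Modules.pushforward i).mapIso (M2.tensorIso (Iso.refl _) eD ≪≫ M2.tensorComm _ _ ≪≫
        (M2.pullTensorIso i OD ωX).symm)
  have hωKD := repr_of_adj k D adjD m hdimD
  obtain ⟨eωD⟩ := hωD.nonempty_iso hωKD
  haveI : (DCoh.HD KD.obj (-((m : ℤ) - 0))).IsQuasicoherent := hωKD.1
  have hODinv : PicF.IsInvertible OD := by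
    exact M2.isInvertible_of_tensor_iso_unit _ _ eOD
  haveI : N.IsQuasicoherent :=
    M1.isQCoh_pullback i (M2.isQCoh_tensor (Twist.isQCoh_of_isInvertible hODinv) hMq)
  haveI := CohMop.isIso_counit_closedImmersion i (DCoh.HD KD.obj (-((m : ℤ) - 0)))
  haveI := CohMop.isIso_counit_closedImmersion i N
  exact ⟨eωD ≪≫ (asIso ((Scheme.Modules.pullbackPushforwardAdjunction i).counit.app _)).symm ≪≫
    (Scheme.Modules.pullback i).mapIso q ≪≫ asIso ((Scheme.Modules.pullbackPushforwardAdjunction i).counit.app N)⟩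

end Adjunction

end Groth.Agent.BC8
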