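import Groth.Agent.Lib.BC8.LE

/-!
Boundedness above of right adjoints passes to tor-independent base changes.
-/

set_option autoImplicit false
set_option linter.unusedSectionVars false
set_option linter.style.haveILetI false
set_option backward.isDefEq.respectTransparency false
set_option backward.isDefEq.respectTransparency.types false
set_option maxHeartbeats 800000

universe u

open CategoryTheory CategoryTheory.Limits AlgebraicGeometry Pretriangulated

attribute [local instance] HasDerivedCategory.standard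

namespace Groth.Agent.BC8

open DMon9

variable {X' Y' : Scheme.{u}}

/-- A bound for `a'` on direct images from opens with given range. -/
def Bdd (a' : DCoh.DQCoh Y' ⥤ DCoh.DQCoh X') (S : Y'.Opens) : Prop :=
  ∀ (T : Scheme.{u}) (j : T ⟶ Y') [IsOpenImmersion j] [QuasiCompact j], j.opensRange = S → ∀ [DCoh.HasRpush j],
    ∃ d : ℤ, ∀ (M : DCoh.D T), DCoh.IsQCohD M → ∀ n : ℤ, M.IsLE n →
      ∀ hq : DCoh.IsQCohD ((DCoh.Rpush j).obj M), (a'.obj ⟨_, hq⟩).obj.IsLE (n + d)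

section

variable {a' : DCoh.DQCoh Y' ⥤ DCoh.DQCoh X'} [QuasiSeparatedSpace Y']

/-- It suffices to bound the canonical open immersion. -/
theorem bdd_of_ι [CompactSpace Y'] (U : Y'.Opens) (hU : IsCompact (U : Set Y')) [DCoh.HasRpush U.ι]
    (h : ∃ d : ℤ, ∀ (M : DCoh.D (U : Scheme.{u})), DCoh.IsQCohD M → ∀ n : ℤ, M.IsLE n →
      ∀ hq : DCoh.IsQCohD ((DCoh.Rpush U.ι).obj M), (a'.obj ⟨_, hq⟩).obj.IsLE (n + d)) :
    Bdd a' U := by
  intro T j _ _ hj _
  obtain ⟨d, hd⟩ := h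
  haveI : CompactSpace (U : Scheme.{u}) := isCompact_iff_compactSpace.mp hU
  have hr : Set.range j = Set.range U.ι := by
    rw [Scheme.Opens.range_ι]
    exact congrArg (fun V : Y'.Opens => (V : Set Y')) hj
  obtain ⟨e, he⟩ : ∃ e : T ≅ (U : Scheme.{u}), e.hom ≫ U.ι = j :=
    ⟨IsOpenImmersion.isoOfRangeEq j U.ι hr, IsOpenImmersion.isoOfRangeEq_hom_fac _ _ _⟩
  haveI := DBC9.hasRpush e.hom
  obtain ⟨N, hN⟩ := exists_rpush_bound e.hom
  subst he
  refine ⟨N + d, fun M hM n hn hq => ?_⟩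
  let w := (DPush.compIso e.hom U.ι).app M
  have hq' : DCoh.IsQCohD ((DCoh.Rpush U.ι).obj ((DCoh.Rpush e.hom).obj M)) := DQC.isQCohD_of_iso w.symm hq
  have h0 := hd _ (rpushPreserves e.hom M hM) (n + N) (hN M hM n hn) hq'
  rw [← add_assoc]
  exact isLE_of_iso ((ObjectProperty.ι _).mapIso (a'.mapIso (ObjectProperty.isoMk _ w))) h0

variable [a'.CommShift ℤ] [a'.IsTriangulated]

/-- The Mayer-Vietoris step. -/
theorem bdd_sup {A B : Y'.Opens} (hA : IsCompact (A : Set Y')) (hB : IsCompact (B : Set Y'))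
    (hsA : Bdd a' A) (hsB : Bdd a' B) (hsAB : Bdd a' (A ⊓ B)) : Bdd a' (A ⊔ B) := by
  intro T j _ _ hj _
  let A' := j ⁻¹ᵁ A
  let B' := j ⁻¹ᵁ B
  have hcov : A' ⊔ B' = ⊤ := by
    refine TopologicalSpace.Opens.ext (Set.eq_univ_of_forall fun x => ?_)
    have hx : j x ∈ j.opensRange := ⟨x, rfl⟩
    rw [hj] at hx
    exact hx
  have hrange : ∀ C : Y'.Opens, C ≤ A ⊔ B → ((j ⁻¹ᵁ C).ι ≫ j).opensRange = C := fun C hC => by
    rw [Scheme.Hom.opensRange_comp, Scheme.Opens.opensRange_ι, Scheme.Hom.image_preimage_eq_opensRange_inf, hj]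
    exact inf_eq_right.2 hC
  have hqc : ∀ C : T.Opens, IsCompact (C : Set T) → QuasiCompact (C.ι ≫ j) := fun C hC => by
    haveI : CompactSpace (C : Scheme.{u}) := isCompact_iff_compactSpace.mp hC
    exact qc_of_qcqs _
  have hAB : IsCompact ((A ⊓ B : Y'.Opens) : Set Y') := by
    rw [TopologicalSpace.Opens.coe_inf]
    exact QuasiSeparatedSpace.inter_isCompact _ _ A.2 hA B.2 hB
  haveI := hqc A' (j.isCompact_preimage hA)
  haveI := hqc B' (j.isCompact_preimage hB)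
  haveI : QuasiCompact ((A' ⊓ B').ι ≫ j) := hqc (j ⁻¹ᵁ (A ⊓ B)) (j.isCompact_preimage hAB)
  haveI := DBC9.hasRpush (A'.ι ≫ j)
  haveI := DBC9.hasRpush (B'.ι ≫ j)
  haveI := DBC9.hasRpush ((A' ⊓ B').ι ≫ j)
  obtain ⟨d₁, h₁⟩ := hsA _ (A'.ι ≫ j) (hrange A le_sup_left)
  obtain ⟨d₂, h₂⟩ := hsB _ (B'.ι ≫ j) (hrange B le_sup_right)
  obtain ⟨d₃, h₃⟩ := hsAB _ ((A' ⊓ B').ι ≫ j) (hrange (A ⊓ B) (inf_le_left.trans le_sup_left))
  refine ⟨max (max d₁ d₂) (d₃ + 1), fun M hM n hn hq => ?_⟩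
  haveI := hn
  obtain ⟨u₁, u₂, u₃, hT⟩ := DMV.exists_relative_triangle j A' B' hcov M
  have qA := fun (C : T.Opens) => DQC.isQCohD_resD C.ι hM
  have lA := fun (C : T.Opens) => RelPCS8.Noeth.isLE_res (K := M) (b := n) C.ι
  have q₁ := rpushPreserves (A'.ι ≫ j) _ (qA A')
  have q₂ := rpushPreserves (B'.ι ≫ j) _ (qA B')
  have q₃ := rpushPreserves ((A' ⊓ B').ι ≫ j) _ (qA (A' ⊓ B'))
  refine isLE_first a' _ hT hq (isQCohD_biprod q₁ q₂) q₃ _ (isLE_biprod a' q₁ q₂ _ _ ?_ ?_) ?_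
  · exact isLE_mono (h₁ _ (qA A') n (lA A') q₁) (by omega)
  · exact isLE_mono (h₂ _ (qA B') n (lA B') q₂) (by omega)
  · exact isLE_mono (h₃ _ (qA _) n (lA _) q₃) (by omega)

/-- Unions of basic opens of a fixed affine open. -/
theorem bdd_sup_basicOpen {U : Y'.Opens} (hU : IsAffineOpen U)
    (hb : ∀ g : Γ(Y', U), Bdd a' (Y'.basicOpen g)) :
    ∀ (k : ℕ) (s : Finset Γ(Y', U)), s.card ≤ k → Bdd a' (s.sup fun g => Y'.basicOpen g) := by
  classical
  intro k
  induction k with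
  | zero =>
    intro s hs
    rw [Finset.card_eq_zero.1 (Nat.le_zero.1 hs), Finset.sup_empty, ← Scheme.basicOpen_zero Y' U]
    exact hb 0
  | succ k ih =>
    intro s hs
    rcases s.eq_empty_or_nonempty with rfl | ⟨g, hg⟩
    · exact ih ∅ (by simp)
    · have hcard : (s.erase g).card ≤ k := by
        have := Finset.card_erase_of_mem hg
        omega
      have hc : ∀ t : Finset Γ(Y', U), IsCompact ((t.sup fun h => Y'.basicOpen h : Y'.Opens) : Set Y') := fun t => by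
        induction t using Finset.induction_on with
        | empty => simp
        | insert a t _ iht => rw [Finset.sup_insert, TopologicalSpace.Opens.coe_sup]; exact (hU.basicOpen a).isCompact.union iht
      rw [← Finset.insert_erase hg, Finset.sup_insert]
      refine bdd_sup (hU.basicOpen g).isCompact (hc _) (hb g) (ih _ hcard) ?_
      rw [Finset.sup_inf_distrib_left,
        show ((s.erase g).sup fun h => Y'.basicOpen g ⊓ Y'.basicOpen h) =
          ((s.erase g).image (g * ·)).sup fun h => Y'.basicOpen h from by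
            rw [Finset.sup_image]; exact Finset.sup_congr rfl fun h _ => (Scheme.basicOpen_mul Y' g h).symm]
      exact ih _ (Finset.card_image_le.trans hcard)

/-- Compact opens inside a fixed affine open. -/
theorem bdd_le_affine {U : Y'.Opens} (hU : IsAffineOpen U) (hb : ∀ g : Γ(Y', U), Bdd a' (Y'.basicOpen g))
    {W : Y'.Opens} (hW : IsCompact (W : Set Y')) (hle : W ≤ U) : Bdd a' W := by
  classical
  have h : ∀ x : W, ∃ g : Γ(Y', U), Y'.basicOpen g ≤ W ∧ (x : Y') ∈ Y'.basicOpen g := fun x =>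
    hU.exists_basicOpen_le ⟨x.1, x.2⟩ (hle x.2)
  choose g hgle hgx using h
  obtain ⟨t, ht⟩ := hW.elim_finite_subcover (fun x : W => (Y'.basicOpen (g x) : Set Y'))
    (fun x => (Y'.basicOpen (g x)).2) fun y hy => Set.mem_iUnion.2 ⟨⟨y, hy⟩, hgx ⟨y, hy⟩⟩
  have hs : (t.image g).sup (fun h => Y'.basicOpen h) = W := by
    rw [Finset.sup_image]
    refine le_antisymm (Finset.sup_le fun x _ => hgle x) fun y hy => ?_
    obtain ⟨x, hx, hxy⟩ := Set.mem_iUnion₂.1 (ht hy)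
    exact SetLike.le_def.1 (Finset.le_sup (f := fun x => Y'.basicOpen (g x)) hx) hxy
  exact hs ▸ bdd_sup_basicOpen hU hb _ _ le_rfl

/-- Finite unions of affine opens. -/
theorem bdd_top [CompactSpace Y'] (hb : ∀ y : Y', ∃ U : Y'.Opens, IsAffineOpen U ∧ y ∈ U ∧
    ∀ g : Γ(Y', U), Bdd a' (Y'.basicOpen g)) : Bdd a' (⊤ : Y'.Opens) := by
  classical
  choose U hU hy hb using hb
  obtain ⟨t, ht⟩ := isCompact_univ.elim_finite_subcover (fun y : Y' => (U y : Set Y'))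
    (fun y => (U y).2) fun y _ => Set.mem_iUnion.2 ⟨y, hy y⟩
  have hs : t.sup U = ⊤ := top_le_iff.1 fun y _ => by
    obtain ⟨x, hx, hxy⟩ := Set.mem_iUnion₂.1 (ht (Set.mem_univ y))
    exact SetLike.le_def.1 (Finset.le_sup (f := U) hx) hxy
  suffices H : ∀ t : Finset Y', Bdd a' (t.sup U) ∧ IsCompact ((t.sup U : Y'.Opens) : Set Y') from hs ▸ (H t).1
  intro t
  induction t using Finset.induction_on with
  | empty =>
    rw [Finset.sup_empty]
    refine ⟨?_, by simp⟩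
    rcases isEmpty_or_nonempty Y' with hem | ⟨⟨y⟩⟩
    · intro T j _ _ _ _
      refine ⟨0, fun M _ n _ hq => ?_⟩
      have hz : IsZero (⟨_, hq⟩ : DCoh.DQCoh Y') := by
        have h0 : IsZero ((DCoh.Rpush j).obj M) := DMV.isZero_of_hd fun i =>
          DPerf.isZero_of_cover (fun _ : Empty => (⊥ : Y'.Opens)) (fun y => (hem.false y).elim) fun x => x.elim
        exact ⟨fun Z => ⟨⟨⟨ObjectProperty.homMk (h0.to_ Z.obj)⟩, fun v => ObjectProperty.hom_ext _ (h0.eq_of_src _ _)⟩⟩,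
          fun Z => ⟨⟨⟨ObjectProperty.homMk (h0.from_ Z.obj)⟩, fun v => ObjectProperty.hom_ext _ (h0.eq_of_tgt _ _)⟩⟩⟩
      exact (DerivedCategory.isLE_iff _ _).2 fun i _ =>
        (DerivedCategory.homologyFunctor _ i).map_isZero ((ObjectProperty.ι _).map_isZero (a'.map_isZero hz))
    · exact bdd_le_affine (hU y) (hb y) (by simp) bot_le
  | insert x t _ ih =>
    rw [Finset.sup_insert]
    refine ⟨bdd_sup (hU x).isCompact ih.2 ?_ ih.1 ?_, ?_⟩
    · exact bdd_le_affine (hU x) (hb x) (hU x).isCompact le_rfl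
    · refine bdd_le_affine (hU x) (hb x) ?_ inf_le_left
      rw [TopologicalSpace.Opens.coe_inf]
      exact QuasiSeparatedSpace.inter_isCompact _ _ (U x).2 (hU x).isCompact (t.sup U).2 ih.2
    · rw [TopologicalSpace.Opens.coe_sup]
      exact (hU x).isCompact.union ih.2

end

variable {X Y : Scheme.{u}} [CompactSpace X] [QuasiSeparatedSpace X] [CompactSpace Y] [QuasiSeparatedSpace Y]
  [CompactSpace X'] [QuasiSeparatedSpace X'] [CompactSpace Y'] [QuasiSeparatedSpace Y']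
  {f : X ⟶ Y} {g : Y' ⟶ Y} {f' : X' ⟶ Y'} {g' : X' ⟶ X}
  [DCoh.HasRpush f] [DCoh.HasRpush f'] {hf : DCoh.RpushPreservesQCoh f} {hf' : DCoh.RpushPreservesQCoh f'}
  {a : DCoh.DQCoh Y ⥤ DCoh.DQCoh X} {a' : DCoh.DQCoh Y' ⥤ DCoh.DQCoh X'}
  (adj : DCoh.RpushQ f hf ⊣ a) (adj' : DCoh.RpushQ f' hf' ⊣ a')

include adj adj' in
/-- Boundedness above passes to tor-independent base changes. -/
theorem exists_bound_baseChange (hsq : IsPullback g' f' f g) (htor : TorI f g)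
    (hbd : ∃ d : ℤ, ∀ (K : DCoh.DQCoh Y) (n : ℤ), K.obj.IsLE n → (a.obj K).obj.IsLE (n + d)) :
    ∃ d' : ℤ, ∀ (K' : DCoh.DQCoh Y') (n : ℤ), K'.obj.IsLE n → (a'.obj K').obj.IsLE (n + d') := by
  obtain ⟨d, hd⟩ := hbd
  haveI := qc_of_qcqs f
  haveI := qs_of_qcqs f
  haveI := qc_of_qcqs f'
  haveI := qs_of_qcqs f'
  obtain ⟨_, _⟩ := exists_triangulated f' hf' adj'
  haveI := DBC9.hasRpush (𝟙 Y')
  have hsmall : ∀ (U : Y.Opens), IsAffineOpen U → ∀ (U' : Y'.Opens), IsAffineOpen U' → U' ≤ g ⁻¹ᵁ U → Bdd a' U' := by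
    intro U hU U' hU' hle
    haveI : IsAffine (U' : Scheme.{u}) := hU'
    haveI := DBC9.hasRpush U'.ι
    refine bdd_of_ι U' hU'.isCompact ?_
    let i := (f' ⁻¹ᵁ U').ι
    let fT := f' ∣_ U'
    haveI := compactSpace_preimage (f' := f') hU'
    haveI := quasiSeparatedSpace_open (W := f' ⁻¹ᵁ U')
    haveI := qc_of_qcqs fT
    haveI := qs_of_qcqs fT
    haveI := qc_of_qcqs U'.ι
    haveI := qs_of_qcqs U'.ι
    haveI := qc_of_qcqs i
    haveI := qs_of_qcqs i
    haveI := qc_of_qcqs (U'.ι ≫ g)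
    haveI := qs_of_qcqs (U'.ι ≫ g)
    haveI := qc_of_qcqs (i ≫ g')
    haveI := qs_of_qcqs (i ≫ g')
    haveI := DBC9.hasRpush fT
    haveI := DBC9.hasRpush i
    haveI := DBC9.hasRpush (U'.ι ≫ g)
    haveI := DBC9.hasRpush (i ≫ g')
    let hT := rpushPreserves fT
    haveI := isLeftAdjoint_rpushQ fT hT
    let adjT := Adjunction.ofIsLeftAdjoint (DCoh.RpushQ fT hT)
    let aT := (DCoh.RpushQ fT hT).rightAdjoint
    have hsqj : IsPullback i fT f' U'.ι := (isPullback_morphismRestrict f' U').flip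
    have hsqc : IsPullback (i ≫ g') fT f (U'.ι ≫ g) := hsqj.paste_horiz hsq
    have hgj := good_of_flat hsqj (Or.inr inferInstance)
    have hgc : DBC9.Good f fT (U'.ι ≫ g) (i ≫ g') := DBC9.good_main _ _ _ _ hsqc (torI_open htor U')
    let hgU := rpushPreserves (U'.ι ≫ g)
    let hgU' := rpushPreserves (i ≫ g')
    let hj := rpushPreserves U'.ι
    let hi := rpushPreserves i
    let ec := eOf (DBC9.σcan hsqc.w.symm) (adjq (U'.ι ≫ g) hgU) (adjq (i ≫ g') hgU') (hf := hf) (hf' := hT)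
    let ej := eOf (DBC9.σcan hsqj.w.symm) (adjq U'.ι hj) (adjq i hi) (hf := hf') (hf' := hT)
    obtain ⟨N₁, hN₁⟩ := exists_rpush_bound (U'.ι ≫ g)
    obtain ⟨N₂, hN₂⟩ := exists_rpush_bound i
    refine ⟨N₁ + d + N₂, fun M hM n hn hq => ?_⟩
    let Mq : DCoh.DQCoh (U' : Scheme.{u}) := ⟨M, hM⟩
    haveI hc : IsIso (xiMap adj adjT ec Mq) := isIso_xi hgc _ adj adjT _ _ Mq
    haveI hjx : IsIso (xiMap adj' adjT ej Mq) := isIso_xi hgj _ adj' adjT _ _ Mq
    have h1 : ((DCoh.Rpush (i ≫ g')).obj (aT.obj Mq).obj).IsLE (n + N₁ + d) :=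
      isLE_of_iso (asIso (xiMap adj adjT ec Mq).hom).symm (hd _ _ (hN₁ M hM n hn))
    have h2 : (aT.obj Mq).obj.IsLE (n + N₁ + d) := leRefl_chart hsq hU hU' hle _ (aT.obj Mq).property _ h1
    have h3 := hN₂ _ (aT.obj Mq).property _ h2
    exact isLE_mono (isLE_of_iso (asIso (xiMap adj' adjT ej Mq).hom) h3) (by omega)
  have htop : Bdd a' (⊤ : Y'.Opens) := by
    refine bdd_top fun y => ?_
    obtain ⟨U, hU, hyU, -⟩ := TopologicalSpace.Opens.isBasis_iff_nbhd.1 Y.isBasis_affineOpens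
      (TopologicalSpace.Opens.mem_top (g y))
    obtain ⟨U', hU', hyU', hle⟩ : ∃ U' : Y'.Opens, IsAffineOpen U' ∧ y ∈ U' ∧ U' ≤ g ⁻¹ᵁ U :=
      TopologicalSpace.Opens.isBasis_iff_nbhd.1 Y'.isBasis_affineOpens (show y ∈ g ⁻¹ᵁ U from hyU)
    exact ⟨U', hU', hyU', fun h => hsmall U hU _ (hU'.basicOpen h) ((Y'.basicOpen_le h).trans hle)⟩
  obtain ⟨d', hd'⟩ := htop Y' (𝟙 Y') (Scheme.Hom.opensRange_of_isIso _)
  refine ⟨d', fun K' n hn => ?_⟩
  let w := (DBC9.rpushId Y').app K'.obj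
  have hq := DQC.isQCohD_of_iso w.symm K'.property
  exact isLE_of_iso ((ObjectProperty.ι _).mapIso (a'.mapIso (ObjectProperty.isoMk _ w : (⟨_, hq⟩ : DCoh.DQCoh Y') ≅ K')))
    (hd' K'.obj K'.property n hn hq)

end Groth.Agent.BC8
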