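import Groth.Agent.Lib.BC8.Local
import Groth.Agent.Lib.BC8.Tri
import Groth.Agent.Lib.RelPCS8.Noeth
import Groth.Agent.Lib.DMV.Derived

/-!
Upper bounds on cohomological degrees for direct images and their right adjoints.
-/

set_option autoImplicit false
set_option linter.unusedSectionVars false
set_option linter.style.haveILetI false
set_option backward.isDefEq.respectTransparency false
set_option backward.isDefEq.respectTransparency.types false
set_option maxHeartbeats 800000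

universe u

open CategoryTheory CategoryTheory.Limits AlgebraicGeometry Pretriangulated ZeroObject

attribute [local instance] HasDerivedCategory.standard

namespace Groth.Agent.BC8

open DMon9

variable {X Y : Scheme.{u}}

theorem isLE_of_iso {A B : DCoh.D X} (e : A ≅ B) {n : ℤ} (h : A.IsLE n) : B.IsLE n :=
  (DerivedCategory.isLE_iff _ _).2 fun i hi =>
    (DerivedCategory.isZero_of_isLE A n i hi).of_iso ((DerivedCategory.homologyFunctor _ i).mapIso e.symm)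

theorem isLE_mono {A : DCoh.D X} {n m : ℤ} (h : A.IsLE n) (hnm : n ≤ m) : A.IsLE m :=
  (DerivedCategory.isLE_iff _ _).2 fun i hi => DerivedCategory.isZero_of_isLE A n i (by omega)

/-- A uniform bound for direct images of quasi-coherent objects. -/
theorem exists_rpush_bound (k : X ⟶ Y) [QuasiCompact k] [QuasiSeparated k] [CompactSpace Y] [DCoh.HasRpush k] :
    ∃ N : ℕ, ∀ (E : DCoh.D X), DCoh.IsQCohD E → ∀ b : ℤ, E.IsLE b → ((DCoh.Rpush k).obj E).IsLE (b + N) := by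
  obtain ⟨N, hN⟩ := DPush.exists_bound k
  exact ⟨N, fun E hE b hb => (DerivedCategory.isLE_iff _ _).2 fun i hi => hN E hE b hb i (by omega)⟩

/-- `Rk_*` reflects upper bounds on quasi-coherent objects. -/
def LERefl (k : X ⟶ Y) [DCoh.HasRpush k] : Prop :=
  ∀ (E : DCoh.D X), DCoh.IsQCohD E → ∀ n : ℤ, ((DCoh.Rpush k).obj E).IsLE n → E.IsLE n

theorem leRefl_openImmersion (i : X ⟶ Y) [IsOpenImmersion i] [DCoh.HasRpush i] : LERefl i := fun E _ n h => by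
  haveI := DBC9.isIso_counit_openImmersion i
  haveI := h
  exact isLE_of_iso (((lPRes i).app _).symm ≪≫ asIso ((adjLP i).counit.app E)) (RelPCS8.Noeth.isLE_res i)

theorem leRefl_affine (k : X ⟶ Y) [IsAffineHom k] [DCoh.HasRpush k] : LERefl k := fun E hE n h => by
  have hcov : ∀ x : Y, ∃ (V : Y.Opens), x ∈ V ∧ IsAffineOpen V := fun x => by
    obtain ⟨V, hV, hxV, -⟩ := TopologicalSpace.Opens.isBasis_iff_nbhd.1 Y.isBasis_affineOpens
      (TopologicalSpace.Opens.mem_top x)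
    exact ⟨V, hxV, hV⟩
  choose V hxV hV using hcov
  have hq := rpushPreserves k E hE
  refine (DerivedCategory.isLE_iff _ _).2 fun m hm => ?_
  refine DPerf.isZero_of_cover (fun x : X => k ⁻¹ᵁ V (k.base x)) (fun x => ⟨x, hxV _⟩) fun x => ?_
  have hW := hV (k.base x)
  have ha : IsAffineOpen (k ⁻¹ᵁ V (k.base x)) := hW.preimage k
  refine DPush.isZero_restrict_of_sections_affine (hE m) ha ?_
  have h1 : Subsingleton ((DerivedCategory.singleFunctor Y.Modules m).obj ((DQC.gen Y).obj (V (k.base x))) ⟶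
      (DCoh.Rpush k).obj E) :=
    ⟨fun s t => (DQC.bijective_θ _ hq hW m).1 ((DerivedCategory.isZero_of_isLE _ n m hm).eq_of_tgt _ _)⟩
  have h2 := (SitePAdj.bijective_transpose (Scheme.Modules.pullbackPushforwardAdjunction k) (DPush.unit k)
    KInjLib.enoughKInj_of_grothendieck (DPush.isQuasiLiftable_adapted k)
    (DPush.adapted_gen k (V (k.base x))) m E).1.subsingleton
  haveI h3 := (((DerivedCategory.singleFunctor X.Modules m).mapIso (DPush.pullGenIso k (V (k.base x)))).homCongr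
    (Iso.refl E)).subsingleton_congr.2 h2
  exact ⟨fun s t => ((DQC.genHom (k ⁻¹ᵁ V (k.base x)) _).symm).injective
    ((DQC.bijective_θ E hE ha m).2.subsingleton.elim _ _)⟩

theorem leRefl_comp {W : Scheme.{u}} (p : X ⟶ W) [IsAffineHom p] (i : W ⟶ Y) [IsOpenImmersion i]
    (k : X ⟶ Y) (hk : p ≫ i = k) [DCoh.HasRpush k] : LERefl k := by
  subst hk
  haveI := DBC9.hasRpush p
  haveI := DBC9.hasRpush i
  intro E hE n h
  exact leRefl_affine p E hE n (leRefl_openImmersion i _ (rpushPreserves p E hE) n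
    (isLE_of_iso ((DPush.compIso p i).app E).symm h))

variable {X' Y' : Scheme.{u}} {f : X ⟶ Y} {g : Y' ⟶ Y} {f' : X' ⟶ Y'} {g' : X' ⟶ X}

/-- The projection from the part over an affine open reflects upper bounds. -/
theorem leRefl_chart (hsq : IsPullback g' f' f g) {U : Y.Opens} (hU : IsAffineOpen U) {U' : Y'.Opens}
    (hU' : IsAffineOpen U') (hle : U' ≤ g ⁻¹ᵁ U) [DCoh.HasRpush ((f' ⁻¹ᵁ U').ι ≫ g')] :
    LERefl ((f' ⁻¹ᵁ U').ι ≫ g') := by
  haveI : IsAffine (U : Scheme.{u}) := hU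
  haveI : IsAffine (U' : Scheme.{u}) := hU'
  let gU := g.resLE U U' hle
  have hgU : gU ≫ U.ι = U'.ι ≫ g := Scheme.Hom.resLE_comp_ι g hle
  have hU0 := (isPullback_morphismRestrict f U).flip
  have hT : IsPullback ((f' ⁻¹ᵁ U').ι ≫ g') (f' ∣_ U') f (U'.ι ≫ g) :=
    (isPullback_morphismRestrict f' U').flip.paste_horiz hsq
  rw [← hgU] at hT
  have w : ((f' ⁻¹ᵁ U').ι ≫ g') ≫ f = ((f' ∣_ U') ≫ gU) ≫ U.ι := by rw [hT.w, Category.assoc]
  let p := hU0.lift ((f' ⁻¹ᵁ U').ι ≫ g') ((f' ∣_ U') ≫ gU) w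
  have hp : p ≫ (f ⁻¹ᵁ U).ι = (f' ⁻¹ᵁ U').ι ≫ g' := hU0.lift_fst _ _ _
  have hsqp : IsPullback p (f' ∣_ U') (f ∣_ U) gU :=
    IsPullback.of_right (by rwa [hp]) (hU0.lift_snd _ _ _) hU0
  haveI : IsAffineHom p := MorphismProperty.of_isPullback hsqp.flip (inferInstance : IsAffineHom gU)
  exact leRefl_comp p (f ⁻¹ᵁ U).ι _ hp

section Triangle

variable (Φ : DCoh.DQCoh Y ⥤ DCoh.DQCoh X) [Φ.CommShift ℤ] [Φ.IsTriangulated]

theorem exists_image_triangle (T : Triangle (DCoh.D Y)) (hT : T ∈ distTriang _) (h₁ : DCoh.IsQCohD T.obj₁)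
    (h₂ : DCoh.IsQCohD T.obj₂) (h₃ : DCoh.IsQCohD T.obj₃) :
    ∃ (a : (Φ.obj ⟨_, h₁⟩).obj ⟶ (Φ.obj ⟨_, h₂⟩).obj) (b : (Φ.obj ⟨_, h₂⟩).obj ⟶ (Φ.obj ⟨_, h₃⟩).obj)
      (c : (Φ.obj ⟨_, h₃⟩).obj ⟶ ((Φ.obj ⟨_, h₁⟩).obj)⟦(1 : ℤ)⟧), Triangle.mk a b c ∈ distTriang _ := by
  let v : (⟨_, h₁⟩ : DCoh.DQCoh Y) ⟶ ⟨_, h₂⟩ := ObjectProperty.homMk T.mor₁
  obtain ⟨Z, g, h, hZ⟩ := Pretriangulated.distinguished_cocone_triangle v
  have hZ' := (ObjectProperty.ι (DCoh.IsQCohD (X := Y))).map_distinguished _ hZ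
  let e : Z.obj ≅ T.obj₃ := Triangle.π₃.mapIso (isoTriangleOfIso₁₂ _ _ hZ' hT (Iso.refl _) (Iso.refl _)
    ((Category.comp_id _).trans (Category.id_comp _).symm))
  let eq : Z ≅ (⟨_, h₃⟩ : DCoh.DQCoh Y) := ObjectProperty.isoMk _ e
  have h' := (ObjectProperty.ι (DCoh.IsQCohD (X := X))).map_distinguished _ (Φ.map_distinguished _ hZ)
  let T' := (ObjectProperty.ι (DCoh.IsQCohD (X := X))).mapTriangle.obj (Φ.mapTriangle.obj (Triangle.mk v g h))
  let e3 : T'.obj₃ ≅ (Φ.obj ⟨_, h₃⟩).obj := (ObjectProperty.ι _).mapIso (Φ.mapIso eq)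
  refine ⟨T'.mor₁, T'.mor₂ ≫ e3.hom, e3.inv ≫ T'.mor₃, isomorphic_distinguished _ h' _ ?_⟩
  refine Triangle.isoMk _ _ (Iso.refl _) (Iso.refl _) e3.symm ?_ ?_ ?_
  · exact (Category.comp_id _).trans (Category.id_comp _).symm
  · exact ((Category.assoc _ _ _).trans (congrArg (T'.mor₂ ≫ ·) e3.hom_inv_id)).trans
      ((Category.comp_id _).trans (Category.id_comp _).symm)
  · exact (congrArg ((e3.inv ≫ T'.mor₃) ≫ ·) ((shiftFunctor _ (1 : ℤ)).map_id _)).trans (Category.comp_id _)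

theorem isLE_middle (T : Triangle (DCoh.D Y)) (hT : T ∈ distTriang _) (h₁ : DCoh.IsQCohD T.obj₁)
    (h₂ : DCoh.IsQCohD T.obj₂) (h₃ : DCoh.IsQCohD T.obj₃) (m : ℤ) (a₁ : (Φ.obj ⟨_, h₁⟩).obj.IsLE m)
    (a₃ : (Φ.obj ⟨_, h₃⟩).obj.IsLE m) : (Φ.obj ⟨_, h₂⟩).obj.IsLE m := by
  obtain ⟨a, b, c, hd⟩ := exists_image_triangle Φ T hT h₁ h₂ h₃
  exact (DerivedCategory.isLE_iff _ _).2 fun i hi =>
    (DerivedCategory.HomologySequence.exact₂ _ hd i).isZero_of_both_zeros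
      ((@DerivedCategory.isZero_of_isLE _ _ _ _ _ m i hi a₁).eq_of_src _ _)
      ((@DerivedCategory.isZero_of_isLE _ _ _ _ _ m i hi a₃).eq_of_tgt _ _)

theorem isLE_first (T : Triangle (DCoh.D Y)) (hT : T ∈ distTriang _) (h₁ : DCoh.IsQCohD T.obj₁)
    (h₂ : DCoh.IsQCohD T.obj₂) (h₃ : DCoh.IsQCohD T.obj₃) (m : ℤ) (a₂ : (Φ.obj ⟨_, h₂⟩).obj.IsLE m)
    (a₃ : (Φ.obj ⟨_, h₃⟩).obj.IsLE (m - 1)) : (Φ.obj ⟨_, h₁⟩).obj.IsLE m := by
  obtain ⟨a, b, c, hd⟩ := exists_image_triangle Φ T hT h₁ h₂ h₃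
  exact (DerivedCategory.isLE_iff _ _).2 fun i hi =>
    (DerivedCategory.HomologySequence.exact₁ _ hd (i - 1) i (by omega)).isZero_of_both_zeros
      ((@DerivedCategory.isZero_of_isLE _ _ _ _ _ (m - 1) (i - 1) (by omega) a₃).eq_of_src _ _)
      ((@DerivedCategory.isZero_of_isLE _ _ _ _ _ m i hi a₂).eq_of_tgt _ _)

/-- The image of a sum. -/
theorem isLE_biprod {A B : DCoh.D Y} (hA : DCoh.IsQCohD A) (hB : DCoh.IsQCohD B) (h : DCoh.IsQCohD (A ⊞ B))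
    (m : ℤ) (a₁ : (Φ.obj ⟨_, hA⟩).obj.IsLE m) (a₂ : (Φ.obj ⟨_, hB⟩).obj.IsLE m) :
    (Φ.obj ⟨_, h⟩).obj.IsLE m :=
  isLE_middle Φ (binaryBiproductTriangle A B) (binaryBiproductTriangle_distinguished A B) hA h hB m a₁ a₂

end Triangle

theorem isQCohD_biprod {A B : DCoh.D Y} (hA : DCoh.IsQCohD A) (hB : DCoh.IsQCohD B) : DCoh.IsQCohD (A ⊞ B) :=
  WayOut.cohIn_obj₂ (fun M : Y.Modules => Coh.IsQCoh M) (binaryBiproductTriangle A B)
    (binaryBiproductTriangle_distinguished A B) hA hB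

end Groth.Agent.BC8
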