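import Groth.Agent.Lib.BC8.BetaOpen
import Groth.Agent.Lib.BC8.PullGE

/-!
Base change of right adjoints on bounded below objects.
-/

set_option autoImplicit false
set_option linter.unusedSectionVars false
set_option linter.style.haveILetI false
set_option backward.isDefEq.respectTransparency false
set_option backward.isDefEq.respectTransparency.types false
set_option maxHeartbeats 800000

universe u

open CategoryTheory CategoryTheory.Limits AlgebraicGeometry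

attribute [local instance] HasDerivedCategory.standard

namespace Groth.Agent.BC8

open DMon9

variable {X Y X' Y' : Scheme.{u}} {f : X ⟶ Y} {g : Y' ⟶ Y} {f' : X' ⟶ Y'} {g' : X' ⟶ X}
  [CompactSpace X] [QuasiSeparatedSpace X] [CompactSpace Y] [QuasiSeparatedSpace Y]
  [CompactSpace X'] [QuasiSeparatedSpace X'] [CompactSpace Y'] [QuasiSeparatedSpace Y']
  [DCoh.HasRpush f] [DCoh.HasRpush f'] {hf : DCoh.RpushPreservesQCoh f} {hf' : DCoh.RpushPreservesQCoh f'}
  {a : DCoh.DQCoh Y ⥤ DCoh.DQCoh X} {a' : DCoh.DQCoh Y' ⥤ DCoh.DQCoh X'}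
  (adj : DCoh.RpushQ f hf ⊣ a) (adj' : DCoh.RpushQ f' hf' ⊣ a')

include adj in
/-- The comparison for affine morphisms of finite tor dimension between affine charts. -/
theorem isIso_tau_chart [IsAffine Y] (hQP : QP f) {Y₀ Y₀' : Scheme.{u}} (u₀ : Y ⟶ Y₀) [IsOpenImmersion u₀]
    (u₁ : Y' ⟶ Y₀') [IsOpenImmersion u₁] [IsAffine Y'] {g₀ : Y₀' ⟶ Y₀} (htd : DerSch.HasFiniteTorDim g₀)
    (hg₀ : g ≫ u₀ = u₁ ≫ g₀) [DCoh.HasRpush g] (hg : DCoh.RpushPreservesQCoh g) (K : DCoh.DQCoh Y) (c : ℤ)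
    [K.obj.IsGE c] : IsIso (Dual8.tau adj K (vq g hg)) := by
  haveI := qc_of_qcqs f
  haveI := qs_of_qcqs f
  obtain ⟨R₀, e, E, u, v, hE, hF, ⟨i⟩⟩ := exists_flatCx_vq u₀ u₁ htd g hg₀ hg
  haveI := isIso_tau_flatCx adj K e hQP c (vq g hg) E u v hE hF i
  exact isIso_q _

/-- With a conservative projection the comparison gives base change. -/
theorem isIso_beta₀_of_tau [DCoh.HasRpush g] [DCoh.HasRpush g'] (hg : DCoh.RpushPreservesQCoh g)
    (hg' : DCoh.RpushPreservesQCoh g') [QuasiCompact f] [QuasiSeparated f]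
    (hsq : IsPullback g' f' f g) (htor : TorI f g) (hrefl : Refl g')
    (σ : lP g ⋙ lP f' ≅ lP f ⋙ lP g') (hσm : MultSq σ)
    (hσ : ∀ E, IsIso ((DBC9.bc (adjq f hf) (adjq f' hf') (sigQ σ).hom).app E)) (K : DCoh.DQCoh Y)
    (htau : IsIso (Dual8.tau adj K (vq g hg))) : IsIso (beta₀ adj adj' σ hσ K) := by
  haveI := qc_of_qcqs g
  haveI := qs_of_qcqs g
  haveI := qc_of_qcqs g'
  haveI := qs_of_qcqs g'
  haveI := hσ (a.obj K)
  haveI : IsIso ((DCoh.RpushQ g' hg').map (beta₀ adj adj' σ hσ K)) :=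
    (isIso_push_beta₀_iff (hg' := hg') adj adj' hg (DBC9.good_main _ _ _ _ hsq htor)
      (DBC9.good_main _ _ _ _ hsq.flip (torI_symm htor)) σ hσm K).2 htau
  haveI : IsIso (beta₀ adj adj' σ hσ K).hom :=
    hrefl ((lq g').obj (a.obj K)).property (a'.obj ((lq g).obj K)).property _
      (isIso_hom ((DCoh.RpushQ g' hg').map (beta₀ adj adj' σ hσ K)))
  exact isIso_q _

/-- Base change makes the comparison invertible. -/
theorem isIso_tau_of_beta₀ [DCoh.HasRpush g] [DCoh.HasRpush g'] (hg : DCoh.RpushPreservesQCoh g)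
    (hg' : DCoh.RpushPreservesQCoh g') [QuasiCompact f] [QuasiSeparated f]
    (hsq : IsPullback g' f' f g) (htor : TorI f g)
    (σ : lP g ⋙ lP f' ≅ lP f ⋙ lP g') (hσm : MultSq σ)
    (hσ : ∀ E, IsIso ((DBC9.bc (adjq f hf) (adjq f' hf') (sigQ σ).hom).app E)) (K : DCoh.DQCoh Y)
    (h : IsIso (beta₀ adj adj' σ hσ K)) : IsIso (Dual8.tau adj K (vq g hg)) := by
  haveI := qc_of_qcqs g
  haveI := qs_of_qcqs g
  haveI := qc_of_qcqs g'
  haveI := qs_of_qcqs g'
  haveI := hσ (a.obj K)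
  haveI := h
  exact (isIso_push_beta₀_iff (hg' := hg') adj adj' hg (DBC9.good_main _ _ _ _ hsq htor)
    (DBC9.good_main _ _ _ _ hsq.flip (torI_symm htor)) σ hσm K).1
      (inferInstanceAs (IsIso ((DCoh.RpushQ g' hg').map (beta₀ adj adj' σ hσ K))))

/-- Base change for right adjoints on bounded below objects. -/
theorem isIso_beta₀_bddBelow [DCoh.HasLpull g] (hQP : QP f) (hQP' : QP f') (hsq : IsPullback g' f' f g)
    (htor : TorI f g) (htd : DerSch.HasFiniteTorDim g)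
    (σ : lP g ⋙ lP f' ≅ lP f ⋙ lP g') (hσm : MultSq σ)
    (hσ : ∀ E, IsIso ((DBC9.bc (adjq f hf) (adjq f' hf') (sigQ σ).hom).app E)) (K : DCoh.DQCoh Y) (c : ℤ)
    [K.obj.IsGE c] : IsIso (beta₀ adj adj' σ hσ K) := by
  haveI := qc_of_qcqs f
  haveI := qs_of_qcqs f
  haveI := qc_of_qcqs f'
  haveI := qs_of_qcqs f'
  haveI : IsIso (beta₀ adj adj' σ hσ K).hom := by
    refine RHom.isIso_of_cover _ fun x => ?_
    obtain ⟨U, hU, hyU⟩ : ∃ U : Y.Opens, IsAffineOpen U ∧ g (f' x) ∈ U := by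
      obtain ⟨U, hU, hyU, -⟩ := TopologicalSpace.Opens.isBasis_iff_nbhd.1 Y.isBasis_affineOpens
        (TopologicalSpace.Opens.mem_top (g (f' x)))
      exact ⟨U, hU, hyU⟩
    obtain ⟨U', hU', hyU', hle⟩ : ∃ U' : Y'.Opens, IsAffineOpen U' ∧ f' x ∈ U' ∧ U' ≤ g ⁻¹ᵁ U :=
      TopologicalSpace.Opens.isBasis_iff_nbhd.1 Y'.isBasis_affineOpens (show f' x ∈ g ⁻¹ᵁ U from hyU)
    haveI : IsAffine (U : Scheme.{u}) := hU
    haveI : IsAffine (U' : Scheme.{u}) := hU'
    let i := (f' ⁻¹ᵁ U').ι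
    let iU := (f ⁻¹ᵁ U).ι
    let fT := f' ∣_ U'
    let fU := f ∣_ U
    let gU := g.resLE U U' hle
    have hgU : gU ≫ U.ι = U'.ι ≫ g := Scheme.Hom.resLE_comp_ι g hle
    have hsqj : IsPullback i fT f' U'.ι := (isPullback_morphismRestrict f' U').flip
    have hsqu : IsPullback iU fU f U.ι := (isPullback_morphismRestrict f U).flip
    have hsqc : IsPullback (i ≫ g') fT f (U'.ι ≫ g) := hsqj.paste_horiz hsq
    have w : (i ≫ g') ≫ f = (fT ≫ gU) ≫ U.ι := by rw [hsqc.w, Category.assoc, hgU]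
    let p := hsqu.lift (i ≫ g') (fT ≫ gU) w
    have hp : p ≫ iU = i ≫ g' := hsqu.lift_fst _ _ _
    have hsq1 : IsPullback p fT fU gU :=
      IsPullback.of_right (by rw [hp, hgU]; exact hsqc) (hsqu.lift_snd _ _ _) hsqu
    haveI : IsAffineHom p := MorphismProperty.of_isPullback hsq1.flip (inferInstance : IsAffineHom gU)
    haveI := compactSpace_preimage (f' := f') hU'
    haveI := quasiSeparatedSpace_open (W := f' ⁻¹ᵁ U')
    haveI : CompactSpace (f ⁻¹ᵁ U : Scheme.{u}) := compactSpace_preimage (f' := f) hU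
    haveI := quasiSeparatedSpace_open (W := f ⁻¹ᵁ U)
    haveI := qc_of_qcqs fT
    haveI := qs_of_qcqs fT
    haveI := qc_of_qcqs fU
    haveI := qs_of_qcqs fU
    haveI := qc_of_qcqs U'.ι
    haveI := qc_of_qcqs U.ι
    haveI := qc_of_qcqs i
    haveI := qc_of_qcqs iU
    haveI := qc_of_qcqs gU
    haveI := qs_of_qcqs gU
    haveI := qc_of_qcqs p
    haveI := qs_of_qcqs p
    haveI := qc_of_qcqs (U'.ι ≫ g)
    haveI := qs_of_qcqs (U'.ι ≫ g)
    haveI := qc_of_qcqs (gU ≫ U.ι)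
    haveI := qs_of_qcqs (gU ≫ U.ι)
    haveI := qc_of_qcqs (i ≫ g')
    haveI := qs_of_qcqs (i ≫ g')
    haveI := qc_of_qcqs (p ≫ iU)
    haveI := qs_of_qcqs (p ≫ iU)
    haveI := DBC9.hasRpush fT
    haveI := DBC9.hasRpush fU
    haveI := DBC9.hasRpush U'.ι
    haveI := DBC9.hasRpush U.ι
    haveI := DBC9.hasRpush i
    haveI := DBC9.hasRpush iU
    haveI := DBC9.hasRpush gU
    haveI := DBC9.hasRpush p
    haveI := DBC9.hasRpush (U'.ι ≫ g)
    haveI := DBC9.hasRpush (gU ≫ U.ι)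
    haveI := DBC9.hasRpush (i ≫ g')
    haveI := DBC9.hasRpush (p ≫ iU)
    let hT := rpushPreserves fT
    let hfU := rpushPreserves fU
    haveI := isLeftAdjoint_rpushQ fT hT
    haveI := isLeftAdjoint_rpushQ fU hfU
    let adjT := Adjunction.ofIsLeftAdjoint (DCoh.RpushQ fT hT)
    let adjU := Adjunction.ofIsLeftAdjoint (DCoh.RpushQ fU hfU)
    have hflj : Flat f' ∨ Flat U'.ι := Or.inr inferInstance
    have hflu : Flat f ∨ Flat U.ι := Or.inr inferInstance
    have htc : TorI f (U'.ι ≫ g) := torI_open htor U'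
    have htc' : TorI f (gU ≫ U.ι) := hgU ▸ htc
    have hsqc' : IsPullback (p ≫ iU) fT f (gU ≫ U.ι) := by rw [hp, hgU]; exact hsqc
    obtain ⟨τ, hτm⟩ := exists_mult_sq (hsqj.w.symm)
    obtain ⟨σu, hσum⟩ := exists_mult_sq (hsqu.w.symm)
    obtain ⟨σ₁, hσ₁m⟩ := exists_mult_sq (hsq1.w.symm)
    have hgood1 : DBC9.Good fU fT gU p := DBC9.good_main _ _ _ _ hsq1 (torI_restrict htor hle)
    have hτ := isIso_bc_sigQ (hf := hf') (hf' := hT) (good_of_flat hsqj hflj) τ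
    have hu := isIso_bc_sigQ (hf := hf) (hf' := hfU) (good_of_flat hsqu hflu) σu
    have h1 := isIso_bc_sigQ (hf := hfU) (hf' := hT) hgood1 σ₁
    have hc := isIso_bc_sigQ (hf := hf) (hf' := hT) (DBC9.good_main _ _ _ _ hsqc htc) (sigPaste σ τ)
    have hc' := isIso_bc_sigQ (hf := hf) (hf' := hT) (DBC9.good_main _ _ _ _ hsqc' htc') (sigPaste σu σ₁)
    obtain ⟨cg, hcg⟩ := exists_isGE_lP htd K.obj c
    haveI : ((lq g).obj K).obj.IsGE cg := hcg
    haveI : ((lq U.ι).obj K).obj.IsGE c := isGE_lP U.ι K.obj c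
    haveI hj := isIso_beta₀_open adj' adjT hQP' hsqj τ hτ ((lq g).obj K) cg
    haveI hbu := isIso_beta₀_open adj adjU hQP hsqu σu hu K c
    haveI hb1 := isIso_beta₀_of_tau adjU adjT (rpushPreserves gU) (rpushPreserves p) hsq1
      (torI_restrict htor hle)
      (refl_affine p) σ₁ hσ₁m h1 ((lq U.ι).obj K)
      (isIso_tau_chart adjU (qp_restrict hQP U (f.isCompact_preimage hU.isCompact)) U.ι U'.ι htd hgU
        (rpushPreserves gU) _ c)
    have hp1 := beta₀_paste adj adjU adjT σu hu σ₁ h1 hc' K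
    have hbc' : IsIso (beta₀ adj adjT (sigPaste σu σ₁) hc' K) := by
      haveI : IsIso ((kap p iU).hom.app (a.obj K) ≫ beta₀ adj adjT (sigPaste σu σ₁) hc' K ≫
          (DCoh.RpushQ fT hT).rightAdjoint.map
            ((kap gU U.ι).inv.app K)) := by
        rw [← hp1]; infer_instance
      haveI : IsIso (beta₀ adj adjT (sigPaste σu σ₁) hc' K ≫
          (DCoh.RpushQ fT hT).rightAdjoint.map ((kap gU U.ι).inv.app K)) :=
        IsIso.of_isIso_comp_left ((kap p iU).hom.app (a.obj K)) _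
      exact IsIso.of_isIso_comp_right _ ((DCoh.RpushQ fT hT).rightAdjoint.map ((kap gU U.ι).inv.app K))
    have htau := isIso_tau_of_beta₀ adj adjT (rpushPreserves (gU ≫ U.ι)) (rpushPreserves (p ≫ iU)) hsqc' htc'
      (sigPaste σu σ₁) (multSq_sigPaste σu hσum σ₁ hσ₁m) hc' K hbc'
    haveI hb := isIso_beta₀_of_tau adj adjT (rpushPreserves (U'.ι ≫ g)) (rpushPreserves (i ≫ g')) hsqc htc
      (refl_chart hsq hU hU' hle) (sigPaste σ τ) (multSq_sigPaste σ hσm τ hτm) hc K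
      ((isIso_tau_congr adj K hgU _ _).1 htau)
    have hpp := beta₀_paste adj adj' adjT σ hσ τ hτ hc K
    haveI : IsIso ((lq i).map (beta₀ adj adj' σ hσ K) ≫ beta₀ adj' adjT τ hτ ((lq g).obj K)) := by
      rw [hpp]; infer_instance
    haveI : IsIso ((lq i).map (beta₀ adj adj' σ hσ K)) :=
      IsIso.of_isIso_comp_right _ (beta₀ adj' adjT τ hτ ((lq g).obj K))
    exact ⟨f' ⁻¹ᵁ U', hyU', (NatIso.isIso_map_iff (lPRes i) _).1 (isIso_hom ((lq i).map (beta₀ adj adj' σ hσ K)))⟩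
  exact isIso_q _

end Groth.Agent.BC8
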