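import Groth.Agent.Lib.BC8.BetaBB
import Groth.Agent.Lib.RelPCS8.FlatTerms

/-!
Base change of right adjoints on bounded below objects, for the data of the prelude.
-/

set_option autoImplicit false
set_option linter.unusedSectionVars false
set_option linter.style.haveILetI false
set_option backward.isDefEq.respectTransparency false
set_option backward.isDefEq.respectTransparency.types false
set_option maxHeartbeats 800000

universe u

open CategoryTheory CategoryTheory.Limits AlgebraicGeometry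

attribute [local instance] HasDerivedCategory.standard

namespace Groth.Agent.BC8

open DMon9

variable {X Y X' Y' : Scheme.{u}} {f : X ⟶ Y} {g : Y' ⟶ Y} {f' : X' ⟶ Y'} {g' : X' ⟶ X}

/-- Quasi-properness on all pseudo-coherent objects gives it on perfect ones. -/
theorem qp_of_pc [DCoh.HasRpush f]
    (h : ∀ K : DCoh.D X, (∀ m : ℤ, DCoh.IsPseudoCoherentD m K) → ∀ m : ℤ, DCoh.IsPseudoCoherentD m ((DCoh.Rpush f).obj K)) :
    QP f := fun R₀ hR => ⟨R₀, CategoryStruct.id _, CategoryStruct.id _, hR, Category.id_comp _,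
  h R₀ fun _ => DPerf.isPseudoCoherentD_of_approx ((DPerf.isPerfect_iff_approx.1 hR).mono_set (Set.subset_univ _))⟩

/-- Flat morphisms have finite tor dimension. -/
theorem torAmp_unit_of_flat (g : Y' ⟶ Y) [Flat g] : DerSch.HasTorAmplitude g 0 0 (DerSch.unitCx Y') :=
  RelPCS8.hasTorAmplitude_of_flat_terms (f := g) (DerSch.unitCx Y') 0 0
    (fun i hi => HomologicalComplex.isZero_single_obj_X _ _ _ _ (by omega)) fun i => by
      by_cases hi : i = 0
      · subst hi
        exact RelPCS8.isFlatOver_of_iso (HomologicalComplex.singleObjXSelf (ComplexShape.up ℤ) (0 : ℤ) _).symm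
          (RelPCS8.flat_iff_isFlatOver_structureModule.1 inferInstance)
      · exact RelPCS8.isFlatOver_of_isZero (HomologicalComplex.isZero_single_obj_X _ _ _ _ hi)

/-- Flat morphisms have finite tor dimension. -/
theorem hasFiniteTorDim_of_flat (g : Y' ⟶ Y) [Flat g] : DerSch.HasFiniteTorDim g :=
  ⟨0, 0, torAmp_unit_of_flat g⟩

theorem isGE_of_vanish {K : DCoh.D Y} {c : ℤ} (h : ∀ i : ℤ, i < c → IsZero (DCoh.HD K i)) : K.IsGE c :=
  (DerivedCategory.isGE_iff _ _).2 h

variable [CompactSpace X] [QuasiSeparatedSpace X] [CompactSpace Y] [QuasiSeparatedSpace Y]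
  [CompactSpace X'] [QuasiSeparatedSpace X'] [CompactSpace Y'] [QuasiSeparatedSpace Y']
  [DCoh.HasRpush f] [DCoh.HasRpush f'] [DCoh.HasRpush g] [DCoh.HasRpush g']
  {hf : DCoh.RpushPreservesQCoh f} {hf' : DCoh.RpushPreservesQCoh f'}
  {hg : DCoh.RpushPreservesQCoh g} {hg' : DCoh.RpushPreservesQCoh g'}
  {a : DCoh.DQCoh Y ⥤ DCoh.DQCoh X} {a' : DCoh.DQCoh Y' ⥤ DCoh.DQCoh X'}
  (adj : DCoh.RpushQ f hf ⊣ a) (adj' : DCoh.RpushQ f' hf' ⊣ a')
  [DCoh.HasLpull g] [DCoh.HasLpull g'] {hLg : Dual3.LpullPreservesQCoh g} {hLg' : Dual3.LpullPreservesQCoh g'}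
  (adjg : Dual3.LpullQ g hLg ⊣ DCoh.RpushQ g hg) (adjg' : Dual3.LpullQ g' hLg' ⊣ DCoh.RpushQ g' hg')

include adj adj' in
/-- Base change in tor-independent squares. -/
theorem exists_bcPush_bddBelow (hsq : IsPullback g' f' f g) (htor : TorI f g) (htd : DerSch.HasFiniteTorDim g)
    (hQP : QP f) (hQP' : QP f') :
    ∃ (e : DCoh.RpushQ g' hg' ⋙ DCoh.RpushQ f hf ≅ DCoh.RpushQ f' hf' ⋙ DCoh.RpushQ g hg)
      (hθ : ∀ K : DCoh.DQCoh X, IsIso (Dual3.bcPush e adjg adjg' K)),
      ∀ (K : DCoh.DQCoh Y) (c : ℤ), (∀ i : ℤ, i < c → IsZero (DCoh.HD K.obj i)) →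
        IsIso ((adj'.homEquiv ((Dual3.LpullQ g' hLg').obj (a.obj K)) ((Dual3.LpullQ g hLg).obj K))
          (@inv _ _ _ _ (Dual3.bcPush e adjg adjg' (a.obj K)) (hθ (a.obj K)) ≫
            (Dual3.LpullQ g hLg).map (adj.counit.app K))) := by
  haveI := qc_of_qcqs f
  haveI := qs_of_qcqs f
  obtain ⟨σ, hσm⟩ := exists_mult_sq hsq.w.symm
  have hgood := DBC9.good_main f g f' g' hsq htor
  haveI : ∀ E, IsIso ((theta adjg' adjg (eOf σ adjg adjg' (hf := hf) (hf' := hf'))).app E) := fun E =>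
    isIso_theta hgood σ adjg adjg' E
  refine ⟨eOf σ adjg adjg', fun K => this K, fun K c hc => ?_⟩
  haveI := isGE_of_vanish hc
  exact isIso_beta adj adj' σ (isIso_bc_sigQ hgood σ) adjg adjg' K
    (isIso_beta₀_bddBelow adj adj' hQP hQP' hsq htor htd σ hσm _ K c)

include adj adj' in
/-- Base change in affine flat squares. -/
theorem exists_bcMap_bddBelow_affine [IsAffine Y] [IsAffine Y'] (hsq : IsPullback g' f' f g) [Flat g] (hQP : QP f) :
    ∃ (e : DCoh.RpushQ g' hg' ⋙ DCoh.RpushQ f hf ≅ DCoh.RpushQ f' hf' ⋙ DCoh.RpushQ g hg)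
      (hξ : ∀ M : DCoh.DQCoh Y', IsIso (Dual3.xi adj adj' e M)),
      ∀ (K : DCoh.DQCoh Y) (c : ℤ), (∀ i : ℤ, i < c → IsZero (DCoh.HD K.obj i)) →
        IsIso (Dual3.bcMap adj adj' e adjg adjg' K (hξ _)) := by
  obtain ⟨σ, hσm⟩ := exists_mult_sq hsq.w.symm
  have hflat : Flat f ∨ Flat g := Or.inr inferInstance
  have hgood := good_of_flat hsq hflat
  haveI := qc_of_qcqs f
  haveI := qs_of_qcqs f
  haveI := qc_of_qcqs g
  haveI := qs_of_qcqs g
  haveI := qc_of_qcqs g'
  haveI := qs_of_qcqs g'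
  haveI : IsAffineHom g' := MorphismProperty.of_isPullback hsq.flip (inferInstance : IsAffineHom g)
  refine ⟨eOf σ adjg adjg', fun M => isIso_xi hgood σ adj adj' adjg adjg' M, fun K c hc => ?_⟩
  haveI := isGE_of_vanish hc
  haveI : IsIso (xiMap adj adj' (eOf σ adjg adjg') ((Dual3.LpullQ g hLg).obj K)) :=
    isIso_xi hgood σ adj adj' adjg adjg' _
  haveI := isIso_theta (hf := hf) (hf' := hf') hgood σ adjg adjg' (a.obj K)
  have htau : IsIso (Dual8.tau adj K (vq g hg)) :=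
    isIso_tau_chart adj hQP (𝟙 Y) (𝟙 Y') (hasFiniteTorDim_of_flat g) (by simp) hg K c
  have h := isIso_beta adj adj' σ (isIso_bc_sigQ hgood σ) adjg adjg' K
    (isIso_beta₀_of_tau adj adj' hg hg' hsq (torI_of_flat hflat) (refl_affine g') σ hσm _ K htau)
  rw [Dual3.bcMap]
  erw [bcMap_eq adjg' adjg adj adj' (eOf σ adjg adjg') K]
  exact h

end Groth.Agent.BC8
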