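import Groth.Agent.Lib.BC8.TauBase

/-!
Base change of right adjoints along quasi-compact open immersions, bounded below objects.
-/

set_option autoImplicit false
set_option linter.unusedSectionVars false
set_option linter.style.haveILetI false
set_option backward.isDefEq.respectTransparency false
set_option backward.isDefEq.respectTransparency.types false
set_option maxHeartbeats 800000

universe u

open CategoryTheory CategoryTheory.Limits AlgebraicGeometry Pretriangulated

attribute [local instance] HasDerivedCategory.standard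

namespace Groth.Agent.BC8

open DMon9

variable {X Y X' Y' : Scheme.{u}} {f : X ⟶ Y} {f' : X' ⟶ Y'} {j : Y' ⟶ Y} {i : X' ⟶ X}
  [DCoh.HasRpush f] [DCoh.HasRpush f'] [DCoh.HasRpush j] [DCoh.HasRpush i]
  {hf : DCoh.RpushPreservesQCoh f} {hf' : DCoh.RpushPreservesQCoh f'}
  [CompactSpace X] [QuasiSeparatedSpace X] [CompactSpace Y] [QuasiSeparatedSpace Y]
  [IsOpenImmersion j] [IsOpenImmersion i] [QuasiCompact j] [QuasiCompact i]
  {a : DCoh.DQCoh Y ⥤ DCoh.DQCoh X} {a' : DCoh.DQCoh Y' ⥤ DCoh.DQCoh X'}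
  (adj : DCoh.RpushQ f hf ⊣ a) (adj' : DCoh.RpushQ f' hf' ⊣ a')

theorem isGE_lP {W Z : Scheme.{u}} (k : W ⟶ Z) [IsOpenImmersion k] (K : DCoh.D Z) (c : ℤ) [K.IsGE c] :
    ((lP k).obj K).IsGE c :=
  (DerivedCategory.isGE_iff _ _).2 fun n hn =>
    (((Scheme.Modules.restrictFunctor k).map_isZero (DerivedCategory.isZero_of_isGE K c n hn)).of_iso
      (DPerf.hdResIso k K n)).of_iso ((DerivedCategory.homologyFunctor _ n).mapIso ((lPRes k).app K))

/-- The base change map is invertible on bounded below objects. -/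
theorem isIso_beta₀_open (hQP : QP f) (hsq : IsPullback i f' f j)
    (σ : lP j ⋙ lP f' ≅ lP f ⋙ lP i)
    (hσ : ∀ E, IsIso ((DBC9.bc (adjq f hf) (adjq f' hf') (sigQ σ).hom).app E)) (K : DCoh.DQCoh Y) (c : ℤ)
    [K.obj.IsGE c] : IsIso (beta₀ adj adj' σ hσ K) := by
  let hj := rpushPreserves j
  let hi := rpushPreserves i
  let adjG := adjq i hi
  let adjH := adjq j hj
  let e₀ := DBC9.rightIso (adjq f hf) (adjq f' hf') (sigQ σ) adjH adjG
  haveI hθ : ∀ E, IsIso ((theta adjG adjH e₀).app E) := fun E => by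
    rw [show (theta adjG adjH e₀).app E = _ from theta_std σ E]
    exact hσ E
  haveI := fun M => isIso_xiMap adjG adjH adj adj' e₀ M
  haveI := hσ (a.obj K)
  have h0 : inv ((theta adjG adjH e₀).app (a.obj K)) =
      inv ((DBC9.bc (adjq f hf) (adjq f' hf') (sigQ σ).hom).app (a.obj K)) :=
    IsIso.inv_eq_inv.2 (theta_std σ (a.obj K))
  have hb : beta₀ adj adj' σ hσ K = (lq i).map (a.map (adjH.unit.app K)) ≫
      (lq i).map (inv (xiMap adj adj' e₀ ((lq j).obj K))) ≫ adjG.counit.app (a'.obj ((lq j).obj K)) := by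
    rw [bcMap_eq adjG adjH adj adj' e₀ K, h0]
    rfl
  haveI : IsIso (adjG.counit.app (a'.obj ((lq j).obj K))) := by
    haveI := DBC9.isIso_counit_openImmersion i
    haveI : IsIso (adjG.counit.app (a'.obj ((lq j).obj K))).hom :=
      inferInstanceAs (IsIso ((adjLP i).counit.app _))
    exact isIso_q _
  suffices IsIso ((lq i).map (a.map (adjH.unit.app K))) by
    rw [hb]; infer_instance
  obtain ⟨_, _⟩ := exists_triangulated f hf adj
  let η : K.obj ⟶ (DCoh.Rpush j).obj ((lP j).obj K.obj) := (adjLP j).unit.app K.obj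
  obtain ⟨Z, g, h, hZ⟩ := distinguished_cocone_triangle (adjH.unit.app K)
  have hZ' := (ObjectProperty.ι (DCoh.IsQCohD (X := Y))).map_distinguished _ hZ
  let T' := (ObjectProperty.ι (DCoh.IsQCohD (X := Y))).mapTriangle.obj (Triangle.mk (adjH.unit.app K) g h)
  haveI hη : IsIso ((DPerf.resD j).map η) := by
    refine (NatIso.isIso_map_iff (lPRes j) η).1 ?_
    haveI := DBC9.isIso_counit_openImmersion j
    haveI : IsIso ((lP j).map η ≫ (adjLP j).counit.app ((lP j).obj K.obj)) := by
      rw [show (lP j).map η ≫ (adjLP j).counit.app ((lP j).obj K.obj) = 𝟙 _ from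
        (adjLP j).left_triangle_components K.obj]
      infer_instance
    exact IsIso.of_isIso_comp_right _ ((adjLP j).counit.app ((lP j).obj K.obj))
  have hzC : IsZero ((DPerf.resD j).obj Z.obj) :=
    (Triangle.isZero₃_iff_isIso₁ _ ((DPerf.resD j).map_distinguished _ hZ')).2 hη
  have hsC : DGen9.SuppOn (Set.range j)ᶜ Z.obj := DGen9.suppOn_of_isZero_resD j hzC
  have hge : Z.obj.IsGE (c - 1) := by
    haveI : K.obj.IsGE c := inferInstance
    haveI h2 : ((DCoh.Rpush j).obj ((lP j).obj K.obj)).IsGE c :=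
      DPush.isGE_rpush j _ c (isGE_lP j K.obj c)
    exact (DerivedCategory.isGE_iff _ _).2 fun n hn =>
      (DerivedCategory.HomologySequence.exact₃ _ hZ' n (n + 1) rfl).isZero_of_both_zeros
        ((DerivedCategory.isZero_of_isGE ((DCoh.Rpush j).obj ((lP j).obj K.obj)) c n (by omega)).eq_of_src _ _)
        ((DerivedCategory.isZero_of_isGE K.obj c (n + 1) (by omega)).eq_of_tgt _ _)
  have hsA := suppOn_a adj hQP (isClosed_compl_iff.2 j.isOpenEmbedding.isOpen_range) Z (c - 1) hge hsC
  have hzA : IsZero ((DPerf.resD i).obj (a.obj Z).obj) := by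
    refine DGen9.isZero_resD_of_suppOn i hsA fun x => ?_
    simp only [Set.mem_preimage, Set.mem_compl_iff, not_not]
    exact ⟨f' x, by rw [← Scheme.Hom.comp_apply, ← hsq.w, Scheme.Hom.comp_apply]⟩
  haveI : IsIso ((DPerf.resD i).map (a.map (adjH.unit.app K)).hom) := by
    refine (Triangle.isZero₃_iff_isIso₁ _ ((DPerf.resD i).map_distinguished _
      ((ObjectProperty.ι (DCoh.IsQCohD (X := X))).map_distinguished _ (a.map_distinguished _ hZ)))).1 hzA
  haveI : IsIso ((lq i).map (a.map (adjH.unit.app K))).hom :=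
    (NatIso.isIso_map_iff (lPRes i) (a.map (adjH.unit.app K)).hom).2 this
  exact isIso_q _

end Groth.Agent.BC8
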