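import Groth.Agent.Lib.BC8.HomBidual
import Groth.Agent.Lib.Dlz27.DualityAll
import Groth.Agent.Lib.KFlat.HomIter
import Groth.Agent.Lib.DMod.InjAmp

/-! Biduality for a dualizing complex over a ring. -/

set_option autoImplicit false
set_option linter.style.haveILetI false
set_option linter.unusedSectionVars false
set_option backward.isDefEq.respectTransparency false
set_option backward.isDefEq.respectTransparency.types false
set_option maxHeartbeats 1000000

universe u

open CategoryTheory CategoryTheory.Limits CochainComplex CochainComplex.HomComplex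

attribute [local instance] HasDerivedCategory.standard

noncomputable section

namespace Groth.Agent.BC8.HomDual

open KFlat.HomAdj (coc)

variable {A : Type u} [CommRing A]

/-- Cycles of the Hom complex as morphisms in the derived category. -/
def cycleHom (K W : DRing.Cx A) (i : ℤ) :
    (DRing.homCx K W).cycles i →ₗ[A] (DRing.toD K ⟶ (DRing.toD W)⟦i⟧) where
  toFun z := DerivedCategory.Q.map (Cocycle.equivHomShift.symm (Cocycle.mk ((DRing.homCx K W).iCycles i z) (i + 1) rfl
    (DMod.d_iCycles i (i + 1) z))) ≫ (DerivedCategory.Q.commShiftIso i).hom.app W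
  map_add' z z' := by
    rw [← Preadditive.add_comp, ← Functor.map_add, ← map_add]
    congr 3
    exact Subtype.ext (map_add _ _ _)
  map_smul' r z := by
    rw [RingHom.id_apply, ← Linear.smul_comp, ← Functor.map_smul]
    refine congrArg (fun t => DerivedCategory.Q.map t ≫ _) ?_
    rw [Cocycle.equivHomShift_symm_apply, Cocycle.equivHomShift_symm_apply]
    refine HomologicalComplex.hom_ext _ _ fun p => ?_
    simp only [HomologicalComplex.smul_f_apply, Cocycle.homOf_f, Cocycle.rightShift_coe]
    change ((((DRing.homCx K W).iCycles i (r • z) : Cochain K W i)).rightShift i 0 (zero_add i)).v p p (add_zero p) =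
      r • ((((DRing.homCx K W).iCycles i z : Cochain K W i)).rightShift i 0 (zero_add i)).v p p (add_zero p)
    rw [map_smul, Cochain.rightShift_smul]
    rfl

theorem cycleHom_surjective (K W : DRing.Cx A) [W.IsKInjective] (i : ℤ) : Function.Surjective (cycleHom K W i) := by
  intro f
  haveI : (W⟦i⟧).IsKInjective := inferInstance
  obtain ⟨g, hg⟩ := DMod.exists_map_eq' (L := W⟦i⟧) (f ≫ (DerivedCategory.Q.commShiftIso i).inv.app W)
  let c := Cocycle.equivHomShift g
  obtain ⟨z, hz⟩ := DMod.exists_cycle (K := DRing.homCx K W) (k := i + 1) (by simp) c.1 (c.δ_eq_zero (i + 1))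
  refine ⟨z, ?_⟩
  change DerivedCategory.Q.map _ ≫ _ = f
  rw [show Cocycle.mk ((DRing.homCx K W).iCycles i z) (i + 1) rfl (DMod.d_iCycles i (i + 1) z) = c from Subtype.ext hz,
    AddEquiv.symm_apply_apply, hg, Category.assoc, Iso.inv_hom_id_app]
  exact Category.comp_id f

theorem cycleHom_eq_zero_iff (K W : DRing.Cx A) [W.IsKInjective] (i : ℤ) (z : (DRing.homCx K W).cycles i) :
    cycleHom K W i z = 0 ↔ (DRing.homCx K W).homologyπ i z = 0 := by
  haveI : (W⟦i⟧).IsKInjective := inferInstance
  let c := Cocycle.mk ((DRing.homCx K W).iCycles i z) (i + 1) rfl (DMod.d_iCycles i (i + 1) z)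
  have h1 : cycleHom K W i z = 0 ↔ DerivedCategory.Q.map (Cocycle.equivHomShift.symm c) = DerivedCategory.Q.map 0 := by
    rw [Functor.map_zero, ← cancel_mono ((DerivedCategory.Q.commShiftIso i).hom.app W), zero_comp]
    rfl
  have h2 : DerivedCategory.Q.map (Cocycle.equivHomShift.symm c) = DerivedCategory.Q.map 0 ↔
      c ∈ coboundaries K W i := by
    rw [← CohomologyClass.toHom_mk_eq_zero_iff, CohomologyClass.toHom_mk, KInjLib.map_eq_iff,
      HomotopyCategory.quotient_map_eq_zero_iff]
  rw [h1, h2, mem_coboundaries_iff c (i - 1) (by omega), DMod.homologyπ_eq_zero_iff (i := i - 1) (by simp)]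
  exact ⟨fun ⟨y, hy⟩ => ⟨y, hy⟩, fun ⟨y, hy⟩ => ⟨y, hy⟩⟩

/-- Cohomology of the Hom complex. -/
theorem nonempty_homology_hom (K W : DRing.Cx A) [W.IsKInjective] (i : ℤ) :
    Nonempty ((DRing.homCx K W).homology i ≃ₗ[A] (DRing.toD K ⟶ (DRing.toD W)⟦i⟧)) := by
  let π := ((DRing.homCx K W).homologyπ i).hom
  have hker : LinearMap.ker π = LinearMap.ker (cycleHom K W i) :=
    Submodule.ext fun z => (cycleHom_eq_zero_iff K W i z).symm
  exact ⟨(π.quotKerEquivOfSurjective (DMod.homologyπ_surjective _ i)).symm ≪≫ₗ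
    Submodule.quotEquivOfEq _ _ hker ≪≫ₗ (cycleHom K W i).quotKerEquivOfSurjective (cycleHom_surjective K W i)⟩

variable [IsNoetherianRing A]

/-- `RHom(-, ω)` preserves finite cohomology and is an involution. -/
theorem biduality {ω : Dual.D A} (hω : Dual.IsDualizing A ω) (K : DRing.Cx A) [DRing.HasRHomCx K]
    (hK : ∀ i : ℤ, _root_.Module.Finite A (Dual.HD A (DRing.toD K) i)) :
    (∀ i : ℤ, _root_.Module.Finite A (Dual.HD A ((DRing.RHomCx K).obj ω) i)) ∧
      ∀ (E : DRing.Cx A) [DRing.HasRHomCx E], Nonempty (DRing.toD E ≅ (DRing.RHomCx K).obj ω) →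
        Nonempty ((DRing.RHomCx E).obj ω ≅ DRing.toD K) := by
  let M := Dlz27.model hω
  let H := DRing.homCx K M.W
  obtain ⟨rK⟩ := KFlat.HomD.nonempty_rHomCx_Q_iso K M.W
  let eK : (DRing.RHomCx K).obj ω ≅ DerivedCategory.Q.obj H := (DRing.RHomCx K).mapIso M.e.symm ≪≫ rK
  have hK' : ∀ i, _root_.Module.Finite A (K.homology i) := fun i => by
    haveI : _root_.Module.Finite A ((DerivedCategory.Q ⋙ DerivedCategory.homologyFunctor (ModuleCat.{u} A) i).obj K) := hK i
    exact _root_.Module.Finite.equiv ((DerivedCategory.homologyFunctorFactors _ i).app K).toLinearEquiv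
  refine ⟨fun i => ?_, fun E _ ⟨eE⟩ => ?_⟩
  · obtain ⟨l⟩ := nonempty_homology_hom K M.W i
    haveI := Dlz27.finite_homC_all M hω (DRing.toD K) hK i
    exact _root_.Module.Finite.equiv ((Linear.homCongr A (Iso.refl (DRing.toD K))
      ((CategoryTheory.shiftFunctor (Dual.D A) i).mapIso M.e)).symm ≪≫ₗ l.symm ≪≫ₗ
        ((DerivedCategory.homologyFunctor _ i).mapIso eK ≪≫
          (DerivedCategory.homologyFunctorFactors _ i).app H).toLinearEquiv.symm)
  · haveI := quasiIso_bidual M.W M.e hω M.inj M.lo M.hi K hK'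
    obtain ⟨rE⟩ := KFlat.HomD.nonempty_rHomCx_Q_iso E M.W
    let e : DerivedCategory.Q.obj E ≅ DerivedCategory.Q.obj H := eE ≪≫ eK
    obtain ⟨Z, s, hs, g, hg⟩ := DerivedCategory.right_fac e.hom
    haveI : QuasiIso s := (DerivedCategory.isIso_Q_map_iff_quasiIso (C := ModuleCat.{u} A) _).1 hs
    haveI : QuasiIso g := by
      rw [← DerivedCategory.isIso_Q_map_iff_quasiIso]
      have : DerivedCategory.Q.map g = DerivedCategory.Q.map s ≫ e.hom := by rw [hg, IsIso.hom_inv_id_assoc]
      rw [this]
      infer_instance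
    haveI := quasiIso_pre M.W s
    haveI := quasiIso_pre M.W g
    exact ⟨(DRing.RHomCx E).mapIso M.e.symm ≪≫ rE ≪≫ asIso (DerivedCategory.Q.map (pre M.W s)) ≪≫
      (asIso (DerivedCategory.Q.map (pre M.W g))).symm ≪≫ (asIso (DerivedCategory.Q.map (bidual M.W K))).symm⟩

end Groth.Agent.BC8.HomDual
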