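import Groth.Agent.Lib.BC8.ShriekViaFlat
import Groth.Agent.Lib.DQC.TestMod
import Groth.Agent.Lib.DBaseChange.TensorValue

/-! Derived tensor products read through `tilde`. -/

set_option autoImplicit false
set_option linter.style.haveILetI false
set_option linter.unusedSectionVars false
set_option backward.isDefEq.respectTransparency false
set_option backward.isDefEq.respectTransparency.types false
set_option maxHeartbeats 1000000

universe u

open CategoryTheory CategoryTheory.Limits AlgebraicGeometry MonoidalCategory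

attribute [local instance] HasDerivedCategory.standard

noncomputable section

namespace Groth.Agent.BC8

open DMon9

variable {R : CommRingCat.{u}}

theorem tildeTensorHom_natural_right (M : ModuleCat.{u} R) {N N' : ModuleCat.{u} R} (f : N ⟶ N') :
    (tilde.functor R).map (M ◁ f) ≫ M2.tildeTensorHom M N' =
      M2.tildeTensorHom M N ≫ M2.tensorMap (𝟙 (tilde M)) ((tilde.functor R).map f) := by
  apply ((tilde.adjunction (R := R)).homEquiv _ _).injective
  rw [Adjunction.homEquiv_naturality_left, Adjunction.homEquiv_naturality_right]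
  simp only [M2.tildeTensorHom]
  erw [Equiv.apply_symm_apply, Equiv.apply_symm_apply]
  refine ModuleCat.hom_ext (TensorProduct.ext' fun m n => ?_)
  change M2.tsec _ _ (M2.gsec M m) (M2.gsec N' (f n)) =
    (M2.tensorMap (𝟙 (tilde M)) ((tilde.functor R).map f)).app ⊤ (M2.tsec _ _ (M2.gsec M m) (M2.gsec N n))
  rw [M2.tensorMap_tsec]
  refine congrArg₂ (M2.tsec _ _) rfl ?_
  exact (congr($((tilde.adjunction (R := R)).unit.naturality f) n))

/-- `tilde` is monoidal, naturally. -/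
def tildeTenIso₂ (M N : ModuleCat.{u} R) :
    (tilde.functor R).obj (((KFlat.Module.TM R).obj M).obj N) ≅
      ((KFlat.Sch.TX (Spec R)).obj ((tilde.functor R).obj M)).obj ((tilde.functor R).obj N) :=
  M2.tildeTensorIso M N

theorem natural_tildeTenIso₂ :
    KFlat.Natural₂ (KFlat.Module.TM R) (KFlat.Sch.TX (Spec R)) (𝟭 _) (𝟭 _) (tilde.functor R) (tilde.functor R)
      (tilde.functor R) tildeTenIso₂ where
  left {M M'} a N := by
    have h := DQC.tildeTensorHom_natural N a
    simp only [M2.tensorMap, CategoryTheory.Functor.map_id] at h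
    exact h
  right M {N N'} b := by
    have h := tildeTensorHom_natural_right M b
    simp only [M2.tensorMap, CategoryTheory.Functor.map_id] at h
    exact h

/-- `tilde` of a derived tensor product. -/
theorem nonempty_tilde_ltensor (W : DRing.Cx R) [DRing.HasLTensorCx R W] (N : Dual.D R) :
    Nonempty ((DPerf.tildeDD R).obj ((DRing.LTensorCx R W).obj N) ≅
      (tenL ((DPerf.tildeDD R).obj (DRing.toD W))).obj ((DPerf.tildeDD R).obj N)) := by
  let G := (DerivedCategory.Q (C := ModuleCat.{u} R)).objPreimage N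
  let K := KFlat.resObj (KFlat.Module.cover (R := R)) G
  haveI := KFlat.quasiIso_resπ (KFlat.Module.cover (R := R)) G
  let eN : DerivedCategory.Q.obj K ≅ N := asIso (DerivedCategory.Q.map (KFlat.resπ (KFlat.Module.cover (R := R)) G)) ≪≫
    (DerivedCategory.Q (C := ModuleCat.{u} R)).objObjPreimageIso N
  have hK := KFlat.isKFlat_resObj (KFlat.Module.cover (R := R)) G KFlat.Module.isFlat_cover
  obtain ⟨v⟩ := DBaseChange.nonempty_lTensorCx_iso W ((KFlat.Module.isKFlat_iff K).1 hK)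
  haveI : (tilde.functor R).Additive := (tilde.adjunction (R := R)).left_adjoint_additive
  haveI : PreservesColimitsOfSize.{0, 0} (tilde.functor R) := (tilde.adjunction (R := R)).leftAdjoint_preservesColimits
  let tC := DPerf.tildeX R
  let T := DPerf.tildeDD R
  let fac := (tilde.functor R).mapDerivedCategoryFactors
  let E := tC.obj W
  haveI := KFlat.Sch.hasLTensorCx E
  obtain ⟨w⟩ := KFlat.Sch.nonempty_lTensorCxObjIso E (tC.obj K) (KFlat.Sch.isKFlat_tilde R hK)
  obtain ⟨t⟩ := nonempty_ltensor_tenL E (T.obj (DRing.toD W)) (fac.app W).symm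
  let c : tC.obj (K ⊗ W) ≅ ((KFlat.tcx (KFlat.Sch.TX (Spec R))).obj (tC.obj K)).obj E :=
    KFlat.transferIso (KFlat.Module.TM R) (KFlat.Sch.TX (Spec R)) (𝟭 _) (𝟭 _) (tilde.functor R) (tilde.functor R)
      (tilde.functor R) natural_tildeTenIso₂ K W
  exact ⟨T.mapIso ((DRing.LTensorCx R W).mapIso eN.symm ≪≫ v) ≪≫ fac.app (K ⊗ W) ≪≫
    DerivedCategory.Q.mapIso c ≪≫ w.symm ≪≫ t.app _ ≪≫
    (tenL (T.obj (DRing.toD W))).mapIso ((fac.app K).symm ≪≫ T.mapIso eN)⟩

/-- A shift passes out of the left factor. -/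
theorem nonempty_tenL_shift {X : Scheme.{u}} (G : DCoh.D X) (d : ℤ) :
    Nonempty (tenL (G⟦d⟧) ≅ tenL G ⋙ shiftFunctor (DCoh.D X) d) := by
  obtain ⟨s⟩ := nonempty_tenL_one (-d) (TwistBC9.oneD X (-d)) (Iso.refl _)
  let s' : tenL (TwistBC9.oneD X (-d)) ≅ shiftFunctor (DCoh.D X) d := s ≪≫ eqToIso (by rw [neg_neg])
  obtain ⟨t⟩ := nonempty_tenL_congr (s'.app G).symm
  let S : DM X := TwistBC9.oneD X (-d)
  let G' : DM X := G
  exact ⟨t ≪≫ ((MonoidalCategory.tensorLeftTensor S G' :) ≪≫ Functor.isoWhiskerLeft (tenL G) s')⟩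

/-- The upper shriek of a flat algebra is tensoring with the upper shriek of the base. -/
theorem nonempty_via_formula {R A : Type u} [CommRing R] [CommRing A] [IsNoetherianRing R] [IsNoetherianRing A]
    [Algebra R A] [Module.Flat R A] (n : ℕ) (ψ : MvPolynomial (Fin n) R →ₐ[R] A) (hψ : Function.Surjective ψ)
    [DRing.HasLBaseChange (algebraMap R (MvPolynomial (Fin n) R))]
    {Rψ : Dual.D (MvPolynomial (Fin n) R) ⥤ Dual.D A} (adj : DRing.restrictD ψ.toRingHom ⊣ Rψ) (W : DRing.Cx A)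
    (hW : Nonempty (DRing.toD W ≅ Dual2.shriekVia n Rψ (Dual.inD R R)))
    [DRing.HasLBaseChange (algebraMap R A)] [DRing.HasLTensorCx A W] (K : Dual.D R) :
    Nonempty (Dual2.shriekVia n Rψ K ≅ (DRing.LTensorCx A W).obj ((DRing.LBaseChange (algebraMap R A)).obj K)) := by
  obtain ⟨eW⟩ := hW
  obtain ⟨o⟩ := nonempty_via_one n Rψ (R := R) (A := A)
  let P := MvPolynomial (Fin n) R
  let φ : CommRingCat.of P ⟶ CommRingCat.of A := CommRingCat.ofHom ψ.toRingHom
  haveI : IsClosedImmersion (Spec.map φ) := IsClosedImmersion.spec_of_surjective _ hψ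
  have hperf := isPerfectMor_pres n ψ hψ
  haveI := DBC9.hasRpush (Spec.map φ)
  let hφ := rpushPreserves (Spec.map φ)
  haveI := isLeftAdjoint_rpushQ (Spec.map φ) hφ
  let aq := Adjunction.ofIsLeftAdjoint (DCoh.RpushQ (Spec.map φ) hφ)
  let a := (DCoh.RpushQ (Spec.map φ) hφ).rightAdjoint
  haveI : PreservesFiniteLimits (tilde.functor (CommRingCat.of P)) := M1.tilde_preservesFiniteLimits
  haveI : PreservesFiniteLimits (tilde.functor (CommRingCat.of A)) := M1.tilde_preservesFiniteLimits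
  let α := algebraMap R P
  let L := (DRing.LBaseChange α).obj K
  haveI := DQC.hasLBaseChange ψ.toRingHom
  haveI : DRing.HasLBaseChange φ.hom := ‹_›
  haveI := DQC.hasLBaseChange (ψ.toRingHom.comp α)
  obtain ⟨l⟩ := nonempty_lbcComp α ψ.toRingHom
  have l₃ : Nonempty ((DRing.LBaseChange (ψ.toRingHom.comp α)).obj K ≅ (DRing.LBaseChange (algebraMap R A)).obj K) := by
    clear l
    revert ‹DRing.HasLBaseChange (ψ.toRingHom.comp α)› ‹DRing.HasLBaseChange (algebraMap R A)›
    rw [show ψ.toRingHom.comp α = algebraMap R A from ψ.comp_algebraMap]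
    intro _ _
    exact ⟨Iso.refl _⟩
  let T := DPerf.tildeDD (CommRingCat.of A)
  let ω₀ := Rψ.obj (Dual.inD P P)
  obtain ⟨f⟩ := Dual8.nonempty_formula aq (oQ _) (unitIso (Iso.refl _)) (fun J => hcop_of_perfectMor (Spec.map φ) hperf aq J)
  obtain ⟨t0⟩ := nonempty_tQ_upper φ aq (R := Rψ) adj (Dual.inD P P)
  obtain ⟨t1⟩ := nonempty_tQ_upper φ aq (R := Rψ) adj L
  let eG : T.obj ω₀ ≅ (a.obj (oQ (Spec (CommRingCat.of P)))).obj :=
    (ObjectProperty.ι _).mapIso (t0 ≪≫ a.mapIso (tQOne (CommRingCat.of P)))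
  let eX : T.obj (DRing.toD W) ≅ (T.obj ω₀)⟦(n : ℤ)⟧ := T.mapIso (eW ≪≫ o) ≪≫ (T.commShiftIso (n : ℤ)).app ω₀
  obtain ⟨c1⟩ := nonempty_tenL_congr eX
  obtain ⟨c2⟩ := nonempty_tenL_shift (T.obj ω₀) (n : ℤ)
  obtain ⟨c3⟩ := nonempty_tenL_congr eG
  obtain ⟨d⟩ := nonempty_tilde_ltensor (R := CommRingCat.of A) W ((DRing.LBaseChange (algebraMap R A)).obj K)
  let g : (lP (Spec.map φ)).obj ((tQ (CommRingCat.of P)).obj L).obj ≅ T.obj ((DRing.LBaseChange (algebraMap R A)).obj K) :=
    (ObjectProperty.ι _).mapIso (tQLq φ L) ≪≫ T.mapIso (l.app K ≪≫ l₃.some)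
  haveI := isEquivalence_tQ (CommRingCat.of A)
  refine ⟨(tQ (CommRingCat.of A)).preimageIso (ObjectProperty.isoMk _ ?_)⟩
  exact (T.commShiftIso (n : ℤ)).app _ ≪≫ (shiftFunctor (DCoh.D (Spec (CommRingCat.of A))) (n : ℤ)).mapIso
      ((ObjectProperty.ι _).mapIso t1 ≪≫ (f.app _).symm ≪≫ c3.symm.app _ ≪≫ (tenL (T.obj ω₀)).mapIso g) ≪≫
    (c1 ≪≫ c2).symm.app _ ≪≫ d.symm

end Groth.Agent.BC8
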