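import Groth.Agent.Lib.BC8.RHomBdd
import Groth.Agent.Lib.BC8.TildeTen
import Groth.Agent.Lib.KFlat.RHomCxComp
import Groth.Agent.Lib.CohMop.TildeExt
import Groth.Agent.Lib.Exact8.Sheaf

/-! Internal hom read through `tilde`. -/

set_option autoImplicit false
set_option linter.style.haveILetI false
set_option linter.unusedSectionVars false
set_option backward.isDefEq.respectTransparency false
set_option backward.isDefEq.respectTransparency.types false
set_option maxHeartbeats 1000000

universe u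

open CategoryTheory CategoryTheory.Limits AlgebraicGeometry MonoidalCategory

attribute [local instance] HasDerivedCategory.standard

noncomputable section

namespace Groth.Agent.BC8

variable {R : CommRingCat.{u}}

/-- Gluing of a comparison after resolution. -/
theorem nonempty_glue {B B' D D' : Type*} [Category* B] [Category* B'] [Category* D] [Category* D']
    (res : B ⥤ B) (Q : B ⥤ D) (Q' : B' ⥤ D') (TR : D ⥤ D) (tW : B ⥤ B) (T : D ⥤ D') (tC : B ⥤ B') (LT : D' ⥤ D')
    (tE : B' ⥤ B') (e1 : res ⋙ Q ⋙ TR ≅ res ⋙ tW ⋙ Q) (fac : Q ⋙ T ≅ tC ⋙ Q') (c : tW ⋙ tC ≅ tC ⋙ tE)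
    (w : (res ⋙ tC) ⋙ Q' ⋙ LT ≅ (res ⋙ tC) ⋙ tE ⋙ Q') :
    Nonempty (res ⋙ Q ⋙ (TR ⋙ T) ≅ res ⋙ Q ⋙ (T ⋙ LT)) :=
  ⟨Functor.isoWhiskerRight e1 T ≪≫
    Functor.isoWhiskerLeft res (Functor.isoWhiskerLeft tW fac ≪≫ Functor.isoWhiskerRight c Q') ≪≫ w.symm ≪≫
    Functor.isoWhiskerLeft res (Functor.isoWhiskerRight fac.symm LT)⟩

/-- The right factor fixed: derived tensor after resolution. -/
def tensorResIso [DTen.HasLTen R] (W : DRing.Cx R) :
    KFlat.resFunctor (KFlat.Module.cover (R := R)) ⋙ DerivedCategory.Q ⋙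
        DTen.tensorRightD R (DerivedCategory.Q.obj W) ≅
      KFlat.resFunctor (KFlat.Module.cover (R := R)) ⋙ (KFlat.tcx (KFlat.Module.TM R)).flip.obj W ⋙ DerivedCategory.Q :=
  NatIso.ofComponents
    (fun G => @asIso _ _ _ _ ((DTen.ε R).app ((KFlat.resFunctor (KFlat.Module.cover (R := R))).obj G, W))
      (KFlat.DT.isIso_ε_left ((KFlat.Module.isKFlat_iff _).1
        (KFlat.isKFlat_resObj _ G KFlat.Module.isFlat_cover))))
    fun g => (DTen.εRight R W).naturality ((KFlat.resFunctor (KFlat.Module.cover (R := R))).map g)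

section Additive

variable [(tilde.functor R).Additive] [PreservesColimitsOfSize.{0, 0} (tilde.functor R)]

/-- `tilde` commutes with the tensor product of complexes. -/
def tildeTensorCxIso (W : DRing.Cx R) :
    (KFlat.tcx (KFlat.Module.TM R)).flip.obj W ⋙ DPerf.tildeX R ≅
      DPerf.tildeX R ⋙ (KFlat.tcx (KFlat.Sch.TX (Spec R))).flip.obj ((DPerf.tildeX R).obj W) :=
  Exact8.transferNatIso (KFlat.Module.TM R) (KFlat.Sch.TX (Spec R)) (tilde.functor R) natural_tildeTenIso₂ W

end Additive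

/-- `tilde` of a derived tensor product, naturally in the left factor. -/
theorem nonempty_tilde_tensorRightD [DTen.HasLTen R] (W : DRing.Cx R)
    [DCoh.HasLTensorCx ((DPerf.tildeX R).obj W)] :
    Nonempty (DTen.tensorRightD R (DerivedCategory.Q.obj W) ⋙ DPerf.tildeDD R ≅
      DPerf.tildeDD R ⋙ DCoh.LTensorCx ((DPerf.tildeX R).obj W)) := by
  haveI : (tilde.functor R).Additive := (tilde.adjunction (R := R)).left_adjoint_additive
  haveI : PreservesColimitsOfSize.{0, 0} (tilde.functor R) := (tilde.adjunction (R := R)).leftAdjoint_preservesColimits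
  obtain ⟨g⟩ := nonempty_glue _ _ _ _ _ _ _ _ _ (tensorResIso W) (tilde.functor R).mapDerivedCategoryFactors
    (tildeTensorCxIso W)
    (RHom.ltNatIso ((DPerf.tildeX R).obj W)
      (KFlat.resFunctor (KFlat.Module.cover (R := R)) ⋙ DPerf.tildeX R)
      fun G => RHom.isIso_counit_kflat _ _ (KFlat.Sch.isKFlat_tilde R
        (KFlat.isKFlat_resObj _ G KFlat.Module.isFlat_cover)))
  exact ⟨KFlat.isoOfResIso (KFlat.Module.cover (R := R)) g⟩

/-- Internal hom out of coherent cohomology into finite injective dimension, read through `tilde`. -/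
theorem nonempty_rhom_tilde [IsNoetherianRing R] (K : DRing.Cx R)
    (hK : ∀ i, _root_.Module.Finite R (Dual.HD R (DRing.toD K) i)) [DRing.HasRHomCx K] (L : Dual.D R)
    (hL : DRing.HasFiniteInjDim R L) (E : CochainComplex (Spec R).Modules ℤ)
    (eE : DCoh.toD (Spec R) E ≅ (DPerf.tildeDD R).obj (DRing.toD K)) [DCoh.HasLTensorCx E] [DCoh.HasRSheafHom E] :
    Nonempty ((DCoh.RSheafHom E).obj ((DPerf.tildeDD R).obj L) ≅ (DPerf.tildeDD R).obj ((DRing.RHomCx K).obj L)) := by
  haveI : DTen.HasLTen R := KFlat.DT.hasLTen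
  haveI : DTen.HasRHom R := KFlat.HomD.hasRHom R
  obtain ⟨rK⟩ := KFlat.HomD.nonempty_rHomCx_iso K
  let T := DPerf.tildeDD R
  let tC := DPerf.tildeX R
  let fac := (tilde.functor R).mapDerivedCategoryFactors
  let E₀ := tC.obj K
  haveI := KFlat.Sch.hasLTensorCx E₀
  haveI : DCoh.HasRSheafHom E₀ := RHom.hasRSheafHom E₀
  obtain ⟨r⟩ := RHom.nonempty_rhomIso (E := E) (E' := E₀) (eE ≪≫ fac.app K)
  obtain ⟨θ⟩ := nonempty_tilde_tensorRightD K
  have hcoh : DCoh.IsCohD (DCoh.toD (Spec R) E₀) := fun i => by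
    haveI : _root_.Module.Finite R ((DerivedCategory.homologyFunctor (ModuleCat.{u} R) i).obj (DRing.toD K)) := hK i
    exact isCoh_iso ((DPerf.hdTildeIso (DRing.toD K) i).symm ≪≫
      (DerivedCategory.homologyFunctor _ i).mapIso (fac.app K)) ⟨inferInstanceAs (Coh.IsQCoh (tilde _)), M1.isFT_tilde _⟩
  obtain ⟨a, b, J, hJ, hinj, ⟨eJ⟩⟩ := hL
  haveI := ((DMod.vanishesOutside_iff J a b).1 hJ).1
  haveI := ((DMod.vanishesOutside_iff J a b).1 hJ).2
  let I := tC.obj J
  haveI : I.IsStrictlyGE a := (CochainComplex.isStrictlyGE_iff _ _).2 fun i hi =>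
    (tilde.functor R).map_isZero (J.isZero_of_isStrictlyGE a i hi)
  haveI : I.IsStrictlyLE b := (CochainComplex.isStrictlyLE_iff _ _).2 fun i hi =>
    (tilde.functor R).map_isZero (J.isZero_of_isStrictlyLE b i hi)
  haveI : ∀ i, Injective (I.X i) := fun i => by
    haveI : Module.Injective R (J.X i) := hinj i
    haveI : Injective (J.X i) := Module.injective_object_of_injective_module R (J.X i)
    exact CohMop.injective_tilde (J.X i)
  haveI : I.IsKInjective := CochainComplex.isKInjective_of_injective I a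
  let Y := T.obj L
  let eI : DerivedCategory.Q.obj I ≅ Y := (fac.app J).symm ≪≫ T.mapIso eJ
  haveI : Y.IsGE a := DerivedCategory.TStructure.t.isGE_of_iso eI a
  let Z := (DCoh.RSheafHom E₀).obj Y
  obtain ⟨N, ⟨eN⟩⟩ := DQC.exists_iso_of_isQCohD Z (isQCohD_rhom_of_coh Y (DQC.isQCohD_obj L) a b I eI E₀ hcoh)
  let adjM := DTen.rhomAdj R (DerivedCategory.Q.obj K)
  let R' := (DTen.RHomR R (DerivedCategory.Q.obj K)).obj L
  let u : T.obj R' ⟶ Z :=
    (DCoh.RSheafHomAdj E₀).homEquiv _ _ (θ.inv.app R' ≫ T.map (adjM.counit.app L))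
  obtain ⟨v, hv⟩ := (DQC.bijective_map R' N).2 (u ≫ eN.inv)
  have hT : ∀ M M' : Dual.D R, Function.Bijective fun f : M ⟶ M' => T.map f := DQC.bijective_map
  haveI : IsIso v := by
    refine (isIso_iff_yoneda_map_bijective v).2 fun M => ?_
    have h : ∀ x : M ⟶ R', T.map (x ≫ v) ≫ eN.hom = (DCoh.RSheafHomAdj E₀).homEquiv _ _
        (θ.inv.app M ≫ T.map ((adjM.homEquiv M L).symm x)) := fun x => by
      rw [Functor.map_comp, show T.map v = u ≫ eN.inv from hv, Category.assoc, Category.assoc, Iso.inv_hom_id,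
        Category.comp_id, adjM.homEquiv_counit, Functor.map_comp, ← Category.assoc,
        show θ.inv.app M ≫ T.map ((DTen.tensorRightD R (DerivedCategory.Q.obj K)).map x) =
          (DCoh.LTensorCx E₀).map (T.map x) ≫ θ.inv.app R' from (θ.inv.naturality x).symm, Category.assoc]
      exact ((DCoh.RSheafHomAdj E₀).homEquiv_naturality_left _ _).symm
    have h' : (fun x : M ⟶ R' => x ≫ v) = (Equiv.ofBijective _ (hT M N)).symm ∘ eN.symm.homToEquiv ∘
        (DCoh.RSheafHomAdj E₀).homEquiv _ _ ∘ (θ.app M).homFromEquiv ∘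
        (fun f => T.map f) ∘ (adjM.homEquiv M L).symm := by
      funext x
      refine ((Equiv.ofBijective _ (hT M N)).eq_symm_apply).2 ?_
      show T.map (x ≫ v) = ((DCoh.RSheafHomAdj E₀).homEquiv _ _
        (θ.inv.app M ≫ T.map ((adjM.homEquiv M L).symm x))) ≫ eN.inv
      rw [← h x, Category.assoc, Iso.hom_inv_id, Category.comp_id]
    rw [h']
    exact (Equiv.bijective _).comp ((Equiv.bijective _).comp ((Equiv.bijective _).comp ((Equiv.bijective _).comp
      ((hT _ _).comp (Equiv.bijective _)))))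
  exact ⟨r.app Y ≪≫ eN.symm ≪≫ T.mapIso ((asIso v).symm ≪≫ (rK.app L).symm)⟩

end Groth.Agent.BC8
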