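import Groth.Agent.Lib.BC8.BidualRing
import Groth.Agent.Lib.BC8.RHomTilde
import Groth.Agent.Lib.BC8.DlzTen
import Groth.Agent.Lib.BC8.DlzShriek
import Groth.Agent.Lib.TwistBC9.LTTri
import Groth.Agent.Lib.DGen9.Coherent

/-! Biduality for a dualizing complex on a scheme. -/

set_option autoImplicit false
set_option linter.style.haveILetI false
set_option linter.unusedSectionVars false
set_option backward.isDefEq.respectTransparency false
set_option backward.isDefEq.respectTransparency.types false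
set_option maxHeartbeats 1000000

universe u

open CategoryTheory CategoryTheory.Limits CategoryTheory.Pretriangulated AlgebraicGeometry MonoidalCategory

attribute [local instance] HasDerivedCategory.standard

noncomputable section

namespace Groth.Agent.BC8

open DMon9

section Formal

variable {C : Type*} [Category* C] [MonoidalCategory C] {L N K P Q : C}
  {RL RN RP : C ⥤ C} (aL : tensorRight L ⊣ RL) (aN : tensorRight N ⊣ RN) (aP : tensorRight P ⊣ RP)
  (θ : tensorRight N ≅ tensorLeft N)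

include aN θ in
/-- The retraction of biduality on a dual: the triangle identity. -/
theorem biduality_retract (eN : N ≅ RL.obj K) (eP : P ≅ RN.obj K) (eQ : Q ≅ RP.obj K) :
    ∃ (β : L ⟶ P) (β' : N ⟶ Q) (r : Q ⟶ N), β' ≫ r = 𝟙 N ∧
      ∀ T : C, ∀ x : T ⟶ Q, (aL.homEquiv T K).symm ((x ≫ r) ≫ eN.hom) =
        T ◁ β ≫ (aP.homEquiv T K).symm (x ≫ eQ.hom) := by
  let evL : N ⊗ L ⟶ K := (aL.homEquiv N K).symm eN.hom
  let evN : P ⊗ N ⟶ K := (aN.homEquiv P K).symm eP.hom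
  let evP : Q ⊗ P ⟶ K := (aP.homEquiv Q K).symm eQ.hom
  let β : L ⟶ P := aN.homEquiv L K (θ.hom.app L ≫ evL) ≫ eP.inv
  let β' : N ⟶ Q := aP.homEquiv N K (θ.inv.app P ≫ evN) ≫ eQ.inv
  let r : Q ⟶ N := aL.homEquiv Q K (Q ◁ β ≫ evP) ≫ eN.inv
  have hβ : β ▷ N ≫ evN = θ.hom.app L ≫ evL := by
    refine (aN.homEquiv_naturality_left_symm β eP.hom).symm.trans ?_
    simp [β]
  have hβ' : β' ▷ P ≫ evP = θ.inv.app P ≫ evN := by
    refine (aP.homEquiv_naturality_left_symm β' eQ.hom).symm.trans ?_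
    simp [β']
  have hr : r ▷ L ≫ evL = Q ◁ β ≫ evP := by
    refine (aL.homEquiv_naturality_left_symm r eN.hom).symm.trans ?_
    simp [r]
  refine ⟨β, β', r, ?_, fun T x => ?_⟩
  · refine (cancel_mono eN.hom).1 ((aL.homEquiv N K).symm.injective ?_)
    rw [Category.id_comp, Category.assoc]
    refine (aL.homEquiv_naturality_left_symm β' (r ≫ eN.hom)).trans ?_
    rw [aL.homEquiv_naturality_left_symm]
    change β' ▷ L ≫ r ▷ L ≫ evL = evL
    rw [hr, ← whisker_exchange_assoc, hβ']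
    have h1 : N ◁ β ≫ θ.inv.app P = θ.inv.app L ≫ β ▷ N := θ.inv.naturality β
    rw [reassoc_of% h1, hβ]
    exact θ.inv_hom_id_app_assoc L evL
  · rw [Category.assoc, aL.homEquiv_naturality_left_symm, aP.homEquiv_naturality_left_symm,
      aL.homEquiv_naturality_left_symm]
    change x ▷ L ≫ r ▷ L ≫ evL = T ◁ β ≫ x ▷ P ≫ evP
    rw [hr, ← whisker_exchange_assoc]

end Formal

variable {X : Scheme.{u}}

/-- Right derived internal hom of complexes of modules exists. -/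
theorem hasRHomCx {A : Type u} [CommRing A] (E : DRing.Cx A) : DRing.HasRHomCx E := by
  haveI : DTen.HasLTen A := KFlat.DT.hasLTen
  haveI : DTen.HasRHom A := KFlat.HomD.hasRHom A
  let α : DRing.homCxQ E ⟶ DerivedCategory.Q ⋙ DTen.RHomR A (DerivedCategory.Q.obj E) :=
    { app := fun L => KFlat.HomD.κ E L, naturality := fun _ _ f => KFlat.HomD.κ_naturality E f }
  haveI := KInjLib.isRightDerivedFunctor_of_isIso (W := HomologicalComplex.quasiIso (ModuleCat.{u} A) (ComplexShape.up ℤ))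
    (KInjLib.derivingClass_Q (A := ModuleCat.{u} A) KInjLib.enoughKInj_of_grothendieck) α
    fun L hL => KFlat.HomD.isIso_κ_of_isKInjective E L
  exact Functor.HasRightDerivedFunctor.mk' _ α

/-- `- ⊗^L E` carries a triangle to exact sequences of maps. -/
theorem lt_yoneda_exact (E : KF X) [DCoh.HasLTensorCx E.obj] (T : Triangle (DCoh.D X)) (hT : T ∈ distTriang _)
    {Y : DCoh.D X} (ψ : (DCoh.LTensorCx E.obj).obj T.obj₂ ⟶ Y)
    (h : (DCoh.LTensorCx E.obj).map T.mor₁ ≫ ψ = 0) :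
    ∃ χ, (DCoh.LTensorCx E.obj).map T.mor₂ ≫ χ = ψ := by
  obtain ⟨K, L, φ, ⟨e₀⟩⟩ := (DerivedCategory.mem_distTriang_iff T).1 hT
  let S := KFlat.cylSC φ
  have hS := KFlat.cylSC_shortExact φ
  haveI : IsIso (DerivedCategory.Q.map (biprod.fst : L ⊞ CochainComplex.mappingCone (𝟙 K) ⟶ L)) := by
    rw [DerivedCategory.isIso_Q_map_iff_quasiIso]
    exact inferInstanceAs (QuasiIso
      (KFlat.fstHomotopyEquiv (X := L) (CochainComplex.mappingCone.homotopyToZeroOfId K)).hom)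
  let b : DerivedCategory.Q.obj S.X₂ ≅ DerivedCategory.Q.obj L :=
    asIso (DerivedCategory.Q.map (biprod.fst : L ⊞ CochainComplex.mappingCone (𝟙 K) ⟶ L))
  have hab : DerivedCategory.Q.map S.f ≫ b.hom = (Iso.refl (DerivedCategory.Q.obj K)).hom ≫
      DerivedCategory.Q.map φ := by
    simp only [b, asIso_hom, Iso.refl_hom, Category.id_comp, ← Functor.map_comp]
    exact congrArg _ (biprod.lift_fst _ _)
  let e : DerivedCategory.triangleOfSES hS ≅ T :=
    isoTriangleOfIso₁₂ _ _ (DerivedCategory.triangleOfSES_distinguished hS)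
      (DerivedCategory.mappingCone_triangle_distinguished φ) (Iso.refl _) b hab ≪≫ e₀.symm
  let F := DCoh.LTensorCx E.obj
  let G := (KFlat.tcx (KFlat.Sch.TX X)).flip.obj E.obj
  let c := RHom.ltCounit E.obj
  haveI : ∀ A, IsIso (c.app A) := DMon9.isIso_counitE E
  let S' := (KFlat.splitPres_right (KFlat.Sch.TX X) E.obj).shortExact S (KFlat.cylSC_splitting φ)
  let T' := DerivedCategory.triangleOfSES S'
  have n1 : F.map (DerivedCategory.Q.map S.f) ≫ c.app S.X₂ = c.app S.X₁ ≫ DerivedCategory.Q.map (G.map S.f) :=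
    c.naturality S.f
  have n2 : F.map (DerivedCategory.Q.map S.g) ≫ c.app S.X₃ = c.app S.X₂ ≫ DerivedCategory.Q.map (G.map S.g) :=
    c.naturality S.g
  let ψ' : T'.obj₂ ⟶ Y := inv (c.app S.X₂) ≫ F.map e.hom.hom₂ ≫ ψ
  have h' : T'.mor₁ ≫ ψ' = 0 := by
    rw [← cancel_epi (c.app S.X₁), comp_zero]
    change c.app S.X₁ ≫ DerivedCategory.Q.map (G.map S.f) ≫ ψ' = 0
    rw [← reassoc_of% n1]
    simp only [ψ', IsIso.hom_inv_id_assoc]
    rw [← F.map_comp_assoc, show DerivedCategory.Q.map S.f ≫ e.hom.hom₂ = e.hom.hom₁ ≫ T.mor₁ from e.hom.comm₁,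
      F.map_comp_assoc, h, comp_zero]
  obtain ⟨χ, hχ⟩ := Triangle.yoneda_exact₂ T' (DerivedCategory.triangleOfSES_distinguished S') ψ' h'
  refine ⟨F.map e.inv.hom₃ ≫ c.app S.X₃ ≫ χ, ?_⟩
  rw [← F.map_comp_assoc, show T.mor₂ ≫ e.inv.hom₃ = e.inv.hom₂ ≫ DerivedCategory.Q.map S.g from e.inv.comm₂,
    F.map_comp_assoc, reassoc_of% n2]
  rw [show DerivedCategory.Q.map (G.map S.g) ≫ χ = ψ' from hχ.symm]
  simp only [ψ', IsIso.hom_inv_id_assoc]
  rw [← F.map_comp_assoc, e.inv_hom_id_triangle_hom₂, CategoryTheory.Functor.map_id, Category.id_comp]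

/-- The cone of a map is killed by the dual when the map is dualized to an isomorphism. -/
theorem eq_zero_of_cone {T₀ : Triangle (DCoh.D X)} (hT₀ : T₀ ∈ distTriang _) {K : DCoh.D X}
    (hbij : ∀ A : DCoh.D X, Function.Bijective
      fun ψ : (tenL A).obj T₀.obj₂ ⟶ K => (tenL A).map T₀.mor₁ ≫ ψ)
    (A : DCoh.D X) (ψ : (tenL A).obj T₀.obj₃ ⟶ K) : ψ = 0 := by
  obtain ⟨P, q, hP, hq⟩ := RHom.exists_kflat_res ((DerivedCategory.Q (C := X.Modules)).objPreimage A)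
  haveI := hq
  let E : KF X := ⟨P, hP⟩
  let eA : DCoh.toD X E.obj ≅ A := asIso (DerivedCategory.Q.map q) ≪≫
    (DerivedCategory.Q (C := X.Modules)).objObjPreimageIso A
  haveI := KFlat.Sch.hasLTensorCx E.obj
  obtain ⟨t⟩ := nonempty_ltensor_tenL E.obj A eA
  let φ := t.hom.app T₀.obj₃ ≫ ψ
  have h2 : (tenL A).map T₀.mor₂ ≫ ψ = 0 := (hbij A).1 (by
    change (tenL A).map T₀.mor₁ ≫ (tenL A).map T₀.mor₂ ≫ ψ = (tenL A).map T₀.mor₁ ≫ 0
    rw [comp_zero, ← Category.assoc, ← Functor.map_comp, comp_distTriang_mor_zero₁₂ _ hT₀]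
    have : (tenL A).map (0 : T₀.obj₁ ⟶ T₀.obj₃) = 0 := by
      haveI : (tenL A).PreservesZeroMorphisms := inferInstance
      exact Functor.map_zero _ _ _
    rw [this, zero_comp])
  have h3 : (DCoh.LTensorCx E.obj).map T₀.mor₂ ≫ φ = 0 := by
    rw [← Category.assoc, t.hom.naturality, Category.assoc, h2, comp_zero]
  obtain ⟨χ, hχ⟩ := lt_yoneda_exact E T₀.rotate (rot_of_distTriang _ hT₀) φ h3
  change (DCoh.LTensorCx E.obj).map T₀.mor₃ ≫ χ = φ at hχ
  obtain ⟨o⟩ := nonempty_tenL_one (-1) (TwistBC9.oneD X (-1)) (Iso.refl _)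
  let o' : tenL (TwistBC9.oneD X (-1)) ≅ shiftFunctor (DCoh.D X) (1 : ℤ) := o ≪≫ eqToIso (by rw [neg_neg])
  let A₁ : DM X := A
  let O₁ : DM X := TwistBC9.oneD X (-1)
  let A' : DCoh.D X := (A₁ ⊗ O₁ : DM X)
  let a : tenL A' ≅ tenL (TwistBC9.oneD X (-1)) ⋙ tenL A := (MonoidalCategory.tensorLeftTensor A₁ O₁ :)
  let ρ : tenL A' ≅ shiftFunctor (DCoh.D X) (1 : ℤ) ⋙ DCoh.LTensorCx E.obj :=
    a ≪≫ Functor.isoWhiskerRight o' _ ≪≫ Functor.isoWhiskerLeft _ t.symm
  obtain ⟨χ', hχ'⟩ := (hbij A').2 (ρ.hom.app T₀.obj₁ ≫ χ)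
  have h4 : χ = (DCoh.LTensorCx E.obj).map (T₀.mor₁⟦(1 : ℤ)⟧') ≫ ρ.inv.app T₀.obj₂ ≫ χ' := by
    have := ρ.hom.naturality T₀.mor₁
    rw [← cancel_epi (ρ.hom.app T₀.obj₁)]
    refine hχ'.symm.trans ?_
    rw [← reassoc_of% this]
    exact congrArg ((tenL A').map T₀.mor₁ ≫ ·) (ρ.hom_inv_id_app_assoc _ _).symm
  have h5 : φ = 0 := by
    rw [← hχ, h4, ← Category.assoc, ← Functor.map_comp, comp_distTriang_mor_zero₃₁ _ hT₀]
    have : (DCoh.LTensorCx E.obj).map (0 : T₀.obj₃ ⟶ T₀.obj₂⟦(1 : ℤ)⟧) = 0 := by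
      haveI : (tenL A).PreservesZeroMorphisms := inferInstance
      rw [← cancel_mono (t.hom.app _), t.hom.naturality, Functor.map_zero, comp_zero, zero_comp]
    rw [this, zero_comp]
  rw [← cancel_epi (t.hom.app T₀.obj₃), comp_zero]
  exact h5

theorem isEquivalence_lP_iso {V Z : Scheme.{u}} (k : V ⟶ Z) [IsIso k] : (lP k).IsEquivalence :=
  (CategoryTheory.Equivalence.mk (lP k) (lP (inv k))
    ((DBC9.lPId Z).symm ≪≫ (lPComp (inv k) k (IsIso.inv_hom_id k)).symm)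
    (lPComp k (inv k) (IsIso.hom_inv_id k) ≪≫ DBC9.lPId V)).isEquivalence_functor

/-- Internal hom commutes with isomorphisms of schemes. -/
theorem nonempty_rhom_lP_iso {V Z : Scheme.{u}} (k : V ⟶ Z) [IsIso k]
    (E : CochainComplex Z.Modules ℤ) [DCoh.HasLTensorCx E] [DCoh.HasRSheafHom E]
    (E' : CochainComplex V.Modules ℤ) [DCoh.HasLTensorCx E'] [DCoh.HasRSheafHom E']
    (e : DCoh.toD V E' ≅ (lP k).obj (DCoh.toD Z E)) (Y : DCoh.D Z) :
    Nonempty ((lP k).obj ((DCoh.RSheafHom E).obj Y) ≅ (DCoh.RSheafHom E').obj ((lP k).obj Y)) := by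
  haveI := isEquivalence_lP_iso k
  obtain ⟨t⟩ := nonempty_ltensor_tenR E (DCoh.toD Z E) (Iso.refl _)
  obtain ⟨t'⟩ := nonempty_ltensor_tenR E' _ e
  exact nonempty_rightAdj_square (DCoh.RSheafHomAdj E) (DCoh.RSheafHomAdj E') (lP k) (lP k)
    (Functor.isoWhiskerRight t _ ≪≫
      ((Functor.Monoidal.commTensorRight (dPull k) (DCoh.toD Z E : DM Z)).symm :
        tenR (DCoh.toD Z E) ⋙ lP k ≅ lP k ⋙ tenR ((lP k).obj (DCoh.toD Z E))) ≪≫
      Functor.isoWhiskerLeft _ t'.symm) Y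

section Local

variable [IsLocallyNoetherian X] [∀ (U : Scheme.{u}) (j : U ⟶ X) [IsOpenImmersion j],
    PreservesFiniteLimits (Scheme.Modules.restrictFunctor j)]
  [∀ (R : CommRingCat.{u}), PreservesFiniteLimits (tilde.functor R)]

/-- The double dual is locally isomorphic to the complex. -/
theorem exists_double_dual_affine {K : DCoh.D X} (hK : Dual2.IsDualizingSch X K) {V : X.Opens} (hV : IsAffineOpen V)
    (E : CochainComplex X.Modules ℤ) [DCoh.HasLTensorCx E] [DCoh.HasRSheafHom E]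
    (hE : DCoh.IsCohD (DCoh.toD X E))
    (N : CochainComplex X.Modules ℤ) [DCoh.HasLTensorCx N] [DCoh.HasRSheafHom N]
    (eN : DCoh.toD X N ≅ (DCoh.RSheafHom E).obj K) :
    Nonempty ((lP V.ι).obj ((DCoh.RSheafHom N).obj K) ≅ (lP V.ι).obj (DCoh.toD X E)) ∧
      ∀ i : ℤ, Coh.IsCoh (DCoh.HD ((DPerf.resD hV.fromSpec).obj ((DCoh.RSheafHom E).obj K)) i) := by
  let Z := Spec Γ(X, V)
  obtain ⟨ω, hω, ⟨eω⟩⟩ := DlzSch27.mdl_of_isDualizingSch hK Γ(X, V) hV.fromSpec
  haveI : IsNoetherianRing Γ(X, V) := hω.isNoetherianRing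
  let k := hV.isoSpec.inv
  have hk : k ≫ V.ι = hV.fromSpec := by
    rw [← hV.isoSpec_hom_fromSpec, ← Category.assoc]
    simp [k]
  let j := hV.fromSpec
  let T := DPerf.tildeDD Γ(X, V)
  let EV := (DCoh.restrictCx V).obj E
  let NV := (DCoh.restrictCx V).obj N
  haveI := KFlat.Sch.hasLTensorCx EV
  haveI := KFlat.Sch.hasLTensorCx NV
  haveI : DCoh.HasRSheafHom EV := RHom.hasRSheafHom EV
  haveI : DCoh.HasRSheafHom NV := RHom.hasRSheafHom NV
  have hv : ∀ (F : CochainComplex X.Modules ℤ) [DCoh.HasLTensorCx F] [DCoh.HasRSheafHom F]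
      (FV : CochainComplex (V : Scheme.{u}).Modules ℤ) (_ : FV = (DCoh.restrictCx V).obj F)
      [DCoh.HasLTensorCx FV] [DCoh.HasRSheafHom FV]
      (M : DRing.Cx Γ(X, V)) [DRing.HasRHomCx M]
      (_ : (lP j).obj (DCoh.toD X F) ≅ T.obj (DRing.toD M))
      (_ : ∀ i, _root_.Module.Finite Γ(X, V) (Dual.HD Γ(X, V) (DRing.toD M) i)),
      Nonempty ((lP j).obj ((DCoh.RSheafHom F).obj K) ≅ T.obj ((DRing.RHomCx M).obj ω)) := by
    intro F _ _ FV hFV _ _ M _ eM hM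
    subst hFV
    let FZ := (DPerf.tildeX Γ(X, V)).obj M
    haveI := KFlat.Sch.hasLTensorCx FZ
    haveI : DCoh.HasRSheafHom FZ := RHom.hasRSheafHom FZ
    let fac := (tilde.functor Γ(X, V)).mapDerivedCategoryFactors
    let eV : DCoh.toD (V : Scheme.{u}) ((DCoh.restrictCx V).obj F) ≅ (lP V.ι).obj (DCoh.toD X F) :=
      ((DPerf.resFac V.ι).app F).symm ≪≫ ((lPRes V.ι).app (DCoh.toD X F)).symm
    let eZ : DCoh.toD Z FZ ≅ (lP k).obj (DCoh.toD (V : Scheme.{u}) ((DCoh.restrictCx V).obj F)) :=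
      (fac.app M).symm ≪≫ eM.symm ≪≫ ((lPComp k V.ι hk).app _).symm ≪≫ (lP k).mapIso eV.symm
    obtain ⟨a⟩ := nonempty_rhom_lP_iso k ((DCoh.restrictCx V).obj F) FZ eZ ((DCoh.restrictD V.ι).obj K)
    let Mo := Dlz27.model hω
    have hinj : DRing.HasFiniteInjDim Γ(X, V) ω := ⟨Mo.lo, Mo.hi, Mo.W,
      (DMod.vanishesOutside_iff Mo.W Mo.lo Mo.hi).2 ⟨inferInstance, inferInstance⟩, fun i =>
        (by
          haveI : Injective (ModuleCat.of Γ(X, V) (Mo.W.X i)) := Mo.inj i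
          exact Module.injective_module_of_injective_object _ _), ⟨Mo.e⟩⟩
    obtain ⟨b⟩ := nonempty_rhom_tilde M hM ω hinj FZ (fac.app M).symm
    exact ⟨((lPComp k V.ι hk).app _).symm ≪≫ (lP k).mapIso ((lPRes V.ι).app _ ≪≫
      (RHom.restrictRHomIso V F).app K) ≪≫ a ≪≫ (DCoh.RSheafHom FZ).mapIso
        ((lP k).mapIso ((lPRes V.ι).app K).symm ≪≫ (lPComp k V.ι hk).app K ≪≫ (lPRes j).app K ≪≫ eω) ≪≫ b⟩
  obtain ⟨M₀, ⟨eM₀⟩⟩ := DQC.exists_iso_of_isQCohD ((DPerf.resD j).obj (DCoh.toD X E))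
    (DQC.isQCohD_resD j fun i => (hE i).1)
  let M := (DerivedCategory.Q (C := ModuleCat.{u} Γ(X, V))).objPreimage M₀
  let eM : DRing.toD M ≅ M₀ := (DerivedCategory.Q (C := ModuleCat.{u} Γ(X, V))).objObjPreimageIso M₀
  haveI := hasRHomCx M
  have hM : ∀ i, _root_.Module.Finite Γ(X, V) (Dual.HD Γ(X, V) (DRing.toD M) i) := fun i => by
    refine M1.finite_of_isFT_tilde _ (M1.isFT_of_isIso ?_ (DPerf.isCoh_restrict (hE i) j).2)
    exact (DPerf.hdResIso j (DCoh.toD X E) i).symm ≪≫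
      (DerivedCategory.homologyFunctor _ i).mapIso (eM₀.symm ≪≫ (DPerf.tildeDD Γ(X, V)).mapIso eM.symm) ≪≫
      DPerf.hdTildeIso _ i
  let eE : (lP j).obj (DCoh.toD X E) ≅ T.obj (DRing.toD M) := (lPRes j).app _ ≪≫ eM₀.symm ≪≫ T.mapIso eM.symm
  obtain ⟨d1⟩ := hv E EV rfl M eE hM
  let M' := (DerivedCategory.Q (C := ModuleCat.{u} Γ(X, V))).objPreimage ((DRing.RHomCx M).obj ω)
  let eM' : DRing.toD M' ≅ (DRing.RHomCx M).obj ω :=
    (DerivedCategory.Q (C := ModuleCat.{u} Γ(X, V))).objObjPreimageIso _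
  haveI := hasRHomCx M'
  obtain ⟨hfin, hbid⟩ := HomDual.biduality hω M hM
  have hM' : ∀ i, _root_.Module.Finite Γ(X, V) (Dual.HD Γ(X, V) (DRing.toD M') i) := fun i => by
    haveI := hfin i
    exact _root_.Module.Finite.equiv ((DerivedCategory.homologyFunctor _ i).mapIso eM').symm.toLinearEquiv
  obtain ⟨d2⟩ := hv N NV rfl M' ((lP j).mapIso eN ≪≫ d1 ≪≫ T.mapIso eM'.symm) hM'
  obtain ⟨bd⟩ := hbid M' ⟨eM'⟩
  let k' := hV.isoSpec.hom
  have hk' : k' ≫ j = V.ι := hV.isoSpec_hom_fromSpec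
  refine ⟨⟨((lPComp k' j hk').app _).symm ≪≫ (lP k').mapIso (d2 ≪≫ T.mapIso bd ≪≫ eE.symm) ≪≫
    (lPComp k' j hk').app _⟩, fun i => ?_⟩
  refine isCoh_iso ((DerivedCategory.homologyFunctor _ i).mapIso (((lPRes j).app _).symm ≪≫ d1) ≪≫
    DPerf.hdTildeIso _ i).symm ⟨inferInstanceAs (Coh.IsQCoh (tilde _)), ?_⟩
  haveI : _root_.Module.Finite Γ(X, V)
    ((DerivedCategory.homologyFunctor (ModuleCat.{u} Γ(X, V)) i).obj ((DRing.RHomCx M).obj ω)) := hfin i
  exact M1.isFT_tilde _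

/-- Coherent complexes on an affine open are modelled by finite complexes of modules. -/
theorem exists_model_coh {V : X.Opens} (hV : IsAffineOpen V) {C : DCoh.D X} (hC : DCoh.IsCohD C) :
    ∃ M : Dual.D Γ(X, V), Nonempty ((lP hV.fromSpec).obj C ≅ (DPerf.tildeDD Γ(X, V)).obj M) ∧
      ∀ i, _root_.Module.Finite Γ(X, V) (Dual.HD Γ(X, V) M i) := by
  obtain ⟨M₀, ⟨eM₀⟩⟩ := DQC.exists_iso_of_isQCohD ((DPerf.resD hV.fromSpec).obj C)
    (DQC.isQCohD_resD hV.fromSpec fun i => (hC i).1)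
  refine ⟨M₀, ⟨(lPRes hV.fromSpec).app C ≪≫ eM₀.symm⟩, fun i => ?_⟩
  refine M1.finite_of_isFT_tilde _ (M1.isFT_of_isIso ?_ (DPerf.isCoh_restrict (hC i) hV.fromSpec).2)
  exact (DPerf.hdResIso hV.fromSpec C i).symm ≪≫ (DerivedCategory.homologyFunctor _ i).mapIso eM₀.symm ≪≫
    DPerf.hdTildeIso _ i

open scoped ZeroObject in
/-- An object with vanishing cohomology is zero. -/
theorem isZero_of_homology' {A : Type*} [Category A] [Abelian A] [HasDerivedCategory A] (C : DerivedCategory A)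
    (h : ∀ i : ℤ, IsZero ((DerivedCategory.homologyFunctor A i).obj C)) : IsZero C := by
  haveI : IsIso (0 : C ⟶ (0 : DerivedCategory A)) := (DerivedCategory.isIso_iff (C := A) _).2 fun i =>
    isIso_of_source_target_iso_zero _ (h i).isoZero
      ((DerivedCategory.homologyFunctor A i).map_isZero (isZero_zero _)).isoZero
  exact (isZero_zero _).of_iso (asIso (0 : C ⟶ (0 : DerivedCategory A)))

/-- A surjective endomorphism of the sheaf of a finite module is bijective. -/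
theorem isIso_of_epi_endo {R : CommRingCat.{u}} (H : ModuleCat.{u} R) [_root_.Module.Finite R H]
    (φ : (tilde.functor R).obj H ⟶ (tilde.functor R).obj H) [Epi φ] : IsIso φ := by
  obtain ⟨f, rfl⟩ := (tilde.functor R).map_surjective φ
  haveI : Epi f := (tilde.functor R).epi_of_epi_map inferInstance
  have hs : Function.Surjective f.hom := (ModuleCat.epi_iff_surjective f).1 inferInstance
  haveI : IsIso f := (ConcreteCategory.isIso_iff_bijective f).2
    ⟨OrzechProperty.injective_of_surjective_endomorphism f.hom hs, hs⟩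
  infer_instance

/-- A retraction between locally isomorphic coherent complexes is an isomorphism. -/
theorem isIso_of_retract {N Q : DCoh.D X} (hN : DCoh.IsCohD N) (s : N ⟶ Q) (r : Q ⟶ N) (hsr : s ≫ r = 𝟙 N)
    (h : ∀ (V : X.Opens), IsAffineOpen V → Nonempty ((lP V.ι).obj N ≅ (lP V.ι).obj Q)) : IsIso r := by
  refine isIso_of_lP_cover r fun x => ?_
  obtain ⟨V, hV, hx, -⟩ := exists_isAffineOpen_mem_and_subset (x := x) (U := (⊤ : X.Opens)) trivial
  refine ⟨V, hx, ?_⟩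
  obtain ⟨a⟩ := h V hV
  let j := hV.fromSpec
  have hk : hV.isoSpec.inv ≫ V.ι = j := by
    rw [show j = hV.fromSpec from rfl, ← hV.isoSpec_hom_fromSpec, ← Category.assoc]
    simp
  let a' : (lP j).obj N ≅ (lP j).obj Q := ((lPComp hV.isoSpec.inv V.ι hk).app N).symm ≪≫
    (lP hV.isoSpec.inv).mapIso a ≪≫ (lPComp hV.isoSpec.inv V.ι hk).app Q
  obtain ⟨M, ⟨eM⟩, hM⟩ := exists_model_coh hV hN
  haveI : IsIso ((lP j).map r) := by
    refine (DerivedCategory.isIso_iff (C := (Spec Γ(X, V)).Modules) _).2 fun i => ?_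
    let H := DerivedCategory.homologyFunctor (Spec Γ(X, V)).Modules i
    have h1 : H.map ((lP j).map s) ≫ H.map ((lP j).map r) = 𝟙 _ := by
      rw [← Functor.map_comp, ← Functor.map_comp, hsr, CategoryTheory.Functor.map_id, CategoryTheory.Functor.map_id]
    haveI : IsSplitEpi (H.map ((lP j).map r)) := IsSplitEpi.mk' ⟨H.map ((lP j).map s), h1⟩
    let g : H.obj ((lP j).obj N) ≅
        (tilde.functor Γ(X, V)).obj ((DerivedCategory.homologyFunctor _ i).obj M) :=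
      H.mapIso eM ≪≫ DPerf.hdTildeIso M i
    haveI : _root_.Module.Finite Γ(X, V) ((DerivedCategory.homologyFunctor (ModuleCat.{u} Γ(X, V)) i).obj M) := hM i
    haveI := isIso_of_epi_endo _ (g.inv ≫ H.map a'.hom ≫ H.map ((lP j).map r) ≫ g.hom)
    haveI : IsIso (H.map a'.hom ≫ H.map ((lP j).map r)) := by
      have e : H.map a'.hom ≫ H.map ((lP j).map r) =
          g.hom ≫ (g.inv ≫ H.map a'.hom ≫ H.map ((lP j).map r) ≫ g.hom) ≫ g.inv := by simp
      rw [e]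
      infer_instance
    exact IsIso.of_isIso_comp_left (H.map a'.hom) _
  exact (NatIso.isIso_map_iff (lPComp hV.isoSpec.hom j hV.isoSpec_hom_fromSpec) r).1
    (inferInstanceAs (IsIso ((lP hV.isoSpec.hom).map ((lP j).map r))))

/-- Biduality on a scheme. -/
theorem biduality_sch {K : DCoh.D X} (hK : Dual2.IsDualizingSch X K) (L : CochainComplex X.Modules ℤ)
    (hL : DCoh.IsCohD (DCoh.toD X L)) [DCoh.HasLTensorCx L] [DCoh.HasRSheafHom L] :
    DCoh.IsCohD ((DCoh.RSheafHom L).obj K) ∧ ∀ (M : CochainComplex X.Modules ℤ) [DCoh.HasLTensorCx M]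
      [DCoh.HasRSheafHom M], Nonempty (DCoh.toD X M ≅ (DCoh.RSheafHom L).obj K) →
        Nonempty ((DCoh.RSheafHom M).obj K ≅ DCoh.toD X L) := by
  have hD : ∀ (E : CochainComplex X.Modules ℤ) [DCoh.HasLTensorCx E] [DCoh.HasRSheafHom E],
      DCoh.IsCohD (DCoh.toD X E) → DCoh.IsCohD ((DCoh.RSheafHom E).obj K) := fun E _ _ hE i => by
    choose V hV hxV using fun x : X => exists_isAffineOpen_mem_and_subset (x := x) (U := (⊤ : X.Opens)) trivial
    let N₀ := (DerivedCategory.Q (C := X.Modules)).objPreimage ((DCoh.RSheafHom E).obj K)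
    haveI := KFlat.Sch.hasLTensorCx N₀
    haveI : DCoh.HasRSheafHom N₀ := RHom.hasRSheafHom N₀
    have hh := fun x => isCoh_iso (DPerf.hdResIso (hV x).fromSpec _ i)
      ((exists_double_dual_affine hK (hV x) E hE N₀
        ((DerivedCategory.Q (C := X.Modules)).objObjPreimageIso _)).2 i)
    exact ⟨M1.isQCoh_of_openImmersion_cover (j := fun x => (hV x).fromSpec)
        (fun x => ⟨x, by rw [(hV x).range_fromSpec]; exact (hxV x).1⟩) fun x => (hh x).1,
      M1.isFT_of_openImmersion_cover (fun x => (hV x).fromSpec)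
        (fun x => ⟨x, by rw [(hV x).range_fromSpec]; exact (hxV x).1⟩) fun x => (hh x).2⟩
  refine ⟨hD L hL, fun M _ _ ⟨eM⟩ => ?_⟩
  have hM : DCoh.IsCohD (DCoh.toD X M) := fun i =>
    isCoh_iso ((DerivedCategory.homologyFunctor _ i).mapIso eM.symm) (hD L hL i)
  let Pr := (DerivedCategory.Q (C := X.Modules)).objPreimage ((DCoh.RSheafHom M).obj K)
  let ePr : DCoh.toD X Pr ≅ (DCoh.RSheafHom M).obj K := (DerivedCategory.Q (C := X.Modules)).objObjPreimageIso _
  haveI := KFlat.Sch.hasLTensorCx Pr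
  haveI : DCoh.HasRSheafHom Pr := RHom.hasRSheafHom Pr
  obtain ⟨tL⟩ := nonempty_ltensor_tenR L _ (Iso.refl _)
  obtain ⟨tM⟩ := nonempty_ltensor_tenR M _ (Iso.refl _)
  obtain ⟨tM'⟩ := nonempty_ltensor_tenL M _ (Iso.refl _)
  obtain ⟨tP⟩ := nonempty_ltensor_tenR Pr _ (Iso.refl _)
  let L₀ : DM X := DCoh.toD X L
  let N₀ : DM X := DCoh.toD X M
  let P₀ : DM X := DCoh.toD X Pr
  let aL : tensorRight L₀ ⊣ (DCoh.RSheafHom L : DM X ⥤ DM X) := ((DCoh.RSheafHomAdj L).ofNatIsoLeft tL :)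
  let aN : tensorRight N₀ ⊣ (DCoh.RSheafHom M : DM X ⥤ DM X) := ((DCoh.RSheafHomAdj M).ofNatIsoLeft tM :)
  let aP : tensorRight P₀ ⊣ (DCoh.RSheafHom Pr : DM X ⥤ DM X) := ((DCoh.RSheafHomAdj Pr).ofNatIsoLeft tP :)
  let θ : tensorRight N₀ ≅ tensorLeft N₀ := (tM.symm ≪≫ tM' :)
  let Qo : DCoh.D X := (DCoh.RSheafHom Pr).obj K
  obtain ⟨β, β', r, hr, hform⟩ := biduality_retract (L := L₀) (N := N₀) (P := P₀) (K := (K : DM X)) (Q := (Qo : DM X))
    aL aN aP θ eM ePr (Iso.refl _)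
  haveI hriso : IsIso (r : Qo ⟶ DCoh.toD X M) := isIso_of_retract hM β' r hr fun V hV => by
    obtain ⟨⟨d⟩, -⟩ := exists_double_dual_affine hK hV M hM Pr ePr
    exact ⟨d.symm⟩
  let β₁ : DCoh.toD X L ⟶ DCoh.toD X Pr := β
  obtain ⟨C, g, δ, hT⟩ := distinguished_cocone_triangle (C := DCoh.D X) β₁
  have hbij : ∀ A : DCoh.D X, Function.Bijective fun ψ : (tenL A).obj (DCoh.toD X Pr) ⟶ K =>
      (tenL A).map β₁ ≫ ψ := fun A => by
    let A₀ : DM X := A
    refine (Function.Bijective.of_comp_iff _ (aP.homEquiv A₀ (K : DM X)).symm.bijective).1 ?_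
    have e : ((fun ψ : (tenL A).obj (DCoh.toD X Pr) ⟶ K => (tenL A).map β₁ ≫ ψ) ∘
        (aP.homEquiv A₀ (K : DM X)).symm) =
        (aL.homEquiv A₀ (K : DM X)).symm ∘ (fun x : A ⟶ DCoh.toD X M => x ≫ eM.hom) ∘ fun x : A ⟶ Qo => x ≫ r := by
      funext x
      refine Eq.trans ?_ (hform A₀ x).symm
      change _ = A₀ ◁ β ≫ (aP.homEquiv A₀ (K : DM X)).symm (x ≫ 𝟙 _)
      rw [Category.comp_id]
      rfl
    rw [e]
    exact (Equiv.bijective _).comp ((eM.homToEquiv.bijective).comp (asIso r).homToEquiv.bijective)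
  have hzero : ∀ (A : DCoh.D X) (ψ : (tenL A).obj C ⟶ K), ψ = 0 := eq_zero_of_cone hT hbij
  have hC : DCoh.IsCohD C := DGen9.isCohD_obj₂ _ (rot_of_distTriang _ hT)
    (fun i => isCoh_iso ((DerivedCategory.homologyFunctor _ i).mapIso ePr.symm) (hD M hM i))
    (DGen9.isCohD_shift hL 1)
  let Cr := (DerivedCategory.Q (C := X.Modules)).objPreimage C
  let eCr : DCoh.toD X Cr ≅ C := (DerivedCategory.Q (C := X.Modules)).objObjPreimageIso C
  haveI := KFlat.Sch.hasLTensorCx Cr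
  haveI : DCoh.HasRSheafHom Cr := RHom.hasRSheafHom Cr
  have hvan : ∀ (E : CochainComplex X.Modules ℤ) [DCoh.HasLTensorCx E] [DCoh.HasRSheafHom E] (G : DCoh.D X),
      (DCoh.toD X E ≅ G) → (∀ (A : DCoh.D X) (ψ : (tenL A).obj G ⟶ K), ψ = 0) →
        IsZero ((DCoh.RSheafHom E).obj K) := fun E _ _ G eG hG => by
    obtain ⟨t⟩ := nonempty_ltensor_tenR E G eG
    rw [IsZero.iff_id_eq_zero]
    apply ((DCoh.RSheafHomAdj E).homEquiv _ K).symm.injective
    rw [← cancel_epi (t.inv.app _)]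
    exact (hG _ _).trans (hG _ _).symm
  have hz1 : IsZero ((DCoh.RSheafHom Cr).obj K) := hvan Cr C eCr hzero
  let Nc := (DerivedCategory.Q (C := X.Modules)).objPreimage ((DCoh.RSheafHom Cr).obj K)
  let eNc : DCoh.toD X Nc ≅ (DCoh.RSheafHom Cr).obj K := (DerivedCategory.Q (C := X.Modules)).objObjPreimageIso _
  haveI := KFlat.Sch.hasLTensorCx Nc
  haveI : DCoh.HasRSheafHom Nc := RHom.hasRSheafHom Nc
  have hz2 : IsZero ((DCoh.RSheafHom Nc).obj K) := hvan Nc _ eNc fun A ψ => by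
    haveI : (tenL A).PreservesZeroMorphisms := inferInstance
    exact ((tenL A).map_isZero hz1).eq_of_src _ _
  have hC0 : IsZero C := isZero_of_homology' C fun i => by
    choose V hV hxV using fun x : X => exists_isAffineOpen_mem_and_subset (x := x) (U := (⊤ : X.Opens)) trivial
    refine DPerf.isZero_of_cover V (fun x => ⟨x, (hxV x).1⟩) fun x => ?_
    obtain ⟨⟨d⟩, -⟩ := exists_double_dual_affine hK (hV x) Cr
      (fun i => isCoh_iso ((DerivedCategory.homologyFunctor _ i).mapIso eCr.symm) (hC i)) Nc eNc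
    exact (Functor.map_isZero _ ((((DPerf.resD (V x).ι).map_isZero hz2).of_iso ((lPRes (V x).ι).app _)).of_iso
      ((lP (V x).ι).mapIso eCr.symm ≪≫ d.symm))).of_iso
        ((DPerf.hdResIso (V x).ι C i).symm ≪≫ (DerivedCategory.homologyFunctor _ i).mapIso ((lPRes (V x).ι).app C).symm)
  haveI : IsIso β₁ :=
    (Triangle.isZero₃_iff_isIso₁ _ hT).1 hC0
  exact ⟨ePr.symm ≪≫ (asIso β₁).symm⟩

end Local

end Groth.Agent.BC8
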