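import Groth.Agent.Lib.CohMop.Bidual
import Groth.Agent.Lib.CohMop.HomCoh
import Groth.Agent.Lib.Cyc26.C1Inv

/-! Biduality of finite locally free modules with values in an invertible module. -/

set_option autoImplicit false
set_option linter.style.haveILetI false
set_option linter.unusedSectionVars false
set_option backward.isDefEq.respectTransparency false
set_option backward.isDefEq.respectTransparency.types false

universe u

open CategoryTheory CategoryTheory.Limits AlgebraicGeometry Opposite MonoidalCategory TopologicalSpace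

noncomputable section

namespace Groth.Agent.BC8.BidualW

open Groth.Agent KFlat KFlat.Sch Groth.Agent.CohMop

variable {X : Scheme.{u}} (ω : X.Modules)

/-- Evaluation `E ⟶ ℋom(ℋom(E, ω), ω)`. -/
def bidualW (E : X.Modules) : E ⟶ (ihom ((ihom E).obj ω)).obj ω :=
  (ihomAdj ((ihom E).obj ω)).homEquiv _ _
    ((M2.tensorComm E ((ihom E).obj ω)).hom ≫ (ihomAdj E).counit.app ω)

theorem bidualW_natural {E E' : X.Modules} (f : E ⟶ E') :
    f ≫ bidualW ω E' = bidualW ω E ≫ ihomMap (ihomMap f ω) ω := by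
  rw [bidualW, bidualW, comp_ihomMap, Equiv.symm_apply_apply, ← Adjunction.homEquiv_naturality_left]
  congr 1
  have h0 : ∀ {A B : X.Modules} (g : A ⟶ B) (W : X.Modules), ((TX X).obj W).map g = M2.tensorMap (𝟙 W) g :=
    fun g W => RHom.map_eq_tensorMap_right W g
  have h1 : (tenR ((ihom E').obj ω)).map f = M2.tensorMap f (𝟙 ((ihom E').obj ω)) :=
    RHom.map_eq_tensorMap_left f _
  rw [h1, h0, reassoc_of% (M2.tensorComm_natural f (𝟙 ((ihom E').obj ω))),
    reassoc_of% (M2.tensorComm_natural (𝟙 E) (ihomMap f ω))]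
  refine congrArg _ ?_
  have h2 : (tenR E).map (ihomMap f ω) = M2.tensorMap (ihomMap f ω) (𝟙 E) := RHom.map_eq_tensorMap_left _ _
  rw [← h0 f ((ihom E').obj ω), ← h2]
  have h3 := (ihomAdj E).homEquiv_counit (X := (ihom E').obj ω) (Y := ω) (g := ihomMap f ω)
  exact (Equiv.symm_apply_apply ((ihomAdj E).homEquiv ((ihom E').obj ω) ω) _).symm.trans h3

variable {x : X} (E : X.Modules) [ModSite.HasSheafHom (O := X.sheaf) E]

set_option maxHeartbeats 1600000 in
/-- Evaluation on stalks. -/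
theorem evLin_bidualW (a : ModSite.stalkMod (O := X.sheaf) (pt x) E)
    (φ : ModSite.stalkMod (O := X.sheaf) (pt x) ((ihom E).obj ω)) :
    haveI : ModSite.HasSheafHom (O := X.sheaf) ((ihom E).obj ω) := isLeftAdjoint_tenR _
    SH.evLin (O := X.sheaf) (M := (ihom E).obj ω) (N := ω) (x := x) ((stFun x).map (bidualW ω E) a) φ =
      SH.evLin (O := X.sheaf) (M := E) (N := ω) (x := x) φ a := by
  haveI : ModSite.HasSheafHom (O := X.sheaf) ((ihom E).obj ω) := isLeftAdjoint_tenR _
  obtain ⟨U₁, h₁, m, rfl⟩ := SH.exists_rep (O := X.sheaf) (F := E) a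
  obtain ⟨U₂, h₂, f, rfl⟩ := SH.exists_rep (O := X.sheaf) (F := (ihom E).obj ω) φ
  have hx : x ∈ U₁ ⊓ U₂ := ⟨h₁, h₂⟩
  have e1 := (SH.germ_res (O := X.sheaf) (F := E) (homOfLE inf_le_left : U₁ ⊓ U₂ ⟶ U₁) hx h₁ m).symm
  have e2 := (SH.germ_res (O := X.sheaf) (F := (ihom E).obj ω) (homOfLE inf_le_right : U₁ ⊓ U₂ ⟶ U₂) hx h₂ f).symm
  generalize ModSite.germ (ModFlat16.pt x) (O := X.sheaf) E U₁ (ModFlat16.mk h₁) m = a at e1 ⊢
  generalize ModSite.germ (ModFlat16.pt x) (O := X.sheaf) ((ihom E).obj ω) U₂ (ModFlat16.mk h₂) f = φ at e2 ⊢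
  subst e1 e2
  generalize ModFlat16.smap (O := X.sheaf) E _ m = m'
  generalize ModFlat16.smap (O := X.sheaf) ((ihom E).obj ω) _ f = f'
  refine Eq.trans ?_ (SH.ev_germ (O := X.sheaf) (M := E) (N := ω) hx f' m').symm
  refine (congrArg (fun z => SH.evLin (O := X.sheaf) (M := (ihom E).obj ω) (N := ω) (x := x) z _)
    (ModFlat16.stalkMap_germ (O := X.sheaf) (bidualW ω E) x (nb x hx) m')).trans ?_
  refine (SH.ev_germ (O := X.sheaf) (M := (ihom E).obj ω) (N := ω) hx _ f').trans (congrArg _ ?_)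
  refine (FinPres16.hval_homEquiv (O := X.sheaf)
    ((M2.tensorComm E ((ihom E).obj ω)).hom ≫ (ihomAdj E).counit.app ω) m' f').trans ?_
  show ((ihomAdj E).counit.app ω).app _
    ((M2.tensorComm E ((ihom E).obj ω)).hom.app _ (M2.tsec E ((ihom E).obj ω) m' f')) = _
  rw [tensorComm_tsec']
  rfl

variable {E}

theorem bijective_bidualW [IsLocallyNoetherian X] (hω : PicF.IsInvertible ω) (hE : FlatMod.IsFinLocFree E) :
    Function.Bijective ((stFun x).map (bidualW ω E)).hom := by
  classical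
  haveI : ModSite.HasSheafHom (O := X.sheaf) ((ihom E).obj ω) := isLeftAdjoint_tenR _
  haveI : SheafOfModules.IsFinitePresentation (R := ModSite.ringSh X.sheaf) E := M1.isFP_of_isFinLocFree hE
  haveI : SheafOfModules.IsFinitePresentation (R := ModSite.ringSh X.sheaf) ((ihom E).obj ω) :=
    M1.isFP_of_isCoh (homCoh_of_isCoh ((⟨M1.isFP_isQCoh (M1.isFP_of_isFinLocFree hE), M1.isFP_isFT (M1.isFP_of_isFinLocFree hE)⟩ : Coh.IsCoh E)) ω
      (show Coh.IsCoh ω from ⟨M1.isFP_isQCoh (M1.isFP_of_isFinLocFree (M2.isFinLocFree_of_isInvertible hω)), M1.isFP_isFT (M1.isFP_of_isFinLocFree (M2.isFinLocFree_of_isInvertible hω))⟩))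
  obtain ⟨g₀, hg₀⟩ := Cyc26.exists_gen hω x
  let g := modCmp x ω g₀
  have hone : ∀ c : ModSite.stalkMod (O := X.sheaf) (pt x) ω, ∃ r, c = r • g := fun c => by
    obtain ⟨r, hr⟩ := hg₀.2 ((modCmp x ω).symm c)
    exact ⟨ringCmp x r, by rw [← modCmp_smul, show r • g₀ = _ from hr, AddEquiv.apply_symm_apply]⟩
  have hinj : ∀ r s : ModSite.stalkRing (pt x) X.sheaf, r • g = s • g → r = s := fun r s h => by
    refine (ringCmp x).symm.injective (hg₀.1 ((modCmp x ω).injective ?_))
    show modCmp x ω ((ringCmp x).symm r • g₀) = modCmp x ω ((ringCmp x).symm s • g₀)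
    rw [modCmp_smul, modCmp_smul, RingEquiv.apply_symm_apply, RingEquiv.apply_symm_apply]
    exact h
  obtain ⟨_, _⟩ := free_stalkMod (x := x) hE
  let b := Module.Free.chooseBasis (ModSite.stalkRing (pt x) X.sheaf) (ModSite.stalkMod (O := X.sheaf) (pt x) E)
  let ev₀ := SH.evLin (O := X.sheaf) (M := E) (N := ω) (x := x)
  let ev₁ := SH.evLin (O := X.sheaf) (M := (ihom E).obj ω) (N := ω) (x := x)
  choose φ hφ using fun i => SH.evLin_surjective (O := X.sheaf) (M := E) (N := ω) (x := x)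
    ((b.coord i).smulRight g)
  have hspan : ∀ ψ, ∀ z, ev₀ ψ z = ∑ i, b.coord i z • ev₀ ψ (b i) := fun ψ z => by
    conv_lhs => rw [← b.sum_repr z]
    rw [map_sum]
    simp only [map_smul, Module.Basis.coord_apply]
  refine ⟨(injective_iff_map_eq_zero _).2 fun z hz => ?_, fun w => ?_⟩
  · have h0 : ∀ i, b.coord i z = 0 := fun i => by
      have h := evLin_bidualW ω E z (φ i)
      rw [hz, map_zero, LinearMap.zero_apply] at h
      have h' : ev₀ (φ i) z = b.coord i z • g := LinearMap.congr_fun (hφ i) z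
      exact hinj _ _ ((h'.symm.trans h.symm).trans (zero_smul _ g).symm)
    rw [← b.sum_repr z]
    exact Finset.sum_eq_zero fun i _ => by rw [← Module.Basis.coord_apply, h0 i, zero_smul]
  · choose r hr using fun i => hone (ev₁ w (φ i))
    refine ⟨∑ i, r i • b i, SH.evLin_injective (O := X.sheaf) (M := (ihom E).obj ω) (N := ω) ?_⟩
    refine LinearMap.ext fun ψ => (evLin_bidualW ω E _ ψ).trans ?_
    choose s hs using fun i => hone (ev₀ ψ (b i))
    have hψ : ψ = ∑ i, s i • φ i := SH.evLin_injective (O := X.sheaf) (M := E) (N := ω)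
      (LinearMap.ext fun z => (hspan ψ z).trans (by
        rw [map_sum, LinearMap.sum_apply]
        refine Finset.sum_congr rfl fun i _ => ?_
        rw [map_smul, LinearMap.smul_apply,
          show SH.evLin (φ i) z = b.coord i z • g from LinearMap.congr_fun (hφ i) z, hs i, smul_comm]))
    rw [map_sum (ev₀ ψ)]
    conv_rhs => rw [hψ, map_sum]
    refine Finset.sum_congr rfl fun i _ => ?_
    rw [map_smul, map_smul, hs i, hr i, smul_comm]

/-- Biduality. -/
theorem isIso_bidualW [IsLocallyNoetherian X] (hω : PicF.IsInvertible ω) (hE : FlatMod.IsFinLocFree E) :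
    IsIso (bidualW ω E) := by
  refine (M1.isIso_iff_stalk _).2 fun y => ?_
  have hcomm : ∀ z, modCmp y _ ((M1.stalkAb y).map (bidualW ω E) z) =
      (stFun y).map (bidualW ω E) (modCmp y _ z) := fun z => by
    obtain ⟨U, hU, s, rfl⟩ := TopCat.Presheaf.exists_germ_eq E.presheaf z
    rw [modCmp_germ]
    refine Eq.trans (congrArg (modCmp y _) ?_) ((modCmp_germ y _ hU _).trans
      (ModFlat16.stalkMap_germ (O := X.sheaf) (bidualW ω E) y (nb y hU) s).symm)
    exact TopCat.Presheaf.stalkFunctor_map_germ_apply U y hU ((Scheme.Modules.toPresheaf X).map (bidualW ω E)) s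
  have hb := bijective_bidualW ω (x := y) hω hE
  refine ⟨fun a b h => (modCmp y _).injective (hb.1 ?_), fun w => ?_⟩
  · rw [← hcomm, ← hcomm, h]
  · obtain ⟨z, hz⟩ := hb.2 (modCmp y _ w)
    obtain ⟨z, rfl⟩ := (modCmp y _).surjective z
    exact ⟨z, (modCmp y _).injective ((hcomm z).trans hz)⟩

end Groth.Agent.BC8.BidualW
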