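import Groth.Agent.Lib.DMon9.Pull
import Groth.Agent.Lib.CohMop.HomCoh
import Groth.Agent.Lib.CohMop.DualTensor
import Groth.Agent.Lib.CohMop.TensorDerived
import Groth.Agent.Lib.EnriquesSeveri11.DualSeq
import Groth.Agent.S1690

/-! Double duals through a big open subset. -/

set_option autoImplicit false
set_option linter.style.haveILetI false
set_option linter.unusedSectionVars false
set_option backward.isDefEq.respectTransparency false
set_option backward.isDefEq.respectTransparency.types false
set_option maxHeartbeats 800000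

universe u

open CategoryTheory CategoryTheory.Limits AlgebraicGeometry MonoidalCategory

noncomputable section

namespace Groth.Agent.BC8

open DMon9

variable {X U : Scheme.{u}} (j : U ⟶ X)

/-- `Hom(N, j_*M) ≅ j_* Hom(j^*N, M)`. -/
theorem nonempty_ihom_push (N : X.Modules) (M : U.Modules) :
    Nonempty ((CohMop.ihom N).obj ((Scheme.Modules.pushforward j).obj M) ≅
      (Scheme.Modules.pushforward j).obj ((CohMop.ihom ((Scheme.Modules.pullback j).obj N)).obj M)) := by
  letI := (DMon9.pullCore j).toMonoidal
  let c := Functor.Monoidal.commTensorRight (Scheme.Modules.pullback j) N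
  let A1 := (Scheme.Modules.pullbackPushforwardAdjunction j).comp
    (CohMop.ihomAdj ((Scheme.Modules.pullback j).obj N))
  let A2 := (CohMop.ihomAdj N).comp (Scheme.Modules.pullbackPushforwardAdjunction j)
  let c' : Scheme.Modules.pullback j ⋙ CohMop.tenR ((Scheme.Modules.pullback j).obj N) ≅
      CohMop.tenR N ⋙ Scheme.Modules.pullback j := (c :)
  exact ⟨(A2.rightAdjointUniq (A1.ofNatIsoLeft c')).app M⟩

/-- The dual over a module extended from an open. -/
theorem nonempty_dual_push (N : X.Modules) (M : U.Modules)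
    (eO : Coh.structureModule X ≅ (Scheme.Modules.pushforward j).obj M) :
    Nonempty (CohMop.dual N ≅
      (Scheme.Modules.pushforward j).obj ((CohMop.ihom ((Scheme.Modules.pullback j).obj N)).obj M)) := by
  obtain ⟨e⟩ := nonempty_ihom_push j N M
  exact ⟨(CohMop.ihom N).mapIso eO ≪≫ e⟩

/-- The double dual of a module invertible on a big open. -/
theorem nonempty_bidual_push [IsOpenImmersion j] (W : X.Modules)
    (hW : PicF.IsInvertible ((Scheme.Modules.pullback j).obj W))
    (eO : Coh.structureModule X ≅ (Scheme.Modules.pushforward j).obj (Coh.structureModule U)) :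
    Nonempty (CohMop.dual (CohMop.dual W) ≅
      (Scheme.Modules.pushforward j).obj ((Scheme.Modules.pullback j).obj W)) := by
  let W' := (Scheme.Modules.pullback j).obj W
  obtain ⟨e₁⟩ := nonempty_dual_push j W _ eO
  obtain ⟨e₂⟩ := nonempty_dual_push j (CohMop.dual W) _ eO
  haveI : IsIso (Scheme.Modules.pullbackPushforwardAdjunction j).counit :=
    (Scheme.Modules.pullbackPushforwardAdjunction j).isIso_counit_of_iso
      ((asIso (Scheme.Modules.restrictAdjunction j).counit) |> fun e =>
        Functor.isoWhiskerLeft _ (Scheme.Modules.restrictFunctorIsoPullback j).symm ≪≫ e)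
  let e₃ : (Scheme.Modules.pullback j).obj (CohMop.dual W) ≅ CohMop.dual W' :=
    (Scheme.Modules.pullback j).mapIso e₁ ≪≫
      (asIso (Scheme.Modules.pullbackPushforwardAdjunction j).counit).app _
  obtain ⟨D, hD, ⟨i⟩⟩ := M2.exists_inverse hW
  obtain ⟨d₁⟩ := ES11.nonempty_dual_iso_of_inverse hW i
  obtain ⟨d₂⟩ := ES11.nonempty_dual_iso_of_inverse hD (M2.tensorComm D W' ≪≫ i)
  exact ⟨e₂ ≪≫ (Scheme.Modules.pushforward j).mapIso
    ((CohMop.ihomIso (e₃ ≪≫ d₁)).app _ ≪≫ d₂)⟩

/-- Reflexive modules on a normal scheme extend from big opens. -/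
theorem nonempty_iso_push_restrict [IsIntegral X] [IsLocallyNoetherian X] (hX : Pi1.IsNormalScheme X) (U : X.Opens)
    (hU : ∀ x : X, x ∉ U → (2 : WithBot ℕ∞) ≤ ringKrullDim (X.presheaf.stalk x))
    (F : X.Modules) (hF : Coh.IsCoh F) (hr : ∀ x : X, Module.IsReflexive (X.presheaf.stalk x) (F.presheaf.stalk x)) :
    Nonempty (F ≅ (Scheme.Modules.pushforward U.ι).obj ((Scheme.Modules.pullback U.ι).obj F)) := by
  haveI := RH26.isIso_unit_of_closed1
    ((RH26.isReflexive_iff_closed1 hX hF).1 ((RH26.isReflexive_iff_stalks hF).2 hr)) U hU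
  exact ⟨asIso ((Scheme.Modules.restrictAdjunction U.ι).unit.app F) ≪≫
    (Scheme.Modules.pushforward U.ι).mapIso ((Scheme.Modules.restrictFunctorIsoPullback U.ι).app F)⟩

end Groth.Agent.BC8
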