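import Groth.Agent.Lib.ExtRegular
import Groth.Agent.Lib.Depth.HomDepth
import Groth.Agent.Lib.Depth.CM
import Groth.Agent.Lib.Depth.More
import Groth.Agent.Lib.FlatDepth.GenericDepth
import Groth.Agent.Lib.Goren.CMHeight27
import Groth.Agent.Lib.KoszShH13.TReg

/-! `Ext` into a Cohen–Macaulay ring: vanishing below the codimension and `(S₂)` in the first degree. -/

set_option autoImplicit false
set_option linter.unusedSectionVars false
set_option backward.isDefEq.respectTransparency false

universe u

open CategoryTheory Abelian RingTheory.Sequence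
open scoped Pointwise

noncomputable section

namespace Groth.Agent.BC8

variable {L : Type u} [CommRing L]

/-- Quotients by weakly regular sequences are Cohen–Macaulay or zero at every prime. -/
theorem cmOrZero_quot [IsNoetherianRing L] : ∀ (rs : List L) (N : Type u) [AddCommGroup N] [Module L N]
    [Module.Finite L N], IsWeaklyRegular N rs →
    (∀ (p : Ideal L) [p.IsPrime], Subsingleton (LocalizedModule p.primeCompl N) ∨
      LocCoh.IsCohenMacaulayModule (Localization.AtPrime p) (LocalizedModule p.primeCompl N)) →
    ∀ (p : Ideal L) [p.IsPrime], Subsingleton (LocalizedModule p.primeCompl (N ⧸ (Ideal.ofList rs • ⊤ : Submodule L N))) ∨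
      LocCoh.IsCohenMacaulayModule (Localization.AtPrime p)
        (LocalizedModule p.primeCompl (N ⧸ (Ideal.ofList rs • ⊤ : Submodule L N))) := by
  intro rs
  induction rs with
  | nil =>
    intro N _ _ _ _ h p _
    let e : LocalizedModule p.primeCompl (N ⧸ (Ideal.ofList ([] : List L) • ⊤ : Submodule L N))
        ≃ₗ[Localization.AtPrime p] LocalizedModule p.primeCompl N :=
      IsLocalizedModule.mapEquiv p.primeCompl (LocalizedModule.mkLinearMap p.primeCompl _)
        (LocalizedModule.mkLinearMap p.primeCompl _) (Localization.AtPrime p)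
        (Submodule.quotEquivOfEqBot _ (by rw [Ideal.ofList_nil, Submodule.bot_smul]))
    rcases h p with h' | h'
    · exact Or.inl e.toEquiv.subsingleton
    · exact Or.inr (KoszShH13.isCohenMacaulayModule_congr e.symm h')
  | cons x rest ih =>
    intro N _ _ _ hreg h p _
    obtain ⟨hx, hrest⟩ := (isWeaklyRegular_cons_iff N x rest).1 hreg
    have h1 : ∀ (q : Ideal L) [q.IsPrime], Subsingleton (LocalizedModule q.primeCompl (QuotSMulTop x N)) ∨
        LocCoh.IsCohenMacaulayModule (Localization.AtPrime q) (LocalizedModule q.primeCompl (QuotSMulTop x N)) := by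
      intro q _
      let e := FlatDepth.quotSMulTopAtEquiv q (M := N) x
      rcases h q with h' | h'
      · exact Or.inl (e.toEquiv.subsingleton)
      by_cases hxq : x ∈ q
      · have hreg' : IsSMulRegular (LocalizedModule q.primeCompl N) (algebraMap L (Localization.AtPrime q) x) :=
          FlatDepth.isSMulRegular_at q (g := 1) (fun m hm => by
            rw [one_smul]; exact hx (hm.trans (smul_zero x).symm)) ((Ideal.ne_top_iff_one _).1 ‹q.IsPrime›.ne_top)
        haveI : Module.Finite (Localization.AtPrime q) (LocalizedModule q.primeCompl N) :=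
          Module.Finite.of_isLocalizedModule q.primeCompl (LocalizedModule.mkLinearMap q.primeCompl N)
        exact Or.inr (KoszShH13.isCohenMacaulayModule_congr e.symm
          ((DepthLib.isCohenMacaulayModule_quotSMulTop_iff
            (Localization.AtPrime.map_eq_maximalIdeal (I := q) ▸ Ideal.mem_map_of_mem _ hxq) hreg').2 h'))
      · refine Or.inl ?_
        have hu : IsUnit (algebraMap L (Localization.AtPrime q) x) :=
          IsLocalization.map_units _ (⟨x, hxq⟩ : q.primeCompl)
        haveI : Subsingleton (QuotSMulTop (algebraMap L (Localization.AtPrime q) x) (LocalizedModule q.primeCompl N)) := by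
          refine Submodule.Quotient.subsingleton_iff.2 (eq_top_iff.2 fun m _ => ?_)
          obtain ⟨u, hu'⟩ := hu
          exact (Submodule.mem_smul_pointwise_iff_exists _ _ _).2 ⟨(↑u⁻¹ : Localization.AtPrime q) • m,
            Submodule.mem_top, by rw [← hu', smul_smul, Units.mul_inv, one_smul]⟩
        exact e.toEquiv.subsingleton
    let e : LocalizedModule p.primeCompl (N ⧸ (Ideal.ofList (x :: rest) • ⊤ : Submodule L N))
        ≃ₗ[Localization.AtPrime p] LocalizedModule p.primeCompl
          (QuotSMulTop x N ⧸ (Ideal.ofList rest • ⊤ : Submodule L (QuotSMulTop x N))) :=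
      IsLocalizedModule.mapEquiv p.primeCompl (LocalizedModule.mkLinearMap p.primeCompl _)
        (LocalizedModule.mkLinearMap p.primeCompl _) (Localization.AtPrime p)
        (Submodule.quotOfListConsSMulTopEquivQuotSMulTopInner N x rest)
    rcases ih (QuotSMulTop x N) hrest h1 p with h' | h'
    · exact Or.inl e.toEquiv.subsingleton
    · exact Or.inr (KoszShH13.isCohenMacaulayModule_congr e.symm h')

/-- Cohen–Macaulay modules satisfy every Serre condition. -/
theorem hasSk_of_cmOrZero (k : ℕ) (N : Type u) [AddCommGroup N] [Module L N]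
    (h : ∀ (p : Ideal L) [p.IsPrime], Subsingleton (LocalizedModule p.primeCompl N) ∨
      LocCoh.IsCohenMacaulayModule (Localization.AtPrime p) (LocalizedModule p.primeCompl N)) :
    LocCoh.HasSk k L N := fun p _ => by
  rcases h p with h' | h'
  · rw [Module.supportDim_eq_bot_of_subsingleton]
    simp
  · exact (min_le_right _ _).trans h'.le

variable [LocCoh.IsCohenMacaulayRing L]

/-- In a Cohen–Macaulay ring the depth along an ideal is bounded below by the heights of the primes containing it. -/
theorem natCast_le_idealDepth_of_height (J : Ideal L) (c : ℕ)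
    (h : ∀ (P : Ideal L) [P.IsPrime], J ≤ P → (c : ℕ∞) ≤ P.height) : (c : ℕ∞) ≤ LocCoh.idealDepth J L := by
  refine (DepthLib.natCast_le_idealDepth_iff_forall_localized (M := L) c).2 fun P hJP => ?_
  rw [DepthLib.depth_localizedModule_self]
  haveI := LocCoh.IsCohenMacaulayRing.isCohenMacaulayLocalRing_localization (R := L) P.asIdeal
  have hP := h P.asIdeal hJP
  have e : ((LocCoh.depth (Localization.AtPrime P.asIdeal) (Localization.AtPrime P.asIdeal) : ℕ∞) : WithBot ℕ∞) =
      (P.asIdeal.height : WithBot ℕ∞) := by
    rw [← LocCoh.IsCohenMacaulayLocalRing.supportDim_eq_depth, Module.supportDim_self_eq_ringKrullDim]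
    exact IsLocalization.AtPrime.ringKrullDim_eq_height P.asIdeal _
  exact hP.trans (WithBot.coe_le_coe.1 e.ge)

/-- `Ext` into a Cohen–Macaulay ring. -/
theorem ext_into_cm (N : Type u) [AddCommGroup N] [Module L N] [Module.Finite L N] (c : ℕ)
    (h : ∀ (P : Ideal L) [P.IsPrime], Module.annihilator L N ≤ P → (c : ℕ∞) ≤ P.height) :
    (∀ j < c, Subsingleton (Ext.{u} (ModuleCat.of L N) (ModuleCat.of L L) j)) ∧
      LocCoh.HasSk 2 L (Ext.{u} (ModuleCat.of L N) (ModuleCat.of L L) c) := by
  let J := Module.annihilator L N
  obtain ⟨rs, hrs, hmem, hlen⟩ : ∃ rs : List L, IsWeaklyRegular L rs ∧ (∀ r ∈ rs, r ∈ J) ∧ rs.length = c := by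
    by_cases hJ : J • (⊤ : Submodule L L) = ⊤
    · rw [smul_eq_mul, Ideal.mul_top] at hJ
      refine ⟨List.replicate c 1, ?_, fun r hr => by rw [List.eq_of_mem_replicate hr, hJ]; trivial, List.length_replicate ..⟩
      refine (isWeaklyRegular_iff _ _).2 fun i hi => ?_
      have : (List.replicate c (1 : L))[i] = 1 := List.getElem_replicate ..
      rw [this]
      exact IsSMulRegular.one _
    · exact DepthLib.exists_isWeaklyRegular_of_le_idealDepth hJ (natCast_le_idealDepth_of_height J c h)
  obtain ⟨⟨e⟩, hvan⟩ := ExtRegular.ext_of_regular_killed N rs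
    (fun r hr n => Module.mem_annihilator.1 (hmem r hr) n) L hrs
  refine ⟨fun j hj => hvan j (hlen ▸ hj), ?_⟩
  rw [← hlen]
  have hcm : ∀ (p : Ideal L) [p.IsPrime], Subsingleton (LocalizedModule p.primeCompl L) ∨
      LocCoh.IsCohenMacaulayModule (Localization.AtPrime p) (LocalizedModule p.primeCompl L) := fun p _ => by
    haveI := LocCoh.IsCohenMacaulayRing.isCohenMacaulayLocalRing_localization (R := L) p
    exact Or.inr (KoszShH13.isCohenMacaulayModule_congr
      ((IsLocalizedModule.iso p.primeCompl (Algebra.linearMap L (Localization.AtPrime p))).extendScalarsOfIsLocalization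
        p.primeCompl (Localization.AtPrime p)).symm LocCoh.IsCohenMacaulayLocalRing.supportDim_eq_depth)
  haveI : Module.Finite L (Ext.{u} (ModuleCat.of L N) (ModuleCat.of L L) rs.length) :=
    Module.Finite.equiv e.symm
  exact DepthLib.hasSk_congr e.symm (DepthLib.hasSk_two_linearMap (hasSk_of_cmOrZero 2 _ (cmOrZero_quot rs L hrs hcm)))

end Groth.Agent.BC8
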