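import Groth.Agent.Lib.BC8.CompShriek
import Groth.Agent.S1515
import Groth.Agent.S4267

/-!
The twisted inverse image of a smooth morphism through its diagonal.
-/

set_option autoImplicit false
set_option linter.unusedSectionVars false
set_option linter.style.haveILetI false
set_option backward.isDefEq.respectTransparency false
set_option backward.isDefEq.respectTransparency.types false
set_option maxHeartbeats 800000

universe u

open CategoryTheory CategoryTheory.Limits AlgebraicGeometry MonoidalCategory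

attribute [local instance] HasDerivedCategory.standard

namespace Groth.Agent.BC8

open DMon9

/-- The right adjoint of a perfect proper direct image preserves coproducts. -/
theorem hcop_of_perfectMor {A B : Scheme.{u}} [IsNoetherian A] [IsNoetherian B] (k : A ⟶ B) [IsProper k]
    (hperf : MoreMor.IsPerfectMor k) [DCoh.HasRpush k] {hk : DCoh.RpushPreservesQCoh k}
    {a : DCoh.DQCoh B ⥤ DCoh.DQCoh A} (adj : DCoh.RpushQ k hk ⊣ a) (J : Type u) :
    PreservesColimitsOfShape (Discrete J) a :=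
  Dual8.preservesCoproducts adj (fun P hP => by
    obtain ⟨b, hb⟩ := DPerf.exists_isGE_of_perfect hP
    haveI := hb
    exact S4267.result k hperf P b hP) J

/-- The direct image along the identity, with the identity as right adjoint. -/
noncomputable def adjId (X : Scheme.{u}) [DCoh.HasRpush (𝟙 X)] (h : DCoh.RpushPreservesQCoh (𝟙 X)) :
    DCoh.RpushQ (𝟙 X) h ⊣ 𝟭 (DCoh.DQCoh X) :=
  Adjunction.id.ofNatIsoLeft
    (NatIso.ofComponents (fun A => ObjectProperty.isoMk _ ((DBC9.rpushId X).app A.obj))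
      (fun v => ObjectProperty.hom_ext _ ((DBC9.rpushId X).hom.naturality v.hom)) :
        DCoh.RpushQ (𝟙 X) h ≅ 𝟭 (DCoh.DQCoh X)).symm

variable {U Y Xb : Scheme.{u}} [IsNoetherian Y] (f : U ⟶ Y) [Smooth f] [IsSeparated f] [QuasiCompact f]
  (p : Xb ⟶ Y) [IsProper p]
  (j : U ⟶ Xb) [IsOpenImmersion j] (hfac : j ≫ p = f) [DCoh.HasRpush p] {hp : DCoh.RpushPreservesQCoh p}
  {a : DCoh.DQCoh Y ⥤ DCoh.DQCoh Xb} (adj : DCoh.RpushQ p hp ⊣ a)

include hfac adj in
/-- `Lf^*K ≅ f^!K ⊗ Δ^!O` on bounded below objects. -/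
theorem nonempty_shriek_diag [DCoh.HasRpush (pullback.diagonal f)]
    {hΔ : DCoh.RpushPreservesQCoh (pullback.diagonal f)}
    {aΔ : DCoh.DQCoh (pullback f f) ⥤ DCoh.DQCoh U} (adjΔ : DCoh.RpushQ (pullback.diagonal f) hΔ ⊣ aΔ)
    (O : DCoh.DQCoh (pullback f f)) (eO : (O.obj : DM (pullback f f)) ≅ 𝟙_ (DM (pullback f f))) :
    Nonempty (Dual3.bddι Y ⋙ ObjectProperty.ι _ ⋙ lP f ≅
      Dual3.bddι Y ⋙ a ⋙ ObjectProperty.ι _ ⋙ lP j ⋙ tenL (aΔ.obj O).obj) := by
  haveI : CompactSpace Xb := QuasiCompact.compactSpace_of_compactSpace p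
  haveI : QuasiSeparatedSpace Xb := quasiSeparatedSpace_of_quasiSeparated p
  haveI : IsLocallyNoetherian U := LocallyOfFiniteType.isLocallyNoetherian f
  haveI : CompactSpace U := QuasiCompact.compactSpace_of_compactSpace f
  haveI : IsNoetherian U := { }
  haveI : IsLocallyNoetherian (pullback f f) := LocallyOfFiniteType.isLocallyNoetherian (pullback.fst f f ≫ f)
  haveI : CompactSpace (pullback f f : Scheme.{u}) := QuasiCompact.compactSpace_of_compactSpace (pullback.fst f f ≫ f)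
  haveI : IsNoetherian (pullback f f) := { }
  let pr1 := pullback.fst f f
  let pr2 := pullback.snd f f
  let W := pullback p f
  let pW : W ⟶ U := pullback.snd p f
  have hsq : IsPullback pr1 pr2 f f := IsPullback.of_hasPullback f f
  let j' : pullback f f ⟶ W := pullback.lift (pr1 ≫ j) pr2 (by rw [Category.assoc, hfac, hsq.w])
  have hj2 : j' ≫ pW = pr2 := pullback.lift_snd _ _ _
  have hsqs : IsPullback pr1 j' j (pullback.fst p f) :=
    IsPullback.of_bot (by rw [show j' ≫ pullback.snd p f = pr2 from hj2, hfac]; exact hsq)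
      (pullback.lift_fst _ _ _).symm (IsPullback.of_hasPullback p f)
  haveI : IsOpenImmersion j' := MorphismProperty.of_isPullback hsqs (inferInstance : IsOpenImmersion j)
  haveI : CompactSpace W := QuasiCompact.compactSpace_of_compactSpace pW
  haveI : QuasiSeparatedSpace W := quasiSeparatedSpace_of_quasiSeparated pW
  haveI := DBC9.hasRpush pW
  haveI := DBC9.hasRpush (𝟙 U)
  let hW := rpushPreserves pW
  let h1 := rpushPreserves (𝟙 U)
  haveI := isLeftAdjoint_rpushQ pW hW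
  let adjW := Adjunction.ofIsLeftAdjoint (DCoh.RpushQ pW hW)
  let aW := (DCoh.RpushQ pW hW).rightAdjoint
  obtain ⟨n₁⟩ := nonempty_shriek_flat hsq hfac adj hj2 adjW
  obtain ⟨n₂⟩ := nonempty_shriek_comp (jf := 𝟙 U) (pf := pullback.diagonal f) (f := pullback.diagonal f)
    (g := pr2) (jg := j') (pg := pW) (jgf := 𝟙 U) (pgf := 𝟙 U) (Category.id_comp _) hj2
    (by rw [pullback.diagonal_snd, Category.id_comp]) adjΔ adjW (adjId U h1)
  obtain ⟨φ⟩ := Dual8.nonempty_formula adjΔ O eO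
    (hcop_of_perfectMor _ ((S1515.result f).2.1 inferInstance).2 adjΔ)
  let n₁' : Dual3.bddι Y ⋙ a ⋙ lq j ⋙ lq pr1 ≅ Dual3.bddι Y ⋙ lq f ⋙ aW ⋙ lq j' :=
    NatIso.ofComponents (fun K => ObjectProperty.isoMk _ (n₁.app K))
      (fun v => ObjectProperty.hom_ext _ (n₁.hom.naturality v))
  let htd := hasFiniteTorDim_of_flat f
  exact ⟨(Functor.isoWhiskerLeft (lqPlus f htd ⋙ Dual3.bddι U ⋙ ObjectProperty.ι _) (DBC9.lPId U)).symm ≪≫
    Functor.isoWhiskerLeft (lqPlus f htd) n₂ ≪≫
    Functor.isoWhiskerRight n₁'.symm (aΔ ⋙ ObjectProperty.ι _ ⋙ lP (𝟙 U)) ≪≫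
    Functor.isoWhiskerLeft (Dual3.bddι Y ⋙ a ⋙ lq j ⋙ lq pr1 ⋙ aΔ ⋙ ObjectProperty.ι _) (DBC9.lPId U) ≪≫
    Functor.isoWhiskerLeft (Dual3.bddι Y ⋙ a ⋙ lq j ⋙ lq pr1) φ.symm ≪≫
    Functor.isoWhiskerLeft (Dual3.bddι Y ⋙ a ⋙ ObjectProperty.ι _ ⋙ lP j)
      (Functor.isoWhiskerRight (lPComp (pullback.diagonal f) pr1 (pullback.diagonal_fst f) ≪≫ DBC9.lPId U)
        (tenL (aΔ.obj O).obj))⟩

end Groth.Agent.BC8
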