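import Groth.Agent.Lib.BC8.LciInvert
import Groth.Agent.Lib.BC8.SmoothDiag

/-! Locally the twisted inverse image is a shifted smooth pullback followed by the right adjoint along a
closed immersion. -/

set_option autoImplicit false
set_option linter.style.haveILetI false
set_option linter.unusedSectionVars false
set_option backward.isDefEq.respectTransparency false
set_option backward.isDefEq.respectTransparency.types false

universe u

open CategoryTheory CategoryTheory.Limits AlgebraicGeometry MonoidalCategory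

attribute [local instance] HasDerivedCategory.standard

namespace Groth.Agent.BC8

open DMon9

/-- A natural isomorphism after forgetting quasi-coherence, lifted. -/
noncomputable def liftQ {C : Type*} [Category C] {X : Scheme.{u}} {F G : C ⥤ DCoh.DQCoh X}
    (n : F ⋙ ObjectProperty.ι _ ≅ G ⋙ ObjectProperty.ι _) : F ≅ G :=
  NatIso.ofComponents (fun K => ObjectProperty.isoMk _ (n.app K))
    (fun v => ObjectProperty.hom_ext _ (n.hom.naturality v))

/-- On an open where `Δ^!O` is a shift of `O`, smooth twisted inverse images are shifted pullbacks. -/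
theorem nonempty_smooth_open {U Y Xb : Scheme.{u}} [IsNoetherian Y] (h : U ⟶ Y) [Smooth h] [IsSeparated h]
    [QuasiCompact h] (p : Xb ⟶ Y) [IsProper p] (j : U ⟶ Xb) [IsOpenImmersion j] (hfac : j ≫ p = h)
    [DCoh.HasRpush p] {hp : DCoh.RpushPreservesQCoh p} {a : DCoh.DQCoh Y ⥤ DCoh.DQCoh Xb}
    (adj : DCoh.RpushQ p hp ⊣ a) (y : U) :
    ∃ (W : U.Opens) (d : ℤ), y ∈ W ∧ IsAffineOpen W ∧
      Nonempty (Dual3.bddι Y ⋙ a ⋙ lq (W.ι ≫ j) ≅
        Dual3.bddι Y ⋙ lq (W.ι ≫ h) ⋙ shiftFunctor (DCoh.DQCoh (W : Scheme.{u})) d) := by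
  haveI : IsLocallyNoetherian U := LocallyOfFiniteType.isLocallyNoetherian h
  haveI : CompactSpace U := QuasiCompact.compactSpace_of_compactSpace h
  haveI : IsNoetherian U := { }
  haveI : IsLocallyNoetherian (pullback h h) := LocallyOfFiniteType.isLocallyNoetherian (pullback.fst h h ≫ h)
  haveI : CompactSpace (pullback h h : Scheme.{u}) := QuasiCompact.compactSpace_of_compactSpace (pullback.fst h h ≫ h)
  haveI : IsNoetherian (pullback h h) := { }
  haveI := DBC9.hasRpush (pullback.diagonal h)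
  let hΔ := rpushPreserves (pullback.diagonal h)
  haveI := isLeftAdjoint_rpushQ (pullback.diagonal h) hΔ
  let adjΔ := Adjunction.ofIsLeftAdjoint (DCoh.RpushQ (pullback.diagonal h) hΔ)
  obtain ⟨n⟩ := nonempty_shriek_diag h p j hfac adj adjΔ (oQ _) (unitIso (Iso.refl _))
  let G : DCoh.D U := ((DCoh.RpushQ (pullback.diagonal h) hΔ).rightAdjoint.obj (oQ _)).obj
  have hG : LocShift G := locShift_closed _ ((S1515.result h).1.1 inferInstance).2 adjΔ
  obtain ⟨U₀, i₀, hi₀, m, hy, ⟨c⟩⟩ := hG y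
  obtain ⟨W, hW, hyW, hWU⟩ := exists_isAffineOpen_mem_and_subset (X := U) (x := y) (U := i₀.opensRange) hy
  let k : (W : Scheme.{u}) ⟶ U₀ := IsOpenImmersion.lift i₀ W.ι (by
    rintro _ ⟨z, rfl⟩
    exact hWU z.2)
  have hk : k ≫ i₀ = W.ι := IsOpenImmersion.lift_fac _ _ _
  obtain ⟨l⟩ := TwistBC9.nonempty_lP_oneM k m
  let e : (lP W.ι).obj G ≅ TwistBC9.oneD (W : Scheme.{u}) m :=
    ((lPComp k i₀ hk).app G).symm ≪≫ (lP k).mapIso c ≪≫ l
  obtain ⟨s⟩ := nonempty_tenL_one m _ e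
  let μ : lP W.ι ⋙ tenL ((lP W.ι).obj G) ≅ tenL G ⋙ lP W.ι :=
    Functor.Monoidal.commTensorLeft (dPull W.ι) (G : DM U)
  refine ⟨W, m, hyW, hW, ⟨liftQ ?_⟩⟩
  let t : Dual3.bddι Y ⋙ ObjectProperty.ι _ ⋙ lP (W.ι ≫ h) ≅
      Dual3.bddι Y ⋙ a ⋙ ObjectProperty.ι _ ⋙ lP (W.ι ≫ j) ⋙ shiftFunctor (DCoh.D (W : Scheme.{u})) (-m) :=
    Functor.isoWhiskerLeft (Dual3.bddι Y ⋙ ObjectProperty.ι _) (lPComp W.ι h rfl).symm ≪≫
      Functor.isoWhiskerRight n (lP W.ι) ≪≫
      Functor.isoWhiskerLeft (Dual3.bddι Y ⋙ a ⋙ ObjectProperty.ι _ ⋙ lP j)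
        (μ.symm ≪≫ Functor.isoWhiskerLeft (lP W.ι) s) ≪≫
      Functor.isoWhiskerLeft (Dual3.bddι Y ⋙ a ⋙ ObjectProperty.ι _)
        (Functor.isoWhiskerRight (lPComp W.ι j rfl) (shiftFunctor (DCoh.D (W : Scheme.{u})) (-m)))
  exact Functor.isoWhiskerLeft (Dual3.bddι Y ⋙ a ⋙ ObjectProperty.ι _ ⋙ lP (W.ι ≫ j))
      (shiftFunctorCompIsoId (DCoh.D (W : Scheme.{u})) (-m) m (by omega)).symm ≪≫
    Functor.isoWhiskerRight t.symm (shiftFunctor (DCoh.D (W : Scheme.{u})) m) ≪≫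
    Functor.isoWhiskerLeft (Dual3.bddι Y ⋙ lq (W.ι ≫ h))
      ((ObjectProperty.ι DCoh.IsQCohD).commShiftIso m).symm

variable {X Y Xb : Scheme.{u}} [IsNoetherian Y] (f : X ⟶ Y) [LocallyOfFiniteType f]
  (p : Xb ⟶ Y) [IsProper p] (j : X ⟶ Xb) [IsOpenImmersion j] (hfac : j ≫ p = f) [DCoh.HasRpush p]
  {hp : DCoh.RpushPreservesQCoh p} {a : DCoh.DQCoh Y ⥤ DCoh.DQCoh Xb} (adj : DCoh.RpushQ p hp ⊣ a)

include hfac adj in
/-- Charts for the twisted inverse image. -/
theorem exists_chart (x : X) :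
    ∃ (Z W : Scheme.{u}) (u : Z ⟶ X) (_ : IsOpenImmersion u) (i : Z ⟶ W) (_ : IsClosedImmersion i)
      (g : W ⟶ Y) (_ : Smooth g) (_ : IsAffine W) (_ : IsNoetherian W) (_ : DCoh.HasRpush i)
      (hi : DCoh.RpushPreservesQCoh i) (b : DCoh.DQCoh W ⥤ DCoh.DQCoh Z) (_ : DCoh.RpushQ i hi ⊣ b) (d : ℤ),
      x ∈ Set.range u ∧ i ≫ g = u ≫ f ∧
        Nonempty (Dual3.bddι Y ⋙ a ⋙ ObjectProperty.ι _ ⋙ lP j ⋙ lP u ≅
          Dual3.bddι Y ⋙ lq g ⋙ shiftFunctor (DCoh.DQCoh W) d ⋙ b ⋙ ObjectProperty.ι _) := by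
  obtain ⟨V, hV, hxV, -⟩ := exists_isAffineOpen_mem_and_subset (X := Y) (x := f x) (U := ⊤) trivial
  obtain ⟨U, hU, hxU, e⟩ := exists_isAffineOpen_mem_and_subset (X := X) (x := x) (U := f ⁻¹ᵁ V) hxV
  let A := Γ(Y, V)
  let B := Γ(X, U)
  letI : Algebra A B := (f.appLE V U e).hom.toAlgebra
  haveI : IsNoetherianRing A := IsLocallyNoetherian.component_noetherian ⟨V, hV⟩
  haveI : Algebra.FiniteType A B := f.finiteType_appLE hV hU e
  obtain ⟨n, F, hF⟩ := Algebra.FiniteType.iff_quotient_mvPolynomial''.1 (inferInstance : Algebra.FiniteType A B)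
  let P := MvPolynomial (Fin n) A
  let φ : CommRingCat.of P ⟶ CommRingCat.of B := CommRingCat.ofHom F.toRingHom
  haveI : IsClosedImmersion (Spec.map φ) := IsClosedImmersion.spec_of_surjective _ hF
  let s : Spec (CommRingCat.of P) ⟶ Spec A := Spec.map (CommRingCat.ofHom (algebraMap A P))
  haveI : Smooth s := (HasRingHomProperty.Spec_iff (P := @Smooth)).2
    (RingHom.smooth_algebraMap.2 ⟨inferInstance, inferInstance⟩)
  have hAB : CommRingCat.ofHom (algebraMap A P) ≫ φ = f.appLE V U e := by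
    ext t
    exact F.commutes t
  let p₀ := CohB1.ProjSpace.toSpec n A
  let h : Spec (CommRingCat.of P) ⟶ Spec A := polyToProj A n ≫ p₀
  have hs : h = s := polyToProj_toSpec A n
  haveI : Smooth h := hs ▸ inferInstance
  haveI : IsNoetherian (Spec A) := inferInstance
  haveI : CompactSpace (CohB1.ProjSpace n A) := QuasiCompact.compactSpace_of_compactSpace p₀
  haveI : IsLocallyNoetherian (CohB1.ProjSpace n A) := LocallyOfFiniteType.isLocallyNoetherian p₀
  haveI : IsNoetherian (CohB1.ProjSpace n A) := { }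
  haveI : IsSeparated h := inferInstance
  haveI : QuasiCompact h := qc_of_qcqs h
  haveI := DBC9.hasRpush p₀
  let h₀ := rpushPreserves p₀
  haveI := isLeftAdjoint_rpushQ p₀ h₀
  let adj₀ := Adjunction.ofIsLeftAdjoint (DCoh.RpushQ p₀ h₀)
  let z : Spec (CommRingCat.of B) := hU.primeIdealOf ⟨x, hxU⟩
  obtain ⟨W, d, hzW, hW, ⟨sm⟩⟩ := nonempty_smooth_open h p₀ (polyToProj A n) rfl adj₀ (Spec.map φ z)
  haveI : IsAffine (W : Scheme.{u}) := hW
  haveI : IsLocallyNoetherian (W : Scheme.{u}) := LocallyOfFiniteType.isLocallyNoetherian (W.ι ≫ h)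
  haveI : IsNoetherian (W : Scheme.{u}) := { }
  let Z : Scheme.{u} := ((Spec.map φ) ⁻¹ᵁ W : (Spec (CommRingCat.of B)).Opens)
  let i : Z ⟶ (W : Scheme.{u}) := (Spec.map φ) ∣_ W
  haveI : IsClosedImmersion i :=
    MorphismProperty.of_isPullback (isPullback_morphismRestrict (Spec.map φ) W).flip inferInstance
  haveI : CompactSpace Z := QuasiCompact.compactSpace_of_compactSpace i
  haveI : QuasiSeparatedSpace Z := quasiSeparatedSpace_of_quasiSeparated i
  haveI := DBC9.hasRpush i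
  let hi := rpushPreserves i
  haveI := isLeftAdjoint_rpushQ i hi
  let adji := Adjunction.ofIsLeftAdjoint (DCoh.RpushQ i hi)
  let jW : (W : Scheme.{u}) ⟶ CohB1.ProjSpace n A := W.ι ≫ polyToProj A n
  let hW' : (W : Scheme.{u}) ⟶ Spec A := W.ι ≫ h
  let k : Z ⟶ CohB1.ProjSpace n A := i ≫ jW
  haveI : QuasiCompact k := qc_of_qcqs k
  let p' : k.image ⟶ Spec A := k.imageι ≫ p₀
  haveI : CompactSpace k.image := QuasiCompact.compactSpace_of_compactSpace k.imageι
  haveI : QuasiSeparatedSpace k.image := quasiSeparatedSpace_of_quasiSeparated k.imageι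
  haveI := DBC9.hasRpush p'
  let h' := rpushPreserves p'
  haveI := isLeftAdjoint_rpushQ p' h'
  let adj' := Adjunction.ofIsLeftAdjoint (DCoh.RpushQ p' h')
  have hfac' : k.toImage ≫ p' = i ≫ hW' := by
    rw [← Category.assoc, Scheme.Hom.toImage_imageι]
    simp [k, jW, hW', h]
  let u : Z ⟶ X := ((Spec.map φ) ⁻¹ᵁ W).ι ≫ hU.fromSpec
  have hu : i ≫ hW' = ((Spec.map φ) ⁻¹ᵁ W).ι ≫ Spec.map (f.appLE V U e) := by
    show (Spec.map φ ∣_ W) ≫ W.ι ≫ h = _
    rw [morphismRestrict_ι_assoc, hs, ← Spec.map_comp, hAB]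
  have w : u ≫ j ≫ p = (k.toImage ≫ p') ≫ hV.fromSpec := by
    rw [hfac, hfac', hu, Category.assoc, Category.assoc, ← hV.SpecMap_appLE_fromSpec f hU e]
  obtain ⟨m⟩ := nonempty_loc_iso adj hV.fromSpec u adj' w
  obtain ⟨c⟩ := nonempty_shriek_comp (f := i) (g := hW') (jf := 𝟙 _) (pf := i)
    (Category.id_comp _) (Category.assoc _ _ _) hfac' adji adj₀ adj'
  let htd := hasFiniteTorDim_of_flat hV.fromSpec
  refine ⟨Z, W, u, inferInstance, i, inferInstance, hW' ≫ hV.fromSpec, inferInstance, inferInstance, inferInstance,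
    inferInstance, hi, _, adji, d, ⟨⟨z, hzW⟩, ?_⟩, ?_, ⟨?_⟩⟩
  · exact hU.fromSpec_primeIdealOf ⟨x, hxU⟩
  · rw [reassoc_of% hu, ← Category.assoc, Category.assoc, hV.SpecMap_appLE_fromSpec f hU e]
    simp [u]
  · exact m ≪≫ Functor.isoWhiskerLeft (lqPlus hV.fromSpec htd) c ≪≫
      Functor.isoWhiskerLeft (lqPlus hV.fromSpec htd ⋙ Dual3.bddι (Spec A) ⋙
        (DCoh.RpushQ p₀ h₀).rightAdjoint ⋙ lq jW ⋙ (DCoh.RpushQ i hi).rightAdjoint ⋙ ObjectProperty.ι _)
        (DBC9.lPId Z) ≪≫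
      Functor.isoWhiskerLeft (lqPlus hV.fromSpec htd)
        (Functor.isoWhiskerRight sm ((DCoh.RpushQ i hi).rightAdjoint ⋙ ObjectProperty.ι _)) ≪≫
      Functor.isoWhiskerLeft (Dual3.bddι Y)
        (Functor.isoWhiskerRight
          (liftQ (F := lq hV.fromSpec ⋙ lq hW') (G := lq (hW' ≫ hV.fromSpec))
            (Functor.isoWhiskerLeft (ObjectProperty.ι _) (lPComp hW' hV.fromSpec rfl)))
          (shiftFunctor (DCoh.DQCoh (W : Scheme.{u})) d ⋙ (DCoh.RpushQ i hi).rightAdjoint ⋙ ObjectProperty.ι _))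

end Groth.Agent.BC8
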