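import Groth.Agent.Lib.DGen9.Coloc
import Mathlib.CategoryTheory.Triangulated.Functor
import Mathlib.CategoryTheory.Limits.Shapes.Products

/-! Right adjoints out of a class generated by a compact object. -/

set_option autoImplicit false
set_option linter.unusedSectionVars false
set_option linter.style.haveILetI false
set_option backward.isDefEq.respectTransparency false
set_option backward.isDefEq.respectTransparency.types false
set_option maxHeartbeats 800000

universe w v u v' u'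

open CategoryTheory CategoryTheory.Limits Pretriangulated Groth.Agent.DPush

namespace Groth.Agent.BC8

variable {D : Type u} [Category.{v} D] [Preadditive D] [HasZeroObject D] [HasShift D ℤ]
  [∀ n : ℤ, (shiftFunctor D n).Additive] [Pretriangulated D] [LocallySmall.{w} D]
  [∀ κ : Type w, HasColimitsOfShape (Discrete κ) D] [HasColimitsOfShape (Discrete ℕ) D]
  {D' : Type u'} [Category.{v'} D'] [Preadditive D'] [HasZeroObject D'] [HasShift D' ℤ]
  [∀ n : ℤ, (shiftFunctor D' n).Additive] [Pretriangulated D'] [LocallySmall.{w} D']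
  [∀ κ : Type w, HasColimitsOfShape (Discrete κ) D'] [HasColimitsOfShape (Discrete ℕ) D']
  (F : D ⥤ D') [F.CommShift ℤ] [F.IsTriangulated]

/-- Maps out of an image of a coproduct. -/
theorem ext_sigma {κ : Type*} {Y : κ → D} [HasCoproduct Y] [HasCoproduct fun k => F.obj (Y k)]
    [IsIso (sigmaComparison F Y)] {M : D'} {p q : F.obj (∐ Y) ⟶ M}
    (h : ∀ k, F.map (Sigma.ι Y k) ≫ p = F.map (Sigma.ι Y k) ≫ q) : p = q := by
  rw [← cancel_epi (sigmaComparison F Y)]
  refine Sigma.hom_ext _ _ fun k => ?_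
  rw [ι_comp_sigmaComparison_assoc, ι_comp_sigmaComparison_assoc]
  exact h k

/-- The tower, relative to a functor. -/
theorem exists_tower_map (P : D) {S : D → Prop} (hS : DGen9.CoclosedClass.{w} S) (hP : ∀ n : ℤ, S (P⟦n⟧))
    (hfin : ∀ (n : ℤ) (X : ℕ → D), (∀ k, S (X k)) → ∀ f : P⟦n⟧ ⟶ ∐ X, FinFac X f)
    (hF : ∀ (κ : Type w) (Y : κ → D), (∀ k, S (Y k)) → IsIso (sigmaComparison F Y))
    (hFN : ∀ (Y : ℕ → D), (∀ k, S (Y k)) → IsIso (sigmaComparison F Y)) (M : D') :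
    ∃ (N : D) (ε : F.obj N ⟶ M), S N ∧ ∀ n : ℤ, Function.Bijective fun f : P⟦n⟧ ⟶ N => F.map f ≫ ε := by
  classical
  let St := Σ' (X : D) (_ : F.obj X ⟶ M), S X
  have hstep : ∀ s : St, ∃ (s' : St) (t : s.1 ⟶ s'.1), F.map t ≫ s'.2.1 = s.2.1 ∧
      ∀ (n : ℤ) (c : P⟦n⟧ ⟶ s.1), F.map c ≫ s.2.1 = 0 → c ≫ t = 0 := by
    rintro ⟨X, x, hX⟩
    let K := Σ n : ℤ, Shrink.{w} {c : P⟦n⟧ ⟶ X // F.map c ≫ x = 0}
    let g : (∐ fun k : K => P⟦k.1⟧) ⟶ X := Sigma.desc fun k => ((equivShrink _).symm k.2).1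
    obtain ⟨Y, t, r, hT⟩ := distinguished_cocone_triangle g
    haveI := hF K (fun k : K => P⟦k.1⟧) fun k => hP _
    have hg : F.map g ≫ x = 0 := ext_sigma F fun k => by
      rw [← Category.assoc, ← F.map_comp, Sigma.ι_desc, ((equivShrink _).symm k.2).2, comp_zero]
    have hex : ∃ y : F.obj Y ⟶ M, x = F.map t ≫ y :=
      Triangle.yoneda_exact₂ _ (F.map_distinguished _ hT) x hg
    obtain ⟨y, hy⟩ := hex
    refine ⟨⟨Y, y, hS.cone _ hT (hS.sigma K _ fun k => hP _) hX⟩, t, hy.symm, fun n c hc => ?_⟩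
    have hcg : Sigma.ι (fun k : K => P⟦k.1⟧) ⟨n, equivShrink _ ⟨c, hc⟩⟩ ≫ g = c := by
      rw [Sigma.ι_desc]
      simp
    rw [← hcg, Category.assoc, show g ≫ t = 0 from comp_distTriang_mor_zero₁₂ _ hT, comp_zero]
  choose step t ht hkill using hstep
  let J := Σ n : ℤ, Shrink.{w} (F.obj (P⟦n⟧) ⟶ M)
  haveI := hF J (fun j : J => P⟦j.1⟧) fun j => hP _
  let x₀ : F.obj (∐ fun j : J => P⟦j.1⟧) ⟶ M :=
    inv (sigmaComparison F fun j : J => P⟦j.1⟧) ≫ Sigma.desc fun j => (equivShrink _).symm j.2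
  let s₀ : St := ⟨∐ fun j : J => P⟦j.1⟧, x₀, hS.sigma J _ fun j => hP _⟩
  let seq : ℕ → St := fun n => Nat.rec s₀ (fun _ s => step s) n
  let G : ℕ ⥤ D := Functor.ofSequence (X := fun n => (seq n).1) fun n => t (seq n)
  have hGmap : ∀ n, G.map (homOfLE (Nat.le_succ n)) = t (seq n) := fun n => Functor.ofSequence_map_homOfLE_succ _ n
  haveI := hFN G.obj fun k => (seq k).2.2
  obtain ⟨N, q, r, hN⟩ := distinguished_cocone_triangle
    (𝟙 (∐ G.obj) - DerLim.shiftMap G.obj fun n => G.map (homOfLE (Nat.le_succ n)))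
  let j : ∀ n, G.obj n ⟶ N := fun n => Sigma.ι G.obj n ≫ q
  have hq : q = Sigma.desc j := Sigma.hom_ext _ _ fun n => by simp [j]
  have hL : DerLim.IsHocolim G.obj (fun n => G.map (homOfLE (Nat.le_succ n))) N j := ⟨r, hq ▸ hN⟩
  have hj : ∀ n, t (seq n) ≫ j (n + 1) = j n := fun n => by
    have h1 := congrArg (fun z => Sigma.ι G.obj n ≫ z) (comp_distTriang_mor_zero₁₂ _ hN)
    simp [DerLim.shiftMap, Preadditive.sub_comp, Preadditive.comp_sub, sub_eq_zero] at h1
    rw [← hGmap n]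
    exact h1.symm.trans (congrArg (_ ≫ ·) (Category.id_comp _))
  let xs : F.obj (∐ G.obj) ⟶ M :=
    inv (sigmaComparison F G.obj) ≫ Sigma.desc fun n => ((seq n).2.1 : F.obj (G.obj n) ⟶ M)
  have hxs : ∀ n, F.map (Sigma.ι G.obj n) ≫ xs = (seq n).2.1 := fun n => by
    show F.map (Sigma.ι G.obj n) ≫ inv (sigmaComparison F G.obj) ≫ _ = _
    rw [← ι_comp_sigmaComparison F G.obj n, Category.assoc, IsIso.hom_inv_id_assoc, Sigma.ι_desc]
  have hx : F.map (𝟙 (∐ G.obj) - DerLim.shiftMap G.obj fun n => G.map (homOfLE (Nat.le_succ n))) ≫ xs = 0 :=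
    ext_sigma F fun n => by
      rw [← Category.assoc, ← F.map_comp, comp_zero, Preadditive.comp_sub, Category.comp_id, Functor.map_sub,
        Preadditive.sub_comp, sub_eq_zero, DerLim.shiftMap, Sigma.ι_desc, F.map_comp, Category.assoc, hxs, hxs, hGmap]
      exact (ht (seq n)).symm
  have hex : ∃ ε : F.obj N ⟶ M, xs = F.map q ≫ ε :=
    Triangle.yoneda_exact₂ _ (F.map_distinguished _ hN) xs hx
  obtain ⟨ε, hε⟩ := hex
  have hjε : ∀ n, F.map (j n) ≫ ε = (seq n).2.1 := fun n => by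
    rw [F.map_comp, Category.assoc, ← hε, hxs]
  have hSsum : S (∐ G.obj) :=
    hS.iso (Sigma.whiskerEquiv (f := fun k : ULift.{w} ℕ => G.obj k.down) (g := G.obj) Equiv.ulift
      fun _ => Iso.refl _) (hS.sigma _ _ fun k => (seq k.down).2.2)
  refine ⟨N, ε, hS.cone _ hN hSsum hSsum, fun n => ⟨fun a b hab => ?_, fun f => ?_⟩⟩
  · have hfin' : ∀ f : (P⟦n⟧)⟦(-1 : ℤ)⟧ ⟶ ∐ G.obj, FinFac G.obj f := fun f => by
      let e := (shiftFunctorAdd D n (-1 : ℤ)).app P
      obtain ⟨s, hs⟩ := hfin _ G.obj (fun k => (seq k).2.2) (e.hom ≫ f)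
      exact ⟨s, by rwa [Category.assoc, cancel_epi] at hs⟩
    have H := DCompact9.hom_hocolim G hL (P⟦n⟧) (hfin n G.obj fun k => (seq k).2.2) hfin'
    obtain ⟨k, y, hy⟩ := H.1 (a - b)
    have hy0 : F.map y ≫ (seq k).2.1 = 0 := by
      rw [← hjε k, ← Category.assoc, ← F.map_comp, hy, F.map_sub, Preadditive.sub_comp]
      exact sub_eq_zero.2 hab
    refine sub_eq_zero.1 (hy.symm.trans ?_)
    rw [← hj k, ← Category.assoc]
    exact (congrArg (· ≫ j (k + 1)) (hkill (seq k) n y hy0)).trans zero_comp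
  · refine ⟨Sigma.ι (fun j : J => P⟦j.1⟧) ⟨n, equivShrink _ f⟩ ≫ j 0, ?_⟩
    show F.map (_ ≫ j 0) ≫ ε = f
    rw [F.map_comp, Category.assoc, hjε 0]
    show F.map (Sigma.ι (fun j : J => P⟦j.1⟧) ⟨n, equivShrink _ f⟩) ≫ x₀ = f
    show F.map (Sigma.ι (fun j : J => P⟦j.1⟧) ⟨n, equivShrink _ f⟩) ≫ inv (sigmaComparison F _) ≫ _ = f
    rw [← ι_comp_sigmaComparison F (fun j : J => P⟦j.1⟧), Category.assoc, IsIso.hom_inv_id_assoc, Sigma.ι_desc]
    simp

/-- A universal map out of the image of a class generated by a compact object. -/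
theorem exists_corep (P : D) {S : D → Prop} (hS : DGen9.CoclosedClass.{w} S) (hP : ∀ n : ℤ, S (P⟦n⟧))
    (hfin : ∀ (n : ℤ) (X : ℕ → D), (∀ k, S (X k)) → ∀ f : P⟦n⟧ ⟶ ∐ X, FinFac X f)
    (hgen : ∀ Q, S Q → (∀ (n : ℤ) (φ : P⟦n⟧ ⟶ Q), φ = 0) → IsZero Q)
    (hF : ∀ (κ : Type w) (Y : κ → D), (∀ k, S (Y k)) → IsIso (sigmaComparison F Y))
    (hFN : ∀ (Y : ℕ → D), (∀ k, S (Y k)) → IsIso (sigmaComparison F Y)) (M : D') :
    ∃ (N : D) (ε : F.obj N ⟶ M), S N ∧ ∀ Q, S Q → Function.Bijective fun f : Q ⟶ N => F.map f ≫ ε := by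
  obtain ⟨N, ε, hN, hε⟩ := exists_tower_map F P hS hP hfin hF hFN M
  let B : D → Prop := fun Q => Function.Bijective fun f : Q ⟶ N => F.map f ≫ ε
  let S' : D → Prop := fun Q => S Q ∧ ∀ n : ℤ, B (Q⟦n⟧)
  have bIso : ∀ {A C : D}, (A ≅ C) → B A → B C := fun {A C} e hA => by
    refine ⟨fun u w huw => ?_, fun y => ?_⟩
    · rw [← cancel_epi e.hom]
      refine hA.1 ?_
      dsimp only at huw ⊢
      rw [F.map_comp, F.map_comp, Category.assoc, Category.assoc, huw]
    · obtain ⟨u, hu⟩ := hA.2 (F.map e.hom ≫ y)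
      refine ⟨e.inv ≫ u, ?_⟩
      dsimp only at hu ⊢
      rw [F.map_comp, Category.assoc, hu, ← F.map_comp_assoc, Iso.inv_hom_id, F.map_id, Category.id_comp]
  have hiso : ∀ {A C : D}, (A ≅ C) → S' A → S' C := fun e h =>
    ⟨hS.iso e h.1, fun n => bIso ((shiftFunctor D n).mapIso e) (h.2 n)⟩
  have hS' : DGen9.CoclosedClass.{w} S' := by
    refine ⟨hiso, fun κ Y hY => ⟨hS.sigma κ Y fun k => (hY k).1, fun n => ?_⟩,
      fun T hT h₁ h₂ => ⟨hS.cone T hT h₁.1 h₂.1, fun n => ?_⟩⟩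
    · let G := shiftFunctor D n
      haveI := hF κ Y fun k => (hY k).1
      haveI : PreservesColimitsOfShape (Discrete κ) G := inferInstance
      haveI : IsIso (sigmaComparison G Y) := inferInstance
      refine bIso (asIso (sigmaComparison G Y)) ?_
      let Z : κ → D := fun k => (Y k)⟦n⟧
      let cm := (sigmaComparison (G ⋙ F) Y)
      haveI : IsIso (sigmaComparison F Z) := by
        haveI : IsIso (sigmaComparison (shiftFunctor D' n) fun k => F.obj (Y k)) := inferInstance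
        have h1 : sigmaComparison F Z ≫ F.map (sigmaComparison G Y) ≫ (F.commShiftIso n).hom.app (∐ Y) =
            Limits.Sigma.map (fun k => (F.commShiftIso n).hom.app (Y k)) ≫
              sigmaComparison (shiftFunctor D' n) (fun k => F.obj (Y k)) ≫ (sigmaComparison F Y)⟦n⟧' := by
          refine Sigma.hom_ext _ _ fun k => ?_
          rw [ι_comp_sigmaComparison_assoc, ← F.map_comp_assoc, ι_comp_sigmaComparison, Sigma.ι_map_assoc]
          refine ((F.commShiftIso n).hom.naturality (Sigma.ι Y k)).trans (congrArg (_ ≫ ·) ?_)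
          refine Eq.symm ((ι_comp_sigmaComparison_assoc (shiftFunctor D' n) (fun k => F.obj (Y k)) k _).trans ?_)
          rw [← Functor.map_comp, ι_comp_sigmaComparison]
          rfl
        haveI : IsIso (Limits.Sigma.map fun k => (F.commShiftIso n).hom.app (Y k)) := by
          refine ⟨Limits.Sigma.map fun k => (F.commShiftIso n).inv.app (Y k), Sigma.hom_ext _ _ fun k => ?_,
            Sigma.hom_ext _ _ fun k => ?_⟩ <;> simp
        haveI : IsIso (sigmaComparison F Z ≫ F.map (sigmaComparison G Y) ≫ (F.commShiftIso n).hom.app (∐ Y)) :=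
          h1 ▸ inferInstance
        exact IsIso.of_isIso_comp_right (sigmaComparison F Z) (F.map (sigmaComparison G Y) ≫ (F.commShiftIso n).hom.app (∐ Y))
      refine ⟨fun u w huw => Sigma.hom_ext _ _ fun k => ((hY k).2 n).1 ?_, fun y => ?_⟩
      · dsimp only at huw ⊢
        rw [F.map_comp, F.map_comp, Category.assoc, Category.assoc, huw]
      · choose u hu using fun k => ((hY k).2 n).2 (F.map (Sigma.ι Z k) ≫ y)
        refine ⟨Sigma.desc u, ext_sigma F fun k => ?_⟩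
        rw [← Category.assoc, ← F.map_comp, Sigma.ι_desc]
        exact hu k
    · have hTn := Triangle.shift_distinguished T hT n
      suffices key : ∀ Tn : Triangle D, Tn ∈ distTriang D → B Tn.obj₁ → B Tn.obj₂ → B (Tn.obj₁⟦(1 : ℤ)⟧) →
          B (Tn.obj₂⟦(1 : ℤ)⟧) → B Tn.obj₃ from
        key _ hTn (h₁.2 n) (h₂.2 n) (bIso ((shiftFunctorAdd' D n 1 (n + 1) rfl).app T.obj₁) (h₁.2 (n + 1)))
          (bIso ((shiftFunctorAdd' D n 1 (n + 1) rfl).app T.obj₂) (h₂.2 (n + 1)))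
      intro Tn hTn b₁ b₂ b₁' b₂'
      have hr := rot_of_distTriang _ hTn
      refine ⟨fun u w huw => sub_eq_zero.1 ?_, fun y => ?_⟩
      · let φ := u - w
        have hφ : F.map φ ≫ ε = 0 := by
          show F.map (u - w) ≫ ε = 0
          rw [F.map_sub, Preadditive.sub_comp, sub_eq_zero]
          exact huw
        have h0 : Tn.mor₂ ≫ φ = 0 := b₂.1 (by
          show F.map (Tn.mor₂ ≫ φ) ≫ ε = F.map 0 ≫ ε
          rw [F.map_comp, Category.assoc, hφ, comp_zero, F.map_zero, zero_comp])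
        obtain ⟨ψ, hψ⟩ := Triangle.yoneda_exact₃ _ hTn φ h0
        have hex : ∃ χ : F.obj (Tn.obj₂⟦(1 : ℤ)⟧) ⟶ M, F.map ψ ≫ ε = F.map (Tn.rotate.rotate.mor₂) ≫ χ := by
          refine Triangle.yoneda_exact₂ _ (F.map_distinguished _ (rot_of_distTriang _ hr)) (F.map ψ ≫ ε) ?_
          show F.map Tn.mor₃ ≫ F.map ψ ≫ ε = 0
          rw [← F.map_comp_assoc, ← hψ, hφ]
        obtain ⟨χ, hχ⟩ := hex
        obtain ⟨χ', hχ'⟩ := b₂'.2 χ
        have hψ' : ψ = Tn.rotate.rotate.mor₂ ≫ χ' := b₁'.1 (by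
          show F.map ψ ≫ ε = F.map (Tn.rotate.rotate.mor₂ ≫ χ') ≫ ε
          rw [F.map_comp, Category.assoc, show F.map χ' ≫ ε = χ from hχ', ← hχ])
        show φ = 0
        rw [hψ, hψ', ← Category.assoc]
        exact (congrArg (· ≫ χ') (comp_distTriang_mor_zero₁₂ _ (rot_of_distTriang _ hr))).trans zero_comp
      · obtain ⟨w, hw⟩ := b₂.2 (F.map Tn.mor₂ ≫ y)
        have h0 : Tn.mor₁ ≫ w = 0 := b₁.1 (by
          show F.map (Tn.mor₁ ≫ w) ≫ ε = F.map 0 ≫ ε
          rw [F.map_comp, Category.assoc, show F.map w ≫ ε = _ from hw, ← F.map_comp_assoc,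
            comp_distTriang_mor_zero₁₂ _ hTn, F.map_zero, zero_comp, F.map_zero, zero_comp])
        obtain ⟨z, hz⟩ := Triangle.yoneda_exact₂ _ hTn w h0
        have hex : ∃ v : F.obj (Tn.obj₁⟦(1 : ℤ)⟧) ⟶ M, y - F.map z ≫ ε = F.map Tn.mor₃ ≫ v := by
          refine Triangle.yoneda_exact₂ _ (F.map_distinguished _ hr) (y - F.map z ≫ ε) ?_
          show F.map Tn.mor₂ ≫ (y - F.map z ≫ ε) = 0
          rw [Preadditive.comp_sub, sub_eq_zero, ← F.map_comp_assoc, ← hz]
          exact hw.symm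
        obtain ⟨v, hv⟩ := hex
        obtain ⟨v', hv'⟩ := b₁'.2 v
        refine ⟨z + Tn.mor₃ ≫ v', ?_⟩
        show F.map (z + Tn.mor₃ ≫ v') ≫ ε = y
        rw [F.map_add, Preadditive.add_comp, F.map_comp, Category.assoc, show F.map v' ≫ ε = v from hv', ← hv]
        exact add_sub_cancel _ _
  have hP' : ∀ n : ℤ, S' (P⟦n⟧) := fun n => ⟨hP n, fun m =>
    bIso ((shiftFunctorAdd D n m).app P) (hε (n + m))⟩
  refine ⟨N, ε, hN, fun Q hQ => ?_⟩
  obtain ⟨Q', e, hQ', he⟩ := DGen9.exists_tower_obj P hS' hP' (fun n X hX => hfin n X fun k => (hX k).1) Q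
  obtain ⟨Z, a, b, hTe⟩ := distinguished_cocone_triangle e
  have hZ : IsZero Z := hgen Z (hS.cone _ hTe hQ'.1 hQ) (DGen9.eq_zero_of_bijective hTe he)
  haveI : IsIso e := (Triangle.isZero₃_iff_isIso₁ _ hTe).1 hZ
  exact bIso ((shiftFunctorZero D ℤ).app Q) ((hiso (asIso e) hQ').2 0)

end Groth.Agent.BC8
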