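import Groth.Agent.Lib.BC8.FlatShriek

/-!
The twisted inverse image of a composition.
-/

set_option autoImplicit false
set_option linter.unusedSectionVars false
set_option linter.style.haveILetI false
set_option backward.isDefEq.respectTransparency false
set_option backward.isDefEq.respectTransparency.types false
set_option maxHeartbeats 800000

universe u

open CategoryTheory CategoryTheory.Limits AlgebraicGeometry

attribute [local instance] HasDerivedCategory.standard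

namespace Groth.Agent.BC8

open DMon9

variable {X Y Z Xf Yb Xgf : Scheme.{u}} [IsNoetherian Y] [IsNoetherian Z] {f : X ⟶ Y} {g : Y ⟶ Z}
  {pf : Xf ⟶ Y} [IsProper pf] {jf : X ⟶ Xf} [IsOpenImmersion jf] (hf : jf ≫ pf = f)
  {pg : Yb ⟶ Z} [IsProper pg] {jg : Y ⟶ Yb} [IsOpenImmersion jg] (hg : jg ≫ pg = g)
  {pgf : Xgf ⟶ Z} [IsProper pgf] {jgf : X ⟶ Xgf} [IsOpenImmersion jgf] (hgf : jgf ≫ pgf = f ≫ g)
  [DCoh.HasRpush pf] [DCoh.HasRpush pg] [DCoh.HasRpush pgf]
  {hpf : DCoh.RpushPreservesQCoh pf} {hpg : DCoh.RpushPreservesQCoh pg} {hpgf : DCoh.RpushPreservesQCoh pgf}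
  {a : DCoh.DQCoh Y ⥤ DCoh.DQCoh Xf} {b : DCoh.DQCoh Z ⥤ DCoh.DQCoh Yb} {c : DCoh.DQCoh Z ⥤ DCoh.DQCoh Xgf}
  (adjf : DCoh.RpushQ pf hpf ⊣ a) (adjg : DCoh.RpushQ pg hpg ⊣ b) (adjgf : DCoh.RpushQ pgf hpgf ⊣ c)

include hf hg hgf adjf adjg adjgf in
/-- `(g ∘ f)^! ≅ f^! ∘ g^!` on bounded below objects. -/
theorem nonempty_shriek_comp :
    Nonempty (Dual3.bddι Z ⋙ c ⋙ ObjectProperty.ι _ ⋙ lP jgf ≅
      Dual3.bddι Z ⋙ b ⋙ lq jg ⋙ a ⋙ ObjectProperty.ι _ ⋙ lP jf) := by
  haveI : IsLocallyNoetherian Yb := LocallyOfFiniteType.isLocallyNoetherian pg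
  haveI : CompactSpace Yb := QuasiCompact.compactSpace_of_compactSpace pg
  haveI : IsNoetherian Yb := { }
  haveI : IsLocallyNoetherian Xgf := LocallyOfFiniteType.isLocallyNoetherian pgf
  haveI : CompactSpace Xgf := QuasiCompact.compactSpace_of_compactSpace pgf
  haveI : IsNoetherian Xgf := { }
  let P := pullback pgf pg
  let k : X ⟶ P := pullback.lift jgf (f ≫ jg) (by rw [hgf, Category.assoc, hg])
  have hk1 : k ≫ pullback.fst pgf pg = jgf := pullback.lift_fst _ _ _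
  have hk2 : k ≫ pullback.snd pgf pg = f ≫ jg := pullback.lift_snd _ _ _
  haveI : IsImmersion (k ≫ pullback.fst pgf pg) := hk1 ▸ inferInstance
  haveI : IsImmersion k := IsImmersion.of_comp k (pullback.fst pgf pg)
  haveI : QuasiCompact (k ≫ pullback.fst pgf pg) := hk1 ▸ qc_of_noeth jgf
  haveI : QuasiCompact k := QuasiCompact.of_comp k (pullback.fst pgf pg)
  let q : k.image ⟶ Yb := k.imageι ≫ pullback.snd pgf pg
  have hq : k.toImage ≫ q = f ≫ jg := by rw [← Category.assoc, Scheme.Hom.toImage_imageι, hk2]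
  let pW : k.image ⟶ Z := q ≫ pg
  haveI : IsProper pW := inferInstanceAs (IsProper ((k.imageι ≫ pullback.snd pgf pg) ≫ pg))
  have hW : k.toImage ≫ pW = f ≫ g := by rw [← Category.assoc, hq, Category.assoc, hg]
  haveI : CompactSpace k.image := QuasiCompact.compactSpace_of_compactSpace q
  haveI : QuasiSeparatedSpace k.image := quasiSeparatedSpace_of_quasiSeparated q
  let WY := pullback q jg
  let i : WY ⟶ k.image := pullback.fst q jg
  let qY : WY ⟶ Y := pullback.snd q jg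
  have hsq : IsPullback i qY q jg := IsPullback.of_hasPullback q jg
  let s : X ⟶ WY := pullback.lift k.toImage f hq
  have hs1 : s ≫ i = k.toImage := pullback.lift_fst _ _ _
  have hs2 : s ≫ qY = f := pullback.lift_snd _ _ _
  haveI : IsOpenImmersion (s ≫ i) := hs1 ▸ inferInstance
  haveI : IsOpenImmersion s := IsOpenImmersion.of_comp s i
  haveI : CompactSpace WY := QuasiCompact.compactSpace_of_compactSpace qY
  haveI : QuasiSeparatedSpace WY := quasiSeparatedSpace_of_quasiSeparated qY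
  haveI := qc_of_qcqs i
  haveI := qc_of_noeth jg
  haveI := DBC9.hasRpush q
  haveI := DBC9.hasRpush qY
  haveI := DBC9.hasRpush i
  haveI := DBC9.hasRpush jg
  haveI := DBC9.hasRpush pW
  let hpq := rpushPreserves q
  let hpY := rpushPreserves qY
  let hpW := rpushPreserves pW
  haveI := isLeftAdjoint_rpushQ q hpq
  haveI := isLeftAdjoint_rpushQ qY hpY
  haveI := isLeftAdjoint_rpushQ pW hpW
  let adjq' := Adjunction.ofIsLeftAdjoint (DCoh.RpushQ q hpq)
  let adjY := Adjunction.ofIsLeftAdjoint (DCoh.RpushQ qY hpY)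
  let adjW := Adjunction.ofIsLeftAdjoint (DCoh.RpushQ pW hpW)
  obtain ⟨σ, hσm⟩ := exists_mult_sq hsq.w.symm
  have hgood := good_of_flat hsq (Or.inr inferInstance)
  have hσ := isIso_bc_sigQ (hf := hpq) (hf' := hpY) hgood σ
  have hQP := qp_proper q
  have htd := hasFiniteTorDim_of_flat jg
  have hβ : ∀ K : (Dual3.IsBddBelowQ Yb).FullSubcategory, IsIso (beta₀ adjq' adjY σ hσ K.obj) := fun K => by
    obtain ⟨c, hc⟩ := K.property
    haveI := hc
    exact isIso_beta₀_open adjq' adjY hQP hsq σ hσ K.obj c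
  let nβ : Dual3.bddι Yb ⋙ (DCoh.RpushQ q hpq).rightAdjoint ⋙ lq i ≅
      Dual3.bddι Yb ⋙ lq jg ⋙ (DCoh.RpushQ qY hpY).rightAdjoint :=
    NatIso.ofComponents (fun K => haveI := hβ K; asIso (beta₀ adjq' adjY σ hσ K.obj))
      (fun {K K'} v => beta₀_natural adjq' adjY σ hσ ((Dual3.bddι Yb).map v))
  obtain ⟨nZ⟩ := nonempty_shriek_indep (hgf.trans hW.symm) adjgf adjW
  obtain ⟨nY⟩ := nonempty_shriek_indep (hs2.trans hf.symm) adjY adjf
  exact ⟨nZ ≪≫
    Functor.isoWhiskerLeft (Dual3.bddι Z) (Functor.isoWhiskerRight (compA adjq' adjg adjW rfl).symm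
      (ObjectProperty.ι _ ⋙ lP k.toImage)) ≪≫
    Functor.isoWhiskerLeft (Dual3.bddι Z ⋙ b ⋙ (DCoh.RpushQ q hpq).rightAdjoint ⋙ ObjectProperty.ι _)
      (lPComp s i hs1).symm ≪≫
    Functor.isoWhiskerLeft (aPlus adjg) (Functor.isoWhiskerRight nβ (ObjectProperty.ι _ ⋙ lP s)) ≪≫
    Functor.isoWhiskerLeft (aPlus adjg ⋙ lqPlus jg htd) nY⟩

end Groth.Agent.BC8
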