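import Groth.Agent.Lib.BC8.Formal

/-!
Compatibility of base change with units and counits.
-/

set_option autoImplicit false
set_option linter.unusedSectionVars false
set_option linter.style.haveILetI false

open CategoryTheory

namespace Groth.Agent.BC8

variable {A A' B B' : Type*} [Category* A] [Category* A'] [Category* B] [Category* B']
  {F : A ⥤ B} {F' : A' ⥤ B'} {G : A ⥤ A'} {H : B ⥤ B'} {P : A' ⥤ A} {Q : B' ⥤ B} {a : B ⥤ A} {a' : B' ⥤ A'}
  (adjG : G ⊣ P) (adjH : H ⊣ Q) (adj : F ⊣ a) (adj' : F' ⊣ a') (e : P ⋙ F ≅ F' ⋙ Q)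

theorem theta_xi_injective {E : A} {M : B'} [IsIso (xiMap adj adj' e M)] (ψ ψ' : G.obj E ⟶ a'.obj M)
    (h : (theta adjG adjH e).app E ≫ F'.map ψ ≫ adj'.counit.app M =
      (theta adjG adjH e).app E ≫ F'.map ψ' ≫ adj'.counit.app M) : ψ = ψ' := by
  rw [theta_xi adjG adjH adj adj' e, theta_xi adjG adjH adj adj' e] at h
  exact (adjG.homEquiv _ _).injective ((cancel_mono (xiMap adj adj' e M)).1
    ((adj.homEquiv _ _).symm.injective ((adjH.homEquiv _ _).symm.injective h)))

/-- The unit under base change. -/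
theorem unit_bcMap (hξ : ∀ M, IsIso (xiMap adj adj' e M)) (M : A) :
    adj'.unit.app (G.obj M) = G.map (adj.unit.app M) ≫
      (haveI := hξ (H.obj (F.obj M)); G.map (a.map (adjH.unit.app (F.obj M))) ≫
        G.map (inv (xiMap adj adj' e (H.obj (F.obj M)))) ≫ adjG.counit.app (a'.obj (H.obj (F.obj M)))) ≫
      a'.map ((theta adjG adjH e).app M) := by
  haveI := hξ (H.obj (F.obj M))
  haveI := hξ (F'.obj (G.obj M))
  refine theta_xi_injective adjG adjH adj adj' e _ _ ?_
  rw [adj'.left_triangle_components, F'.map_comp, F'.map_comp]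
  simp only [Category.assoc]
  have hn := (theta adjG adjH e).naturality (adj.unit.app M)
  dsimp at hn
  rw [show F'.map (a'.map ((theta adjG adjH e).app M)) ≫ adj'.counit.app (F'.obj (G.obj M)) =
    adj'.counit.app (H.obj (F.obj M)) ≫ (theta adjG adjH e).app M from adj'.counit.naturality _,
    ← reassoc_of% hn]
  have ht := theta_bcMap adjG adjH adj adj' e (F.obj M)
  dsimp at ht ⊢
  rw [reassoc_of% ht, ← Category.assoc, ← H.map_comp, adj.left_triangle_components, CategoryTheory.Functor.map_id]
  exact (Category.comp_id _).trans (Category.id_comp _).symm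

end Groth.Agent.BC8
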