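import Groth.Agent.Lib.BC8.CoRepF
import Groth.Agent.Lib.DGen9.QCohAdj
import Groth.Agent.Lib.DPush.QCoh
import Groth.Agent.S1000
import Groth.Prelude.Def_DDual2

/-! `Rf_*` on `D_QCoh` is a left adjoint. -/

set_option autoImplicit false
set_option linter.unusedSectionVars false
set_option linter.style.haveILetI false
set_option backward.isDefEq.respectTransparency false
set_option backward.isDefEq.respectTransparency.types false
set_option maxHeartbeats 800000

universe u

open CategoryTheory CategoryTheory.Limits AlgebraicGeometry Pretriangulated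

attribute [local instance] HasDerivedCategory.standard

namespace Groth.Agent.BC8

variable {X Y : Scheme.{u}} [CompactSpace X] [QuasiSeparatedSpace X] (f : X ⟶ Y) [QuasiCompact f] [QuasiSeparated f]
  [DCoh.HasRpush f]

theorem exists_corep_rpush (M : DCoh.D Y) :
    ∃ (N : DCoh.D X) (ε : (DCoh.Rpush f).obj N ⟶ M), DCoh.IsQCohD N ∧
      ∀ Q, DCoh.IsQCohD Q → Function.Bijective fun φ : Q ⟶ N => (DCoh.Rpush f).map φ ≫ ε := by
  obtain ⟨cs, hR⟩ := DPush.exists_commShift_isTriangulated f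
  letI := cs
  haveI := hR
  haveI : LocallySmall.{u} (DCoh.D X) := RHom.locallySmall_derivedCategory X.Modules
  haveI : LocallySmall.{u} (DCoh.D Y) := RHom.locallySmall_derivedCategory Y.Modules
  haveI : ∀ κ : Type u, HasColimitsOfShape (Discrete κ) (DCoh.D X) := DGen9.hasCoproducts_D X
  haveI : ∀ κ : Type u, HasColimitsOfShape (Discrete κ) (DCoh.D Y) := DGen9.hasCoproducts_D Y
  haveI : HasColimitsOfShape (Discrete ℕ) (DCoh.D X) :=
    hasColimitsOfShape_of_equivalence (Discrete.equivalence (Equiv.ulift.{u} : ULift.{u} ℕ ≃ ℕ))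
  haveI : HasColimitsOfShape (Discrete ℕ) (DCoh.D Y) :=
    hasColimitsOfShape_of_equivalence (Discrete.equivalence (Equiv.ulift.{u} : ULift.{u} ℕ ≃ ℕ))
  obtain ⟨P, hP, hPq, -, hgen⟩ := DGen9.exists_generator_qcqs X Set.univ isClosed_univ
    (by rw [Set.compl_univ]; exact isCompact_empty)
  have hF : ∀ (κ : Type u) (L : κ → DCoh.D X), (∀ k, DCoh.IsQCohD (L k)) → IsIso (sigmaComparison (DCoh.Rpush f) L) :=
    fun κ L hL => S1000.result f L hL
  have hFN : ∀ (L : ℕ → DCoh.D X), (∀ k, DCoh.IsQCohD (L k)) → IsIso (sigmaComparison (DCoh.Rpush f) L) := by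
    intro L hL
    haveI := hF (ULift.{u} ℕ) (fun i => L i.down) fun i => hL i.down
    let w : (∐ fun i : ULift.{u} ℕ => L i.down) ≅ ∐ L :=
      { hom := Sigma.desc fun i => Sigma.ι L i.down
        inv := Sigma.desc fun k => Sigma.ι (fun i : ULift.{u} ℕ => L i.down) ⟨k⟩
        hom_inv_id := Sigma.hom_ext _ _ fun i => by simp
        inv_hom_id := Sigma.hom_ext _ _ fun k => by simp }
    let w' : (∐ fun i : ULift.{u} ℕ => (DCoh.Rpush f).obj (L i.down)) ≅ ∐ fun k => (DCoh.Rpush f).obj (L k) :=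
      { hom := Sigma.desc fun i => Sigma.ι (fun k => (DCoh.Rpush f).obj (L k)) i.down
        inv := Sigma.desc fun k => Sigma.ι (fun i : ULift.{u} ℕ => (DCoh.Rpush f).obj (L i.down)) ⟨k⟩
        hom_inv_id := Sigma.hom_ext _ _ fun i => by simp
        inv_hom_id := Sigma.hom_ext _ _ fun k => by simp }
    have h : w'.hom ≫ sigmaComparison (DCoh.Rpush f) L =
        sigmaComparison (DCoh.Rpush f) (fun i : ULift.{u} ℕ => L i.down) ≫ (DCoh.Rpush f).map w.hom := by
      refine Sigma.hom_ext _ _ fun i => ?_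
      have e1 : Sigma.ι (fun i : ULift.{u} ℕ => L i.down) i ≫ w.hom = Sigma.ι L i.down := by
        simp [w]
      have e2 : Sigma.ι (fun i : ULift.{u} ℕ => (DCoh.Rpush f).obj (L i.down)) i ≫ w'.hom =
          Sigma.ι (fun k => (DCoh.Rpush f).obj (L k)) i.down := by
        simp [w']
      rw [← Category.assoc, e2, ι_comp_sigmaComparison, ι_comp_sigmaComparison_assoc, ← Functor.map_comp, e1]
    haveI : IsIso w.hom := w.isIso_hom
    haveI : IsIso w'.hom := w'.isIso_hom
    haveI : IsIso (w'.hom ≫ sigmaComparison (DCoh.Rpush f) L) := h ▸ inferInstance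
    exact IsIso.of_isIso_comp_left w'.hom _
  refine exists_corep (DCoh.Rpush f) P (S := fun L : DCoh.D X => DCoh.IsQCohD L)
    ⟨DQC.isQCohD_of_iso, fun κ L hL => DPerf.isQCohD_sigma L hL, fun T hT => DPush.isQCohD_obj₃ T hT⟩
    (fun n => DMV.isQCohD_shift P hPq n) (fun n L hL φ => ?_)
    (fun Q hQ h => (hgen Q hQ (DGen9.suppOn_univ Q)).2 h) hF hFN M
  let w : (∐ fun i : ULift.{u} ℕ => L i.down) ⟶ ∐ L :=
    Sigma.desc fun i => (Iso.refl (L i.down)).hom ≫ Sigma.ι L i.down
  let w' : ∐ L ⟶ ∐ fun i : ULift.{u} ℕ => L i.down :=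
    Sigma.desc fun k => Sigma.ι (fun i : ULift.{u} ℕ => L i.down) ⟨k⟩
  have hww : w' ≫ w = 𝟙 _ := Sigma.hom_ext _ _ fun k => by simp [w, w']
  have := RHom.finFac_whisker L (fun i : ULift.{u} ℕ => L i.down) Equiv.ulift (fun i => Iso.refl _) _
    (DGen9.qFin_of_isPerfect (DGen9.isPerfect_shiftD hP n) _ _ (fun i : ULift.{u} ℕ => hL i.down) (φ ≫ w'))
  rw [show φ = (φ ≫ w') ≫ w by rw [Category.assoc, hww, Category.comp_id]]
  exact this

/-- `Rf_*` on `D_QCoh` has a right adjoint. -/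
theorem isLeftAdjoint_rpushQ (hf : DCoh.RpushPreservesQCoh f) : (DCoh.RpushQ f hf).IsLeftAdjoint := by
  haveI : ∀ M, HasTerminal (CostructuredArrow (DCoh.RpushQ f hf) M) := fun M => by
    obtain ⟨N, ε, hN, hb⟩ := exists_corep_rpush f M.obj
    let T : CostructuredArrow (DCoh.RpushQ f hf) M :=
      CostructuredArrow.mk (Y := (⟨N, hN⟩ : ObjectProperty.FullSubcategory _)) (ObjectProperty.homMk ε)
    have hs : ∀ Q : CostructuredArrow (DCoh.RpushQ f hf) M, ∃ φ : Q.left.obj ⟶ N,
        (DCoh.Rpush f).map φ ≫ ε = Q.hom.hom := fun Q => (hb Q.left.obj Q.left.property).2 Q.hom.hom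
    refine (IsTerminal.ofUniqueHom (Y := T) (fun Q => CostructuredArrow.homMk
      (ObjectProperty.homMk (hs Q).choose) (ObjectProperty.hom_ext _ (hs Q).choose_spec)) fun Q g => ?_).hasTerminal
    refine CostructuredArrow.hom_ext _ _ (ObjectProperty.hom_ext _ ((hb Q.left.obj Q.left.property).1 ?_))
    exact (congrArg (fun t : (DCoh.RpushQ f hf).obj Q.left ⟶ M => t.hom) (CostructuredArrow.w g)).trans
      (hs Q).choose_spec.symm
  exact isLeftAdjoint_of_costructuredArrowTerminals _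

end Groth.Agent.BC8
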