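import Groth.Agent.Lib.BC8.Wrap
import Groth.Agent.Lib.BC8.RightAdj
import Groth.Agent.Lib.DGen9.PerfPush

/-!
Preservation of coproducts by right adjoints under base change.
-/

set_option autoImplicit false
set_option linter.unusedSectionVars false
set_option linter.style.haveILetI false
set_option backward.isDefEq.respectTransparency false
set_option backward.isDefEq.respectTransparency.types false
set_option maxHeartbeats 800000

universe u

open CategoryTheory CategoryTheory.Limits AlgebraicGeometry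

attribute [local instance] HasDerivedCategory.standard

namespace Groth.Agent.BC8

variable {X Y X' Y' : Scheme.{u}}

/-- The coproduct cofan in `D_QCoh`. -/
noncomputable def cofanQ {J : Type u} (K : J → DCoh.DQCoh X) [HasCoproduct fun j => (K j).obj] : Cofan K :=
  Cofan.mk (⟨∐ fun j => (K j).obj, DPerf.isQCohD_sigma _ fun j => (K j).property⟩ : DCoh.DQCoh X)
    fun j => ObjectProperty.homMk (Sigma.ι (fun j => (K j).obj) j)

/-- It is a colimit. -/
noncomputable def isColimitCofanQ {J : Type u} (K : J → DCoh.DQCoh X) [HasCoproduct fun j => (K j).obj] :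
    IsColimit (cofanQ K) :=
  Cofan.IsColimit.mk _ (fun s => ObjectProperty.homMk (Sigma.desc fun j => (s.inj j).hom))
    (fun s j => ObjectProperty.hom_ext _ (Sigma.ι_desc _ _))
    (fun s m hm => ObjectProperty.hom_ext _ (Sigma.hom_ext _ _ fun j => by
      rw [ObjectProperty.homMk_hom, Sigma.ι_desc]
      exact congrArg (fun t => t.hom) (hm j)))

theorem hasCoproductsQ (J : Type u) : HasColimitsOfShape (Discrete J) (DCoh.DQCoh X) :=
  ⟨fun F =>
    haveI : HasColimit (Discrete.functor (F.obj ∘ Discrete.mk)) :=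
      haveI : HasCoproduct fun j => ((F.obj ∘ Discrete.mk) j).obj := DPush.hasCoproduct_D _
      ⟨⟨⟨cofanQ _, isColimitCofanQ _⟩⟩⟩
    hasColimit_of_iso Discrete.natIsoFunctor⟩

theorem preservesCoproducts_rpushQ (k : X' ⟶ X) [QuasiCompact k] [QuasiSeparated k] [DCoh.HasRpush k]
    (hk : DCoh.RpushPreservesQCoh k) (J : Type u) : PreservesColimitsOfShape (Discrete J) (DCoh.RpushQ k hk) := by
  suffices h : ∀ K : J → DCoh.DQCoh X', PreservesColimit (Discrete.functor K) (DCoh.RpushQ k hk) from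
    ⟨fun {F} => haveI := h (F.obj ∘ Discrete.mk); preservesColimit_of_iso_diagram _ Discrete.natIsoFunctor.symm⟩
  intro K
  let Kd := fun j => (K j).obj
  let Rd := fun j => (DCoh.Rpush k).obj (K j).obj
  haveI := DPush.hasCoproduct_D Kd
  haveI := DPush.hasCoproduct_D Rd
  haveI : IsIso (sigmaComparison (DCoh.Rpush k) Kd) := S1000.result k Kd fun j => (K j).property
  refine preservesColimit_of_preserves_colimit_cocone (isColimitCofanQ K)
    ((isColimitMapCoconeCofanMkEquiv _ _ _).symm ?_)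
  exact Cofan.IsColimit.mk _
    (fun s => ObjectProperty.homMk (inv (sigmaComparison (DCoh.Rpush k) Kd) ≫ Sigma.desc fun j => (s.inj j).hom))
    (fun s j => ObjectProperty.hom_ext _ (by
      show (DCoh.Rpush k).map (Sigma.ι Kd j) ≫ inv (sigmaComparison (DCoh.Rpush k) Kd) ≫ _ = _
      rw [← ι_comp_sigmaComparison (DCoh.Rpush k) Kd j, Category.assoc, IsIso.hom_inv_id_assoc, Sigma.ι_desc]))
    (fun s m hm => ObjectProperty.hom_ext _ (by
      show m.hom = inv (sigmaComparison (DCoh.Rpush k) Kd) ≫ Sigma.desc fun j => (s.inj j).hom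
      rw [IsIso.eq_inv_comp]
      refine Sigma.hom_ext _ _ fun j => ?_
      rw [ι_comp_sigmaComparison_assoc, Sigma.ι_desc]
      exact congrArg (fun t => t.hom) (hm j)))

theorem refl_iff_reflects {k : X' ⟶ X} [DCoh.HasRpush k] (h : Refl k) (hk : DCoh.RpushPreservesQCoh k) :
    (DCoh.RpushQ k hk).ReflectsIsomorphisms where
  reflects {A B} v hv := by
    haveI : IsIso v.hom := h A.property B.property v.hom (isIso_hom ((DCoh.RpushQ k hk).map v))
    exact isIso_q v

section Square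

variable {f : X ⟶ Y} {g : Y' ⟶ Y} {f' : X' ⟶ Y'} {g' : X' ⟶ X}
  [DCoh.HasRpush f] [DCoh.HasRpush f'] [DCoh.HasRpush g] [DCoh.HasRpush g']
  {hf : DCoh.RpushPreservesQCoh f} {hf' : DCoh.RpushPreservesQCoh f'}
  (hg : DCoh.RpushPreservesQCoh g) (hg' : DCoh.RpushPreservesQCoh g')
  {a : DCoh.DQCoh Y ⥤ DCoh.DQCoh X} {a' : DCoh.DQCoh Y' ⥤ DCoh.DQCoh X'}
  (adj : DCoh.RpushQ f hf ⊣ a) (adj' : DCoh.RpushQ f' hf' ⊣ a')

theorem xiMap_natural (e : DCoh.RpushQ g' hg' ⋙ DCoh.RpushQ f hf ≅ DCoh.RpushQ f' hf' ⋙ DCoh.RpushQ g hg)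
    {M M' : DCoh.DQCoh Y'} (v : M ⟶ M') :
    (DCoh.RpushQ g' hg').map (a'.map v) ≫ xiMap adj adj' e M' =
      xiMap adj adj' e M ≫ a.map ((DCoh.RpushQ g hg).map v) := by
  rw [xiMap, xiMap, ← adj.homEquiv_naturality_left, ← adj.homEquiv_naturality_right]
  congr 1
  have h := e.hom.naturality (a'.map v)
  dsimp only [Functor.comp_map, Functor.comp_obj] at h
  rw [reassoc_of% h, Category.assoc, ← (DCoh.RpushQ g hg).map_comp, ← (DCoh.RpushQ g hg).map_comp]
  exact congrArg (fun t => _ ≫ (DCoh.RpushQ g hg).map t) (adj'.counit.naturality v)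

include hg hg' adj adj' in
/-- If `Rg'_*` reflects isomorphisms, preservation of coproducts passes to the base change. -/
theorem preservesCoproducts_of_refl [QuasiCompact g] [QuasiSeparated g] [QuasiCompact g'] [QuasiSeparated g']
    (hgood : DBC9.Good f f' g g') (σ : DMon9.lP g ⋙ DMon9.lP f' ≅ DMon9.lP f ⋙ DMon9.lP g')
    (hrefl : Refl g') (hcop : ∀ J : Type u, PreservesColimitsOfShape (Discrete J) a) (J : Type u) :
    PreservesColimitsOfShape (Discrete J) a' := by
  let e := eOf σ (adjq g hg) (adjq g' hg') (hf := hf) (hf' := hf')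
  haveI : ∀ M, IsIso (xiMap adj adj' e M) := fun M => isIso_xi hgood σ adj adj' (adjq g hg) (adjq g' hg') M
  let η : a' ⋙ DCoh.RpushQ g' hg' ≅ DCoh.RpushQ g hg ⋙ a :=
    NatIso.ofComponents (fun M => asIso (xiMap adj adj' e M)) (fun v => xiMap_natural hg hg' adj adj' e v)
  haveI := hcop J
  haveI := preservesCoproducts_rpushQ g hg J
  haveI := preservesCoproducts_rpushQ g' hg' J
  haveI : PreservesColimitsOfShape (Discrete J) (a' ⋙ DCoh.RpushQ g' hg') := preservesColimitsOfShape_of_natIso η.symm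
  haveI := hasCoproductsQ (X := X') J
  haveI := refl_iff_reflects hrefl hg'
  haveI : ReflectsColimitsOfShape (Discrete J) (DCoh.RpushQ g' hg') := reflectsColimitsOfShape_of_reflectsIsomorphisms
  exact preservesColimitsOfShape_of_reflects_of_preserves a' (DCoh.RpushQ g' hg')

end Square

variable {f : X ⟶ Y} [DCoh.HasRpush f] {hf : DCoh.RpushPreservesQCoh f}
  {a : DCoh.DQCoh Y ⥤ DCoh.DQCoh X} (adj : DCoh.RpushQ f hf ⊣ a)

include adj in
/-- If the right adjoint preserves coproducts, direct image preserves perfection. -/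
theorem isPerfect_rpush [CompactSpace X] [QuasiSeparatedSpace X] [QuasiSeparatedSpace Y]
    (hcop : ∀ J : Type u, PreservesColimitsOfShape (Discrete J) a) (P : DCoh.D X) (hP : DCoh.IsPerfect P) :
    DCoh.IsPerfect ((DCoh.Rpush f).obj P) := by
  classical
  haveI := Dual8.additive_a adj
  refine DGen9.isPerfect_of_qFin (hf P (DGen9.isQCohD_of_isPerfect hP)) fun J E _ hE z => ?_
  let K : J → DCoh.DQCoh Y := fun j => ⟨E j, hE j⟩
  let S : DCoh.DQCoh Y := ⟨∐ E, DPerf.isQCohD_sigma _ hE⟩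
  let Pq : DCoh.DQCoh X := ⟨P, DGen9.isQCohD_of_isPerfect hP⟩
  let ι' : ∀ j, K j ⟶ S := fun j => ObjectProperty.homMk (Sigma.ι E j)
  let π' : ∀ j, S ⟶ K j := fun j => ObjectProperty.homMk (Sigma.π E j)
  let Ad := fun j => (a.obj (K j)).obj
  haveI := DPush.hasCoproduct_D Ad
  haveI := hcop J
  have hc : IsColimit (cofanQ K) := isColimitCofanQ K
  have hm : IsColimit (Cofan.mk (a.obj S) fun j => a.map (ι' j) : Cofan fun j => a.obj (K j)) :=
    isColimitMapCoconeCofanMkEquiv a _ _ (isColimitOfPreserves a hc)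
  let φ := (isColimitCofanQ fun j => a.obj (K j)).coconePointUniqueUpToIso hm
  haveI : IsIso φ.hom.hom := isIso_hom φ.hom
  have hφ : ∀ j, Sigma.ι Ad j ≫ φ.hom.hom = (a.map (ι' j)).hom := fun j =>
    congrArg (fun t => t.hom) ((isColimitCofanQ fun j => a.obj (K j)).comp_coconePointUniqueUpToIso_hom hm ⟨j⟩)
  have hπ : ∀ j, φ.hom.hom ≫ (a.map (π' j)).hom = Sigma.π Ad j := fun j => Sigma.hom_ext _ _ fun i => by
    rw [reassoc_of% (hφ i), ← ObjectProperty.FullSubcategory.comp_hom, ← a.map_comp]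
    by_cases h : i = j
    · subst h
      rw [show ι' i ≫ π' i = 𝟙 (K i) from ObjectProperty.hom_ext _ (Sigma.ι_π_eq_id E i), a.map_id,
        Sigma.ι_π_eq_id]
      rfl
    · rw [show ι' i ≫ π' j = 0 from ObjectProperty.hom_ext _ (Sigma.ι_π_of_ne E h), Functor.map_zero,
        Sigma.ι_π_of_ne _ h]
      rfl
  let zq : (DCoh.RpushQ f hf).obj Pq ⟶ S := ObjectProperty.homMk z
  let w := adj.homEquiv Pq S zq
  obtain ⟨s, hs⟩ := DGen9.qFin_of_isPerfect hP J Ad (fun j => (a.obj (K j)).property) (w.hom ≫ inv φ.hom.hom)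
  refine ⟨s, ?_⟩
  have hw : w ≫ a.map (∑ j ∈ s, π' j ≫ ι' j) = w := by
    apply ObjectProperty.hom_ext
    show w.hom ≫ (a.map (∑ j ∈ s, π' j ≫ ι' j)).hom = w.hom
    have h2 : w.hom = (w.hom ≫ inv φ.hom.hom) ≫ φ.hom.hom := by simp
    rw [Functor.map_sum, show (∑ j ∈ s, a.map (π' j ≫ ι' j)).hom = ∑ j ∈ s, (a.map (π' j ≫ ι' j)).hom from
      map_sum ((DCoh.IsQCohD (X := X)).ι.mapAddHom (X := a.obj S) (Y := a.obj S)) _ s]
    conv_rhs => rw [h2, ← hs, Category.assoc]
    conv_lhs => rw [h2, Category.assoc]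
    refine congrArg ((w.hom ≫ inv φ.hom.hom) ≫ ·) ?_
    rw [DPush.finProj_eq_sum, Preadditive.comp_sum, Preadditive.sum_comp]
    refine Finset.sum_congr rfl fun j _ => ?_
    rw [a.map_comp, ObjectProperty.FullSubcategory.comp_hom, reassoc_of% (hπ j), Category.assoc, hφ j]
  have h3 : zq ≫ ∑ j ∈ s, π' j ≫ ι' j = zq := by
    apply (adj.homEquiv Pq S).injective
    rw [adj.homEquiv_naturality_right]
    exact hw
  rw [DPush.finProj_eq_sum]
  refine Eq.trans (congrArg (z ≫ ·) ?_) (congrArg (fun t => t.hom) h3)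
  exact (map_sum ((DCoh.IsQCohD (X := Y)).ι.mapAddHom (X := S) (Y := S)) (fun j => π' j ≫ ι' j) s).symm

end Groth.Agent.BC8
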