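import Groth.Agent.Lib.BC8.Formal
import Groth.Agent.Lib.DMon9.ProjMap

/-!
Projection maps of a commutative square of monoidal left adjoints.
-/

set_option autoImplicit false
set_option linter.unusedSectionVars false
set_option linter.style.haveILetI false

open CategoryTheory MonoidalCategory

namespace Groth.Agent.BC8

open Functor.OplaxMonoidal Functor.LaxMonoidal DMon9

section One

variable {C D : Type*} [Category* C] [Category* D] [MonoidalCategory C] [MonoidalCategory D]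
  {L : C ⥤ D} [L.Monoidal] {R : D ⥤ C} (adj : L ⊣ R)

/-- `L U ⊗ L V ⟶ L U` from a functional on `L V`. -/
def actL {V : C} (c : L.obj V ⟶ 𝟙_ D) (U : C) : L.obj (U ⊗ V) ⟶ L.obj U :=
  δ L U V ≫ L.obj U ◁ c ≫ (ρ_ (L.obj U)).hom

theorem actL_natural {V : C} (c : L.obj V ⟶ 𝟙_ D) {U U' : C} (u : U ⟶ U') :
    L.map (u ▷ V) ≫ actL c U' = actL c U ≫ L.map u := by
  rw [actL, actL, ← δ_natural_left_assoc, ← whisker_exchange_assoc, rightUnitor_naturality]
  simp only [Category.assoc]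

/-- `A ⊗ R 𝟙 ⟶ R (L A)`. -/
def qApp (A : C) : A ⊗ R.obj (𝟙_ D) ⟶ R.obj (L.obj A) :=
  adj.homEquiv _ _ (actL (L := L) (V := R.obj (𝟙_ D)) (adj.counit.app (𝟙_ D)) A)

theorem qApp_natural {A A' : C} (u : A ⟶ A') :
    u ▷ R.obj (𝟙_ D) ≫ qApp adj A' = qApp adj A ≫ R.map (L.map u) := by
  rw [qApp, qApp, ← adj.homEquiv_naturality_left, ← adj.homEquiv_naturality_right, actL_natural]

theorem homEquiv_actL {V : C} (c : L.obj V ⟶ 𝟙_ D) (U : C) :
    adj.homEquiv _ _ (actL c U) = U ◁ adj.homEquiv _ _ c ≫ qApp adj U := by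
  rw [qApp, ← adj.homEquiv_naturality_left]
  congr 1
  rw [actL, actL, ← δ_natural_right_assoc, ← whiskerLeft_comp_assoc]
  congr 2
  rw [adj.homEquiv_unit, L.map_comp, Category.assoc]
  congr 1
  have h := adj.counit.naturality c
  dsimp at h
  rw [h, ← Category.assoc, adj.left_triangle_components, Category.id_comp]

theorem bijective_qApp (A K : C) [ExactPairing A K] [ExactPairing (L.obj A) (L.obj K)]
    (hev : ε_ (L.obj A) (L.obj K) = μ L K A ≫ L.map (ε_ A K) ≫ η L) (T : C) :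
    Function.Bijective fun x : T ⟶ A ⊗ R.obj (𝟙_ D) => x ≫ qApp adj A := by
  let E : (T ⟶ A ⊗ R.obj (𝟙_ D)) ≃ (L.obj T ⟶ L.obj A ⊗ 𝟙_ D) :=
    (tensorLeftHomEquiv T A K (R.obj (𝟙_ D))).symm.trans ((adj.homEquiv _ _).symm.trans
      ((Functor.Monoidal.μIso L K T).symm.homFromEquiv.trans
        (tensorLeftHomEquiv (L.obj T) (L.obj A) (L.obj K) (𝟙_ D))))
  have h : (fun x : T ⟶ A ⊗ R.obj (𝟙_ D) => x ≫ qApp adj A) =
      (fun y => adj.homEquiv _ _ (y ≫ (ρ_ (L.obj A)).hom)) ∘ E := by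
    funext x
    have key : E x = L.map x ≫ δ L A (R.obj (𝟙_ D)) ≫ L.obj A ◁ adj.counit.app (𝟙_ D) := by
      let y := L.map x ≫ δ L A (R.obj (𝟙_ D)) ≫ L.obj A ◁ adj.counit.app (𝟙_ D)
      have e : (tensorLeftHomEquiv (L.obj T) (L.obj A) (L.obj K) (𝟙_ D)).symm y =
          μ L K T ≫ (adj.homEquiv _ _).symm ((tensorLeftHomEquiv T A K (R.obj (𝟙_ D))).symm x) := by
        show L.obj K ◁ y ≫ (α_ _ _ _).inv ≫ ε_ (L.obj A) (L.obj K) ▷ 𝟙_ D ≫ (λ_ (𝟙_ D)).hom =
          μ L K T ≫ (adj.homEquiv _ _).symm (K ◁ x ≫ (α_ _ _ _).inv ≫ ε_ A K ▷ R.obj (𝟙_ D) ≫ (λ_ _).hom)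
        rw [hev, adj.homEquiv_counit]
        simp only [y, Functor.map_comp, MonoidalCategory.whiskerLeft_comp, comp_whiskerRight, Category.assoc]
        dsimp only [Functor.id_obj, Functor.comp_obj]
        rw [associator_inv_naturality_right_assoc, whisker_exchange_assoc, whisker_exchange_assoc,
          whisker_exchange_assoc, leftUnitor_naturality, Functor.Monoidal.map_associator_inv,
          Functor.Monoidal.map_leftUnitor, Functor.Monoidal.map_whiskerLeft, Functor.Monoidal.map_whiskerRight]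
        simp only [Category.assoc, Functor.Monoidal.μ_δ_assoc]
      exact ((congrArg _ e).symm.trans (Equiv.apply_symm_apply _ y))
    rw [Function.comp_apply, key, qApp, ← adj.homEquiv_naturality_left]
    simp only [actL, Category.assoc]
  rw [h]
  exact (((adj.homEquiv _ _).bijective.comp (ρ_ (L.obj A)).homToEquiv.bijective)).comp E.bijective

end One

section Square

variable {A A' B B' : Type*} [Category* A] [Category* A'] [Category* B] [Category* B'] [MonoidalCategory A]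
  [MonoidalCategory A'] [MonoidalCategory B] [MonoidalCategory B']
  {G : A ⥤ A'} {G' : B ⥤ B'} {L : A ⥤ B} {L' : A' ⥤ B'} [G.Monoidal] [G'.Monoidal] [L.Monoidal] [L'.Monoidal]
  {R : B ⥤ A} {R' : B' ⥤ A'} (adj : L ⊣ R) (adj' : L' ⊣ R') (σ : G ⋙ L' ≅ L ⋙ G')

/-- The functional pulled back. -/
def pullC {V : A} (c : G.obj V ⟶ 𝟙_ A') : G'.obj (L.obj V) ⟶ 𝟙_ B' := σ.inv.app V ≫ L'.map c ≫ η L'

theorem sigma_act (hσ : ∀ U V : A, μ L' (G.obj U) (G.obj V) ≫ L'.map (μ G U V) ≫ σ.hom.app (U ⊗ V) =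
    (σ.hom.app U ⊗ₘ σ.hom.app V) ≫ μ G' (L.obj U) (L.obj V) ≫ G'.map (μ L U V))
    {V : A} (c : G.obj V ⟶ 𝟙_ A') (U : A) :
    σ.hom.app (U ⊗ V) ≫ G'.map (δ L U V) ≫ actL (pullC σ c) (L.obj U) = L'.map (actL c U) ≫ σ.hom.app U := by
  have h1 : σ.hom.app (U ⊗ V) ≫ G'.map (δ L U V) ≫ δ G' (L.obj U) (L.obj V) =
      L'.map (δ G U V) ≫ δ L' (G.obj U) (G.obj V) ≫ (σ.hom.app U ⊗ₘ σ.hom.app V) := by
    rw [← cancel_epi (L'.map (μ G U V)), ← cancel_epi (μ L' (G.obj U) (G.obj V))]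
    have hσ' := hσ U V
    dsimp at hσ' ⊢
    rw [reassoc_of% hσ', ← L'.map_comp_assoc, Functor.Monoidal.μ_δ, CategoryTheory.Functor.map_id, Category.id_comp,
      Functor.Monoidal.μ_δ_assoc, ← G'.map_comp_assoc, Functor.Monoidal.μ_δ, CategoryTheory.Functor.map_id,
      Category.id_comp, Functor.Monoidal.μ_δ, Category.comp_id]
  simp only [actL, pullC]
  dsimp at h1 ⊢
  rw [reassoc_of% h1, L'.map_comp, L'.map_comp, Functor.Monoidal.map_whiskerLeft, Functor.Monoidal.map_rightUnitor]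
  simp only [Category.assoc, Functor.Monoidal.μ_δ_assoc]
  rw [MonoidalCategory.tensorHom_def_assoc, ← whiskerLeft_comp_assoc, Iso.hom_inv_id_app_assoc,
    whiskerLeft_comp_assoc, ← whisker_exchange_assoc, ← whisker_exchange_assoc, rightUnitor_naturality]

/-- The projection map is compatible with base change. -/
theorem proj_bc (hσ : ∀ U V : A, μ L' (G.obj U) (G.obj V) ≫ L'.map (μ G U V) ≫ σ.hom.app (U ⊗ V) =
    (σ.hom.app U ⊗ₘ σ.hom.app V) ≫ μ G' (L.obj U) (L.obj V) ≫ G'.map (μ L U V))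
    {V : A} (c : G.obj V ⟶ 𝟙_ A') (E : B) :
    G.map (projApp adj E V) ≫ (DBC9.bc adj adj' σ.hom).app (E ⊗ L.obj V) ≫ R'.map (actL (pullC σ c) E) =
      actL c (R.obj E) ≫ (DBC9.bc adj adj' σ.hom).app E := by
  refine (adj'.homEquiv _ _).symm.injective ?_
  rw [← Category.assoc, adj'.homEquiv_naturality_right_symm, adj'.homEquiv_naturality_left_symm,
    adj'.homEquiv_naturality_left_symm,
    DBC9.bc_app, DBC9.bc_app]
  dsimp only [Functor.id_obj, Functor.comp_obj]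
  rw [Equiv.symm_apply_apply, Equiv.symm_apply_apply]
  have hn := σ.hom.naturality (projApp adj E V)
  dsimp at hn
  simp only [Category.assoc]
  rw [reassoc_of% hn, ← G'.map_comp_assoc]
  have hp : L.map (projApp adj E V) ≫ adj.counit.app (E ⊗ L.obj V) = δ L (R.obj E) V ≫ adj.counit.app E ▷ L.obj V := by
    exact (adj.homEquiv_counit _ _ _).symm.trans (Equiv.symm_apply_apply _ _)
  rw [hp, G'.map_comp, Category.assoc]
  refine (congrArg (fun t => _ ≫ _ ≫ t) (actL_natural (L := G') (pullC σ c) (adj.counit.app E))).trans ?_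
  exact (reassoc_of% (sigma_act σ hσ c (R.obj E))) (G'.map (adj.counit.app E))

end Square

end Groth.Agent.BC8
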