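import Groth.Agent.Lib.AB5.Basic
import Groth.Agent.Lib.Depth3.Zero
import Groth.Agent.Lib.Depth.CM
import Groth.Agent.Lib.EnriquesSeveri11.Proper
import Groth.Agent.Lib.RefHull26.Free
import Groth.Agent.Lib.CurveCoh17.TensorExact
import Groth.Agent.Lib.VB17.Setup

/-! A torsion-free sheaf on a curve in a regular surface has projective dimension one. -/

set_option autoImplicit false
set_option linter.style.haveILetI false
set_option linter.unusedSectionVars false
set_option backward.isDefEq.respectTransparency false
set_option backward.isDefEq.respectTransparency.types false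

universe u

open CategoryTheory CategoryTheory.Limits AlgebraicGeometry IsLocalRing

noncomputable section

namespace Groth.Agent.BC8.CurveRes

open Groth.Agent

/-- A torsion-free module over a local domain that is not a field has positive depth. -/
theorem one_le_depth_of_torsionFree {R M : Type u} [CommRing R] [IsDomain R] [IsLocalRing R] [IsNoetherianRing R]
    [AddCommGroup M] [Module R M] [Module.Finite R M] [Module.IsTorsionFree R M] (h : ¬ IsField R) :
    (1 : ℕ∞) ≤ LocCoh.depth R M := by
  refine Order.one_le_iff_ne_zero.2 fun h0 => ?_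
  obtain ⟨hm, v, hv⟩ := Depth3.depth_eq_zero_iff.1 h0
  obtain ⟨r, hr, hr0⟩ := (Submodule.ne_bot_iff _).1 fun hb =>
    h (IsLocalRing.isField_iff_maximalIdeal_eq.2 hb)
  obtain ⟨n, hn⟩ : r ∈ ((⊥ : Submodule R M).colon {v}).radical := hv ▸ hr
  rw [Submodule.mem_colon_singleton, Submodule.mem_bot, smul_eq_zero] at hn
  rcases hn with hn | hn
  · exact hr0 (eq_zero_of_pow_eq_zero hn)
  · refine hm.ne_top (hv ▸ ?_)
    subst hn
    simp

variable {S C : Scheme.{u}} [IsLocallyNoetherian S] (hreg : ∀ x : S, IsRegularLocalRing (S.presheaf.stalk x))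
  (hdim : topologicalKrullDim S ≤ 2) [IsIntegral C] (j : C ⟶ S) [IsClosedImmersion j]
  (hC : topologicalKrullDim C = 1) {M : C.Modules} (hM : Coh.IsCoh M) (hMtf : TorSh.IsTorsionFree M)

include hreg hdim hC hM hMtf

theorem pd_stalk_le_one (x : S) :
    RegLoc.PD (S.presheaf.stalk x) (((Scheme.Modules.pushforward j).obj M).presheaf.stalk x) 1 := by
  haveI := hreg x
  let F := (Scheme.Modules.pushforward j).obj M
  have hF : Coh.IsCoh F := CohFound.isCoh_push_closedImm j hM
  haveI : Module.Finite (S.presheaf.stalk x) (F.presheaf.stalk x) :=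
    M1.finite_stalk hF.1 (M1.isFP_isFT (M1.isFP_of_isCoh hF)) x
  rcases subsingleton_or_nontrivial (F.presheaf.stalk x) with hs | hs
  · haveI : Module.Projective (S.presheaf.stalk x) (F.presheaf.stalk x) := inferInstance
    exact RegLoc.PD.of_projective 1
  obtain ⟨t, ht⟩ : ∃ t : ℕ, ringKrullDim (S.presheaf.stalk x) = t :=
    ⟨_, (IsRegularLocalRing.spanFinrank_maximalIdeal (R := S.presheaf.stalk x)).symm⟩
  have ht2 : t ≤ 2 := by
    have h := (VB17.ringKrullDim_stalk_le_topologicalKrullDim x).trans hdim
    rw [ht] at h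
    exact_mod_cast h
  obtain ⟨d, hd⟩ := DepthLib.exists_depth_eq_natCast (R := S.presheaf.stalk x) (M := F.presheaf.stalk x)
  refine (AB5.pd_iff_of_regular ht hd 1).2 ?_
  obtain ⟨z, rfl⟩ : x ∈ Set.range j := by
    by_contra hx
    haveI : Subsingleton (F.presheaf.stalk x) := subsingleton_of_forall_eq 0 fun a => M1.eq_zero_stalk_push j M hx a
    exact false_of_nontrivial_of_subsingleton (F.presheaf.stalk x)
  by_cases hz : IsField (C.presheaf.stalk z)
  · have hmax : IsMax z := Order.coheight_eq_zero.1 (by
      have h := ringKrullDim_stalk_eq_coheight z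
      rw [ringKrullDim_eq_zero_of_isField hz] at h
      exact_mod_cast h.symm)
    obtain ⟨z', hz'⟩ : ∃ z' : C, z' ≠ z := by
      by_contra hall
      push Not at hall
      haveI : Subsingleton C := ⟨fun a b => (hall a).trans (hall b).symm⟩
      haveI : Subsingleton (TopologicalSpace.IrreducibleCloseds C) := ⟨fun a b =>
        TopologicalSpace.IrreducibleCloseds.ext (by
          obtain ⟨p, hp⟩ := a.isIrreducible.nonempty
          obtain ⟨q, hq⟩ := b.isIrreducible.nonempty
          exact Set.ext fun r => ⟨fun _ => Subsingleton.elim q r ▸ hq, fun _ => Subsingleton.elim p r ▸ hp⟩)⟩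
      have h1 : topologicalKrullDim C ≤ 0 := Order.krullDim_nonpos_of_subsingleton
      rw [hC] at h1
      exact absurd h1 (by norm_num)
    have hzη : z = genericPoint C := by
      have h1 : z ≤ genericPoint C := genericPoint_specializes z
      exact Specializes.antisymm (hmax h1 :) (genericPoint_specializes z) |>.eq
    have hlt : j z' < j z := by
      have hsp : z ⤳ z' := hzη ▸ genericPoint_specializes z'
      exact ⟨hsp.map j.continuous, fun h => hz' (j.isClosedEmbedding.injective
        (Specializes.antisymm (h :) (hsp.map j.continuous)).eq)⟩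
    have h1 := Order.coheight_add_one_le hlt
    have h2 := (VB17.ringKrullDim_stalk_le_topologicalKrullDim (j z')).trans hdim
    rw [ringKrullDim_stalk_eq_coheight] at h2
    have h3 := ringKrullDim_stalk_eq_coheight (j z)
    rw [ht] at h3
    have h3' : Order.coheight (j z) = (t : ℕ∞) := by exact_mod_cast h3.symm
    have h2' : Order.coheight (j z') ≤ 2 := WithBot.coe_le_coe.1 h2
    rw [h3'] at h1
    have h4 : ((t : ℕ∞) + 1) ≤ 2 := h1.trans h2'
    have : t + 1 ≤ 2 := by exact_mod_cast h4
    omega
  · haveI : Module.Finite (C.presheaf.stalk z) (M.presheaf.stalk z) :=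
      haveI : IsLocallyNoetherian C := LocallyOfFiniteType.isLocallyNoetherian j
      M1.finite_stalk hM.1 (M1.isFP_isFT (M1.isFP_of_isCoh hM)) z
    haveI := hMtf z
    haveI : IsLocallyNoetherian C := LocallyOfFiniteType.isLocallyNoetherian j
    have h1 := one_le_depth_of_torsionFree (M := M.presheaf.stalk z) hz
    rw [← ES11.depth_push_stalk j M z, hd] at h1
    have : 1 ≤ d := by exact_mod_cast h1
    omega

/-- The kernel of a locally free presentation of such a sheaf is locally free. -/
theorem isFinLocFree_kernel {E : S.Modules} (hE : FlatMod.IsFinLocFree E)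
    (π : E ⟶ (Scheme.Modules.pushforward j).obj M) [Epi π] : FlatMod.IsFinLocFree (kernel π) := by
  let F := (Scheme.Modules.pushforward j).obj M
  have hF : Coh.IsCoh F := CohFound.isCoh_push_closedImm j hM
  have hE' : Coh.IsCoh E := (M1.isCoh_iff_isFP E).2 (M1.isFP_of_isFinLocFree hE)
  have hK : Coh.IsCoh (kernel π) := M1.isCoh_kernel hE' hF.1 π
  refine (M1.isFinLocFree_iff _).2 ⟨M1.isFP_of_isCoh hK, fun x => ?_⟩
  haveI := M1.finite_stalk hK.1 (M1.isFP_isFT (M1.isFP_of_isCoh hK)) x
  haveI : Module.Free (S.presheaf.stalk x) (E.presheaf.stalk x) := ((M1.isFinLocFree_iff E).1 hE).2 x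
  let f := CurveCoh17.stalkLin π x
  let i := CurveCoh17.stalkLin (kernel.ι π) x
  have hf : Function.Surjective f := (M1.epi_iff_stalk π).1 inferInstance x
  have hi : Function.Injective i := (M1.mono_iff_stalk (kernel.ι π)).1 inferInstance x
  have hex : Function.Exact i f := fun b => ⟨fun hb =>
    (M1.exact_iff_stalk_eq_zero (ShortComplex.mk (kernel.ι π) π (kernel.condition π))).1
      (ShortComplex.exact_kernel π) x b hb, fun ⟨a, ha⟩ => by
      rw [← ha]
      show (M1.stalkAb x).map π ((M1.stalkAb x).map (kernel.ι π) a) = 0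
      rw [← ConcreteCategory.comp_apply, ← Functor.map_comp, kernel.condition, Functor.map_zero]
      rfl⟩
  have h0 : RegLoc.PD (S.presheaf.stalk x) (LinearMap.ker f) 0 :=
    (RegLoc.pd_succ_iff f hf).1 (pd_stalk_le_one hreg hdim j hC hM hMtf x)
  haveI := RegLoc.pd_zero_iff.1 h0
  let e : (kernel π).presheaf.stalk x ≃ₗ[S.presheaf.stalk x] LinearMap.ker f :=
    (LinearEquiv.ofInjective i hi).trans (LinearEquiv.ofEq _ _ hex.linearMap_ker_eq.symm)
  haveI := Module.Projective.of_equiv e.symm
  exact Module.free_of_flat_of_isLocalRing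

end Groth.Agent.BC8.CurveRes
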