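import Groth.Agent.Lib.DerTrunc.Basic
import Groth.Agent.Lib.DGen9.Spec

/-! Maps from objects in degrees `≤ n` to objects in degrees `≥ n`. -/

set_option autoImplicit false
set_option linter.style.haveILetI false
set_option linter.unusedSectionVars false
set_option backward.isDefEq.respectTransparency false
set_option backward.isDefEq.respectTransparency.types false

universe w v u

open CategoryTheory CategoryTheory.Limits CategoryTheory.Triangulated

noncomputable section

namespace Groth.Agent.BC8

open DerivedCategory.TStructure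

section Gen

variable {A : Type u} [Category.{v} A] [Abelian A] [HasDerivedCategory.{w} A]

local notation "HH" => DerivedCategory.homologyFunctor A

/-- Maps from degrees `≤ n` to degrees `≥ n` are maps on `H^n`. -/
theorem bijective_homologyFunctor_map {M N : DerivedCategory A} (n : ℤ) [M.IsLE n] [N.IsGE n] :
    Function.Bijective (fun h : M ⟶ N => (HH n).map h) := by
  refine ⟨fun g g' h => sub_eq_zero.1 (DerTrunc.hom_eq_zero_of_isLE_of_isGE n _ ?_), fun ψ => ?_⟩
  · rw [Functor.map_sub]; exact sub_eq_zero.2 h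
  let P := (t.truncGE n).obj M
  let R := (t.truncLT (n + 1)).obj N
  haveI : DerivedCategory.IsGE P n := (inferInstance : t.IsGE ((t.truncGE n).obj M) n)
  haveI : t.IsLE M n := inferInstanceAs (M.IsLE n)
  haveI : t.IsGE N n := inferInstanceAs (N.IsGE n)
  haveI : DerivedCategory.IsLE P n := (inferInstance : t.IsLE ((t.truncGE n).obj M) n)
  haveI : DerivedCategory.IsLE R n :=
    (t.isLE_truncLT_obj N (n + 1) n le_rfl : t.IsLE ((t.truncLT (n + 1)).obj N) n)
  haveI : DerivedCategory.IsGE R n := (inferInstance : t.IsGE ((t.truncLT (n + 1)).obj N) n)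
  haveI := DerTrunc.isIso_homology_truncGEπ M n n le_rfl
  haveI := DerTrunc.isIso_homology_truncLTι N (n + 1) n (by omega)
  obtain ⟨Z, ⟨eP⟩⟩ := DerivedCategory.exists_iso_singleFunctor_obj_of_isGE_of_isLE P n
  obtain ⟨Y, ⟨eR⟩⟩ := DerivedCategory.exists_iso_singleFunctor_obj_of_isGE_of_isLE R n
  let θ := DerivedCategory.singleFunctorCompHomologyFunctorIso A n
  let g : Z ⟶ Y := θ.inv.app Z ≫ (HH n).map eP.inv ≫ inv ((HH n).map ((t.truncGEπ n).app M)) ≫ ψ ≫
    inv ((HH n).map ((t.truncLTι (n + 1)).app N)) ≫ (HH n).map eR.hom ≫ θ.hom.app Y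
  refine ⟨(t.truncGEπ n).app M ≫ eP.hom ≫ (DerivedCategory.singleFunctor A n).map g ≫ eR.inv ≫
    (t.truncLTι (n + 1)).app N, ?_⟩
  have hg : (HH n).map ((DerivedCategory.singleFunctor A n).map g) = θ.hom.app Z ≫ g ≫ θ.inv.app Y := by
    rw [← cancel_mono (θ.hom.app Y), Category.assoc, Category.assoc, Iso.inv_hom_id_app]
    exact (θ.hom.naturality g).trans (congrArg _ (Category.comp_id g).symm)
  dsimp only
  simp only [Functor.map_comp]
  rw [hg]
  simp only [g, Category.assoc, Iso.hom_inv_id_app_assoc, Iso.map_hom_inv_id_assoc]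
  simp only [Functor.comp_obj, ← Functor.map_comp, ← Functor.map_comp_assoc, Iso.hom_inv_id, Functor.map_id,
    Category.comp_id, Category.id_comp, IsIso.hom_inv_id_assoc, IsIso.inv_hom_id]

/-- The inclusion of the cohomology in the lowest degree. -/
theorem exists_lowest_map (K : DerivedCategory A) (n : ℤ) [K.IsGE n] :
    ∃ c : (DerivedCategory.singleFunctor A n).obj ((HH n).obj K) ⟶ K,
      ∀ F : A, Function.Bijective
        (fun φ : F ⟶ (HH n).obj K => (DerivedCategory.singleFunctor A n).map φ ≫ c) := by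
  let θ := DerivedCategory.singleFunctorCompHomologyFunctorIso A n
  obtain ⟨c, hc⟩ := (bijective_homologyFunctor_map
    (M := (DerivedCategory.singleFunctor A n).obj ((HH n).obj K)) (N := K) n).2 (θ.hom.app _)
  refine ⟨c, fun F => ?_⟩
  have key : (fun φ : F ⟶ (HH n).obj K => (HH n).map ((DerivedCategory.singleFunctor A n).map φ ≫ c)) =
      fun φ => θ.hom.app F ≫ φ := funext fun φ => by
    rw [Functor.map_comp, show (HH n).map c = θ.hom.app _ from hc]
    exact θ.hom.naturality φ
  have hb : Function.Bijective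
      ((fun h : (DerivedCategory.singleFunctor A n).obj F ⟶ K => (HH n).map h) ∘
        fun φ : F ⟶ (HH n).obj K => (DerivedCategory.singleFunctor A n).map φ ≫ c) := by
    show Function.Bijective (fun φ : F ⟶ (HH n).obj K => (HH n).map ((DerivedCategory.singleFunctor A n).map φ ≫ c))
    rw [key]
    exact
      ⟨fun a b e => (cancel_epi (θ.hom.app F)).1 e, fun y => ⟨θ.inv.app F ≫ y, Iso.hom_inv_id_app_assoc θ F y⟩⟩
  exact (bijective_homologyFunctor_map (M := (DerivedCategory.singleFunctor A n).obj F) (N := K) n).of_comp_iff' _ |>.1 hb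

end Gen

section Ring

attribute [local instance] HasDerivedCategory.standard

variable {R : Type u} [CommRing R]

theorem eltEquiv_comp (n : ℤ) {M N : Dual.D R} (x : DGen9.pt n ⟶ M) (h : M ⟶ N) :
    DGen9.eltEquiv n N (x ≫ h) =
      ((DerivedCategory.homologyFunctor (ModuleCat.{u} R) n).map h).hom (DGen9.eltEquiv n M x) := by
  show (SiteRlim.θ (A := ModuleCat.{u} R) (x ≫ h) : ModuleCat.of R R ⟶ _).hom (1 : R) = _
  rw [SiteRlim.θ_comp]
  rfl

/-- A map out of degrees `≤ n` into degrees `≥ n` is a functional on the classes in degree `n`. -/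
theorem bijective_rightComp_pt (n : ℤ) {M N : Dual.D R} [M.IsLE n] [N.IsGE n] :
    Function.Bijective (fun h : M ⟶ N => Linear.rightComp R (DGen9.pt n) h) := by
  have hb := bijective_homologyFunctor_map (M := M) (N := N) n
  refine ⟨fun g g' hh => hb.1 (ModuleCat.hom_ext (LinearMap.ext fun m => ?_)), fun L => ?_⟩
  · obtain ⟨x, rfl⟩ := (DGen9.eltEquiv n M).surjective m
    have := congrArg (DGen9.eltEquiv n N) (LinearMap.congr_fun hh x)
    exact (eltEquiv_comp n x g).symm.trans (this.trans (eltEquiv_comp n x g'))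
  · obtain ⟨h, hh⟩ := hb.2 (ModuleCat.ofHom
      ((DGen9.eltEquiv n N).toLinearMap ∘ₗ L ∘ₗ (DGen9.eltEquiv n M).symm.toLinearMap))
    refine ⟨h, LinearMap.ext fun x => (DGen9.eltEquiv n N).injective ?_⟩
    refine (eltEquiv_comp n x h).trans ?_
    rw [show (DerivedCategory.homologyFunctor (ModuleCat.{u} R) n).map h = _ from hh]
    simp

end Ring

end Groth.Agent.BC8
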