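import Groth.Agent.Lib.BC8.DlzDim
import Groth.Agent.Lib.Dlz27.CMLocus
import Groth.Agent.Lib.FlatDepth.Fibre

/-! The single cohomology module of a dualizing complex is Cohen–Macaulay. -/

set_option autoImplicit false
set_option linter.style.haveILetI false
set_option linter.unusedSectionVars false
set_option backward.isDefEq.respectTransparency false
set_option backward.isDefEq.respectTransparency.types false
set_option maxHeartbeats 1000000

universe u

open CategoryTheory CategoryTheory.Limits AlgebraicGeometry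

attribute [local instance] HasDerivedCategory.standard

noncomputable section

namespace Groth.Agent.BC8

open Dlz27

theorem isCM_module_of_single {A : Type u} [CommRing A] [IsNoetherianRing A] {ω : Dual.D A}
    (hω : Dual.IsDualizing A ω) (c : ℤ) (h : ∀ i ≠ c, Subsingleton (Dual.HD A ω i)) (p : PrimeSpectrum A)
    (hp : Nontrivial (LocalizedModule p.asIdeal.primeCompl (Dual.HD A ω c))) :
    LocCoh.IsCohenMacaulayModule (Localization.AtPrime p.asIdeal)
      (LocalizedModule p.asIdeal.primeCompl (Dual.HD A ω c)) := by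
  haveI : ω.IsGE c := (DMod.isGE_iff ω c).2 fun i hi => h i (by omega)
  haveI : ω.IsLE c := (DMod.isLE_iff ω c).2 fun i hi => h i (by omega)
  obtain ⟨Y, ⟨e⟩⟩ := DerivedCategory.exists_iso_singleFunctor_obj_of_isGE_of_isLE ω c
  let eY : (DerivedCategory.homologyFunctor (ModuleCat.{u} A) c).obj ω ≅ Y :=
    (DerivedCategory.homologyFunctor _ c).mapIso e ≪≫
      (DerivedCategory.singleFunctorCompHomologyFunctorIso (ModuleCat.{u} A) c).app Y
  haveI := hω.finite_cohomology c
  let e₀ : Dual.inD A (Dual.HD A ω c) ≅ ω⟦c⟧ :=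
    (DerivedCategory.singleFunctor (ModuleCat.{u} A) 0).mapIso eY ≪≫
      (((DerivedCategory.singleFunctors (ModuleCat.{u} A)).shiftIso c 0 c (by omega)).app Y).symm ≪≫
      (shiftFunctor (Dual.D A) c).mapIso e.symm
  let M := model hω
  refine ((single_iff hω M p (Dual.HD A ω c)).2 ?_).resolve_left (not_subsingleton_iff_nontrivial.2 hp)
  suffices key : ∀ i, i ≠ c → VanS M.W p.asIdeal.primeCompl (Dual.HD A ω c) i by
    intro i j hi hj
    by_contra hne
    rcases eq_or_ne i c with rfl | hic
    · exact hj (key j (Ne.symm hne))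
    · exact hi (key i hic)
  intro i hi
  refine (vanS_iff_hom M p.asIdeal.primeCompl _ i).2 fun φ => ⟨1, ?_⟩
  haveI : Subsingleton (ω ⟶ ω⟦i - c⟧) := hω.ext_self_subsingleton _ (by omega)
  haveI : Subsingleton (ω⟦c⟧ ⟶ ω⟦i⟧) :=
    (((Functor.FullyFaithful.ofFullyFaithful (shiftFunctor (Dual.D A) c)).homEquiv (X := ω) (Y := ω⟦i - c⟧)).trans
      (Iso.homCongr (Iso.refl _) ((shiftFunctorAdd' (Dual.D A) (i - c) c i (by omega)).app ω).symm)).symm.subsingleton
  haveI : Subsingleton (Dual.inD A (Dual.HD A ω c) ⟶ ω⟦i⟧) := (Iso.homCongr e₀ (Iso.refl _)).subsingleton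
  exact Subsingleton.elim _ _

/-- Cohen–Macaulay modules transport along semilinear equivalences. -/
theorem isCMModule_of_semilinear {R R' : Type u} [CommRing R] [IsLocalRing R] [CommRing R'] [IsLocalRing R']
    [IsNoetherianRing R] (σ : R ≃+* R') {N N' : Type u} [AddCommGroup N] [Module R N] [AddCommGroup N'] [Module R' N']
    [Module.Finite R' N'] (e : N ≃+ N') (h : ∀ a v, e (a • v) = σ a • e v)
    (hk : LocCoh.IsCohenMacaulayModule R' N') : LocCoh.IsCohenMacaulayModule R N := by
  letI : Algebra R R' := σ.toRingHom.toAlgebra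
  letI : Module R N' := Module.compHom N' σ.toRingHom
  haveI : IsScalarTower R R' N' := IsScalarTower.of_algebraMap_smul fun _ _ => rfl
  let l : N ≃ₗ[R] N' := { e with map_smul' := h }
  haveI : IsNoetherianRing R' := isNoetherianRing_of_ringEquiv R σ
  haveI : Module.Finite R R' := Module.Finite.of_surjective (Algebra.linearMap R R') σ.surjective
  haveI : Module.Finite R N' := Module.Finite.trans R' N'
  show Module.supportDim R N = _
  rw [Module.supportDim_eq_of_equiv l, FlatDepth.supportDim_eq_of_surjective N' σ.surjective, hk,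
    show LocCoh.depth R N = LocCoh.idealDepth (IsLocalRing.maximalIdeal R) N from rfl, DepthLib.idealDepth_congr l]
  exact congrArg _ (FlatDepth.depth_eq_of_surjective N' σ.surjective).symm

variable {X : Scheme.{u}} [IsLocallyNoetherian X]
  [∀ (U : Scheme.{u}) (j : U ⟶ X) [IsOpenImmersion j], PreservesFiniteLimits (Scheme.Modules.restrictFunctor j)]
  [∀ (R : CommRingCat.{u}), PreservesFiniteLimits (tilde.functor R)] {K : DCoh.D X}

theorem isCM_stalk_of_single (hK : Dual2.IsDualizingSch X K) (c : ℤ) (h : ∀ i ≠ c, IsZero (DCoh.HD K i)) (x : X)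
    (hx : Nontrivial ((DCoh.HD K c).presheaf.stalk x)) :
    LocCoh.IsCohenMacaulayModule (X.presheaf.stalk x) ((DCoh.HD K c).presheaf.stalk x) := by
  obtain ⟨C, q, rfl⟩ := exists_dlzChart hK x
  obtain ⟨σ, e, he⟩ := DlzSch27.exists_stalkEquiv_aux K C.j C.ω C.mdl q c
  haveI := C.dualizing.finite_cohomology c
  haveI : Module.Finite (Localization.AtPrime q.asIdeal)
      (LocalizedModule q.asIdeal.primeCompl (Dual.HD C.R C.ω c)) :=
    Module.Finite.of_isLocalizedModule q.asIdeal.primeCompl
      (LocalizedModule.mkLinearMap q.asIdeal.primeCompl (Dual.HD C.R C.ω c))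
  exact isCMModule_of_semilinear σ e he (isCM_module_of_single C.dualizing c
    (fun i hi => DlzSch27.subsingleton_HD_of_isZero C.mdl i (h i hi)) q (e.toEquiv.symm.nontrivial))

end Groth.Agent.BC8

namespace Groth.Agent.BC8

open Dlz27

variable {X : Scheme.{u}} [IsLocallyNoetherian X]
  [∀ (U : Scheme.{u}) (j : U ⟶ X) [IsOpenImmersion j], PreservesFiniteLimits (Scheme.Modules.restrictFunctor j)]
  [∀ (R : CommRingCat.{u}), PreservesFiniteLimits (tilde.functor R)] {K : DCoh.D X}
  (hK : Dual2.IsDualizingSch X K)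
include hK

/-- At a Cohen–Macaulay point only one degree occurs. -/
theorem eq_of_nontrivial_of_CM (x : X) (hx : LocCoh.IsCohenMacaulayLocalRing (X.presheaf.stalk x)) {i j : ℤ}
    (hi : Nontrivial ((DCoh.HD K i).presheaf.stalk x)) (hj : Nontrivial ((DCoh.HD K j).presheaf.stalk x)) : i = j := by
  obtain ⟨C, q, rfl⟩ := exists_dlzChart hK x
  obtain ⟨g⟩ := DlzSchCM27.exists_stalk_ringEquiv (A := C.R) C.j q
  obtain ⟨n, -, hu⟩ := (DlzSchCM27.isCM_iff_existsUnique C.dualizing q).1 (SMT.isCM_of_ringEquiv g hx)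
  exact (hu i ((nontrivial_localized_HD_iff C.M q i).2 ((C.nontrivial_stalk_iff q i).1 hi))).trans
    (hu j ((nontrivial_localized_HD_iff C.M q j).2 ((C.nontrivial_stalk_iff q j).1 hj))).symm

/-- Through every point there is an irreducible component, given by a maximal point. -/
theorem exists_component (x : X) : ∃ ξ : X, x ≤ ξ ∧ IsMax ξ ∧ closure ({ξ} : Set X) ∈ irreducibleComponents X := by
  have hZ := irreducibleComponent_mem_irreducibleComponents x
  let ξ := hZ.1.genericPoint
  have hc : closure {ξ} = irreducibleComponent x := hZ.1.closure_genericPoint (isClosed_of_mem_irreducibleComponents _ hZ)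
  refine ⟨ξ, specializes_iff_mem_closure.mpr (hc.symm ▸ mem_irreducibleComponent), fun y hy => ?_, hc.symm ▸ hZ⟩
  have hy' : ξ ∈ closure {y} := specializes_iff_mem_closure.mp hy
  have hsub : irreducibleComponent x ≤ closure {y} :=
    hc ▸ (isClosed_closure.closure_subset_iff.2 (Set.singleton_subset_iff.2 hy'))
  exact specializes_iff_mem_closure.mpr (hc.symm ▸ hZ.2 isIrreducible_singleton.closure hsub (subset_closure rfl))

section Normalized

variable [CompactSpace X] (hn : ∀ x : X, IsClosed ({x} : Set X) → dlt hK x = 0)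
include hn

/-- Equidimensional Cohen–Macaulay: a single degree everywhere. -/
theorem single_of_CM_equidim (hCM : ∀ x : X, LocCoh.IsCohenMacaulayLocalRing (X.presheaf.stalk x)) (d : ℕ)
    (hd : ∀ Z : Set X, Z ∈ irreducibleComponents X → topologicalKrullDim ↥Z = (d : WithBot ℕ∞)) (x : X) :
    Nontrivial ((DCoh.HD K (-(d : ℤ))).presheaf.stalk x) ∧
      ∀ i, Nontrivial ((DCoh.HD K i).presheaf.stalk x) → i = -(d : ℤ) := by
  obtain ⟨ξ, hxξ, hmax, hc⟩ := exists_component hK x
  have h := hd _ hc
  rw [VarDim.topologicalKrullDim_closure_singleton, height_eq_neg_dlt hK hn] at h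
  have h' : (-dlt hK ξ).toNat = d := by exact_mod_cast h
  have h0 := dlt_nonpos hK hn ξ
  have hne := nontrivial_dlt_of_isMax hK hxξ hmax
  rw [show dlt hK ξ = -(d : ℤ) by omega] at hne
  exact ⟨hne, fun i hi => eq_of_nontrivial_of_CM hK x (hCM x) hi hne⟩

omit [CompactSpace X] in
/-- Depth at closed points. -/
theorem exists_nontrivial_iff_depth (x : X) (hx : IsClosed ({x} : Set X)) (i : ℤ) :
    (∃ j : ℤ, i ≤ j ∧ j ≤ 0 ∧ Nontrivial ((DCoh.HD K j).presheaf.stalk x)) ↔
      (LocCoh.depth (X.presheaf.stalk x) (X.presheaf.stalk x) : ℕ∞) ≤ ((-i).toNat : ℕ∞) ∧ i ≤ 0 := by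
  obtain ⟨C, q, rfl⟩ := exists_dlzChart hK x
  have h0 : Dlz27.deg C.dualizing C.M q = 0 := (dlt_eq hK C q).symm.trans (hn _ hx)
  obtain ⟨g⟩ := DlzSchCM27.exists_stalk_ringEquiv (A := C.R) C.j q
  haveI : IsNoetherianRing (Localization.AtPrime q.asIdeal) :=
    IsLocalization.isNoetherianRing q.asIdeal.primeCompl _ inferInstance
  haveI : IsNoetherianRing (X.presheaf.stalk (C.j q)) := isNoetherianRing_of_ringEquiv _ g.symm
  haveI : Nontrivial (LocalizedModule q.asIdeal.primeCompl C.R) :=
    (show Nontrivial (Localization.AtPrime q.asIdeal) from inferInstance)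
  haveI : Module.Finite (Localization.AtPrime q.asIdeal) (LocalizedModule q.asIdeal.primeCompl C.R) :=
    Module.Finite.of_isLocalizedModule q.asIdeal.primeCompl (LocalizedModule.mkLinearMap q.asIdeal.primeCompl C.R)
  obtain ⟨m, hm⟩ := DepthLib.exists_depth_eq_natCast (R := Localization.AtPrime q.asIdeal)
    (M := LocalizedModule q.asIdeal.primeCompl C.R)
  obtain ⟨hlow, htop⟩ := vanS_of_depth C.dualizing C.M q m C.R hm
  rw [h0, zero_sub] at htop
  have hm' : LocCoh.depth (X.presheaf.stalk (C.j q)) (X.presheaf.stalk (C.j q)) = (m : ℕ∞) :=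
    (SMT.depth_eq_of_ringEquiv g.symm).trans (DepthLib.depth_localizedModule_self q.asIdeal ▸ hm)
  rw [hm', Nat.cast_le]
  simp only [C.nontrivial_stalk_iff q]
  constructor
  · rintro ⟨j, hij, hj, hv⟩
    refine ⟨?_, hij.trans hj⟩
    by_contra hlt
    exact hv (by
      have := hlow (-j).toNat (by omega)
      rwa [h0, show (0 : ℤ) - ((-j).toNat : ℤ) = j by omega] at this)
  · rintro ⟨hmi, hi⟩
    exact ⟨-(m : ℤ), by omega, by omega, htop⟩

end Normalized

end Groth.Agent.BC8
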