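import Groth.Agent.Lib.DlzSch27.LowestSheaf
import Groth.Agent.Lib.Dlz27.DegApps
import Groth.Agent.Lib.DlzSchCM27.Main
import Groth.Agent.Lib.VarDim.Top
import Groth.Agent.Lib.ModM1.Coh

/-! The dimension function of a dualizing complex on a scheme and its normalized case. -/

set_option autoImplicit false
set_option linter.style.haveILetI false
set_option linter.unusedSectionVars false
set_option backward.isDefEq.respectTransparency false
set_option backward.isDefEq.respectTransparency.types false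
set_option maxHeartbeats 1000000

universe u

open CategoryTheory CategoryTheory.Limits AlgebraicGeometry

attribute [local instance] HasDerivedCategory.standard

noncomputable section

namespace Groth.Agent.BC8

open Dlz27

variable {X : Scheme.{u}}

/-- An affine model of a dualizing complex. -/
structure DlzChart (K : DCoh.D X) where
  R : CommRingCat.{u}
  j : Spec R ⟶ X
  isOpen : IsOpenImmersion j
  ω : Dual.D R
  noeth : IsNoetherianRing R
  dualizing : Dual.IsDualizing R ω
  M : Model ω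
  mdl : letI := isOpen; DlzSch27.Mdl K j ω

attribute [instance] DlzChart.isOpen DlzChart.noeth

variable [IsLocallyNoetherian X]
  [∀ (U : Scheme.{u}) (j : U ⟶ X) [IsOpenImmersion j], PreservesFiniteLimits (Scheme.Modules.restrictFunctor j)]
  [∀ (R : CommRingCat.{u}), PreservesFiniteLimits (tilde.functor R)]
  {K : DCoh.D X} (C : DlzChart K)

theorem DlzChart.le_iff_specializes {p q : PrimeSpectrum C.R} : p ≤ q ↔ C.j p ⤳ C.j q :=
  (PrimeSpectrum.le_iff_specializes p q).trans C.j.isOpenEmbedding.isInducing.specializes_iff.symm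

theorem DlzChart.nontrivial_stalk_iff (q : PrimeSpectrum C.R) (i : ℤ) :
    Nontrivial ((DCoh.HD K i).presheaf.stalk (C.j q)) ↔ ¬ VanS C.M.W q.asIdeal.primeCompl C.R i := by
  obtain ⟨e⟩ := C.mdl
  exact (DlzSchCM27.nontrivial_stalk_iff_aux K C.j C.ω e q i).trans
    (nontrivial_localized_HD_iff C.M q i)

/-- The degree of a point of a chart. -/
abbrev DlzChart.deg (q : PrimeSpectrum C.R) : ℤ := Dlz27.deg C.dualizing C.M q

theorem DlzChart.exists_eq_of_specializes {q : PrimeSpectrum C.R} {y : X} (h : y ⤳ C.j q) :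
    ∃ p : PrimeSpectrum C.R, C.j p = y ∧ p ≤ q := by
  obtain ⟨p, rfl⟩ := h.mem_open C.j.isOpenEmbedding.isOpen_range ⟨q, rfl⟩
  exact ⟨p, rfl, C.le_iff_specializes.2 h⟩

theorem DlzChart.le_deg_eq {C' : DlzChart K} (q : PrimeSpectrum C.R) (q' : PrimeSpectrum C'.R)
    (h : C.j q = C'.j q') : C.deg q ≤ C'.deg q' := by
  obtain ⟨r₀, hr₀, hrq₀⟩ := Ideal.exists_minimalPrimes_le (I := (⊥ : Ideal C.R)) (J := q.asIdeal) bot_le
  let r : PrimeSpectrum C.R := ⟨r₀, hr₀.1.1⟩
  have hrq : r ≤ q := hrq₀
  obtain ⟨r', hr', hrq'⟩ := C'.exists_eq_of_specializes (y := C.j r) (h ▸ C.le_iff_specializes.1 hrq)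
  have hmin : r'.asIdeal ∈ minimalPrimes C'.R := ⟨⟨r'.isPrime, bot_le⟩, fun s hs hsr => by
    let s' : PrimeSpectrum C'.R := ⟨s, hs.1⟩
    have hsr' : s' ≤ r' := hsr
    obtain ⟨t, ht, htr⟩ := C.exists_eq_of_specializes (y := C'.j s') (hr' ▸ C'.le_iff_specializes.1 hsr')
    obtain rfl : t = r := PrimeSpectrum.ext (le_antisymm htr (hr₀.2 ⟨t.isPrime, bot_le⟩ htr))
    obtain rfl : s' = r' := C'.j.isOpenEmbedding.injective (ht.symm.trans hr'.symm)
    exact le_rfl⟩
  have h1 : ∀ i, i = C.deg r ↔ i = C'.deg r' := fun i => by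
    have a := C.nontrivial_stalk_iff r i
    rw [vanS_self_minimal_iff C.M C.dualizing r hr₀, not_not, ← hr'] at a
    have b := C'.nontrivial_stalk_iff r' i
    rw [vanS_self_minimal_iff C'.M C'.dualizing r' hmin, not_not] at b
    exact a.symm.trans b
  have h0 := (h1 _).1 rfl
  have hk : (0 : ℤ) ≤ C.deg q - C.deg r := by
    have := (deg_strictMono C.dualizing C.M).monotone hrq
    simp only [DlzChart.deg] at *
    omega
  obtain ⟨l, hl, hlq⟩ := exists_deg_series C.M C.dualizing (C.deg q - C.deg r).toNat r q hrq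
    (show C.deg q - C.deg r = _ by omega)
  have hin : ∀ a : Fin (l.length + 1), ∃ p : PrimeSpectrum C'.R, C'.j p = C.j (l a).1 ∧ p ≤ q' := fun a =>
    C'.exists_eq_of_specializes (h ▸ C.le_iff_specializes.1 (hlq ▸ (l.monotone (Fin.le_last a))))
  choose g hg hgq using hin
  have hmono : StrictMono g := fun a b hab => by
    have hlt : (l a).1 < (l b).1 := l.strictMono hab
    refine lt_of_le_of_ne (C'.le_iff_specializes.2 (by rw [hg, hg]; exact C.le_iff_specializes.1 hlt.le)) fun e => ?_
    have := congrArg C'.j e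
    rw [hg, hg] at this
    exact hlt.ne (C.j.isOpenEmbedding.injective this)
  have hbase : r' ≤ g 0 := C'.le_iff_specializes.2 (by rw [hr', hg]; exact C.le_iff_specializes.1 (l 0).2)
  have key : ∀ a : Fin (l.length + 1), C'.deg r' + (a : ℤ) ≤ C'.deg (g a) := fun a => by
    induction a using Fin.induction with
    | zero =>
      have := (deg_strictMono C'.dualizing C'.M).monotone hbase
      simp only [Fin.val_zero, Nat.cast_zero, DlzChart.deg] at *; omega
    | succ a ih =>
      have := deg_strictMono C'.dualizing C'.M (hmono (Fin.castSucc_lt_succ (i := a)))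
      simp only [Fin.val_castSucc] at ih
      simp only [Fin.val_succ, Nat.cast_add, Nat.cast_one]
      simp only [DlzChart.deg] at *
      omega
  have h2 := key (Fin.last l.length)
  have h3 := (deg_strictMono C'.dualizing C'.M).monotone (hgq (Fin.last l.length))
  simp only [Fin.val_last, hl] at h2
  show C.deg q ≤ C'.deg q'
  have h4 : C'.deg (g (Fin.last l.length)) ≤ C'.deg q' := h3
  omega

theorem DlzChart.deg_eq {C' : DlzChart K} (q : PrimeSpectrum C.R) (q' : PrimeSpectrum C'.R) (h : C.j q = C'.j q') :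
    C.deg q = C'.deg q' :=
  le_antisymm (C.le_deg_eq q q' h) (C'.le_deg_eq q' q h.symm)

variable (hK : Dual2.IsDualizingSch X K)
include hK

theorem exists_dlzChart (x : X) : ∃ (C : DlzChart K) (q : PrimeSpectrum C.R), C.j q = x := by
  obtain ⟨U, hU, hxU, -⟩ := exists_isAffineOpen_mem_and_subset (X := X) (x := x) (U := ⊤) trivial
  obtain ⟨ω, hω, hM⟩ := DlzSch27.mdl_of_isDualizingSch hK Γ(X, U) hU.fromSpec
  haveI := DlzSch27.isNoetherianRing_of_chart (X := X) hU.fromSpec
  exact ⟨⟨Γ(X, U), hU.fromSpec, inferInstance, ω, inferInstance, hω, model hω, hM⟩, hU.primeIdealOf ⟨x, hxU⟩,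
    hU.fromSpec_primeIdealOf ⟨x, hxU⟩⟩

/-- The dimension function. -/
def dlt (x : X) : ℤ := (exists_dlzChart hK x).choose.deg (exists_dlzChart hK x).choose_spec.choose

theorem dlt_eq (C : DlzChart K) (q : PrimeSpectrum C.R) : dlt hK (C.j q) = C.deg q :=
  (exists_dlzChart hK (C.j q)).choose.deg_eq _ _ (exists_dlzChart hK (C.j q)).choose_spec.choose_spec

theorem dlt_strictAnti : StrictAnti (dlt hK) := fun x y hxy => by
  obtain ⟨hs, hne⟩ := VarDim.lt_iff_specializes_and_ne.1 hxy
  obtain ⟨C, q, rfl⟩ := exists_dlzChart hK x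
  obtain ⟨p, rfl, hpq⟩ := C.exists_eq_of_specializes hs
  rw [dlt_eq hK C, dlt_eq hK C]
  exact deg_strictMono C.dualizing C.M (lt_of_le_of_ne hpq fun e => hne (by rw [e]))

theorem range_of_nontrivial (x : X) (i : ℤ) (h : Nontrivial ((DCoh.HD K i).presheaf.stalk x)) :
    i ≤ dlt hK x ∧ ∃ ξ : X, x ≤ ξ ∧ dlt hK ξ ≤ i := by
  obtain ⟨C, q, rfl⟩ := exists_dlzChart hK x
  obtain ⟨h1, r, -, hrq, hr⟩ := le_deg_of_not_vanS C.dualizing C.M q i C.R ((C.nontrivial_stalk_iff q i).1 h)
  exact ⟨(dlt_eq hK C q).symm ▸ h1, C.j r, C.le_iff_specializes.1 hrq, (dlt_eq hK C r).symm ▸ hr⟩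

theorem nontrivial_dlt_of_isMax {x ξ : X} (h : x ≤ ξ) (hmax : IsMax ξ) :
    Nontrivial ((DCoh.HD K (dlt hK ξ)).presheaf.stalk x) := by
  obtain ⟨C, q, rfl⟩ := exists_dlzChart hK x
  obtain ⟨r, rfl, hrq⟩ := C.exists_eq_of_specializes (show ξ ⤳ C.j q from h)
  have hr : r.asIdeal ∈ minimalPrimes C.R := ⟨⟨r.isPrime, bot_le⟩, fun s hs hsr => by
    let s' : PrimeSpectrum C.R := ⟨s, hs.1⟩
    have h1 : C.j r ≤ C.j s' := C.le_iff_specializes.1 (show s' ≤ r from hsr)
    have h2 := C.le_iff_specializes.2 (show C.j r ⤳ C.j s' from hmax h1)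
    exact h2⟩
  rw [C.nontrivial_stalk_iff, dlt_eq hK C]
  intro hv
  exact (vanS_self_minimal_iff C.M C.dualizing r hr _).1 (hv.mono fun a ha hc => ha (hrq hc)) rfl

theorem hasSk_two_stalk (c : ℤ) (h : ∀ i < c, IsZero (DCoh.HD K i)) (x : X) :
    LocCoh.HasSk 2 (X.presheaf.stalk x) ((DCoh.HD K c).presheaf.stalk x) :=
  (DlzSch27.lowest_sheaf hK c h x).1

section Normalized

variable [CompactSpace X] (hn : ∀ x : X, IsClosed ({x} : Set X) → dlt hK x = 0)
include hn

omit hn in
theorem exists_closed_le (x : X) : ∃ c : X, IsClosed ({c} : Set X) ∧ c ≤ x := by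
  obtain ⟨c, hc, hcl⟩ := (isClosed_closure (s := ({x} : Set X))).exists_closed_singleton ⟨x, subset_closure rfl⟩
  exact ⟨c, hcl, specializes_iff_mem_closure.mpr hc⟩

theorem dlt_nonpos (x : X) : dlt hK x ≤ 0 := by
  obtain ⟨c, hc, hcx⟩ := exists_closed_le hK x
  refine hn c hc ▸ ?_
  by_cases h : x ≤ c
  · exact le_of_eq (congrArg (dlt hK) (Specializes.antisymm (show c ⤳ x from h) (show x ⤳ c from hcx)).eq.symm)
  · exact (dlt_strictAnti hK (lt_of_le_not_ge hcx h)).le

theorem height_eq_neg_dlt (x : X) : Order.height x = ((-dlt hK x).toNat : ℕ∞) := by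
  refine le_antisymm (Order.height_le fun l hl => ?_) ?_
  · have key : ∀ a : Fin (l.length + 1), dlt hK (l a) ≤ -(a : ℤ) := fun a => by
      induction a using Fin.induction with
      | zero => simpa using dlt_nonpos hK hn (l 0)
      | succ a ih =>
        have := dlt_strictAnti hK (l.strictMono (Fin.castSucc_lt_succ (i := a)))
        simp only [Fin.val_castSucc] at ih
        simp only [Fin.val_succ, Nat.cast_add, Nat.cast_one]; omega
    have h1 := key (Fin.last l.length)
    rw [show l (Fin.last l.length) = x from hl] at h1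
    simp only [Fin.val_last] at h1
    exact_mod_cast (show l.length ≤ (-dlt hK x).toNat by omega)
  · obtain ⟨c, hc, hcx⟩ := exists_closed_le hK x
    obtain ⟨C, q₀, rfl⟩ := exists_dlzChart hK c
    obtain ⟨q, rfl, hq⟩ := C.exists_eq_of_specializes (show x ⤳ C.j q₀ from hcx)
    have h0 : C.deg q₀ = 0 := (dlt_eq hK C q₀).symm.trans (hn _ hc)
    have hq0 : C.deg q ≤ 0 := h0 ▸ (deg_strictMono C.dualizing C.M).monotone hq
    rw [dlt_eq hK C]
    obtain ⟨l, hl, -⟩ := exists_deg_series C.M C.dualizing (-C.deg q).toNat q q₀ hq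
      (show C.deg q₀ - C.deg q = _ by omega)
    rw [← hl]
    let l' : LTSeries X := LTSeries.mk l.length (fun a => C.j (l a.rev).1) fun a b hab => by
      have hlt : (l b.rev).1 < (l a.rev).1 := l.strictMono (Fin.rev_lt_rev.2 hab)
      exact VarDim.lt_of_specializes_ne (C.le_iff_specializes.1 hlt.le)
        fun e => hlt.ne (C.j.isOpenEmbedding.injective e.symm)
    exact Order.length_le_height (p := l') (show l'.last ≤ C.j q from
      C.le_iff_specializes.1 (l _).2)

variable (n : ℕ) (hdim : topologicalKrullDim X = (n : WithBot ℕ∞))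
include hdim

theorem neg_le_dlt (x : X) : -(n : ℤ) ≤ dlt hK x := by
  have h := le_iSup (fun y : X => ((Order.height y : ℕ∞) : WithBot ℕ∞)) x
  rw [← VarDim.scheme_dim_eq_iSup_height, hdim, height_eq_neg_dlt hK hn] at h
  have : (-dlt hK x).toNat ≤ n := by exact_mod_cast h
  omega

theorem isZero_HD_of_outside (i : ℤ) (hi : i < -(n : ℤ) ∨ 0 < i) : IsZero (DCoh.HD K i) :=
  DPerf.isZero_of_stalks fun x => not_nontrivial_iff_subsingleton.1 fun h => by
    obtain ⟨h1, ξ, -, h2⟩ := range_of_nontrivial hK x i h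
    have := dlt_nonpos hK hn x
    have := neg_le_dlt hK hn n hdim ξ
    omega

theorem hasSk_two_top (x : X) :
    LocCoh.HasSk 2 (X.presheaf.stalk x) ((DCoh.HD K (-(n : ℤ))).presheaf.stalk x) :=
  hasSk_two_stalk hK _ (fun i hi => isZero_HD_of_outside hK hn n hdim i (Or.inl hi)) x

omit hdim in
theorem dim_support_le (i : ℤ) (hc : Coh.IsCoh (DCoh.HD K i)) (m : ℕ) (hm : (m : ℤ) = -i) :
    topologicalKrullDim {x : X | Nontrivial ((DCoh.HD K i).presheaf.stalk x)} ≤ (m : WithBot ℕ∞) := by
  have hs : {x : X | Nontrivial ((DCoh.HD K i).presheaf.stalk x)} = CohB1.support (DCoh.HD K i) :=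
    Set.ext fun x => not_subsingleton_iff_nontrivial.symm
  rw [VarDim.topologicalKrullDim_isClosed_eq_iSup_height (hs ▸ M1.isClosed_support hc.2)]
  refine iSup_le fun z => ?_
  obtain ⟨h1, -⟩ := range_of_nontrivial hK z.1 i z.2
  rw [height_eq_neg_dlt hK hn]
  exact_mod_cast (show (-dlt hK z.1).toNat ≤ m by omega)

theorem support_top :
    {x : X | Nontrivial ((DCoh.HD K (-(n : ℤ))).presheaf.stalk x)} =
      ⋃ Z ∈ {Z : Set X | Z ∈ irreducibleComponents X ∧ topologicalKrullDim ↥Z = (n : WithBot ℕ∞)}, Z := by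
  ext x
  simp only [Set.mem_setOf_eq, Set.mem_iUnion, exists_prop]
  constructor
  · intro h
    obtain ⟨-, ξ, hxξ, hξ⟩ := range_of_nontrivial hK x _ h
    have hξ' := neg_le_dlt hK hn n hdim ξ
    have hmax : IsMax ξ := fun y hy => by
      by_contra hne
      have := dlt_strictAnti hK (lt_of_le_not_ge hy hne)
      have := neg_le_dlt hK hn n hdim y
      omega
    refine ⟨closure {ξ}, ⟨⟨isIrreducible_singleton.closure, fun t ht hst => ?_⟩, ?_⟩,
      specializes_iff_mem_closure.mp hxξ⟩
    · have hη : ht.genericPoint ⤳ ξ := ht.isGenericPoint_genericPoint_closure.specializes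
        (subset_closure (hst (subset_closure rfl)))
      exact fun y hy => specializes_iff_mem_closure.mp ((show ξ ⤳ ht.genericPoint from hmax hη).trans
        (ht.isGenericPoint_genericPoint_closure.specializes (subset_closure hy)))
    · rw [VarDim.topologicalKrullDim_closure_singleton, height_eq_neg_dlt hK hn,
        show (-dlt hK ξ).toNat = n by omega]
      rfl
  · rintro ⟨Z, ⟨hZ, hZn⟩, hxZ⟩
    have hcl := isClosed_of_mem_irreducibleComponents Z hZ
    let ξ := hZ.1.genericPoint
    have hcξ : closure {ξ} = Z := hZ.1.closure_genericPoint hcl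
    rw [← hcξ, VarDim.topologicalKrullDim_closure_singleton, height_eq_neg_dlt hK hn] at hZn
    have hn' : (-dlt hK ξ).toNat = n := by exact_mod_cast hZn
    have := dlt_nonpos hK hn ξ
    have hmax : IsMax ξ := fun y hy => by
      have hy' : ξ ∈ closure {y} := specializes_iff_mem_closure.mp hy
      have hsub : Z ≤ closure {y} := hcξ ▸ (isClosed_closure.closure_subset_iff.2 (Set.singleton_subset_iff.2 hy'))
      have := hZ.2 isIrreducible_singleton.closure hsub (subset_closure rfl)
      exact specializes_iff_mem_closure.mpr (hcξ.symm ▸ this)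
    have hxξ : x ≤ ξ := specializes_iff_mem_closure.mpr (hcξ.symm ▸ hxZ)
    have h := nontrivial_dlt_of_isMax hK hxξ hmax
    rwa [show dlt hK ξ = -(n : ℤ) by omega] at h

end Normalized

end Groth.Agent.BC8
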