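import Groth.Agent.Lib.BC8.SmoothShriek
import Groth.Agent.Lib.BC8.BigOpenDual
import Groth.Agent.Lib.BC8.DlzShriek
import Groth.Agent.Lib.BC8.DlzProper
import Groth.Agent.Lib.DlzSch27.Reflexive
import Groth.Agent.Lib.FMAdj9.DlzField
import Groth.Agent.Lib.SmDim19.RelDimVariety
import Groth.Agent.Lib.RegSmooth17.Scheme
import Groth.Agent.Lib.Omega12.BaseChange
import Groth.Agent.Lib.AutBound14.ExtPull
import Groth.Agent.Lib.VB17.Setup
import Groth.Agent.Lib.CohMop.HomStalkDepth
import Groth.Agent.Lib.BC8.ShriekViaOne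
import Groth.Agent.Lib.BC8.ViaCM
import Groth.Agent.Lib.CurveCoh17.Integral
import Groth.Agent.S1618

/-! The dualizing sheaf of a normal variety over a perfect field. -/

set_option autoImplicit false
set_option linter.style.haveILetI false
set_option linter.unusedSectionVars false
set_option backward.isDefEq.respectTransparency false
set_option backward.isDefEq.respectTransparency.types false
set_option maxHeartbeats 1000000

universe u

open CategoryTheory CategoryTheory.Limits AlgebraicGeometry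

attribute [local instance] HasDerivedCategory.standard

namespace Groth.Agent.BC8

open DMon9

/-- Regular in codimension one gives a big smooth locus. -/
theorem two_le_dim_of_notMem_smoothLocus {k : Type u} [Field k] [PerfectField k] {X : Scheme.{u}} [IsIntegral X]
    [IsLocallyNoetherian X] (f : X ⟶ Spec (CommRingCat.of k)) [LocallyOfFinitePresentation f]
    (hX : Pi1.IsNormalScheme X) (x : X) (hx : x ∉ f.smoothLocus) :
    (2 : WithBot ℕ∞) ≤ ringKrullDim (X.presheaf.stalk x) := by
  haveI := (hX x).1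
  haveI := (hX x).2
  have hnr : ¬ IsRegularLocalRing (X.presheaf.stalk x) := fun h => hx (by
    haveI := h
    exact RegSmooth17.mem_smoothLocus_of_isRegularLocalRing f x (RegSmooth17.formallySmooth_residue_of_perfectField f x))
  by_contra hd
  refine hnr ?_
  have h1 : ringKrullDim (X.presheaf.stalk x) ≤ 1 := by
    rw [ringKrullDim_stalk_eq_coheight] at hd ⊢
    rw [not_le] at hd
    exact ENat.WithBot.lt_add_one_iff.1 (show _ < ((1 : ℕ) + 1 : WithBot ℕ∞) from by norm_num; exact hd)
  haveI := RH26.isPrincipalIdealRing_stalk hX h1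
  infer_instance

variable {k : Type u} [Field k] [PerfectField k] {X Xb : Scheme.{u}} [IsIntegral X]
  (f : X ⟶ Spec (CommRingCat.of k)) [IsSeparated f] [LocallyOfFiniteType f] [QuasiCompact f]
  (p : Xb ⟶ Spec (CommRingCat.of k)) [IsProper p] (j : X ⟶ Xb) [IsOpenImmersion j] (hfac : j ≫ p = f)
  [DCoh.HasRpush p] {hp : DCoh.RpushPreservesQCoh p}
  {a : DCoh.DQCoh (Spec (CommRingCat.of k)) ⥤ DCoh.DQCoh Xb} (adj : DCoh.RpushQ p hp ⊣ a)

include hfac adj in
/-- `ω_X ≅ (Ωⁿ)^∨∨` for normal varieties over a perfect field. -/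
theorem nonempty_dualizing_bidual (hX : Pi1.IsNormalScheme X) (n : ℕ)
    (hdim : topologicalKrullDim X = (n : WithBot ℕ∞)) (W : X.Modules) (hW : ExtPow.IsExtPow n (Omega.sheaf f) W) :
    Nonempty (DCoh.HD ((lP j).obj (a.obj (oQ _)).obj) (-(n : ℤ)) ≅ CohMop.dual (CohMop.dual W)) := by
  haveI : ∀ (U V : Scheme.{u}) (i : U ⟶ V) [IsOpenImmersion i],
      PreservesFiniteLimits (Scheme.Modules.restrictFunctor i) := fun U V i _ => inferInstance
  haveI : ∀ (R : CommRingCat.{u}), PreservesFiniteLimits (tilde.functor R) := fun R => M1.tilde_preservesFiniteLimits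
  haveI : IsNoetherian (Spec (CommRingCat.of k)) := inferInstance
  haveI : IsLocallyNoetherian X := LocallyOfFiniteType.isLocallyNoetherian f
  haveI : CompactSpace X := QuasiCompact.compactSpace_of_compactSpace f
  haveI : IsNoetherian X := { }
  haveI : LocallyOfFinitePresentation f := inferInstance
  let K := (lP j).obj (a.obj (oQ (Spec (CommRingCat.of k)))).obj
  let U := f.smoothLocus
  have hbig : ∀ x : X, x ∉ U → (2 : WithBot ℕ∞) ≤ ringKrullDim (X.presheaf.stalk x) :=
    fun x hx => two_le_dim_of_notMem_smoothLocus f hX x hx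
  have hη : genericPoint X ∈ U := Scheme.Hom.genericPoint_mem_smoothLocus_of_perfectField f
  have hUne : (U : Set X).Nonempty := ⟨_, hη⟩
  haveI : Smooth (U.ι ≫ f) := Scheme.Hom.smoothLocus_eq_top_iff.1 (by
    rw [← Scheme.Hom.preimage_smoothLocus_eq]; exact U.ι_preimage_self)
  haveI : Nonempty U.toScheme := hUne.to_subtype
  haveI : IrreducibleSpace U.toScheme := by
    haveI : IsIntegral U.toScheme := isIntegral_of_isOpenImmersion U.ι
    infer_instance
  have hdU : topologicalKrullDim U.toScheme = (n : WithBot ℕ∞) := by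
    letI : X.Over (Spec (CommRingCat.of k)) := ⟨f⟩
    haveI : LocallyOfFiniteType (X ↘ Spec (CommRingCat.of k)) := ‹LocallyOfFiniteType f›
    exact (S1618.result k X U hUne).trans hdim
  haveI := SmDim19.smoothOfRelativeDimension_of_smooth (U.ι ≫ f) n hdU
  -- the top forms on the smooth locus
  obtain ⟨c, hc, -⟩ := Omega12.existsUnique_diffCompat (h := U.ι) (f := f) (f' := U.ι ≫ f) (b := 𝟙 _)
    (by rw [Category.comp_id]) (Omega12.isUniversal_dOmega (f := f)) (OmegaSh.dOmega (U.ι ≫ f))
  haveI := Omega12.isIso_diffCompat_of_etale (h := U.ι) (b := 𝟙 _) (by rw [Category.comp_id])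
    (Omega12.isUniversal_dOmega (f := f)) (Omega12.isUniversal_dOmega (f := U.ι ≫ f)) c hc
  let W' := (Scheme.Modules.pullback U.ι).obj W
  have hW' : ExtPow.IsExtPow n (Omega.sheaf (U.ι ≫ f)) W' :=
    AutBound14.isExtPow_of_iso (AutBound14.isExtPow_restrict hW U.ι)
      ((Scheme.Modules.restrictFunctorIsoPullback U.ι).app _ ≪≫ asIso c)
      ((Scheme.Modules.restrictFunctorIsoPullback U.ι).app W)
  have hW'inv : PicF.IsInvertible W' :=
    Wedge2.isInvertible_top (Omega12.isFinLocFreeOfRank_receptacle_of_smooth (f := U.ι ≫ f)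
      (Omega12.isUniversal_dOmega (f := U.ι ≫ f)) n) hW'
  obtain ⟨F⟩ := nonempty_smooth_shriek (U.ι ≫ f) n p (U.ι ≫ j) (by rw [Category.assoc, hfac]) adj W' hW'
  let eU : (DPerf.resD U.ι).obj K ≅ (DCoh.inD U.toScheme W')⟦(n : ℤ)⟧ :=
    ((lPRes U.ι).app K).symm ≪≫ (lPComp U.ι j rfl).app _ ≪≫ F
  let eS : (DCoh.inD U.toScheme W')⟦(n : ℤ)⟧ ≅ (DerivedCategory.singleFunctor _ (-(n : ℤ))).obj W' :=
    ((DerivedCategory.singleFunctors U.toScheme.Modules).shiftIso (n : ℤ) (-(n : ℤ)) 0 (by omega)).app W'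
  let eω : (Scheme.Modules.pullback U.ι).obj (DCoh.HD K (-(n : ℤ))) ≅ W' :=
    ((Scheme.Modules.restrictFunctorIsoPullback U.ι).app _).symm ≪≫ (DPerf.hdResIso U.ι K _).symm ≪≫
      (DerivedCategory.homologyFunctor _ _).mapIso (eU ≪≫ eS) ≪≫
      (DerivedCategory.singleFunctorCompHomologyFunctorIso _ _).app W'
  -- the dualizing complex
  have hO : Dual2.IsDualizingSch (Spec (CommRingCat.of k)) (oQ (Spec (CommRingCat.of k))).obj := by
    exact isDualizingSch_of_iso ((ObjectProperty.ι _).mapIso (tQOne (CommRingCat.of k)))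
      (isDualizingSch_source (A := CommRingCat.of k) (isDualizing_self_field k)
        (W := (tQ (CommRingCat.of k)).obj (Dual.inD k k)) (Iso.refl _))
  have hK : Dual2.IsDualizingSch X K := isDualizingSch_phiF f p j hfac a adj (oQ _) hO (isBdd_oQ _)
  have hcoh : ∀ i, Coh.IsCoh (DCoh.HD K i) := isCohD_dualizing hK
  obtain ⟨b, hb⟩ := exists_isGE_dualizing hK
  have hlow : ∀ m : ℕ, ∀ i : ℤ, i < -(n : ℤ) → i < b + m → IsZero (DCoh.HD K i) := by
    intro m
    induction m with
    | zero => exact fun i _ hi => DerivedCategory.isZero_of_isGE K b i (by omega)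
    | succ m ih =>
      intro i hin him
      by_cases h : i < b + m
      · exact ih i hin h
      have hrefl : ∀ x : X, Module.IsReflexive (X.presheaf.stalk x) ((DCoh.HD K i).presheaf.stalk x) :=
        fun x => DlzSch27.isReflexive_lowest hK i (fun t ht => ih t (by omega) (by omega)) x (hX x).1 (hX x).2
      obtain ⟨e⟩ := nonempty_iso_push_restrict hX U hbig _ (hcoh i) hrefl
      have hz : IsZero ((DCoh.HD ((DPerf.resD U.ι).obj K) i)) :=
        IsZero.of_iso (DerivedCategory.isZero_of_isGE ((DerivedCategory.singleFunctor _ (-(n : ℤ))).obj W')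
          (-(n : ℤ)) i hin)
          ((DerivedCategory.homologyFunctor _ i).mapIso (eU ≪≫ eS))
      exact IsZero.of_iso ((Scheme.Modules.pushforward U.ι).map_isZero
        (IsZero.of_iso (IsZero.of_iso hz (DPerf.hdResIso U.ι K i).symm)
          ((Scheme.Modules.restrictFunctorIsoPullback U.ι).app _).symm)) e
  have hlt : ∀ i : ℤ, i < -(n : ℤ) → IsZero (DCoh.HD K i) :=
    fun i hi => hlow (i - b + 1).toNat i hi (by omega)
  obtain ⟨e₁⟩ := nonempty_iso_push_restrict hX U hbig _ (hcoh (-(n : ℤ)))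
    fun x => DlzSch27.isReflexive_lowest hK _ hlt x (hX x).1 (hX x).2
  obtain ⟨e₂⟩ := nonempty_iso_push_restrict hX U hbig (Coh.structureModule X) (M1.isCoh_structureModule X)
    fun x => by
      haveI := (hX x).1
      obtain ⟨e⟩ := CurveCoh17.nonempty_stalk_equiv_structureModule x
      exact Module.IsReflexive.of_split e.toLinearMap e.symm.toLinearMap (LinearMap.ext fun v => e.symm_apply_apply v)
  obtain ⟨e₃⟩ := nonempty_bidual_push U.ι W hW'inv (e₂ ≪≫ (Scheme.Modules.pushforward U.ι).mapIso (pullOne U.ι))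
  exact ⟨e₁ ≪≫ (Scheme.Modules.pushforward U.ι).mapIso eω ≪≫ e₃.symm⟩

end Groth.Agent.BC8
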