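import Groth.Agent.Lib.BC8.DlzTen

/-! Internal hom between dualizing complexes: invertible, and evaluation is an isomorphism. -/

set_option autoImplicit false
set_option linter.style.haveILetI false
set_option linter.unusedSectionVars false
set_option backward.isDefEq.respectTransparency false
set_option backward.isDefEq.respectTransparency.types false
set_option maxHeartbeats 1600000

universe u

open CategoryTheory CategoryTheory.Limits AlgebraicGeometry MonoidalCategory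

attribute [local instance] HasDerivedCategory.standard

namespace Groth.Agent.BC8

open DMon9 KFlat KFlat.Sch

section Formal

variable {D₁ D₂ : Type*} [Category* D₁] [Category* D₂] {L : D₂ ⥤ D₁} {F : D₁ ⥤ D₂} (adj : L ⊣ F)
  {TG Rh : D₁ ⥤ D₁} (adjT : TG ⊣ Rh) {TG' : D₂ ⥤ D₂} (χ : F ⋙ TG' ≅ TG ⋙ F)

include χ in
/-- Evaluation after restriction is bijective. -/
theorem bijective_eval_restrict [IsIso adj.unit] (T : D₂)
    (hess : ∃ S, Nonempty (TG.obj (L.obj T) ≅ L.obj S)) (A : D₁) :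
    Function.Bijective fun x : T ⟶ F.obj (Rh.obj A) =>
      TG'.map x ≫ χ.hom.app (Rh.obj A) ≫ F.map (adjT.counit.app A) := by
  haveI := adj.fullyFaithfulLOfIsIsoUnit.full
  haveI := adj.fullyFaithfulLOfIsIsoUnit.faithful
  obtain ⟨S, ⟨eS⟩⟩ := hess
  haveI := adj.isIso_counit_app_of_iso eS
  let ν : TG'.obj T ⟶ F.obj (TG.obj (L.obj T)) := TG'.map (adj.unit.app T) ≫ χ.hom.app (L.obj T)
  haveI : IsIso ν := by dsimp only [ν]; infer_instance
  let π : L.obj (TG'.obj T) ⟶ TG.obj (L.obj T) := (adj.homEquiv _ _).symm ν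
  haveI : IsIso π := by
    show IsIso ((adj.homEquiv _ _).symm ν)
    rw [adj.homEquiv_counit]
    infer_instance
  let after : (T ⟶ F.obj (Rh.obj A)) → (TG'.obj T ⟶ F.obj A) :=
    adj.homEquiv _ _ ∘ (asIso π).symm.homFromEquiv ∘ (adjT.homEquiv _ _).symm ∘ (adj.homEquiv _ _).symm
  have hafter : Function.Bijective after :=
    (Equiv.bijective _).comp ((Equiv.bijective _).comp ((Equiv.bijective _).comp (Equiv.bijective _)))
  suffices h : ∀ x : T ⟶ F.obj (Rh.obj A),
      TG'.map x ≫ χ.hom.app (Rh.obj A) ≫ F.map (adjT.counit.app A) = after x by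
    convert hafter using 1
    all_goals first | rfl | exact funext h
  intro x
  simp only [after, Function.comp_apply, Iso.homFromEquiv_apply, Iso.symm_inv, asIso_hom]
  rw [adj.homEquiv_naturality_right, adjT.homEquiv_counit]
  show _ = adj.homEquiv _ _ ((adj.homEquiv _ _).symm ν) ≫ F.map (TG.map _ ≫ adjT.counit.app A)
  rw [Equiv.apply_symm_apply, F.map_comp]
  show _ = (TG'.map _ ≫ χ.hom.app _) ≫ F.map (TG.map _) ≫ _
  rw [Category.assoc]
  refine Eq.trans ?_
    (congrArg (TG'.map (adj.unit.app T) ≫ ·) (NatTrans.naturality_assoc χ.hom _ (F.map (adjT.counit.app A))))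
  rw [Functor.comp_map, ← TG'.map_comp_assoc]
  exact congrArg (fun t => TG'.map t ≫ χ.hom.app (Rh.obj A) ≫ F.map (adjT.counit.app A))
    (((adj.homEquiv T (Rh.obj A)).apply_symm_apply x).symm.trans (adj.homEquiv_unit _ _ _))

include χ in
/-- Evaluation is an isomorphism over the piece, and the internal hom is the given object. -/
theorem exists_iso_eval_restrict [IsIso adj.unit] (T : D₂) {A : D₁}
    (hess : ∃ S, Nonempty (TG.obj (L.obj T) ≅ L.obj S)) (β : TG'.obj T ≅ F.obj A)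
    (hdet : ∀ x : T ⟶ F.obj (Rh.obj A), TG'.map x ≫ χ.hom.app (Rh.obj A) ≫ F.map (adjT.counit.app A) = β.hom →
      IsIso x) :
    Nonempty (T ≅ F.obj (Rh.obj A)) ∧ IsIso (F.map (adjT.counit.app A)) := by
  obtain ⟨x, hx⟩ := (bijective_eval_restrict adj adjT χ T hess A).2 β.hom
  haveI := hdet x hx
  refine ⟨⟨asIso x⟩, ?_⟩
  haveI : IsIso ((TG'.map x ≫ χ.hom.app (Rh.obj A)) ≫ F.map (adjT.counit.app A)) := by
    rw [Category.assoc]
    simp only at hx
    rw [hx]
    infer_instance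
  exact IsIso.of_isIso_comp_left (TG'.map x ≫ χ.hom.app (Rh.obj A)) _

end Formal

variable {X : Scheme.{u}}

/-- Internal hom into an object that is locally a shifted tensor of the first. -/
theorem exists_eval_local [IsLocallyNoetherian X] (E : CochainComplex X.Modules ℤ) [DCoh.HasLTensorCx E]
    [DCoh.HasRSheafHom E] {G : DCoh.D X} (eE : DCoh.toD X E ≅ G) (hcoh : DCoh.IsCohD G) (A : DCoh.D X)
    (hA : DCoh.IsQCohD A) (V : X.Opens) [IsAffine (V : Scheme.{u})] (a b c : ℤ)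
    (hGE : ((lP V.ι).obj G).IsGE a) (hLE : ((lP V.ι).obj G).IsLE b) (hAGE : ((lP V.ι).obj A).IsGE c) (l : ℤ)
    (hbij : ∀ m, Function.Bijective fun y : TwistBC9.oneD (V : Scheme.{u}) m ⟶ TwistBC9.oneD (V : Scheme.{u}) l =>
      (tenL ((lP V.ι).obj G)).map y)
    (β : (tenL ((lP V.ι).obj G)).obj (TwistBC9.oneD (V : Scheme.{u}) l) ≅ (lP V.ι).obj A) :
    Nonempty (TwistBC9.oneD (V : Scheme.{u}) l ≅ (lP V.ι).obj ((DCoh.RSheafHom E).obj A)) ∧
      IsIso ((lP V.ι).map ((DCoh.RSheafHomAdj E).counit.app A)) := by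
  obtain ⟨θ⟩ := nonempty_ltensor_tenL E G eE
  obtain ⟨adjV, _⟩ := exists_extZero_adj V
  let EV := (DCoh.restrictCx V).obj E
  haveI := KFlat.Sch.hasLTensorCx EV
  haveI : DCoh.HasRSheafHom EV := RHom.hasRSheafHom EV
  let χ : lP V.ι ⋙ tenL ((lP V.ι).obj G) ≅ DCoh.LTensorCx E ⋙ lP V.ι :=
    (Functor.Monoidal.commTensorLeft (dPull V.ι) (G : DM X) :
      lP V.ι ⋙ tenL ((lP V.ι).obj G) ≅ tenL G ⋙ lP V.ι) ≪≫ Functor.isoWhiskerRight θ.symm _
  haveI : IsLocallyNoetherian (V : Scheme.{u}) := isLocallyNoetherian_of_isOpenImmersion V.ι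
  let eV : DCoh.toD (V : Scheme.{u}) EV ≅ (lP V.ι).obj G :=
    ((DPerf.resFac V.ι).app E).symm ≪≫ (DPerf.resD V.ι).mapIso eE ≪≫ ((lPRes V.ι).app G).symm
  haveI : (DCoh.toD (V : Scheme.{u}) EV).IsLE b := isLE_of_iso eV.symm hLE
  have hcV : ∀ i, Coh.IsCoh (DCoh.HD (DCoh.toD (V : Scheme.{u}) EV) i) := fun i =>
    isCoh_iso ((DerivedCategory.homologyFunctor _ i).mapIso (eV ≪≫ (lPRes V.ι).app G) ≪≫
      DPerf.hdResIso V.ι G i).symm (DPerf.isCoh_restrict (hcoh i) V.ι)
  haveI : ((DCoh.restrictD V.ι).obj A).IsGE c := isGE_of_iso ((lPRes V.ι).app A) hAGE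
  have hAq : DCoh.IsQCohD ((DCoh.restrictD V.ι).obj A) := DQC.isQCohD_resD V.ι hA
  have hR : DCoh.IsQCohD ((lP V.ι).obj ((DCoh.RSheafHom E).obj A)) :=
    DQC.isQCohD_of_iso ((lPRes V.ι).app _ ≪≫ (RHom.restrictRHomIso V E).app A).symm fun j =>
      RHom.isQCoh_HD_rhom EV ((DCoh.restrictD V.ι).obj A) c (m := c - j - 1)
        (DPerf.isPseudoCoherentD_of_coherent (fun i _ => hcV i) b) hAq j (by omega)
  refine exists_iso_eval_restrict adjV (DCoh.RSheafHomAdj E) χ _ ⟨_, ⟨((RHom.projD V E).app _).symm⟩⟩ β ?_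
  intro x hx
  refine isIso_of_bijective_one (DGen9.isQCohD_of_isPerfect (isPerfect_of_locShift (locShift_one _ l))) hR x
    fun m => ?_
  have h := bijective_eval_restrict adjV (DCoh.RSheafHomAdj E) χ (TwistBC9.oneD (V : Scheme.{u}) m)
    ⟨_, ⟨((RHom.projD V E).app _).symm⟩⟩ A
  refine (h.of_comp_iff' _).1 ?_
  have e : (fun x : TwistBC9.oneD (V : Scheme.{u}) m ⟶ (lP V.ι).obj ((DCoh.RSheafHom E).obj A) =>
      (tenL ((lP V.ι).obj G)).map x ≫ χ.hom.app _ ≫ (lP V.ι).map ((DCoh.RSheafHomAdj E).counit.app A)) ∘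
      (fun y : TwistBC9.oneD (V : Scheme.{u}) m ⟶ TwistBC9.oneD (V : Scheme.{u}) l => y ≫ x) =
      β.homToEquiv ∘ fun y => (tenL ((lP V.ι).obj G)).map y := by
    funext y
    simp only [Function.comp_apply, Functor.map_comp, Category.assoc, hx, Iso.homToEquiv_apply]
  rw [e]
  exact (Equiv.bijective _).comp (hbij m)

variable [∀ (U : Scheme.{u}) (j : U ⟶ X) [IsOpenImmersion j],
    PreservesFiniteLimits (Scheme.Modules.restrictFunctor j)]
  [∀ (R : CommRingCat.{u}), PreservesFiniteLimits (tilde.functor R)]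

/-- Internal hom of two dualizing complexes: invertible, with bijective evaluation. -/
theorem eval_dualizing [IsLocallyNoetherian X] {K K' : DCoh.D X} (hK : Dual2.IsDualizingSch X K)
    (hK' : Dual2.IsDualizingSch X K') (E : CochainComplex X.Modules ℤ) [DCoh.HasLTensorCx E] [DCoh.HasRSheafHom E]
    (eE : DCoh.toD X E ≅ K) :
    IsIso ((DCoh.RSheafHomAdj E).counit.app K') ∧ Dual3.IsInvertibleD ((DCoh.RSheafHom E).obj K') := by
  have key : ∀ x : X, ∃ (V : X.Opens) (l : ℤ), x ∈ V ∧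
      Nonempty (TwistBC9.oneD (V : Scheme.{u}) l ≅ (lP V.ι).obj ((DCoh.RSheafHom E).obj K')) ∧
      IsIso ((lP V.ι).map ((DCoh.RSheafHomAdj E).counit.app K')) := by
    intro x
    obtain ⟨V, l, hxV, hV, ⟨β⟩⟩ := exists_local_shift hK hK' x
    haveI : IsAffine (V : Scheme.{u}) := hV
    obtain ⟨a, b, hG, hL⟩ := exists_bounds_dualizing hK hV
    obtain ⟨c, _, hc, -⟩ := exists_bounds_dualizing hK' hV
    exact ⟨V, l, hxV, exists_eval_local E eE (isCohD_dualizing hK) K' (fun i => (isCohD_dualizing hK' i).1) V a b c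
      hG hL hc l (fun m => bijective_ten_dualizing hK hV m l) β.symm⟩
  refine ⟨isIso_of_lP_cover _ fun x => ?_, fun x => ?_⟩
  · obtain ⟨V, l, hx, -, h⟩ := key x
    exact ⟨V, hx, h⟩
  · obtain ⟨V, l, hx, ⟨e⟩, -⟩ := key x
    exact ⟨V, -l, hx, ⟨((lPRes V.ι).app _).symm ≪≫ e.symm ≪≫
      (((DerivedCategory.singleFunctors (V : Scheme.{u}).Modules).shiftIso (-l) l 0 (by omega)).app
        (Coh.structureModule _)).symm⟩⟩

/-- Two dualizing complexes differ by an invertible object. -/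
theorem exists_invertible_twist [IsLocallyNoetherian X] {K K' : DCoh.D X} (hK : Dual2.IsDualizingSch X K)
    (hK' : Dual2.IsDualizingSch X K') :
    ∃ (E : CochainComplex X.Modules ℤ) (_ : DCoh.HasLTensorCx E), Dual3.IsInvertibleD (DCoh.toD X E) ∧
      Nonempty (K' ≅ (DCoh.LTensorCx E).obj K) := by
  let P := (DerivedCategory.Q (C := X.Modules)).objPreimage K
  let eP : DCoh.toD X P ≅ K := (DerivedCategory.Q (C := X.Modules)).objObjPreimageIso K
  haveI := KFlat.Sch.hasLTensorCx P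
  haveI : DCoh.HasRSheafHom P := RHom.hasRSheafHom P
  obtain ⟨hiso, hinv⟩ := eval_dualizing hK hK' P eP
  let L := (DCoh.RSheafHom P).obj K'
  let E := (DerivedCategory.Q (C := X.Modules)).objPreimage L
  let eE : DCoh.toD X E ≅ L := (DerivedCategory.Q (C := X.Modules)).objObjPreimageIso L
  haveI := KFlat.Sch.hasLTensorCx E
  obtain ⟨t⟩ := nonempty_ltensor_tenL E L eE
  obtain ⟨r⟩ := nonempty_ltensor_tenR P K eP
  haveI := hiso
  refine ⟨E, inferInstance, fun x => ?_, ⟨(asIso ((DCoh.RSheafHomAdj P).counit.app K')).symm ≪≫ r.app L ≪≫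
    (Iso.refl _ : (tenR K).obj L ≅ (tenL L).obj K) ≪≫ (t.app K).symm⟩⟩
  obtain ⟨U, n, hx, ⟨i⟩⟩ := hinv x
  exact ⟨U, n, hx, ⟨(DCoh.restrictD U.ι).mapIso eE ≪≫ i⟩⟩

end Groth.Agent.BC8
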