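import Groth.Agent.Lib.BC8.Shriek
import Groth.Agent.Lib.DMon9.LpullIso
import Mathlib.AlgebraicGeometry.Morphisms.FlatMono

/-!
The twisted inverse image of an étale morphism is pullback.
-/

set_option autoImplicit false
set_option linter.unusedSectionVars false
set_option linter.style.haveILetI false
set_option backward.isDefEq.respectTransparency false
set_option backward.isDefEq.respectTransparency.types false
set_option maxHeartbeats 800000

universe u

open CategoryTheory CategoryTheory.Limits AlgebraicGeometry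

attribute [local instance] HasDerivedCategory.standard

namespace Groth.Agent.BC8

open DMon9

/-- `Lg^*` along a morphism of finite tor dimension on bounded below objects. -/
noncomputable def lqPlus {U Y : Scheme.{u}} (g : U ⟶ Y) (htd : DerSch.HasFiniteTorDim g) :
    (Dual3.IsBddBelowQ Y).FullSubcategory ⥤ (Dual3.IsBddBelowQ U).FullSubcategory :=
  ObjectProperty.lift _ (Dual3.bddι Y ⋙ lq g) (fun K => by
    obtain ⟨c, hc⟩ := K.property
    haveI := hc
    haveI : DCoh.HasLpull g := KFlat.Sch.hasLpull g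
    exact exists_isGE_lP htd K.obj.obj c)

variable {U Y Xb : Scheme.{u}} [IsNoetherian Y] (f : U ⟶ Y) [Etale f] [IsSeparated f] [QuasiCompact f]
  (p : Xb ⟶ Y) [IsProper p]
  (j : U ⟶ Xb) [IsOpenImmersion j] (hfac : j ≫ p = f) [DCoh.HasRpush p] {hp : DCoh.RpushPreservesQCoh p}
  {a : DCoh.DQCoh Y ⥤ DCoh.DQCoh Xb} (adj : DCoh.RpushQ p hp ⊣ a)

include hfac adj in
/-- `a(K)|_U ≅ Lf^*K` on bounded below objects. -/
theorem nonempty_shriek_etale :
    Nonempty (Dual3.bddι Y ⋙ a ⋙ ObjectProperty.ι _ ⋙ lP j ≅ Dual3.bddι Y ⋙ ObjectProperty.ι _ ⋙ lP f) := by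
  haveI : CompactSpace Xb := QuasiCompact.compactSpace_of_compactSpace p
  haveI : QuasiSeparatedSpace Xb := quasiSeparatedSpace_of_quasiSeparated p
  haveI : IsLocallyNoetherian U := LocallyOfFiniteType.isLocallyNoetherian f
  haveI : CompactSpace U := QuasiCompact.compactSpace_of_compactSpace f
  haveI : QuasiSeparatedSpace U := quasiSeparatedSpace_of_quasiSeparated f
  haveI : IsNoetherian U := { }
  let W := pullback p f
  let π : W ⟶ Xb := pullback.fst p f
  let pW : W ⟶ U := pullback.snd p f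
  have hsq : IsPullback π pW p f := IsPullback.of_hasPullback p f
  let s : U ⟶ W := pullback.lift j (𝟙 U) (by rw [hfac, Category.id_comp])
  have hs1 : s ≫ π = j := pullback.lift_fst _ _ _
  have hs2 : s ≫ pW = 𝟙 U := pullback.lift_snd _ _ _
  haveI : Etale (s ≫ π) := hs1 ▸ inferInstance
  haveI : Etale s := Etale.of_comp s π
  haveI : Mono s := (SplitMono.mk pW hs2).mono
  haveI : IsOpenImmersion s := IsOpenImmersion.of_flat_of_mono s
  haveI : CompactSpace W := QuasiCompact.compactSpace_of_compactSpace pW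
  haveI : QuasiSeparatedSpace W := quasiSeparatedSpace_of_quasiSeparated pW
  haveI := qc_of_qcqs π
  haveI := DBC9.hasRpush π
  haveI := DBC9.hasRpush pW
  haveI := DBC9.hasRpush f
  haveI : DCoh.HasLpull f := KFlat.Sch.hasLpull f
  let hW := rpushPreserves pW
  haveI := isLeftAdjoint_rpushQ pW hW
  let adjW := Adjunction.ofIsLeftAdjoint (DCoh.RpushQ pW hW)
  obtain ⟨σ, hσm⟩ := exists_mult_sq hsq.w.symm
  have hgood := good_of_flat hsq (Or.inr inferInstance)
  have hσ := isIso_bc_sigQ (hf := hp) (hf' := hW) hgood σ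
  have hQP := qp_proper p
  have hQP' := qp_proper pW
  have htor : TorI p f := torI_of_flat (Or.inr inferInstance)
  have htd := hasFiniteTorDim_of_flat f
  have hβ : ∀ K : (Dual3.IsBddBelowQ Y).FullSubcategory, IsIso (beta₀ adj adjW σ hσ K.obj) := fun K => by
    obtain ⟨c, hc⟩ := K.property
    haveI := hc
    exact isIso_beta₀_bddBelow adj adjW hQP hQP' hsq htor htd σ hσm hσ K.obj c
  let nβ : Dual3.bddι Y ⋙ a ⋙ lq π ≅ Dual3.bddι Y ⋙ lq f ⋙ (DCoh.RpushQ pW hW).rightAdjoint :=
    NatIso.ofComponents (fun K => haveI := hβ K; asIso (beta₀ adj adjW σ hσ K.obj))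
      (fun {K K'} v => beta₀_natural adj adjW σ hσ ((Dual3.bddι Y).map v))
  obtain ⟨w⟩ := nonempty_shriek_open (𝟙 U) pW s hs2 adjW
  exact ⟨(Functor.isoWhiskerLeft (Dual3.bddι Y ⋙ a ⋙ ObjectProperty.ι _) (lPComp s π hs1)).symm ≪≫
    Functor.isoWhiskerRight nβ (ObjectProperty.ι _ ⋙ lP s) ≪≫
    Functor.isoWhiskerLeft (lqPlus f htd) w ≪≫
    Functor.isoWhiskerLeft (lqPlus f htd ⋙ Dual3.bddι U ⋙ ObjectProperty.ι _) (DBC9.lPId U)⟩

end Groth.Agent.BC8
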