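import Groth.Agent.Lib.BC8.BidualW
import Groth.Agent.Lib.CohMop.IhomSeq
import Groth.Agent.Lib.RDSeq.Basic
import Groth.Agent.Lib.CohMop.ExtAdjDual

/-! `ℰxt¹(ℰxt¹(F, ω), ω) = F` for modules with a resolution by two finite locally free modules. -/

set_option autoImplicit false
set_option linter.style.haveILetI false
set_option linter.unusedSectionVars false
set_option backward.isDefEq.respectTransparency false
set_option backward.isDefEq.respectTransparency.types false

universe u

open CategoryTheory CategoryTheory.Limits AlgebraicGeometry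

noncomputable section

namespace Groth.Agent.BC8.BidualW

open Groth.Agent KFlat KFlat.Sch Groth.Agent.CohMop

variable {X : Scheme.{u}} [HasInjectiveResolutions X.Modules]

theorem nonempty_extOne_cokernel {S : ShortComplex X.Modules} (hS : S.ShortExact) (h₂ : FlatMod.IsFinLocFree S.X₂)
    (ω : X.Modules) :
    Nonempty (cokernel ((ihomNat S.f).app ω) ≅ ((ihom S.X₃).rightDerived 1).obj ω) := by
  haveI : ∀ M : X.Modules, PreservesFiniteLimits (ihom M) := fun M =>
    PreservesLimitsOfSize.preservesFiniteLimits _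
  obtain ⟨c⟩ := RDSeq.nonempty_cokernel_iso (ihomNat S.g) (ihomNat S.f) (ihomNat_zero S)
    (shortExact_ihom_of_injective hS) (fun G => homExact_of_isFinLocFree h₂ 0 G)
  exact ⟨(c.app ω ≪≫ PreservesCokernel.iso ((evaluation X.Modules X.Modules).obj ω) (ihomNat S.f)).symm⟩

/-- Invariance in the first variable. -/
theorem nonempty_extOne_congr {A B : X.Modules} (e : A ≅ B) (ω : X.Modules) :
    Nonempty (((ihom A).rightDerived 1).obj ω ≅ ((ihom B).rightDerived 1).obj ω) := by
  let i : ihom A ≅ ihom B :=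
    (ihomAdj A).rightAdjointUniq ((ihomAdj B).ofNatIsoLeft ((TX X).flip.mapIso e).symm)
  let I := InjectiveResolution.of ω
  exact ⟨I.isoRightDerivedObj _ 1 ≪≫ (HomologicalComplex.homologyFunctor _ _ 1).mapIso
    ((NatIso.mapHomologicalComplex i _).app I.cocomplex) ≪≫ (I.isoRightDerivedObj _ 1).symm⟩

theorem nonempty_extOne_extOne [IsLocallyNoetherian X] {S : ShortComplex X.Modules} (hS : S.ShortExact)
    (h₁ : FlatMod.IsFinLocFree S.X₁) (h₂ : FlatMod.IsFinLocFree S.X₂) {ω : X.Modules} (hω : PicF.IsInvertible ω)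
    (h₀ : IsZero ((ihom S.X₃).obj ω)) (hloc : FlatMod.IsFinLocFree ((ihom S.X₁).obj ω)) :
    Nonempty (((ihom (((ihom S.X₃).rightDerived 1).obj ω)).rightDerived 1).obj ω ≅ S.X₃) := by
  haveI := hS.epi_g
  haveI := hS.mono_f
  let a := (ihomNat S.f).app ω
  obtain ⟨hl⟩ := nonempty_isLimit_ihomSeq hS.exact ω
  haveI : Mono a := (ShortComplex.exact_of_f_is_kernel
    (ShortComplex.mk ((ihomNat S.g).app ω) a (ihomNat_zero S ω)) hl).mono_g (h₀.eq_of_src _ _)
  let T := ShortComplex.mk a (cokernel.π a) (cokernel.condition a)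
  have hT : T.ShortExact := { exact := ShortComplex.exact_of_g_is_cokernel _ (cokernelIsCokernel a) }
  obtain ⟨c⟩ := nonempty_extOne_cokernel hS h₂ ω
  obtain ⟨c'⟩ := nonempty_extOne_cokernel hT hloc ω
  obtain ⟨i⟩ := nonempty_extOne_congr c ω
  haveI : ModSite.HasSheafHom (O := X.sheaf) S.X₁ := isLeftAdjoint_tenR _
  haveI : ModSite.HasSheafHom (O := X.sheaf) S.X₂ := isLeftAdjoint_tenR _
  haveI := isIso_bidualW ω hω h₁
  haveI := isIso_bidualW ω hω h₂
  let q : cokernel S.f ≅ S.X₃ := (colimit.isColimit _).coconePointUniqueUpToIso hS.exact.gIsCokernel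
  refine ⟨i.symm ≪≫ c'.symm ≪≫ (cokernel.mapIso _ _ (asIso (bidualW ω S.X₁)) (asIso (bidualW ω S.X₂)) ?_).symm ≪≫ q⟩
  simp only [asIso_hom]
  rw [ihomNat_app, show T.f = ihomMap S.f ω from ihomNat_app S.f ω]
  exact bidualW_natural ω S.f

end Groth.Agent.BC8.BidualW
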