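import Groth.Agent.Lib.HilbObs3.Vanish
import Groth.Agent.Lib.ExtFin9.Fin
import Groth.Agent.Lib.DefDiag3.Hom
import Groth.Agent.Lib.CohMop.RelExtCoh
import Groth.Agent.Lib.ClImmProj14.Derived
import Groth.Agent.Lib.NumPoly18.EffClass
import Groth.Agent.Lib.FundIso12.Unit
import Groth.Agent.Lib.Defo13.Basic
import Mathlib.Algebra.Homology.DerivedCategory.Ext.Linear

/-! `Ext¹(F, ω)` as the global sections of the first Ext sheaf, linearly, when `ℋom(F, ω) = 0`. -/

set_option autoImplicit false
set_option linter.style.haveILetI false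
set_option linter.unusedSectionVars false
set_option backward.isDefEq.respectTransparency false
set_option backward.isDefEq.respectTransparency.types false
set_option maxHeartbeats 800000

universe u

open CategoryTheory CategoryTheory.Limits AlgebraicGeometry Abelian

noncomputable section

namespace Groth.Agent.BC8.ExtOne

variable {X : Scheme.{u}}

/-- A map to an invertible module from a module supported on a proper closed subset is zero. -/
theorem hom_push_eq_zero [IsIntegral X] {C : Scheme.{u}} (j : C ⟶ X) [IsClosedImmersion j]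
    (hη : genericPoint X ∉ Set.range j) (N : C.Modules) {ω : X.Modules} (hω : PicF.IsInvertible ω)
    (f : (Scheme.Modules.pushforward j).obj N ⟶ ω) : f = 0 := by
  refine Defo13.hom_eq_zero_of_stalk f fun p v => NumPoly18.germ_eq_zero_of_generic hω p _ ?_
  haveI : Subsingleton (((Scheme.Modules.pushforward j).obj N).presheaf.stalk (genericPoint X)) :=
    subsingleton_of_forall_eq 0 fun a => M1.eq_zero_stalk_push j N hη a
  have hn := ConcreteCategory.congr_hom
    (TopCat.Presheaf.stalkSpecializes_stalkFunctor_map f.mapPresheaf (genericPoint_specializes p)) v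
  refine Eq.trans hn.symm ?_
  refine (congrArg _ (show ((Scheme.Modules.pushforward j).obj N).presheaf.stalkSpecializes
    (genericPoint_specializes p) v = 0 from Subsingleton.elim _ _)).trans ?_
  exact map_zero (ConcreteCategory.hom ((TopCat.Presheaf.stalkFunctor Ab (genericPoint X)).map f.mapPresheaf))

/-- The two sheaf Homs. -/
def sheafHomIso (F : X.Modules) [DCoh.HasSheafHom F] : DCoh.sheafHom F ≅ CohMop.ihom F :=
  (DCoh.sheafHomAdj F).rightAdjointUniq ((CohMop.ihomAdj F).ofNatIsoLeft
    (KFlat.Site.flipObjIso X.sheaf F).symm)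

/-- `ℋom(j_*M, ω) = 0` when `j(C)` misses the generic point. -/
theorem isZero_ihom_push [IsIntegral X] {C : Scheme.{u}} (j : C ⟶ X) [IsClosedImmersion j]
    (hη : genericPoint X ∉ Set.range j) (M : C.Modules) {ω : X.Modules} (hω : PicF.IsInvertible ω) :
    IsZero ((CohMop.ihom ((Scheme.Modules.pushforward j).obj M)).obj ω) := by
  let F := (Scheme.Modules.pushforward j).obj M
  let T := (CohMop.ihom F).obj ω
  rw [IsZero.iff_id_eq_zero]
  apply ((CohMop.ihomAdj F).homEquiv T ω).symm.injective
  let e := (ClImmProj14.tenPushIso j M).app T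
  rw [← cancel_epi e.inv, hom_push_eq_zero j hη _ hω (e.inv ≫ _), hom_push_eq_zero j hη _ hω (e.inv ≫ _)]

variable {k : Type u} [Field k] [X.Over (Spec (CommRingCat.of k))] [HasExt.{u} X.Modules]
  [HasInjectiveResolutions X.Modules]

/-- The local-to-global map in degree one is bijective. -/
theorem nonempty_ext_one_linearEquiv (F ω : X.Modules) [DCoh.HasSheafHom F] [(DCoh.sheafHom F).Additive]
    (h0 : IsZero ((CohMop.ihom F).obj ω)) :
    Nonempty (Ext F ω 1 ≃ₗ[k] Coh.HH X (((DCoh.sheafHom F).rightDerived 1).obj ω) 0) := by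
  haveI := CohMop.additive_ihom F
  haveI := DefDiag3.linear_ihom (k := k) F
  haveI := DefDiag3.linear_tenR (k := k) F
  haveI : PreservesLimitsOfSize.{0, 0} (CohMop.ihom F) := (CohMop.ihomAdj F).rightAdjoint_preservesLimits
  haveI : PreservesFiniteLimits (CohMop.ihom F) := PreservesLimitsOfSize.preservesFiniteLimits _
  let S := ShortComplex.mk (Injective.ι ω) (cokernel.π (Injective.ι ω)) (cokernel.condition _)
  have hS : S.ShortExact := { exact := ShortComplex.exact_of_g_is_cokernel _ (cokernelIsCokernel _) }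
  haveI : Injective S.X₂ := inferInstanceAs (Injective (Injective.under ω))
  let P := CohMop.ihom F
  haveI : Subsingleton (Ext F S.X₂ 1) := Ext.subsingleton_of_injective F S.X₂ 0
  obtain ⟨c⟩ := CohMop.nonempty_cokernel_iso_quot P hS (RFPlus.isAcyclicObj_injective P S.X₂)
  haveI : HasInjectiveResolutions (ModSite.Mod X.sheaf) := inferInstanceAs (HasInjectiveResolutions X.Modules)
  let I := InjectiveResolution.of ω
  let d : ((DCoh.sheafHom F).rightDerived 1).obj ω ≅ (P.rightDerived 1).obj ω :=
    I.isoRightDerivedObj _ 1 ≪≫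
      (HomologicalComplex.homologyFunctor _ _ 1).mapIso
        ((NatIso.mapHomologicalComplex (sheafHomIso F) _).app I.cocomplex) ≪≫
      (I.isoRightDerivedObj P 1).symm
  let E := cokernel (P.map S.g)
  obtain ⟨e'⟩ := ExtFin9.exists_ext_linearEquiv k E 0
  let O := Coh.structureModule X
  let adj := CohMop.ihomAdj F
  let u : (CohMop.tenR F).obj O ≅ F := DefDiag3.unitT F
  let ψ : (F ⟶ S.X₃) →ₗ[k] (O ⟶ E) :=
    { toFun := fun f => adj.homEquiv O S.X₃ (u.hom ≫ f) ≫ cokernel.π (P.map S.g)
      map_add' := fun f g => by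
        simp only [Adjunction.homEquiv_unit, Preadditive.comp_add, Functor.map_add, Preadditive.add_comp]
      map_smul' := fun a f => by
        simp only [Adjunction.homEquiv_unit, Linear.comp_smul, Functor.map_smul, Linear.smul_comp,
          RingHom.id_apply] }
  let φ : (F ⟶ S.X₃) →ₗ[k] Ext F ω 1 :=
    { toFun := fun f => (Ext.mk₀ f).comp hS.extClass (zero_add 1)
      map_add' := fun f g => by rw [Ext.mk₀_add, Ext.add_comp]
      map_smul' := fun a f => by rw [Ext.mk₀_smul, Ext.smul_comp, RingHom.id_apply] }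
  have hφ : Function.Surjective φ := fun x => by
    obtain ⟨y, hy⟩ := Ext.covariant_sequence_exact₁ F hS x (Subsingleton.elim _ _) (n₀ := 0) rfl
    obtain ⟨f, rfl⟩ := (Ext.mk₀_bijective _ _).2 y
    exact ⟨f, hy⟩
  haveI : Mono S.f := hS.mono_f
  have hz : P.map S.f ≫ P.map S.g = 0 := by rw [← P.map_comp, S.zero, P.map_zero]
  have hex : (ShortComplex.mk (P.map S.f) (P.map S.g) hz).Exact :=
    hS.exact.map_of_mono_of_preservesKernel P inferInstance inferInstance
  haveI : Mono (P.map S.g) := hex.mono_g (h0.eq_of_src _ _)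
  let i : (DCoh.sheafHom F).obj S.X₂ ≅ P.obj S.X₂ := (sheafHomIso F).app S.X₂
  let T := ShortComplex.mk (i.hom ≫ P.map S.g) (cokernel.π (P.map S.g))
    (by rw [Category.assoc, cokernel.condition, comp_zero])
  have hT : T.ShortExact :=
    { exact := ShortComplex.exact_of_g_is_cokernel _ (isCokernelEpiComp (cokernelIsCokernel (P.map S.g)) i.hom rfl)
      mono_f := mono_comp i.hom (P.map S.g)
      epi_g := inferInstanceAs (Epi (cokernel.π (P.map S.g))) }
  obtain ⟨e₁⟩ := ExtFin9.exists_ext_linearEquiv k T.X₁ 1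
  haveI := HilbObs3.subsingleton_HH_one_sheafHom F S.X₂ (‹Subsingleton (Ext F S.X₂ 1)›)
  haveI : Subsingleton (Ext O T.X₁ 1) := e₁.toEquiv.subsingleton
  have hψ : Function.Surjective ψ := fun y => by
    obtain ⟨z, hz⟩ := Ext.covariant_sequence_exact₃ O hT (Ext.mk₀ y) rfl (Subsingleton.elim _ _)
    obtain ⟨w, rfl⟩ := (Ext.mk₀_bijective _ _).2 z
    rw [Ext.mk₀_comp_mk₀] at hz
    refine ⟨u.inv ≫ (adj.homEquiv O S.X₃).symm w, ?_⟩
    show adj.homEquiv O S.X₃ (u.hom ≫ u.inv ≫ (adj.homEquiv O S.X₃).symm w) ≫ _ = y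
    rw [Iso.hom_inv_id_assoc, Equiv.apply_symm_apply]
    exact (Ext.mk₀_bijective _ _).1 hz
  have hker : LinearMap.ker φ = LinearMap.ker ψ := by
    ext f
    rw [LinearMap.mem_ker, LinearMap.mem_ker]
    constructor
    · intro hf
      obtain ⟨z, hz⟩ := Ext.covariant_sequence_exact₃ F hS (Ext.mk₀ f) (zero_add 1) hf
      obtain ⟨g, rfl⟩ := (Ext.mk₀_bijective _ _).2 z
      rw [Ext.mk₀_comp_mk₀] at hz
      obtain rfl : g ≫ S.g = f := (Ext.mk₀_bijective _ _).1 hz
      show adj.homEquiv O S.X₃ (u.hom ≫ g ≫ S.g) ≫ _ = 0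
      rw [← Category.assoc, adj.homEquiv_naturality_right, Category.assoc, cokernel.condition, comp_zero]
    · intro hf
      let hl := (ShortComplex.exact_of_g_is_cokernel
        (ShortComplex.mk (P.map S.g) (cokernel.π (P.map S.g)) (cokernel.condition _))
        (cokernelIsCokernel _))
      let w := hl.lift (adj.homEquiv O S.X₃ (u.hom ≫ f)) hf
      let g : F ⟶ S.X₂ := u.inv ≫ (adj.homEquiv O S.X₂).symm w
      have hg : f = g ≫ S.g := by
        rw [Category.assoc, ← adj.homEquiv_naturality_right_symm, show w ≫ P.map S.g =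
          adj.homEquiv O S.X₃ (u.hom ≫ f) from hl.lift_f _ _, Equiv.symm_apply_apply, Iso.inv_hom_id_assoc]
      show (Ext.mk₀ f).comp hS.extClass (zero_add 1) = 0
      rw [hg, ← Ext.mk₀_comp_mk₀, Ext.comp_assoc_of_second_deg_zero, hS.comp_extClass, Ext.comp_zero]
  let E₁ : Ext F ω 1 ≃ₗ[k] (O ⟶ E) :=
    (φ.quotKerEquivOfSurjective hφ).symm.trans ((Submodule.quotEquivOfEq _ _ hker).trans
      (ψ.quotKerEquivOfSurjective hψ))
  exact ⟨E₁.trans ((Ext.linearEquiv₀ (R := k)).symm.trans (e'.trans (CurveCoh17.hequiv k (c ≪≫ d.symm) 0)))⟩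

end Groth.Agent.BC8.ExtOne
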