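import Groth.Agent.Lib.BC8.SuppAff
import Groth.Agent.Lib.KFlat.Flat
import Groth.Agent.Lib.RHom.Compact
import Groth.Agent.Lib.Dual8.Formula

/-!
Tensor products with flat modules are exact; classes in tensor products with flat modules.
-/

set_option autoImplicit false
set_option linter.unusedSectionVars false
set_option linter.style.haveILetI false
set_option backward.isDefEq.respectTransparency false
set_option backward.isDefEq.respectTransparency.types false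
set_option maxHeartbeats 800000

universe u

open CategoryTheory CategoryTheory.Limits MonoidalCategory AlgebraicGeometry Pretriangulated

attribute [local instance] HasDerivedCategory.standard

namespace Groth.Agent.BC8

open DMon9 KFlat KFlat.Sch

attribute [local instance] preadditiveDM

variable {X Y : Scheme.{u}}

theorem isLeftAdjoint_tensorRight (A : DM X) : (tensorRight A : DM X ⥤ DM X).IsLeftAdjoint := by
  obtain ⟨K, ⟨e⟩⟩ := exists_qM (A : DCoh.D X)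
  let e' : (qM X).obj K ≅ A := e
  haveI := KFlat.Sch.hasLTensorCx K.obj
  haveI : DCoh.HasRSheafHom K.obj := RHom.hasRSheafHom K.obj
  haveI : (tR K).IsLeftAdjoint := ⟨_, ⟨(DCoh.RSheafHomAdj K.obj).ofNatIsoLeft (DMon9.theta K).symm⟩⟩
  haveI : (tensorRight ((qM X).obj K) : DM X ⥤ DM X).IsLeftAdjoint := inferInstanceAs (tR K).IsLeftAdjoint
  exact Functor.isLeftAdjoint_of_iso ((MonoidalCategory.tensoringRight (DM X)).mapIso e')

/-- `- ⊗ Q` is exact with degree shift `k`. -/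
def TExactAt (Q : DCoh.D Y) (k : ℤ) : Prop :=
  ∀ (G : DM Y) (n : ℤ), IsZero (DCoh.HD (G : DCoh.D Y) (n + k)) →
    IsZero (DCoh.HD ((G ⊗ (Q : DM Y) : DM Y) : DCoh.D Y) n)

theorem texactAt_of_iso {Q Q' : DCoh.D Y} (e : Q ≅ Q') {k : ℤ} (h : TExactAt Q k) : TExactAt Q' k := fun G n hn => by
  let e' : (Q : DM Y) ≅ (Q' : DM Y) := e
  exact (h G n hn).of_iso ((DerivedCategory.homologyFunctor _ n).mapIso (whiskerLeftIso G e').symm)

/-- A flat module in a single degree. -/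
noncomputable def flatK (F : Y.Modules) (hF : FlatMod.IsFlat F) (a : ℤ) : KF Y :=
  ⟨(HomologicalComplex.single Y.Modules (ComplexShape.up ℤ) a).obj F,
    KFlat.isKFlat_single (T := TX Y) a F ((KFlat.Sch.isFlat_iff F).2 hF)⟩

theorem texactAt_single (F : Y.Modules) (hF : FlatMod.IsFlat F) (a : ℤ) :
    TExactAt (DerivedCategory.Q.obj (flatK F hF a).obj) (-a) := fun G n hn => by
  obtain ⟨A, ⟨e⟩⟩ := exists_qM (G : DCoh.D Y)
  let e' : (qM Y).obj A ≅ G := e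
  have hA : A.obj.ExactAt (n + -a) := (HomologicalComplex.exactAt_iff_isZero_homology _ _).2
    (hn.of_iso (((DerivedCategory.homologyFunctorFactors _ _).app A.obj).symm ≪≫
      (DerivedCategory.homologyFunctor _ _).mapIso e))
  have hflat : IsFlat (TX Y) F := (KFlat.Sch.isFlat_iff F).2 hF
  haveI := hflat.preservesHomology_right
  have h0 : (((tcx (TX Y)).obj A.obj).obj ((HomologicalComplex.single Y.Modules (ComplexShape.up ℤ) a).obj F)).ExactAt n := by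
    refine (KFlat.exactAt_tcx_single_iff A.obj a F n (n + -a) (by omega)).2 ?_
    exact ((HomologicalComplex.exactAt_iff' A.obj (n + -a - 1) (n + -a) (n + -a + 1) (by simp) (by simp)).1 hA).map
      ((TX Y).flip.obj F)
  let w : (G ⊗ ((qM Y).obj (flatK F hF a)) : DM Y) ≅ (qM Y).obj (A ⊗ flatK F hF a) :=
    whiskerRightIso e'.symm _ ≪≫ muK A (flatK F hF a)
  exact ((HomologicalComplex.exactAt_iff_isZero_homology _ n).1 h0).of_iso
    ((DerivedCategory.homologyFunctor _ n).mapIso (w :) ≪≫ (DerivedCategory.homologyFunctorFactors _ n).app _)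

/-- The structure sheaf in degree zero. -/
noncomputable abbrev oneD (Y : Scheme.{u}) : DCoh.D Y := (𝟙_ (DM Y) : DM Y)

/-- Classes on an affine scheme vanish without cohomology in degree zero. -/
theorem hom_one_eq_zero [IsAffine Y] {Z : DCoh.D Y} (hZ : DCoh.IsQCohD Z) (h : IsZero (DCoh.HD Z 0))
    (φ : oneD Y ⟶ Z) : φ = 0 := by
  let t : (DerivedCategory.singleFunctor Y.Modules 0).obj ((DQC.gen Y).obj ⊤) ≅ oneD Y :=
    (DerivedCategory.singleFunctor Y.Modules 0).mapIso (RHom.topIso (X := Y)).symm ≪≫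
      (DerivedCategory.singleFunctorIsoCompQ Y.Modules 0).app (Coh.structureModule Y)
  exact (cancel_epi t.hom).1 ((DQC.bijective_θ Z hZ (isAffineOpen_top Y) 0).1 (h.eq_of_tgt _ _))

theorem isQCohD_ten {A B : DCoh.D Y} (hA : DCoh.IsQCohD A) (hB : DCoh.IsQCohD B) :
    DCoh.IsQCohD (((A : DM Y) ⊗ (B : DM Y) : DM Y) : DCoh.D Y) :=
  isQCohD_tensor (A := (A : DM Y)) (B := (B : DM Y)) hA hB

/-- Tensoring a map on the left. -/
noncomputable def tenL (G : DCoh.D Y) : DCoh.D Y ⥤ DCoh.D Y := (tensorLeft (G : DM Y) : DM Y ⥤ DM Y)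

/-- Tensoring a map on the right. -/
noncomputable def tenR (Q : DCoh.D Y) : DCoh.D Y ⥤ DCoh.D Y := (tensorRight (Q : DM Y) : DM Y ⥤ DM Y)

instance (G : DCoh.D Y) : (tenL G).IsLeftAdjoint := isLeftAdjoint_tensorLeft (G : DM Y)

instance (Q : DCoh.D Y) : (tenR Q).IsLeftAdjoint := isLeftAdjoint_tensorRight (Q : DM Y)

theorem ten_exchange {G G' Q Q' : DCoh.D Y} (u : G ⟶ G') (v : Q ⟶ Q') :
    (tenL G).map v ≫ (tenR Q').map u = (tenR Q).map u ≫ (tenL G').map v :=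
  whisker_exchange (C := DM Y) u v

/-- Classes lift along surjections of flat objects. -/
theorem exists_lift_tensor [IsAffine Y] {G : DCoh.D Y} (hG : DCoh.IsQCohD G) (T : Triangle (DCoh.D Y))
    (hT : T ∈ distTriang _) (q₁ : DCoh.IsQCohD T.obj₁) (q₂ : DCoh.IsQCohD T.obj₂) (q₃ : DCoh.IsQCohD T.obj₃)
    (k : ℤ) (h₁ : TExactAt (T.obj₁⟦(1 : ℤ)⟧) (k + 1)) (h₂ : TExactAt (T.obj₂⟦(1 : ℤ)⟧) (k + 1))
    (h₃ : TExactAt T.obj₃ k)
    (y : oneD Y ⟶ (tenL G).obj T.obj₃) : ∃ x : oneD Y ⟶ (tenL G).obj T.obj₂, x ≫ (tenL G).map T.mor₂ = y := by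
  let t : Triangulated.TStructure (DCoh.D Y) := DerivedCategory.TStructure.t
  let φ : T.obj₁⟦(1 : ℤ)⟧ ⟶ T.obj₂⟦(1 : ℤ)⟧ := T.rotate.rotate.mor₂
  have hT' := rot_of_distTriang _ (rot_of_distTriang _ hT)
  have qA₁ : DCoh.IsQCohD (T.obj₁⟦(1 : ℤ)⟧) := WayOut.cohIn_shift (fun M : Y.Modules => Coh.IsQCoh M) 1 q₁
  have qA₂ : DCoh.IsQCohD (T.obj₂⟦(1 : ℤ)⟧) := WayOut.cohIn_shift (fun M : Y.Modules => Coh.IsQCoh M) 1 q₂
  have inj : ∀ z : oneD Y ⟶ (tenL G).obj (T.obj₁⟦(1 : ℤ)⟧), z ≫ (tenL G).map φ = 0 → z = 0 := by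
    intro z hz
    let S := (t.triangleLTGE (k + 2)).obj G
    have hS : S ∈ distTriang _ := t.triangleLTGE_distinguished (k + 2) G
    have qS₁ : DCoh.IsQCohD S.obj₁ := DMV.isQCohD_truncLT G hG (k + 2)
    have qS₃ : DCoh.IsQCohD S.obj₃ := DMV.isQCohD_truncGE G hG (k + 2)
    haveI hS3 : DerivedCategory.IsGE S.obj₃ (k + 2) :=
      (inferInstance : t.IsGE ((t.truncGE (k + 2)).obj G) (k + 2))
    have v₃ : ∀ w : oneD Y ⟶ (tenR (T.obj₁⟦(1 : ℤ)⟧)).obj S.obj₃, w = 0 :=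
      hom_one_eq_zero (isQCohD_ten qS₃ qA₁) (h₁ _ 0 (DerivedCategory.isZero_of_isGE S.obj₃ (k + 2) _ (by omega)))
    obtain ⟨z₁, hz₁⟩ := Dual8.exists_lift_mid (tenR (T.obj₁⟦(1 : ℤ)⟧)) S hS (P := oneD Y) z (v₃ _)
    have e1 : (z₁ ≫ (tenL S.obj₁).map φ) ≫ (tenR (T.obj₂⟦(1 : ℤ)⟧)).map S.mor₁ = 0 := by
      rw [Category.assoc, ten_exchange, ← Category.assoc]
      exact (congrArg (· ≫ (tenL G).map φ) hz₁).trans hz
    obtain ⟨r, hr⟩ := Dual8.exists_lift_mid (tenR (T.obj₂⟦(1 : ℤ)⟧)) S.invRotate (inv_rot_of_distTriang _ hS)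
      (P := oneD Y) (z₁ ≫ (tenL S.obj₁).map φ) e1
    have qI : DCoh.IsQCohD S.invRotate.obj₁ := WayOut.cohIn_shift (fun M : Y.Modules => Coh.IsQCoh M) (-1) qS₃
    have vI : r = 0 := hom_one_eq_zero (isQCohD_ten qI qA₂) (h₂ _ 0
      ((DerivedCategory.isZero_of_isGE S.obj₃ (k + 2) k (by omega)).of_iso
        (((DerivedCategory.homologyFunctor Y.Modules 0).shiftIso (-1 : ℤ) (0 + (k + 1)) k (by omega)).app S.obj₃))) r
    have e2 : z₁ ≫ (tenL S.obj₁).map φ = 0 := by rw [← hr, vI, zero_comp]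
    let S' := (t.triangleLTGE (k + 1)).obj S.obj₁
    have hS' : S' ∈ distTriang _ := t.triangleLTGE_distinguished (k + 1) S.obj₁
    have qM₁ : DCoh.IsQCohD S'.obj₁ := DMV.isQCohD_truncLT _ qS₁ (k + 1)
    have qM₃ : DCoh.IsQCohD S'.obj₃ := DMV.isQCohD_truncGE _ qS₁ (k + 1)
    haveI : DerivedCategory.IsLE S'.obj₁ k := t.isLE_truncLT_obj _ (k + 1) k (by omega)
    haveI : DerivedCategory.IsGE S'.obj₃ (k + 1) :=
      (inferInstance : t.IsGE ((t.truncGE (k + 1)).obj S.obj₁) (k + 1))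
    let w := z₁ ≫ (tenR (T.obj₁⟦(1 : ℤ)⟧)).map S'.mor₂
    have hw : w ≫ (tenL S'.obj₃).map φ = 0 := by
      rw [show w = z₁ ≫ (tenR (T.obj₁⟦(1 : ℤ)⟧)).map S'.mor₂ from rfl, Category.assoc, ← ten_exchange,
        ← Category.assoc]
      exact (congrArg (· ≫ (tenR (T.obj₂⟦(1 : ℤ)⟧)).map S'.mor₂) e2).trans zero_comp
    obtain ⟨s, hs⟩ := Dual8.exists_lift_mid (tenL S'.obj₃) T.rotate.rotate hT' (P := oneD Y) w hw
    have vs : s = 0 := hom_one_eq_zero (isQCohD_ten qM₃ q₃)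
      (h₃ _ 0 (DerivedCategory.isZero_of_isGE S'.obj₃ (k + 1) _ (by omega))) s
    have hw0 : w = 0 := by rw [← hs, vs, zero_comp]
    obtain ⟨u, hu⟩ := Dual8.exists_lift_mid (tenR (T.obj₁⟦(1 : ℤ)⟧)) S' hS' (P := oneD Y) z₁ hw0
    have vu : u = 0 := hom_one_eq_zero (isQCohD_ten qM₁ qA₁)
      (h₁ _ 0 (DerivedCategory.isZero_of_isLE S'.obj₁ k _ (by omega))) u
    rw [← hz₁, ← hu, vu, zero_comp, zero_comp]
  refine Dual8.exists_lift_mid (tenL G) T.rotate (rot_of_distTriang _ hT) (P := oneD Y) y (inj _ ?_)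
  rw [Category.assoc, ← Functor.map_comp]
  haveI : (tenL G).PreservesZeroMorphisms := Functor.preservesZeroMorphisms_of_isLeftAdjoint _
  rw [show T.rotate.mor₂ ≫ φ = 0 from comp_distTriang_mor_zero₁₂ _ hT', Functor.map_zero, comp_zero]

end Groth.Agent.BC8
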