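import Groth.Agent.Lib.DBC9.Mate

/-!
Formal properties of base change maps for right adjoints of direct images.
-/

set_option autoImplicit false
set_option linter.unusedSectionVars false
set_option linter.style.haveILetI false

open CategoryTheory

namespace Groth.Agent.BC8

variable {A A' B B' : Type*} [Category* A] [Category* A'] [Category* B] [Category* B']
  {F : A ⥤ B} {F' : A' ⥤ B'} {G : A ⥤ A'} {H : B ⥤ B'} {P : A' ⥤ A} {Q : B' ⥤ B} {a : B ⥤ A} {a' : B' ⥤ A'}
  (adjG : G ⊣ P) (adjH : H ⊣ Q) (adj : F ⊣ a) (adj' : F' ⊣ a') (e : P ⋙ F ≅ F' ⋙ Q)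

/-- The base change map of direct images, as a transformation. -/
def theta : F ⋙ H ⟶ G ⋙ F' where
  app E := (adjH.homEquiv _ _).symm (F.map (adjG.unit.app E) ≫ e.hom.app (G.obj E))
  naturality E E' v := by
    dsimp
    rw [← adjH.homEquiv_naturality_left_symm, ← adjH.homEquiv_naturality_right_symm]
    congr 1
    have h := e.hom.naturality (G.map v)
    dsimp at h
    rw [← F.map_comp_assoc, show v ≫ adjG.unit.app E' = adjG.unit.app E ≫ P.map (G.map v) from
      adjG.unit.naturality v, F.map_comp, Category.assoc, h, Category.assoc]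

theorem theta_app (E : A) :
    (theta adjG adjH e).app E = (adjH.homEquiv _ _).symm (F.map (adjG.unit.app E) ≫ e.hom.app (G.obj E)) := rfl

/-- The transformation of right adjoints. -/
def xiMap (M : B') : P.obj (a'.obj M) ⟶ a.obj (Q.obj M) :=
  adj.homEquiv _ _ (e.hom.app (a'.obj M) ≫ Q.map (adj'.counit.app M))

theorem theta_xi {E : A} {M : B'} (ψ : G.obj E ⟶ a'.obj M) :
    (theta adjG adjH e).app E ≫ F'.map ψ ≫ adj'.counit.app M =
      (adjH.homEquiv _ _).symm ((adj.homEquiv _ _).symm (adjG.homEquiv _ _ ψ ≫ xiMap adj adj' e M)) := by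
  rw [xiMap, adj.homEquiv_naturality_left_symm, Equiv.symm_apply_apply, adjG.homEquiv_unit, Functor.map_comp,
    Category.assoc]
  have h := e.hom.naturality ψ
  dsimp at h
  rw [reassoc_of% h, ← Q.map_comp, ← Category.assoc (F.map (adjG.unit.app E))]
  exact (adjH.homEquiv_naturality_right_symm _ _).symm

theorem isIso_xiMap [∀ E, IsIso ((theta adjG adjH e).app E)] (M : B') : IsIso (xiMap adj adj' e M) := by
  have hb : ∀ E : A, Function.Bijective fun φ : E ⟶ P.obj (a'.obj M) => φ ≫ xiMap adj adj' e M := by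
    intro E
    let eq : (E ⟶ P.obj (a'.obj M)) ≃ (E ⟶ a.obj (Q.obj M)) :=
      (adjG.homEquiv _ _).symm.trans ((adj'.homEquiv _ _).symm.trans
        ((asIso ((theta adjG adjH e).app E)).symm.homFromEquiv.trans
          ((adjH.homEquiv _ _).trans (adj.homEquiv _ _))))
    have h : (fun φ : E ⟶ P.obj (a'.obj M) => φ ≫ xiMap adj adj' e M) = eq := by
      funext φ
      simp only [eq, Equiv.trans_apply]
      refine (Equiv.symm_apply_eq _).1 ((Equiv.symm_apply_eq _).1 ?_)
      rw [Iso.homFromEquiv_apply, adj'.homEquiv_counit]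
      refine Eq.trans ?_ (theta_xi adjG adjH adj adj' e _).symm
      rw [Equiv.apply_symm_apply]
    rw [h]
    exact eq.bijective
  obtain ⟨s, hs⟩ := (hb _).2 (𝟙 _)
  refine ⟨s, (hb _).1 ?_, hs⟩
  dsimp only at hs ⊢
  rw [Category.assoc, hs, Category.comp_id, Category.id_comp]

/-- The base change map of right adjoints. -/
noncomputable def beta (s : G ⋙ F' ≅ F ⋙ H) : a ⋙ G ⟶ H ⋙ a' := DBC9.bc adj adj' s.hom

theorem theta_bcMap (K : B) [IsIso (xiMap adj adj' e (H.obj K))] :
    (theta adjG adjH e).app (a.obj K) ≫ F'.map (G.map (a.map (adjH.unit.app K)) ≫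
      G.map (inv (xiMap adj adj' e (H.obj K))) ≫ adjG.counit.app (a'.obj (H.obj K))) ≫ adj'.counit.app (H.obj K) =
      H.map (adj.counit.app K) := by
  rw [theta_xi adjG adjH adj adj' e, ← G.map_comp_assoc,
    show G.map (a.map (adjH.unit.app K) ≫ inv (xiMap adj adj' e (H.obj K))) ≫ adjG.counit.app _ =
      (adjG.homEquiv (a.obj K) _).symm (a.map (adjH.unit.app K) ≫ inv (xiMap adj adj' e (H.obj K))) from
      (adjG.homEquiv_counit _ _ _).symm]
  erw [Equiv.apply_symm_apply]
  rw [
    Category.assoc, IsIso.inv_hom_id, Category.comp_id, adj.homEquiv_counit]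
  rw [show F.map (a.map (adjH.unit.app K)) ≫ adj.counit.app (Q.obj (H.obj K)) = adj.counit.app K ≫ adjH.unit.app K from
    adj.counit.naturality (adjH.unit.app K), adjH.homEquiv_naturality_left_symm]
  rw [adjH.homEquiv_counit]
  exact (congrArg (H.map (adj.counit.app K) ≫ ·) (adjH.left_triangle_components K)).trans (Category.comp_id _)

theorem bcMap_eq (K : B) [IsIso (xiMap adj adj' e (H.obj K))] [IsIso ((theta adjG adjH e).app (a.obj K))] :
    G.map (a.map (adjH.unit.app K)) ≫
      G.map (inv (xiMap adj adj' e (H.obj K))) ≫ adjG.counit.app (a'.obj (H.obj K)) =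
    adj'.homEquiv _ _ (inv ((theta adjG adjH e).app (a.obj K)) ≫ H.map (adj.counit.app K)) := by
  refine (Equiv.symm_apply_eq _).1 ?_
  rw [adj'.homEquiv_counit, IsIso.eq_inv_comp]
  exact theta_bcMap adjG adjH adj adj' e K

end Groth.Agent.BC8
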