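import Mathlib.Algebra.Category.ModuleCat.ChangeOfRings
import Mathlib.RingTheory.AdjoinRoot
import Mathlib.RingTheory.OrzechProperty
import Mathlib.LinearAlgebra.FiniteDimensional.Basic

/-! Frobenius extensions: restriction of scalars is left adjoint to extension of scalars. -/

set_option autoImplicit false
set_option linter.style.haveILetI false
set_option linter.unusedSectionVars false
set_option backward.isDefEq.respectTransparency false
set_option backward.isDefEq.respectTransparency.types false

universe u

open CategoryTheory CategoryTheory.Limits TensorProduct ModuleCat ChangeOfRings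

noncomputable section

namespace Groth.Agent.BC8

variable {R S : Type u} [CommRing R] [CommRing S] (f : R →+* S) (lam : S →+ R)
  (hlam : ∀ (r : R) (s : S), lam (f r * s) = r * lam s)

/-- The functional as a linear map on the restricted ring. -/
def lamL : (restrictScalars.{u} f).obj (ModuleCat.of S S) →ₗ[R] R where
  toFun s := lam s
  map_add' x y := lam.map_add x y
  map_smul' r x := hlam r x

/-- Contraction with the functional. -/
def frobMu (M : ModuleCat.{u} R) : (restrictScalars f).obj ((extendScalars f).obj M) ⟶ M :=
  ModuleCat.ofHom (X := ((restrictScalars f).obj ((extendScalars f).obj M) : ModuleCat.{u} R))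
    { toFun := fun x => TensorProduct.lift (LinearMap.lsmul R M ∘ₗ lamL f lam hlam) x
      map_add' := fun x y => map_add _ x y
      map_smul' := fun r x => by
        have h : ∀ z : (extendScalars f).obj M, TensorProduct.lift (LinearMap.lsmul R M ∘ₗ lamL f lam hlam) (f r • z) =
            r • TensorProduct.lift (LinearMap.lsmul R M ∘ₗ lamL f lam hlam) z := fun z => by
          induction z using TensorProduct.induction_on with
          | zero => rw [smul_zero]; exact (map_zero _).trans (smul_zero r).symm
          | tmul s m =>
            exact (congrArg (· • m) (hlam r s)).trans (mul_smul r (lam s) m)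
          | add z w hz hw =>
            rw [smul_add]
            exact (map_add _ _ _).trans ((congrArg₂ (· + ·) hz hw).trans
              ((smul_add r _ _).symm.trans (congrArg (r • ·) (map_add _ _ _).symm)))
        exact h x }

theorem frobMu_tmul (M : ModuleCat.{u} R) (s : S) (m : M) :
    frobMu f lam hlam M (s ⊗ₜ[R,f] m) = lam s • m := rfl

theorem frobMu_natural {M N : ModuleCat.{u} R} (g : M ⟶ N) :
    (restrictScalars f).map ((extendScalars f).map g) ≫ frobMu f lam hlam N = frobMu f lam hlam M ≫ g := by
  refine ModuleCat.hom_ext (LinearMap.ext fun x => ?_)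
  change frobMu f lam hlam N ((extendScalars f).map g x) = g (frobMu f lam hlam M x)
  induction x using TensorProduct.induction_on with
  | zero => simp only [map_zero]
  | tmul s m => exact (g.hom.map_smul (lam s) m).symm
  | add z w hz hw =>
    erw [map_add, map_add, map_add, map_add]
    exact congrArg₂ (· + ·) hz hw

variable {ι : Type} [Fintype ι] (b c : ι → S) (h1 : ∀ s : S, ∑ j, f (lam (b j * s)) * c j = s)
  (h2 : ∀ s : S, ∑ j, f (lam (s * c j)) * b j = s)

include hlam h1 h2 in
/-- A Frobenius functional makes restriction left adjoint to extension. -/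
theorem nonempty_frob : Nonempty (restrictScalars.{u} f ⊣ extendScalars.{u, u, u} f) := by
  let adj := restrictCoextendScalarsAdj.{u, u, u} f
  let τ : extendScalars.{u, u, u} f ⟶ coextendScalars.{u, u, u} f :=
    { app := fun M => adj.homEquiv _ _ (frobMu f lam hlam M)
      naturality := fun M N g => by
        rw [← adj.homEquiv_naturality_left, ← adj.homEquiv_naturality_right]
        exact congrArg _ (frobMu_natural f lam hlam g) }
  haveI : ∀ M, IsIso (τ.app M) := fun M => by
    rw [ConcreteCategory.isIso_iff_bijective]
    let T : (coextendScalars f).obj M → (extendScalars f).obj M := fun h =>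
      ∑ j, ((c j) ⊗ₜ[R,f] (h (b j)) : (extendScalars f).obj M)
    have hτ : ∀ (x : (extendScalars f).obj M) (s : S), (τ.app M x) s = frobMu f lam hlam M (s • x) := fun _ _ => rfl
    have hsum : ∀ (x : ι → S) (m : M), (∑ j, (x j ⊗ₜ[R,f] m : (extendScalars f).obj M)) =
        ((∑ j, x j) ⊗ₜ[R,f] m : (extendScalars f).obj M) := fun x m => (TensorProduct.sum_tmul _ _ _).symm
    have key : ∀ (s : S) (m : M), T (τ.app M (s ⊗ₜ[R,f] m : (extendScalars f).obj M)) =
        (s ⊗ₜ[R,f] m : (extendScalars f).obj M) := fun s m => by
      refine Eq.trans (Finset.sum_congr rfl fun j _ => ?_)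
        ((hsum (fun j => f (lam (b j * s)) * c j) m).trans (by rw [h1]))
      rw [hτ]
      erw [ExtendScalars.smul_tmul]
      rw [frobMu_tmul]
      exact (TensorProduct.smul_tmul (R := R) (lam (b j * s)) (show (restrictScalars f).obj (ModuleCat.of S S) from c j) m).symm
    have hleft : ∀ x, T (τ.app M x) = x := fun x => by
      induction x using TensorProduct.induction_on with
      | zero =>
        refine Finset.sum_eq_zero fun j _ => ?_
        rw [hτ, smul_zero]
        erw [map_zero]
        exact TensorProduct.tmul_zero _ _
      | tmul s m => exact key s m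
      | add z w hz hw =>
        refine Eq.trans ?_ (congrArg₂ (· + ·) hz hw)
        simp only [T]
        rw [← Finset.sum_add_distrib]
        refine Finset.sum_congr rfl fun j _ => ?_
        rw [hτ, hτ, hτ, smul_add]
        erw [map_add]
        exact TensorProduct.tmul_add _ _ _
    have hright : ∀ h, τ.app M (T h) = h := fun h => by
      suffices hS : ∀ s : S, (τ.app M (T h)) s = h s from CoextendScalars.ext (LinearMap.ext fun s => hS s)
      intro s
      rw [hτ, Finset.smul_sum]
      erw [map_sum]
      conv_rhs => rw [← h2 s]
      refine Eq.trans (Finset.sum_congr rfl fun j _ => ?_)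
        (map_sum ((CoextendScalars.equiv f M) h) (fun j => f (lam (s * c j)) * b j) Finset.univ).symm
      erw [ExtendScalars.smul_tmul]
      rw [frobMu_tmul]
      exact (((CoextendScalars.equiv f M) h).map_smul (lam (s * c j)) (b j)).symm
    exact ⟨fun x y hxy => by rw [← hleft x, ← hleft y, hxy], fun h => ⟨T h, hright h⟩⟩
  haveI : IsIso τ := NatIso.isIso_of_isIso_app τ
  exact ⟨adj.ofNatIsoRight (asIso τ).symm⟩

/-- Monogenic finite free extensions are Frobenius. -/
theorem nonempty_frob_adjoinRoot (g : Polynomial R) (hg : g.Monic) :
    Nonempty (restrictScalars.{u} (algebraMap R (AdjoinRoot g)) ⊣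
      extendScalars.{u, u, u} (algebraMap R (AdjoinRoot g))) := by
  rcases subsingleton_or_nontrivial R with hR | hR
  · haveI : Subsingleton (AdjoinRoot g) := Module.subsingleton R _
    exact nonempty_frob (algebraMap R (AdjoinRoot g)) 0 (fun r s => (mul_zero r).symm) (ι := Empty) Empty.elim
      Empty.elim (fun s => Subsingleton.elim _ _) fun s => Subsingleton.elim _ _
  · let pb := AdjoinRoot.powerBasis' hg
    let x := pb.gen
    let bb := pb.basis
    let d := pb.dim
    let lam : AdjoinRoot g →ₗ[R] R := if h : 0 < d then bb.coord ⟨d - 1, by omega⟩ else 0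
    have hb : ∀ i : Fin d, bb i = x ^ (i : ℕ) := fun i => pb.basis_eq_pow i
    let T : AdjoinRoot g →ₗ[R] Fin d → R :=
      LinearMap.pi fun i => lam.comp (LinearMap.mul R (AdjoinRoot g) (bb i))
    have hT : ∀ (s : AdjoinRoot g) (i : Fin d), T s i = lam (bb i * s) := fun s i => rfl
    have hsurj : ∀ (k : ℕ) (j : Fin d), d ≤ (j : ℕ) + k → Pi.single j (1 : R) ∈ LinearMap.range T := by
      intro k
      induction k with
      | zero => intro j hj; exact absurd j.isLt (by omega)
      | succ k ih =>
        intro j hj
        have hd : 0 < d := lt_of_le_of_lt (Nat.zero_le _) j.isLt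
        let v : Fin d → R := T (x ^ (d - 1 - (j : ℕ)))
        have hv : ∀ i : Fin d, (i : ℕ) ≤ j → v i = (Pi.single j (1 : R) : Fin d → R) i := fun i hi => by
          show lam (bb i * x ^ (d - 1 - (j : ℕ))) = _
          rw [hb, ← pow_add]
          have hjd := j.isLt
          have hlt : (i : ℕ) + (d - 1 - (j : ℕ)) < d := by omega
          rw [← hb ⟨_, hlt⟩]
          simp only [lam, dif_pos hd, Module.Basis.coord_apply, Module.Basis.repr_self, Finsupp.single_apply,
            Pi.single_apply, Fin.ext_iff]
          split_ifs <;> first | rfl | (exfalso; omega)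
        have hdiff : Pi.single j (1 : R) = v - ∑ i ∈ Finset.univ.filter (fun i : Fin d => (j : ℕ) < i), v i • Pi.single i (1 : R) := by
          funext i
          simp only [Pi.sub_apply, Finset.sum_apply, Pi.smul_apply, smul_eq_mul]
          simp only [Pi.single_apply, mul_ite, mul_one, mul_zero, Finset.sum_ite_eq, Finset.mem_filter,
            Finset.mem_univ, true_and]
          by_cases hij : (j : ℕ) < i
          · rw [if_pos hij, sub_self, if_neg (fun h => by rw [h] at hij; omega)]
          · rw [if_neg hij, sub_zero, hv i (by omega), Pi.single_apply]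
        rw [hdiff]
        refine sub_mem ⟨_, rfl⟩ (Submodule.sum_mem _ fun i hi => Submodule.smul_mem _ _ (ih i ?_))
        have := (Finset.mem_filter.1 hi).2
        omega
    have hTs : Function.Surjective T := by
      rw [← LinearMap.range_eq_top, eq_top_iff, ← (Pi.basisFun R (Fin d)).span_eq, Submodule.span_le]
      rintro _ ⟨j, rfl⟩
      rw [Pi.basisFun_apply]
      exact hsurj d j (Nat.le_add_left _ _)
    haveI : _root_.Module.Finite R (AdjoinRoot g) := _root_.Module.Finite.of_basis bb
    have hTi : Function.Injective T := by
      have h := OrzechProperty.injective_of_surjective_endomorphism (bb.equivFun.symm.toLinearMap.comp T)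
        (bb.equivFun.symm.surjective.comp hTs)
      exact fun a b hab => h (congrArg bb.equivFun.symm hab)
    choose c hc using fun j : Fin d => hTs (Pi.single j 1)
    refine nonempty_frob (algebraMap R (AdjoinRoot g)) lam.toAddMonoidHom
      (fun r s => by
        show lam (algebraMap R _ r * s) = r * lam s
        rw [← Algebra.smul_def, map_smul, smul_eq_mul]) bb c (fun s => ?_) fun s => ?_
    · refine hTi (funext fun i => ?_)
      simp only [← Algebra.smul_def, map_sum, map_smul, Finset.sum_apply, Pi.smul_apply, smul_eq_mul]
      simp only [hc, Pi.single_apply, mul_ite, mul_one, mul_zero, Finset.sum_ite_eq, Finset.mem_univ, if_true]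
      rfl
    · refine Eq.trans ?_ (bb.sum_repr s)
      refine Finset.sum_congr rfl fun j _ => ?_
      rw [← Algebra.smul_def]
      congr 1
      show lam (s * c j) = _
      conv_lhs => rw [← bb.sum_repr s]
      rw [Finset.sum_mul, map_sum]
      have : ∀ i, lam (bb.repr s i • bb i * c j) = bb.repr s i * (Pi.single j (1 : R) : Fin d → R) i := fun i => by
        rw [smul_mul_assoc, map_smul, ← hT, hc, smul_eq_mul]
      simp only [this, Pi.single_apply, mul_ite, mul_one, mul_zero, Finset.sum_ite_eq', Finset.mem_univ, if_true]

end Groth.Agent.BC8
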