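import Groth.Agent.Lib.BC8.Formal
import Groth.Agent.Lib.DBC9.Main
import Groth.Agent.Lib.DMon9.LpullIso
import Groth.Prelude.Def_Dual3

/-!
Tor-independent base change on `D_QCoh`.
-/

set_option autoImplicit false
set_option linter.unusedSectionVars false
set_option linter.style.haveILetI false
set_option backward.isDefEq.respectTransparency false
set_option backward.isDefEq.respectTransparency.types false
set_option maxHeartbeats 800000

universe u

open CategoryTheory CategoryTheory.Limits AlgebraicGeometry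

attribute [local instance] HasDerivedCategory.standard

namespace Groth.Agent.BC8

open DMon9

variable {X Y : Scheme.{u}}

/-- Isomorphisms in `D_QCoh`. -/
theorem isIso_q {A B : DCoh.DQCoh X} (v : A ⟶ B) [IsIso v.hom] : IsIso v :=
  ⟨ObjectProperty.homMk (inv v.hom), ObjectProperty.hom_ext _ (IsIso.hom_inv_id v.hom),
    ObjectProperty.hom_ext _ (IsIso.inv_hom_id v.hom)⟩

theorem isIso_hom {A B : DCoh.DQCoh X} (v : A ⟶ B) [IsIso v] : IsIso v.hom :=
  ((ObjectProperty.ι _).mapIso (asIso v)).isIso_hom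

/-- Derived pullback on `D_QCoh`. -/
noncomputable abbrev lq (f : X ⟶ Y) : DCoh.DQCoh Y ⥤ DCoh.DQCoh X :=
  ObjectProperty.lift _ (ObjectProperty.ι _ ⋙ lP f) fun K => isQCohD_lP f K.property

/-- The adjunction on `D_QCoh`. -/
noncomputable def adjq (f : X ⟶ Y) [DCoh.HasRpush f] (hf : DCoh.RpushPreservesQCoh f) :
    lq f ⊣ DCoh.RpushQ f hf where
  unit :=
    { app := fun K => ObjectProperty.homMk ((adjLP f).unit.app K.obj)
      naturality := fun _ _ v => ObjectProperty.hom_ext _ ((adjLP f).unit.naturality v.hom) }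
  counit :=
    { app := fun K => ObjectProperty.homMk ((adjLP f).counit.app K.obj)
      naturality := fun _ _ v => ObjectProperty.hom_ext _ ((adjLP f).counit.naturality v.hom) }
  left_triangle_components K := ObjectProperty.hom_ext _ ((adjLP f).left_triangle_components K.obj)
  right_triangle_components K := ObjectProperty.hom_ext _ ((adjLP f).right_triangle_components K.obj)

/-- The comparison with the derived pullback of the prelude. -/
theorem nonempty_lpullQ_iso (f : X ⟶ Y) [DCoh.HasLpull f] (h : Dual3.LpullPreservesQCoh f) :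
    Nonempty (Dual3.LpullQ f h ≅ lq f) := by
  obtain ⟨n⟩ := nonempty_lpull_natIso_lP f
  exact ⟨NatIso.ofComponents (fun K => ObjectProperty.isoMk _ (n.app K.obj))
    (fun v => ObjectProperty.hom_ext _ (n.hom.naturality v.hom))⟩

variable {X' Y' : Scheme.{u}} {f : X ⟶ Y} {g : Y' ⟶ Y} {f' : X' ⟶ Y'} {g' : X' ⟶ X}

/-- The square on `D_QCoh`. -/
noncomputable def sigQ (σ : lP g ⋙ lP f' ≅ lP f ⋙ lP g') : lq g ⋙ lq f' ≅ lq f ⋙ lq g' :=
  NatIso.ofComponents (fun K => ObjectProperty.isoMk _ (σ.app K.obj))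
    (fun v => ObjectProperty.hom_ext _ (σ.hom.naturality v.hom))

variable [DCoh.HasRpush f] [DCoh.HasRpush f'] {hf : DCoh.RpushPreservesQCoh f}
  {hf' : DCoh.RpushPreservesQCoh f'}

theorem bc_sigQ (σ : lP g ⋙ lP f' ≅ lP f ⋙ lP g') (E : DCoh.DQCoh X) :
    ((DBC9.bc (adjq f hf) (adjq f' hf') (sigQ σ).hom).app E).hom =
      (DBC9.bc (adjLP f) (adjLP f') σ.hom).app E.obj := by
  rw [DBC9.bc_app, DBC9.bc_app, Adjunction.homEquiv_unit, Adjunction.homEquiv_unit]
  rfl

/-- Base change on `D_QCoh`. -/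
theorem isIso_bc_sigQ (hgood : DBC9.Good f f' g g') (σ : lP g ⋙ lP f' ≅ lP f ⋙ lP g') (E : DCoh.DQCoh X) :
    IsIso ((DBC9.bc (adjq f hf) (adjq f' hf') (sigQ σ).hom).app E) := by
  haveI := hgood (adjLP f) (adjLP f') σ E.obj E.property
  haveI : IsIso ((DBC9.bc (adjq f hf) (adjq f' hf') (sigQ σ).hom).app E).hom := bc_sigQ σ E ▸ inferInstance
  exact isIso_q _

variable [DCoh.HasRpush g] [DCoh.HasRpush g'] {hg : DCoh.RpushPreservesQCoh g}
  {hg' : DCoh.RpushPreservesQCoh g'} {G : DCoh.DQCoh Y ⥤ DCoh.DQCoh Y'} {G' : DCoh.DQCoh X ⥤ DCoh.DQCoh X'}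

/-- The identification of composite direct images, for given adjunctions. -/
noncomputable def eOf (σ : lP g ⋙ lP f' ≅ lP f ⋙ lP g') (adjg : G ⊣ DCoh.RpushQ g hg)
    (adjg' : G' ⊣ DCoh.RpushQ g' hg') :
    DCoh.RpushQ g' hg' ⋙ DCoh.RpushQ f hf ≅ DCoh.RpushQ f' hf' ⋙ DCoh.RpushQ g hg :=
  DBC9.rightIso (adjq f hf) (adjq f' hf')
    (Functor.isoWhiskerRight (adjg.leftAdjointUniq (adjq g hg)) (lq f') ≪≫ sigQ σ ≪≫
      Functor.isoWhiskerLeft (lq f) (adjg'.leftAdjointUniq (adjq g' hg')).symm) adjg adjg'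

theorem theta_eOf (σ : lP g ⋙ lP f' ≅ lP f ⋙ lP g') (adjg : G ⊣ DCoh.RpushQ g hg)
    (adjg' : G' ⊣ DCoh.RpushQ g' hg') (E : DCoh.DQCoh X) :
    (theta adjg' adjg (eOf σ adjg adjg' (hf := hf) (hf' := hf'))).app E =
      (adjg.leftAdjointUniq (adjq g hg)).hom.app ((DCoh.RpushQ f hf).obj E) ≫
        (DBC9.bc (adjq f hf) (adjq f' hf') (sigQ σ).hom).app E ≫
        (DCoh.RpushQ f' hf').map ((adjg'.leftAdjointUniq (adjq g' hg')).inv.app E) := by
  rw [theta_app, eOf, ← DBC9.bc_eq_transpose]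
  exact DBC9.bc_change _ _ _ _ _ E

theorem isIso_theta (hgood : DBC9.Good f f' g g') (σ : lP g ⋙ lP f' ≅ lP f ⋙ lP g') (adjg : G ⊣ DCoh.RpushQ g hg)
    (adjg' : G' ⊣ DCoh.RpushQ g' hg') (E : DCoh.DQCoh X) :
    IsIso ((theta adjg' adjg (eOf σ adjg adjg' (hf := hf) (hf' := hf'))).app E) := by
  haveI := isIso_bc_sigQ (hf := hf) (hf' := hf') hgood σ E
  rw [theta_eOf]
  infer_instance

theorem isIso_xi (hgood : DBC9.Good f f' g g') (σ : lP g ⋙ lP f' ≅ lP f ⋙ lP g')
    {a : DCoh.DQCoh Y ⥤ DCoh.DQCoh X} {a' : DCoh.DQCoh Y' ⥤ DCoh.DQCoh X'}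
    (adj : DCoh.RpushQ f hf ⊣ a) (adj' : DCoh.RpushQ f' hf' ⊣ a') (adjg : G ⊣ DCoh.RpushQ g hg)
    (adjg' : G' ⊣ DCoh.RpushQ g' hg') (M : DCoh.DQCoh Y') :
    IsIso (Dual3.xi adj adj' (eOf σ adjg adjg') M) :=
  haveI := fun E => isIso_theta (hf := hf) (hf' := hf') hgood σ adjg adjg' E
  isIso_xiMap adjg' adjg adj adj' _ M

/-- Squares with a flat side are tor-independent. -/
theorem good_of_flat [CompactSpace X] [QuasiSeparatedSpace X] [QuasiSeparatedSpace Y]
    (hsq : IsPullback g' f' f g) (hflat : Flat f ∨ Flat g) : DBC9.Good f f' g g' := by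
  haveI : QuasiCompact f := QuasiCompact.of_comp f (terminal.from Y)
  haveI : QuasiSeparated f := QuasiSeparated.of_comp f (terminal.from Y)
  refine DBC9.good_main f g f' g' hsq fun U hU U' hU' hle V hV hVU => ?_
  rcases hflat with h | h
  · exact DBC9.torIndep_of_flat_right _ _ (h.flat_appLE hU hV hVU)
  · exact DBC9.torIndep_of_flat_left _ _ (h.flat_appLE hU hU' hle)

end Groth.Agent.BC8
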