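import Groth.Agent.Lib.BC8.Core
import Groth.Agent.Lib.BC8.Q
import Groth.Agent.Lib.Dual8.Formula
import Groth.Agent.Lib.ModM1.Pull
import Groth.Agent.S1000

/-!
Extending isomorphisms from perfect objects; the projection map with the constant on the right.
-/

set_option autoImplicit false
set_option linter.unusedSectionVars false
set_option linter.style.haveILetI false
set_option backward.isDefEq.respectTransparency false
set_option backward.isDefEq.respectTransparency.types false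
set_option maxHeartbeats 800000

universe u

open CategoryTheory CategoryTheory.Limits MonoidalCategory AlgebraicGeometry Pretriangulated

attribute [local instance] HasDerivedCategory.standard

namespace Groth.Agent.BC8

open DMon9

variable {X Y : Scheme.{u}}

theorem isQCohD_one : DCoh.IsQCohD ((𝟙_ (DM X) : DM X) : DCoh.D X) := by
  let K := (HomologicalComplex.single X.Modules (ComplexShape.up ℤ) 0).obj (Coh.structureModule X)
  refine DQC.isQCohD_toD (K := K) fun i => ?_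
  by_cases hi : i = 0
  · subst hi
    exact @M1.isQuasicoherent_of_iso _ _ _ (HomologicalComplex.singleObjXSelf (ComplexShape.up ℤ) 0
      (Coh.structureModule X)).symm (M1.isQCoh_structureModule X)
  · exact DPush.isQCoh_of_isZero (HomologicalComplex.isZero_single_obj_X _ _ _ _ hi)

/-- A transformation of exact functors which is invertible on perfect objects and compatible with coproducts is
invertible on quasi-coherent objects. -/
theorem isIso_of_perfect [CompactSpace X] [QuasiSeparatedSpace X] {F G : DCoh.D X ⥤ DCoh.D Y} (τ : F ⟶ G)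
    (hF : ∀ j, RHom.HExact (F ⋙ DerivedCategory.homologyFunctor Y.Modules j))
    (hG : ∀ j, RHom.HExact (G ⋙ DerivedCategory.homologyFunctor Y.Modules j))
    (hFc : ∀ {ι : Type u} (L : ι → DCoh.D X), (∀ i, DCoh.IsQCohD (L i)) → ∀ {c : Cofan L}, IsColimit c →
      Nonempty (IsColimit (F.mapCocone c)))
    (hGc : ∀ {ι : Type u} (L : ι → DCoh.D X), (∀ i, DCoh.IsQCohD (L i)) → ∀ {c : Cofan L}, IsColimit c →
      Nonempty (IsColimit (G.mapCocone c)))
    (h : ∀ P : DCoh.D X, DCoh.IsPerfect P → IsIso (τ.app P))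
    (M : DCoh.D X) (hM : DCoh.IsQCohD M) : IsIso (τ.app M) := by
  haveI : LocallySmall.{u} (DCoh.D X) := RHom.locallySmall_derivedCategory X.Modules
  haveI : ∀ κ : Type u, HasColimitsOfShape (Discrete κ) (DCoh.D X) := DGen9.hasCoproducts_D X
  haveI : HasColimitsOfShape (Discrete ℕ) (DCoh.D X) :=
    hasColimitsOfShape_of_equivalence (Discrete.equivalence (Equiv.ulift.{u} : ULift.{u} ℕ ≃ ℕ))
  obtain ⟨P, hP, hPq, -, hgen⟩ := DGen9.exists_generator_qcqs X Set.univ isClosed_univ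
    (by rw [Set.compl_univ]; exact isCompact_empty)
  let S : DCoh.D X → Prop := fun L => DCoh.IsQCohD L ∧ ∀ n : ℤ, IsIso (τ.app (L⟦n⟧))
  have hiso : ∀ {A B : DCoh.D X}, (A ≅ B) → S A → S B := fun i hA =>
    ⟨DQC.isQCohD_of_iso i hA.1, fun n =>
      (NatTrans.isIso_app_iff_of_iso τ ((shiftFunctor (DCoh.D X) n).mapIso i)).1 (hA.2 n)⟩
  have hmap : ∀ (j : ℤ) (N : DCoh.D X), IsIso (τ.app N) →
      IsIso ((Functor.whiskerRight τ (DerivedCategory.homologyFunctor Y.Modules j)).app N) := fun j N hN =>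
    haveI := hN
    inferInstanceAs (IsIso ((DerivedCategory.homologyFunctor Y.Modules j).map (τ.app N)))
  have hS : DGen9.CoclosedClass.{u} S := by
    refine ⟨hiso, fun κ L hL => ⟨DPerf.isQCohD_sigma L fun k => (hL k).1, fun n => ?_⟩,
      fun T hT h₁ h₂ => ⟨DPush.isQCohD_obj₃ T hT h₁.1 h₂.1, fun n => ?_⟩⟩
    · haveI := DPush.hasCoproduct_D fun k => (L k)⟦n⟧
      refine (NatTrans.isIso_app_iff_of_iso τ (asIso (sigmaComparison (shiftFunctor (DCoh.D X) n) L))).1 ?_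
      have hq : ∀ k, DCoh.IsQCohD ((L k)⟦n⟧) := fun k => DMV.isQCohD_shift _ (hL k).1 n
      obtain ⟨cF⟩ := hFc _ hq (coproductIsCoproduct _)
      obtain ⟨cG⟩ := hGc _ hq (coproductIsCoproduct _)
      haveI : PreservesColimit (Discrete.functor fun k => (L k)⟦n⟧) F :=
        preservesColimit_of_preserves_colimit_cocone (coproductIsCoproduct _) cF
      haveI : PreservesColimit (Discrete.functor fun k => (L k)⟦n⟧) G :=
        preservesColimit_of_preserves_colimit_cocone (coproductIsCoproduct _) cG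
      exact RHom.isIso_app_of_isColimit τ (coproductIsCoproduct _) fun k => (hL k.as).2 n
    · refine RHom.isIso_of_isIso_homology _ fun j => ?_
      have hs : ∀ N : DCoh.D X, S N → IsIso (τ.app ((N⟦n⟧)⟦(1 : ℤ)⟧)) := fun N hN =>
        (NatTrans.isIso_app_iff_of_iso τ ((shiftFunctorAdd' (DCoh.D X) n 1 (n + 1) rfl).app N)).1 (hN.2 (n + 1))
      exact RHom.isIso_app_obj₃ (hF j) (hG j) (Functor.whiskerRight τ _) _ (Triangle.shift_distinguished T hT n)
        (hmap j _ (h₁.2 n)) (hmap j _ (h₂.2 n)) (hmap j _ (hs _ h₁)) (hmap j _ (hs _ h₂))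
  have hPS : ∀ n : ℤ, S (P⟦n⟧) := fun n =>
    ⟨DMV.isQCohD_shift P hPq n, fun k => h _ (DGen9.isPerfect_shiftD (DGen9.isPerfect_shiftD hP n) k)⟩
  have hfin : ∀ (n : ℤ) (Z : ℕ → DCoh.D X), (∀ k, S (Z k)) → ∀ g : P⟦n⟧ ⟶ ∐ Z, DPush.FinFac Z g := fun n Z hZ g => by
    let w : (∐ fun i : ULift.{u} ℕ => Z i.down) ⟶ ∐ Z :=
      Sigma.desc fun i => (Iso.refl (Z i.down)).hom ≫ Sigma.ι Z i.down
    let w' : ∐ Z ⟶ ∐ fun i : ULift.{u} ℕ => Z i.down :=
      Sigma.desc fun k => Sigma.ι (fun i : ULift.{u} ℕ => Z i.down) ⟨k⟩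
    have hww : w' ≫ w = 𝟙 _ := Sigma.hom_ext _ _ fun k => by simp [w, w']
    have := RHom.finFac_whisker Z (fun i : ULift.{u} ℕ => Z i.down) Equiv.ulift (fun i => Iso.refl _) _
      (DGen9.qFin_of_isPerfect (DGen9.isPerfect_shiftD hP n) _ _ (fun i : ULift.{u} ℕ => (hZ i.down).1) (g ≫ w'))
    rw [show g = (g ≫ w') ≫ w by rw [Category.assoc, hww, Category.comp_id]]
    exact this
  obtain ⟨N, ε, hN, hb⟩ := DGen9.exists_coloc.{u} P hS hPS hfin
    (fun Q hQ hz => (hgen Q hQ.1 (DGen9.suppOn_univ Q)).2 hz) M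
  obtain ⟨C, q, r, hT⟩ := distinguished_cocone_triangle ε
  have hz : IsZero C := (hgen C (DPush.isQCohD_obj₃ _ hT hN.1 hM) (DGen9.suppOn_univ C)).2
    (DGen9.eq_zero_of_bijective hT fun n => hb _ (hPS n))
  haveI : IsIso ε := (Triangle.isZero₃_iff_isIso₁ _ hT).1 hz
  exact (NatTrans.isIso_app_iff_of_iso τ ((shiftFunctorZero (DCoh.D X) ℤ).app M)).1 ((hiso (asIso ε) hN).2 0)

/-- A perfect object has a left dual. -/
theorem exists_pairing_left (A : DM X) (hA : DCoh.IsPerfect (A : DCoh.D X)) :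
    ∃ D : DM X, Nonempty (ExactPairing A D) := by
  obtain ⟨K, ⟨eA⟩⟩ := exists_qM (A : DCoh.D X)
  have hKp : DCoh.IsPerfect (DCoh.toD X K.obj) := DGen9.isPerfect_of_iso eA.symm hA
  haveI := KFlat.Sch.hasLTensorCx K.obj
  haveI : DCoh.HasRSheafHom K.obj := RHom.hasRSheafHom K.obj
  obtain ⟨P', q, hP', hq⟩ := RHom.exists_kflat_res
    (DerivedCategory.Q.objPreimage ((DCoh.RSheafHom K.obj).obj (RHom.oD X)))
  haveI := hq
  let eD : DerivedCategory.Q.obj P' ≅ (DCoh.RSheafHom K.obj).obj (RHom.oD X) :=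
    asIso (DerivedCategory.Q.map q) ≪≫ DerivedCategory.Q.objObjPreimageIso _
  haveI := KFlat.Sch.hasLTensorCx P'
  let D₁ : KF X := ⟨P', hP'⟩
  obtain ⟨e, he⟩ := RHom.exists_pairing K.property eD
  obtain ⟨p⟩ := exactPairing_of_isIso (K := K) (D := D₁) e (RHom.isIso_phi e K.property hKp he)
  haveI := p
  let eA' : (qM X).obj K ≅ A := eA
  exact ⟨(qM X).obj D₁, ⟨exactPairingCongr eA'.symm (Iso.refl _)⟩⟩

variable (g : Y ⟶ X) [DCoh.HasRpush g]

/-- `A ⊗ Rg_* O ⟶ Rg_* Lg^* A`, naturally. -/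
noncomputable def qT : ((tensorRight ((rM g).obj (𝟙_ (DM Y))) : DM X ⥤ DM X) : DCoh.D X ⥤ DCoh.D X) ⟶
    lP g ⋙ DCoh.Rpush g :=
  { app := fun A => qApp (adjM g) (A : DM X)
    naturality := fun A B v => qApp_natural (adjM g) (A := (A : DM X)) (A' := (B : DM X)) v }

theorem isIso_qApp [CompactSpace X] [QuasiSeparatedSpace X] [QuasiCompact g] [QuasiSeparated g]
    (A : DM X) (hA : DCoh.IsQCohD (A : DCoh.D X)) : IsIso (qApp (adjM g) A) := by
  obtain ⟨cs, hR⟩ := DPush.exists_commShift_isTriangulated g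
  letI := cs
  haveI := hR
  obtain ⟨K, ⟨eK⟩⟩ := exists_qM ((rM g).obj (𝟙_ (DM Y)) : DCoh.D X)
  haveI := KFlat.Sch.hasLTensorCx K.obj
  haveI : DCoh.HasRSheafHom K.obj := RHom.hasRSheafHom K.obj
  let eK' : (qM X).obj K ≅ (rM g).obj (𝟙_ (DM Y)) := eK
  let eF : ((tensorRight ((rM g).obj (𝟙_ (DM Y))) : DM X ⥤ DM X) : DCoh.D X ⥤ DCoh.D X) ≅ DCoh.LTensorCx K.obj :=
    ((tensoringRight (DM X)).mapIso eK'.symm ≪≫ DMon9.theta K :)
  haveI : (DCoh.LTensorCx K.obj).IsLeftAdjoint := (DCoh.RSheafHomAdj K.obj).isLeftAdjoint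
  haveI : ((tensorRight ((rM g).obj (𝟙_ (DM Y))) : DM X ⥤ DM X) : DCoh.D X ⥤ DCoh.D X).IsLeftAdjoint :=
    Functor.isLeftAdjoint_of_iso eF.symm
  haveI : (lP g).IsLeftAdjoint := (adjLP g).isLeftAdjoint
  refine isIso_of_perfect (qT g) (fun j => ?_) (fun j => ?_) (fun L hL c hc => ⟨isColimitOfPreserves _ hc⟩)
    (fun {ι} L hL c hc => ?_) (fun P hP => ?_) (A : DCoh.D X) hA
  · let Φ : DCoh.D X ⥤ DCoh.D X := (tensorRight ((rM g).obj (𝟙_ (DM Y))) : DM X ⥤ DM X)
    haveI : Φ.IsLeftAdjoint := Functor.isLeftAdjoint_of_iso eF.symm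
    exact hExact_comp Φ (homExact_of_isLeftAdjoint Φ) (𝟭 _) j
  · exact hExact_comp (lP g) (homExact_of_isLeftAdjoint _) (DCoh.Rpush g) j
  · let W : ι → DCoh.D Y := fun i => (lP g).obj (L i)
    haveI := DPush.hasCoproduct_D W
    haveI := DPush.hasCoproduct_D fun i => (DCoh.Rpush g).obj (W i)
    haveI : IsIso (sigmaComparison (DCoh.Rpush g) W) := S1000.result g W fun i => isQCohD_lP g (hL i)
    haveI : PreservesColimit (Discrete.functor W) (DCoh.Rpush g) := PreservesCoproduct.of_iso_comparison _ _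
    haveI : PreservesColimit (Discrete.functor L ⋙ lP g) (DCoh.Rpush g) :=
      preservesColimit_of_iso_diagram _ (Discrete.natIso fun _ => Iso.refl _ : Discrete.functor W ≅ Discrete.functor L ⋙ lP g)
    exact ⟨isColimitOfPreserves (lP g ⋙ DCoh.Rpush g) hc⟩
  · let PM : DM X := P
    obtain ⟨D, ⟨p⟩⟩ := exists_pairing_left PM hP
    haveI := p
    letI : ExactPairing ((dPull g).obj PM) ((dPull g).obj D) := Dual8.mapPairing (dPull g) PM D
    have hb := bijective_qApp (adjM g) PM D rfl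
    obtain ⟨s, hs⟩ := (hb _).2 (𝟙 _)
    refine ⟨s, (hb _).1 ?_, hs⟩
    show ((qApp (adjM g) PM) ≫ s) ≫ qApp (adjM g) PM = 𝟙 _ ≫ qApp (adjM g) PM
    rw [Category.assoc, show s ≫ qApp (adjM g) PM = 𝟙 _ from hs]
    exact (Category.comp_id _).trans (Category.id_comp _).symm

variable {f : X ⟶ Y} [DCoh.HasRpush f] {hf : DCoh.RpushPreservesQCoh f}
  [QuasiCompact f] [QuasiSeparated f] [CompactSpace X] [QuasiSeparatedSpace X] [CompactSpace Y] [QuasiSeparatedSpace Y]
  {a : DCoh.DQCoh Y ⥤ DCoh.DQCoh X} (adj : DCoh.RpushQ f hf ⊣ a)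

include adj in
/-- `a(A) ⊗ Lf^* K ≅ a(A ⊗ K)` when `a` preserves coproducts. -/
theorem isIso_tau (hcop : ∀ J : Type u, PreservesColimitsOfShape (Discrete J) a) (A K : DCoh.DQCoh Y) :
    IsIso (Dual8.tau adj A K) := by
  let O : DCoh.DQCoh Y := ⟨((𝟙_ (DM Y) : DM Y) : DCoh.D Y), isQCohD_one⟩
  let eO : (O.obj : DM Y) ≅ 𝟙_ (DM Y) := Iso.refl _
  let c := fun L => Dual8.cmp adj O eO L
  have hc : ∀ L, IsIso (c L) := fun L => haveI := Dual8.isIso_cmp adj O eO hcop L; isIso_q _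
  let E : DM X := (a.obj O).obj
  let μA : DM X := (dPull f).obj (A.obj : DM Y)
  let μK : DM X := (dPull f).obj (K.obj : DM Y)
  let i : Dual8.mq f (Dual8.mq f (a.obj O) A) K ≅ Dual8.mq f (a.obj O) (Dual8.tq A K) :=
    ObjectProperty.isoMk _ (α_ E μA μK ≪≫ whiskerLeftIso E (Functor.Monoidal.μIso (dPull f) _ _) :)
  let vA : E ⊗ μA ⟶ ((a.obj A).obj : DM X) := (c A).hom
  let wv : Dual8.mq f (Dual8.mq f (a.obj O) A) K ⟶ Dual8.mq f (a.obj A) K :=
    ObjectProperty.homMk (vA ▷ μK)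
  haveI : IsIso wv := by
    haveI := hc A
    haveI : IsIso (c A).hom := isIso_hom _
    haveI : IsIso wv.hom := by
      haveI : IsIso vA := isIso_hom (c A)
      exact inferInstanceAs (IsIso (vA ▷ μK))
    exact isIso_q _
  have key : wv ≫ Dual8.tau adj A K = i.hom ≫ c (Dual8.tq A K) := by
    simp only [c, Dual8.tau, Dual8.cmp]
    rw [← adj.homEquiv_naturality_left, ← adj.homEquiv_naturality_left]
    refine congrArg _ (ObjectProperty.hom_ext _ ?_)
    let AM : DM Y := A.obj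
    let KM : DM Y := K.obj
    let vM : E ⊗ μA ⟶ ((a.obj A).obj : DM X) := (c A).hom
    let p₁ := projApp (adjM f) (E ⊗ μA) KM
    let pv := projApp (adjM f) ((a.obj A).obj : DM X) KM
    haveI : IsIso p₁ := isIso_projT f _ (Dual8.mq f (a.obj O) A).property K.obj K.property
    rw [← cancel_epi p₁]
    show p₁ ≫ (rM f).map (vM ▷ μK) ≫ Dual8.projInv (a.obj A) K ≫ Dual8.epsA adj A ▷ KM =
      p₁ ≫ (rM f).map ((α_ E μA μK).hom ≫ E ◁ Functor.LaxMonoidal.μ (dPull f) AM KM) ≫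
        Dual8.projInv (a.obj O) (Dual8.tq A K) ≫ Dual8.eps' adj O eO ▷ (AM ⊗ KM) ≫ (λ_ (AM ⊗ KM)).hom
    have hv : (rM f).map vM ≫ Dual8.epsA adj A = Dual8.projInv (a.obj O) A ≫ Dual8.eps' adj O eO ▷ AM ≫ (λ_ AM).hom :=
      congrArg (fun t : (DCoh.RpushQ f hf).obj (Dual8.mq f (a.obj O) A) ⟶ A => t.hom)
        ((adj.homEquiv_counit _ _ _).symm.trans ((adj.homEquiv _ _).symm_apply_apply (Dual8.cmpT adj O eO A)))
    rw [← Category.assoc, ← projApp_natural_left, Category.assoc,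
      reassoc_of% (Dual8.projInv_projApp (a.obj A) K).2, ← comp_whiskerRight, hv]
    have h2 : p₁ ≫ (rM f).map ((α_ E μA μK).hom ≫ E ◁ Functor.LaxMonoidal.μ (dPull f) AM KM) =
        Dual8.projInv (a.obj O) A ▷ KM ≫ (α_ ((rM f).obj E) AM KM).hom ≫ projApp (adjM f) E (AM ⊗ KM) := by
      rw [projApp_tensor, Iso.hom_inv_id_assoc, ← comp_whiskerRight_assoc, (Dual8.projInv_projApp (a.obj O) A).1,
        id_whiskerRight, Category.id_comp]
    rw [reassoc_of% h2]
    erw [reassoc_of% (Dual8.projInv_projApp (a.obj O) (Dual8.tq A K)).2]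
    rw [comp_whiskerRight, comp_whiskerRight, leftUnitor_whiskerRight]
    exact congrArg (_ ≫ ·) (associator_naturality_left_assoc (Dual8.eps' adj O eO) AM KM _)
  haveI := hc (Dual8.tq A K)
  haveI : IsIso (wv ≫ Dual8.tau adj A K) := key ▸ inferInstance
  exact IsIso.of_isIso_comp_left wv _

end Groth.Agent.BC8
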