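import Groth.Agent.Lib.BC8.AffineLine
import Groth.Agent.Lib.DGen9.PerfPush

/-!
Localisation of the twisted inverse image; objects locally isomorphic to shifts of the structure sheaf.
-/

set_option autoImplicit false
set_option linter.unusedSectionVars false
set_option linter.style.haveILetI false
set_option backward.isDefEq.respectTransparency false
set_option backward.isDefEq.respectTransparency.types false
set_option maxHeartbeats 800000

universe u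

open CategoryTheory CategoryTheory.Limits AlgebraicGeometry MonoidalCategory

attribute [local instance] HasDerivedCategory.standard

namespace Groth.Agent.BC8

open DMon9

section Local

variable {U Y Xb U' V Xb' : Scheme.{u}} [IsNoetherian Y] [IsNoetherian V] {p : Xb ⟶ Y} [IsProper p]
  {j : U ⟶ Xb} [IsOpenImmersion j] [DCoh.HasRpush p] {hp : DCoh.RpushPreservesQCoh p}
  {a : DCoh.DQCoh Y ⥤ DCoh.DQCoh Xb} (adj : DCoh.RpushQ p hp ⊣ a)
  (v : V ⟶ Y) [IsOpenImmersion v] (u : U' ⟶ U) [IsOpenImmersion u]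
  {p' : Xb' ⟶ V} [IsProper p'] {j' : U' ⟶ Xb'} [IsOpenImmersion j'] [DCoh.HasRpush p']
  {hp' : DCoh.RpushPreservesQCoh p'} {a' : DCoh.DQCoh V ⥤ DCoh.DQCoh Xb'} (adj' : DCoh.RpushQ p' hp' ⊣ a')
  (w : u ≫ j ≫ p = (j' ≫ p') ≫ v)

include adj adj' w in
/-- The twisted inverse image is local on source and target. -/
theorem nonempty_loc_iso :
    Nonempty (Dual3.bddι Y ⋙ a ⋙ ObjectProperty.ι _ ⋙ lP j ⋙ lP u ≅
      Dual3.bddι Y ⋙ lq v ⋙ a' ⋙ ObjectProperty.ι _ ⋙ lP j') := by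
  haveI : CompactSpace Xb := QuasiCompact.compactSpace_of_compactSpace p
  haveI : QuasiSeparatedSpace Xb := quasiSeparatedSpace_of_quasiSeparated p
  let W := pullback p v
  let π : W ⟶ Xb := pullback.fst p v
  let pW : W ⟶ V := pullback.snd p v
  have hsq : IsPullback π pW p v := IsPullback.of_hasPullback p v
  let s : U' ⟶ W := pullback.lift (u ≫ j) (j' ≫ p') (by rw [Category.assoc, w])
  have hs1 : s ≫ π = u ≫ j := pullback.lift_fst _ _ _
  have hs2 : s ≫ pW = j' ≫ p' := pullback.lift_snd _ _ _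
  haveI : IsOpenImmersion (s ≫ π) := hs1 ▸ inferInstance
  haveI : IsOpenImmersion s := IsOpenImmersion.of_comp s π
  haveI : CompactSpace W := QuasiCompact.compactSpace_of_compactSpace pW
  haveI : QuasiSeparatedSpace W := quasiSeparatedSpace_of_quasiSeparated pW
  haveI := qc_of_qcqs v
  haveI := qc_of_qcqs π
  haveI := DBC9.hasRpush π
  haveI := DBC9.hasRpush pW
  haveI := DBC9.hasRpush v
  let hW := rpushPreserves pW
  haveI := isLeftAdjoint_rpushQ pW hW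
  let adjW := Adjunction.ofIsLeftAdjoint (DCoh.RpushQ pW hW)
  obtain ⟨σ, hσm⟩ := exists_mult_sq hsq.w.symm
  have hgood := good_of_flat hsq (Or.inr inferInstance)
  have hσ := isIso_bc_sigQ (hf := hp) (hf' := hW) hgood σ
  have hQP := qp_proper p
  have htd := hasFiniteTorDim_of_flat v
  have hβ : ∀ K : (Dual3.IsBddBelowQ Y).FullSubcategory, IsIso (beta₀ adj adjW σ hσ K.obj) := fun K => by
    obtain ⟨c, hc⟩ := K.property
    haveI := hc
    exact isIso_beta₀_open adj adjW hQP hsq σ hσ K.obj c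
  let nβ : Dual3.bddι Y ⋙ a ⋙ lq π ≅ Dual3.bddι Y ⋙ lq v ⋙ (DCoh.RpushQ pW hW).rightAdjoint :=
    NatIso.ofComponents (fun K => haveI := hβ K; asIso (beta₀ adj adjW σ hσ K.obj))
      (fun {K K'} t => beta₀_natural adj adjW σ hσ ((Dual3.bddι Y).map t))
  obtain ⟨n⟩ := nonempty_shriek_indep hs2 adjW adj'
  exact ⟨Functor.isoWhiskerLeft (Dual3.bddι Y ⋙ a ⋙ ObjectProperty.ι _) (lPComp u j rfl ≪≫ (lPComp s π hs1).symm) ≪≫
    Functor.isoWhiskerRight nβ (ObjectProperty.ι _ ⋙ lP s) ≪≫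
    Functor.isoWhiskerLeft (lqPlus v htd) n⟩

include adj adj' w in
/-- `(f^!O)|_{U'} ≅ f'^!O`. -/
theorem nonempty_loc_one :
    Nonempty ((lP u).obj ((lP j).obj (a.obj (oQ Y)).obj) ≅ (lP j').obj (a'.obj (oQ V)).obj) := by
  obtain ⟨n⟩ := nonempty_loc_iso adj v u adj' w
  obtain ⟨l⟩ := TwistBC9.nonempty_lP_oneM v 0
  let e : (lq v).obj (oQ Y) ≅ oQ V := ObjectProperty.isoMk _ l
  exact ⟨n.app ⟨oQ Y, isBdd_oQ Y⟩ ≪≫ (lP j').mapIso ((ObjectProperty.ι _).mapIso (a'.mapIso e))⟩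

end Local

section Perfect

variable {U Y Xb : Scheme.{u}} [IsNoetherian Y] {f : U ⟶ Y} {p : Xb ⟶ Y} [IsProper p]
  {j : U ⟶ Xb} (hfac : j ≫ p = f) [DCoh.HasRpush p] {hp : DCoh.RpushPreservesQCoh p}
  {a : DCoh.DQCoh Y ⥤ DCoh.DQCoh Xb} (adj : DCoh.RpushQ p hp ⊣ a)

include hfac adj in
/-- `f^!K ≅ f^!O ⊗ Lf^*K` for perfect `K`. -/
theorem nonempty_shriek_perfect (K : DCoh.DQCoh Y) (hK : DCoh.IsPerfect K.obj) :
    Nonempty ((lP j).obj (a.obj K).obj ≅ (tenL ((lP j).obj (a.obj (oQ Y)).obj)).obj ((lP f).obj K.obj)) := by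
  haveI : CompactSpace Xb := QuasiCompact.compactSpace_of_compactSpace p
  haveI : QuasiSeparatedSpace Xb := quasiSeparatedSpace_of_quasiSeparated p
  obtain ⟨h, hi⟩ := Dual8.good_of_isPerfect adj (oQ Y) (unitIso (Iso.refl _)) K.obj hK
  haveI : IsIso (Dual8.cmp adj (oQ Y) (unitIso (Iso.refl _)) K).hom := hi
  let A : DM Xb := (a.obj (oQ Y)).obj
  let B : DM Xb := (lP p).obj K.obj
  let m : (dPull j).obj (A ⊗ B) ≅ (dPull j).obj A ⊗ (dPull j).obj B := (Functor.Monoidal.μIso (dPull j) A B).symm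
  exact ⟨(lP j).mapIso (asIso (Dual8.cmp adj (oQ Y) (unitIso (Iso.refl _)) K).hom).symm ≪≫ (m :) ≪≫
    (tenL ((lP j).obj (a.obj (oQ Y)).obj)).mapIso ((lPComp j p hfac).app K.obj)⟩

end Perfect

/-- Locally isomorphic to a shift of the structure sheaf. -/
def LocShift {X : Scheme.{u}} (K : DCoh.D X) : Prop :=
  ∀ x : X, ∃ (U : Scheme.{u}) (i : U ⟶ X) (_ : IsOpenImmersion i) (n : ℤ),
    x ∈ Set.range i ∧ Nonempty ((lP i).obj K ≅ TwistBC9.oneD U n)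

variable {X : Scheme.{u}}

theorem locShift_of_iso {K K' : DCoh.D X} (e : K ≅ K') (h : LocShift K) : LocShift K' := fun x => by
  obtain ⟨U, i, hi, n, hx, ⟨c⟩⟩ := h x
  exact ⟨U, i, hi, n, hx, ⟨(lP i).mapIso e.symm ≪≫ c⟩⟩

theorem locShift_one (X : Scheme.{u}) (n : ℤ) : LocShift (TwistBC9.oneD X n) := fun x => by
  obtain ⟨l⟩ := TwistBC9.nonempty_lP_oneM (𝟙 X) n
  exact ⟨X, 𝟙 X, inferInstance, n, ⟨x, rfl⟩, ⟨l⟩⟩

theorem locShift_of_cover {K : DCoh.D X} (h : ∀ x : X, ∃ (U : Scheme.{u}) (i : U ⟶ X) (_ : IsOpenImmersion i),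
    x ∈ Set.range i ∧ LocShift ((lP i).obj K)) : LocShift K := fun x => by
  obtain ⟨U, i, hi, ⟨y, rfl⟩, hK⟩ := h x
  obtain ⟨W, k, hk, n, ⟨z, rfl⟩, ⟨c⟩⟩ := hK y
  exact ⟨W, k ≫ i, inferInstance, n, ⟨z, rfl⟩, ⟨((lPComp k i rfl).app K).symm ≪≫ c⟩⟩

theorem locShift_lP {X' : Scheme.{u}} (g : X' ⟶ X) {K : DCoh.D X} (h : LocShift K) : LocShift ((lP g).obj K) := by
  intro x
  obtain ⟨U, i, hi, n, ⟨y, hy⟩, ⟨c⟩⟩ := h (g x)
  obtain ⟨l⟩ := TwistBC9.nonempty_lP_oneM (pullback.fst i g) n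
  refine ⟨pullback i g, pullback.snd i g, inferInstance, n, ?_, ⟨?_⟩⟩
  · rw [Scheme.Pullback.range_snd]
    exact ⟨y, hy⟩
  · exact ((lPComp (pullback.snd i g) g pullback.condition.symm ≪≫ (lPComp (pullback.fst i g) i rfl).symm).app K) ≪≫
      (lP (pullback.fst i g)).mapIso c ≪≫ l

theorem nonempty_lP_ten {X' : Scheme.{u}} (i : X' ⟶ X) (G M : DCoh.D X) :
    Nonempty ((lP i).obj ((tenL G).obj M) ≅ (tenL ((lP i).obj G)).obj ((lP i).obj M)) := by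
  let A : DM X := G
  let B : DM X := M
  exact ⟨((Functor.Monoidal.μIso (dPull i) A B).symm :)⟩

theorem nonempty_shiftOne' (X : Scheme.{u}) (a k : ℤ) :
    Nonempty ((TwistBC9.oneD X a)⟦k⟧ ≅ TwistBC9.oneD X (a - k)) :=
  ⟨((DerivedCategory.singleFunctors X.Modules).shiftIso k (a - k) a (by omega)).app (Coh.structureModule X)⟩

theorem nonempty_tenL_congr {G G' : DCoh.D X} (e : G ≅ G') : Nonempty (tenL G ≅ tenL G') := by
  let e' : (G : DM X) ≅ (G' : DM X) := (e :)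
  exact ⟨((MonoidalCategory.tensoringLeft (DM X)).mapIso e' :)⟩

theorem locShift_ten {G M : DCoh.D X} (hG : LocShift G) (hM : LocShift M) : LocShift ((tenL G).obj M) := by
  intro x
  obtain ⟨U, i, hi, a, hx, ⟨c⟩⟩ := hG x
  obtain ⟨y, rfl⟩ := hx
  obtain ⟨W, k, hk, b, ⟨z, rfl⟩, ⟨d⟩⟩ := locShift_lP i hM y
  obtain ⟨m⟩ := nonempty_lP_ten (k ≫ i) G M
  obtain ⟨lk⟩ := TwistBC9.nonempty_lP_oneM k a
  obtain ⟨t⟩ := nonempty_tenL_one a ((lP (k ≫ i)).obj G)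
    (((lPComp k i rfl).app G).symm ≪≫ (lP k).mapIso c ≪≫ lk)
  obtain ⟨s⟩ := nonempty_shiftOne' W b (-a)
  exact ⟨W, k ≫ i, inferInstance, b - -a, ⟨z, rfl⟩,
    ⟨m ≪≫ t.app _ ≪≫ (shiftFunctor _ (-a)).mapIso (((lPComp k i rfl).app M).symm ≪≫ d) ≪≫ s⟩⟩

/-- A factor of an invertible object. -/
theorem locShift_factor {G M : DCoh.D X} (hG : LocShift G) {n : ℤ} (e : (tenL G).obj M ≅ TwistBC9.oneD X n) :
    LocShift M := by
  intro x
  obtain ⟨U, i, hi, a, hx, ⟨c⟩⟩ := hG x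
  obtain ⟨m⟩ := nonempty_lP_ten i G M
  obtain ⟨t⟩ := nonempty_tenL_one a ((lP i).obj G) c
  obtain ⟨l⟩ := TwistBC9.nonempty_lP_oneM i n
  obtain ⟨s⟩ := nonempty_shiftOne' U n a
  exact ⟨U, i, hi, n - a, hx, ⟨((shiftFunctorCompIsoId (DCoh.D U) (-a) a (by omega)).app _).symm ≪≫
    (shiftFunctor _ a).mapIso ((t.app _).symm ≪≫ m.symm ≪≫ (lP i).mapIso e ≪≫ l) ≪≫ s⟩⟩

theorem isPerfect_of_locShift {K : DCoh.D X} (h : LocShift K) : DCoh.IsPerfect K :=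
  PerfPush9.isPerfect_of_cover fun x => by
    obtain ⟨U, i, hi, n, hx, ⟨c⟩⟩ := h x
    obtain ⟨s⟩ := nonempty_shiftOne' U 0 (-n)
    refine ⟨U, i, hi, hx, DGen9.isPerfect_of_iso (((lPRes i).app K).symm ≪≫ c ≪≫ ?_).symm
      (DGen9.isPerfect_shiftD (TwistBC9.isPerfect_oneD U) (-n))⟩
    exact eqToIso (by congr 1; omega) ≪≫ s.symm

theorem isInvertibleD_of_locShift
    [∀ (U : Scheme.{u}) (j : U ⟶ X) [IsOpenImmersion j], PreservesFiniteLimits (Scheme.Modules.restrictFunctor j)]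
    {K : DCoh.D X} (h : LocShift K) : Dual3.IsInvertibleD K := fun x => by
  obtain ⟨U, i, hi, n, hx, ⟨c⟩⟩ := h x
  let e := i.isoOpensRange
  have he : e.inv ≫ i = i.opensRange.ι := by simp [e]
  obtain ⟨l⟩ := TwistBC9.nonempty_lP_oneM e.inv n
  obtain ⟨s⟩ := nonempty_shiftOne' (i.opensRange : Scheme.{u}) 0 (-n)
  exact ⟨i.opensRange, -n, hx, ⟨((lPRes i.opensRange.ι).app K).symm ≪≫ ((lPComp e.inv i he).app K).symm ≪≫
    (lP e.inv).mapIso c ≪≫ l ≪≫ eqToIso (by congr 1; omega) ≪≫ s.symm⟩⟩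

end Groth.Agent.BC8
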