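import Groth.Agent.Lib.BC8.ViaSheafApps
import Groth.Agent.Lib.BC8.FibreOne
import Groth.Agent.Lib.BC8.Loc
import Groth.Agent.Lib.GorOpen27.Global
import Groth.Agent.S1786

/-! Gorenstein points are the points where `f^!O` is invertible. -/

set_option autoImplicit false
set_option linter.style.haveILetI false
set_option linter.unusedSectionVars false
set_option backward.isDefEq.respectTransparency false
set_option backward.isDefEq.respectTransparency.types false
set_option maxHeartbeats 1000000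

universe u

open CategoryTheory CategoryTheory.Limits AlgebraicGeometry
open scoped TensorProduct

attribute [local instance] HasDerivedCategory.standard

noncomputable section

namespace Groth.Agent.BC8

open DMon9

/-- Gorenstein points of an affine model and Gorenstein fibre rings. -/
theorem gorensteinAt_str_iff_fibres (A B : Type u) [CommRing A] [CommRing B] [Algebra A B] [Algebra.FiniteType A B]
    [Module.Flat A B] :
    (∀ q : PrimeSpectrum B, Dual3.IsGorensteinAt (GorOpen27.str A B) q) ↔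
      ∀ p : PrimeSpectrum A, LocCoh.IsGorensteinRing (B ⊗[A] p.asIdeal.ResidueField) := by
  have key : ∀ (p : PrimeSpectrum A) (r : PrimeSpectrum (p.asIdeal.ResidueField ⊗[A] B)),
      Dual3.IsGorensteinAt (GorOpen27.str A B)
        (PrimeSpectrum.comap (Algebra.TensorProduct.includeRight : B →ₐ[A] p.asIdeal.ResidueField ⊗[A] B).toRingHom r) ↔
      LocCoh.IsGorensteinLocalRing (Localization.AtPrime r.asIdeal) := fun p r => by
    refine (GorOpen27.isGorensteinAt_str_iff A B p.asIdeal.ResidueField r ?_).trans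
      (GorOpen27.gorenstein_stalk_iff (CommRingCat.of (p.asIdeal.ResidueField ⊗[A] B)) r)
    exact GorOpen27.gorenstein_bot _ _ ((Ideal.eq_bot_or_top _).resolve_right
      (PrimeSpectrum.comap (algebraMap p.asIdeal.ResidueField (p.asIdeal.ResidueField ⊗[A] B)) r).isPrime.ne_top)
  constructor
  · intro h p
    haveI : LocCoh.IsGorensteinRing (p.asIdeal.ResidueField ⊗[A] B) :=
      { noetherian := (Algebra.FiniteType.isNoetherianRing p.asIdeal.ResidueField _).noetherian
        isGorensteinLocalRing_localization := fun r hr => (key p ⟨r, hr⟩).1 (h _) }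
    exact Goren15.isGorensteinRing_of_ringEquiv (Algebra.TensorProduct.comm A p.asIdeal.ResidueField B).toRingEquiv
  · intro h q
    let p : PrimeSpectrum A := PrimeSpectrum.comap (algebraMap A B) q
    let r := PrimeSpectrum.preimageEquivFiber A B p ⟨q, rfl⟩
    have hr : PrimeSpectrum.comap
        (Algebra.TensorProduct.includeRight : B →ₐ[A] p.asIdeal.ResidueField ⊗[A] B).toRingHom r = q :=
      congrArg Subtype.val ((PrimeSpectrum.preimageEquivFiber A B p).symm_apply_apply ⟨q, rfl⟩)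
    haveI := h p
    haveI hG : LocCoh.IsGorensteinRing (p.asIdeal.ResidueField ⊗[A] B) :=
      Goren15.isGorensteinRing_of_ringEquiv (Algebra.TensorProduct.comm A B p.asIdeal.ResidueField).toRingEquiv
    rw [← hr]
    exact (key p r).2 (hG.isGorensteinLocalRing_localization r.asIdeal)

/-- Gorenstein points on charts. -/
theorem gorensteinAt_chart {X Y : Scheme.{u}} (f : X ⟶ Y) [Flat f] [LocallyOfFiniteType f] (V : Y.Opens)
    (hV : IsAffineOpen V) (U : X.Opens) (hU : IsAffineOpen U) (e : U ≤ f ⁻¹ᵁ V) (z : Spec Γ(X, U)) :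
    Dual3.IsGorensteinAt (Spec.map (f.appLE V U e)) z ↔ Dual3.IsGorensteinAt f (hU.fromSpec z) := by
  haveI : Flat (Spec.map (f.appLE V U e)) := Flat.SpecMap_iff.2 (f.flat_appLE hV hU e)
  rw [← GorOpen27.isGorensteinAt_comp_openImmersion (Spec.map (f.appLE V U e)) hV.fromSpec z,
    hV.SpecMap_appLE_fromSpec f hU e]
  exact GorOpen27.isGorensteinAt_openImmersion_comp hU.fromSpec f z

theorem nonempty_tilde_shift (R : CommRingCat.{u}) (n : ℤ) :
    Nonempty ((DPerf.tildeDD R).obj ((Dual.inD R R)⟦n⟧) ≅ TwistBC9.oneD (Spec R) (-n)) := by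
  haveI : PreservesFiniteLimits (tilde.functor R) := M1.tilde_preservesFiniteLimits
  exact ⟨((DPerf.tildeDD R).commShiftIso n).app _ ≪≫
    (shiftFunctor (DCoh.D _) n).mapIso (DGen9.KO.oneIso (R := R)).symm ≪≫
    (((DerivedCategory.singleFunctors (Spec R).Modules).shiftIso n (-n) 0 (by omega)).app
      (Coh.structureModule (Spec R)))⟩

variable {X Y Xb : Scheme.{u}} [IsNoetherian Y] (f : X ⟶ Y) [LocallyOfFiniteType f] [Flat f]
  (p : Xb ⟶ Y) [IsProper p] (j : X ⟶ Xb) [IsOpenImmersion j] (hfac : j ≫ p = f) [DCoh.HasRpush p]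
  {hp : DCoh.RpushPreservesQCoh p} {a : DCoh.DQCoh Y ⥤ DCoh.DQCoh Xb} (adj : DCoh.RpushQ p hp ⊣ a)
  [∀ (U V : Scheme.{u}) (j : U ⟶ V) [IsOpenImmersion j], PreservesFiniteLimits (Scheme.Modules.restrictFunctor j)]

include hfac adj in
/-- Near a Gorenstein point `f^!O` is invertible. -/
theorem exists_invertible_of_gorenstein {K : DCoh.D X} (eK : (lP j).obj (a.obj (oQ Y)).obj ≅ K) (x : X)
    (hx : Dual3.IsGorensteinAt f x) :
    ∃ U : X.Opens, x ∈ U ∧ Dual3.IsInvertibleD ((DCoh.restrictD U.ι).obj K) := by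
  haveI : LocallyOfFinitePresentation f := inferInstance
  let G : X.Opens := ⟨_, GorOpen27.isOpen_gorensteinLocus f⟩
  obtain ⟨V, hV, hxV, -⟩ := exists_isAffineOpen_mem_and_subset (X := Y) (x := f x) (U := ⊤) trivial
  obtain ⟨U, hU, hxU, hUG⟩ := exists_isAffineOpen_mem_and_subset (X := X) (x := x) (U := G ⊓ f ⁻¹ᵁ V) ⟨hx, hxV⟩
  have e : U ≤ f ⁻¹ᵁ V := fun y hy => (hUG hy).2
  let A := Γ(Y, V)
  let B := Γ(X, U)
  letI : Algebra A B := (f.appLE V U e).hom.toAlgebra
  haveI : IsNoetherianRing A := IsLocallyNoetherian.component_noetherian ⟨V, hV⟩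
  haveI : Algebra.FiniteType A B := f.finiteType_appLE hV hU e
  haveI : IsNoetherianRing B := Algebra.FiniteType.isNoetherianRing A B
  haveI : Module.Flat A B := f.flat_appLE hV hU e
  obtain ⟨m, F, hF⟩ := Algebra.FiniteType.iff_quotient_mvPolynomial''.1 (inferInstance : Algebra.FiniteType A B)
  haveI := DQC.hasLBaseChange (algebraMap A (MvPolynomial (Fin m) A))
  haveI := isLeftAdjoint_restrictD F.toRingHom
  let adjψ := Adjunction.ofIsLeftAdjoint (DRing.restrictD F.toRingHom)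
  obtain ⟨v⟩ := nonempty_via_sheaf f p j hfac adj V hV U hU e rfl m F hF adjψ
  haveI : ∀ g : B, DRing.HasLBaseChange (algebraMap B (Localization.Away g)) := fun g => DQC.hasLBaseChange _
  have hfib := (gorensteinAt_str_iff_fibres A B).1 fun q => (gorensteinAt_chart f V hV U hU e q).2
    (hUG (by
      have h : hU.fromSpec q ∈ Set.range hU.fromSpec := ⟨q, rfl⟩
      rwa [hU.range_fromSpec] at h)).1
  let z : Spec B := hU.primeIdealOf ⟨x, hxU⟩
  obtain ⟨g, hg, n, ⟨eg⟩⟩ := (S1786.result A B m F hF _ adjψ).1 hfib z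
  let S := CommRingCat.of (Localization.Away g)
  let ψ : B ⟶ S := CommRingCat.ofHom (algebraMap B (Localization.Away g))
  haveI : IsOpenImmersion (Spec.map ψ) := IsOpenImmersion.of_isLocalization g
  haveI : DRing.HasLBaseChange ψ.hom := DQC.hasLBaseChange _
  obtain ⟨o⟩ := nonempty_tilde_shift S n
  let w := Spec.map ψ ≫ hU.fromSpec
  have ew : (lP w).obj K ≅ TwistBC9.oneD (Spec S) (-n) :=
    ((lPComp (Spec.map ψ) hU.fromSpec rfl).app K).symm ≪≫
      (lP (Spec.map ψ)).mapIso ((lP hU.fromSpec).mapIso eK.symm ≪≫ v) ≪≫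
      (DBC9.lPTildeIso ψ).app _ ≪≫ (DPerf.tildeDD S).mapIso eg ≪≫ o
  have hxw : x ∈ Set.range w := by
    obtain ⟨q, hq⟩ : (z : PrimeSpectrum B) ∈ Set.range (PrimeSpectrum.comap (algebraMap B (Localization.Away g))) := by
      rw [PrimeSpectrum.localization_away_comap_range (Localization.Away g) g]; exact hg
    exact ⟨q, (congrArg hU.fromSpec hq).trans (hU.fromSpec_primeIdealOf ⟨x, hxU⟩)⟩
  refine ⟨w.opensRange, hxw, isInvertibleD_of_locShift fun y => ?_⟩
  let i := w.isoOpensRange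
  have hi : i.hom ≫ w.opensRange.ι = w := by simp [i]
  exact ⟨_, i.hom, inferInstance, -n, ⟨i.inv y, by simp [← Scheme.Hom.comp_apply]⟩,
    ⟨(lP i.hom).mapIso ((lPRes w.opensRange.ι).app K).symm ≪≫ (lPComp i.hom w.opensRange.ι hi).app K ≪≫ ew⟩⟩

include hfac adj in
/-- Where `f^!O` is invertible, `f` is Gorenstein. -/
theorem gorenstein_of_invertible {K : DCoh.D X} (eK : (lP j).obj (a.obj (oQ Y)).obj ≅ K) (U₀ : X.Opens) (x : X)
    (hx₀ : x ∈ U₀) (hK : Dual3.IsInvertibleD ((DCoh.restrictD U₀.ι).obj K)) : Dual3.IsGorensteinAt f x := by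
  obtain ⟨W, n, hxW, ⟨eW⟩⟩ := hK ⟨x, hx₀⟩
  let w := W.ι ≫ U₀.ι
  have hxw : x ∈ w.opensRange := ⟨⟨⟨x, hx₀⟩, hxW⟩, rfl⟩
  obtain ⟨V, hV, hxV, -⟩ := exists_isAffineOpen_mem_and_subset (X := Y) (x := f x) (U := ⊤) trivial
  obtain ⟨U, hU, hxU, hUw⟩ :=
    exists_isAffineOpen_mem_and_subset (X := X) (x := x) (U := w.opensRange ⊓ f ⁻¹ᵁ V) ⟨hxw, hxV⟩
  have e : U ≤ f ⁻¹ᵁ V := fun y hy => (hUw hy).2
  let A := Γ(Y, V)
  let B := Γ(X, U)
  letI : Algebra A B := (f.appLE V U e).hom.toAlgebra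
  haveI : IsNoetherianRing A := IsLocallyNoetherian.component_noetherian ⟨V, hV⟩
  haveI : Algebra.FiniteType A B := f.finiteType_appLE hV hU e
  haveI : IsNoetherianRing B := Algebra.FiniteType.isNoetherianRing A B
  haveI : Module.Flat A B := f.flat_appLE hV hU e
  obtain ⟨m, F, hF⟩ := Algebra.FiniteType.iff_quotient_mvPolynomial''.1 (inferInstance : Algebra.FiniteType A B)
  haveI := DQC.hasLBaseChange (algebraMap A (MvPolynomial (Fin m) A))
  haveI := isLeftAdjoint_restrictD F.toRingHom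
  let adjψ := Adjunction.ofIsLeftAdjoint (DRing.restrictD F.toRingHom)
  obtain ⟨v⟩ := nonempty_via_sheaf f p j hfac adj V hV U hU e rfl m F hF adjψ
  haveI : ∀ g : B, DRing.HasLBaseChange (algebraMap B (Localization.Away g)) := fun g => DQC.hasLBaseChange _
  have hr : Set.range hU.fromSpec ⊆ Set.range w := by
    rw [hU.range_fromSpec]; exact fun y hy => (hUw hy).1
  let l : Spec B ⟶ W := IsOpenImmersion.lift w hU.fromSpec hr
  have hl : l ≫ w = hU.fromSpec := IsOpenImmersion.lift_fac _ _ _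
  obtain ⟨s⟩ := nonempty_shiftOne' (W : Scheme.{u}) 0 n
  obtain ⟨ol⟩ := TwistBC9.nonempty_lP_oneM l (0 - n)
  obtain ⟨o⟩ := nonempty_tilde_shift B n
  obtain ⟨c⟩ := DlzSch27.nonempty_iso_of_tilde (R := B) (v.symm ≪≫ (lP hU.fromSpec).mapIso eK ≪≫
    ((lPComp l w hl).app K).symm ≪≫ (lP l).mapIso (((lPComp W.ι U₀.ι rfl).app K).symm ≪≫
      (lP W.ι).mapIso ((lPRes U₀.ι).app K) ≪≫ (lPRes W.ι).app _ ≪≫ eW ≪≫ s) ≪≫ ol ≪≫
      eqToIso (by congr 1; omega) ≪≫ o.symm)
  have hinv : ∀ q : PrimeSpectrum B, ∃ (g : B) (_ : g ∉ q.asIdeal) (k : ℤ),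
      Nonempty ((DRing.LBaseChange (algebraMap B (Localization.Away g))).obj
        (Dual2.shriekVia m (DRing.restrictD F.toRingHom).rightAdjoint (Dual.inD A A)) ≅
          (Dual.inD (Localization.Away g) (Localization.Away g))⟦k⟧) := fun q => by
    obtain ⟨t⟩ := nonempty_lbc_one_shift (algebraMap B (Localization.Away (1 : B))) n
    exact ⟨1, fun h => q.isPrime.ne_top ((Ideal.eq_top_iff_one _).2 h), n,
      ⟨(DRing.LBaseChange (algebraMap B (Localization.Away (1 : B)))).mapIso c ≪≫ t⟩⟩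
  have := (gorensteinAt_chart f V hV U hU e (hU.primeIdealOf ⟨x, hxU⟩)).1
    ((gorensteinAt_str_iff_fibres A B).2 ((S1786.result A B m F hF _ adjψ).2 hinv) _)
  rwa [hU.fromSpec_primeIdealOf ⟨x, hxU⟩] at this

end Groth.Agent.BC8
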