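import Groth.Agent.Lib.BC8.AffineLine
import Groth.Agent.Lib.BC8.ViaGor
import Groth.Agent.Lib.BC8.CartierAdj
import Groth.Agent.Lib.ProjDual12.Trans
import Groth.Agent.Lib.TopDimLib.Basic
import Groth.Agent.Lib.ParaF27.Pair
import Groth.Agent.S16185

/-! Dualizing modules of deformations of Gorenstein schemes. -/

set_option autoImplicit false
set_option linter.unusedSectionVars false
set_option linter.style.haveILetI false
set_option backward.isDefEq.respectTransparency false
set_option backward.isDefEq.respectTransparency.types false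
set_option maxHeartbeats 1000000

universe u

open CategoryTheory CategoryTheory.Limits AlgebraicGeometry

attribute [local instance] HasDerivedCategory.standard

noncomputable section

namespace Groth.Agent.BC8

open DMon9

section BaseChange

variable {X X' Y Y' : Scheme.{u}} [IsNoetherian Y] [IsNoetherian Y'] {g' : X' ⟶ X} {f' : X' ⟶ Y'} {f : X ⟶ Y}
  {g : Y' ⟶ Y} (hsq : IsPullback g' f' f g) [IsProper f] [IsProper f'] [Flat f]
  [DCoh.HasRpush f] [DCoh.HasRpush f'] {hp : DCoh.RpushPreservesQCoh f} {hp' : DCoh.RpushPreservesQCoh f'}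
  {a : DCoh.DQCoh Y ⥤ DCoh.DQCoh X} (adj : DCoh.RpushQ f hp ⊣ a)
  {a' : DCoh.DQCoh Y' ⥤ DCoh.DQCoh X'} (adj' : DCoh.RpushQ f' hp' ⊣ a')

include hsq adj adj' in
/-- The relative dualizing complex of a flat proper morphism commutes with any base change. -/
theorem nonempty_relDualizing_bc : Nonempty ((lP g').obj (a.obj (oQ Y)).obj ≅ (a'.obj (oQ Y')).obj) := by
  haveI : CompactSpace X := QuasiCompact.compactSpace_of_compactSpace f
  haveI : QuasiSeparatedSpace X := quasiSeparatedSpace_of_quasiSeparated f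
  haveI : CompactSpace X' := QuasiCompact.compactSpace_of_compactSpace f'
  haveI : QuasiSeparatedSpace X' := quasiSeparatedSpace_of_quasiSeparated f'
  haveI := qc_of_qcqs g
  haveI := qs_of_qcqs g
  haveI := qc_of_qcqs g'
  haveI := qs_of_qcqs g'
  haveI := DBC9.hasRpush g
  haveI := DBC9.hasRpush g'
  obtain ⟨σ, hσm⟩ := exists_mult_sq hsq.w.symm
  have hgood := good_of_flat hsq (Or.inl inferInstance)
  have hσ := isIso_bc_sigQ (hf := hp) (hf' := hp') hgood σ
  haveI : LocallyOfFinitePresentation f := inferInstance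
  haveI := isIso_beta₀_flat adj adj' hsq (Or.inl inferInstance)
    (fun J => Dual8.preservesCoproducts adj (fun P hP => PerfPush9.isPerfect_rpush_flat f P hP) J) σ hσm hσ (oQ Y)
  obtain ⟨l⟩ := TwistBC9.nonempty_lP_oneM g 0
  let e : (lq g).obj (oQ Y) ≅ oQ Y' := ObjectProperty.isoMk _ l
  exact ⟨(ObjectProperty.ι _).mapIso (asIso (beta₀ adj adj' σ hσ (oQ Y)) ≪≫ a'.mapIso e)⟩

end BaseChange

section Degree

variable {X X' : Scheme.{u}}

/-- An invertible complex concentrated, after a surjective pullback, in one degree is an invertible module. -/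
theorem exists_single_of_locShift
    [∀ (U : Scheme.{u}) (j : U ⟶ X') [IsOpenImmersion j], PreservesFiniteLimits (Scheme.Modules.restrictFunctor j)]
    (g : X ⟶ X') (hg : Function.Surjective g) {K : DCoh.D X'} (hK : LocShift K) (c : ℤ)
    (hz : ∀ t : ℤ, t ≠ c → IsZero (DCoh.HD ((lP g).obj K) t)) :
    ∃ L : X'.Modules, PicF.IsInvertible L ∧
      Nonempty (K ≅ (DerivedCategory.singleFunctor X'.Modules c).obj L) := by
  have key : ∀ x : X', ∃ (U : Scheme.{u}) (s : U ⟶ X') (_ : IsOpenImmersion s),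
      x ∈ Set.range s ∧ Nonempty ((lP s).obj K ≅ TwistBC9.oneD U c) := fun x => by
    obtain ⟨U, s, hs, a, hx, ⟨d⟩⟩ := hK x
    refine ⟨U, s, hs, hx, ?_⟩
    suffices a = c by subst this; exact ⟨d⟩
    by_contra hne
    obtain ⟨y, rfl⟩ := hx
    obtain ⟨z, hzy⟩ := hg (s y)
    obtain ⟨v, -⟩ : z ∈ Set.range (pullback.snd s g) := by
      rw [Scheme.Pullback.range_snd]
      exact ⟨y, hzy.symm⟩
    haveI : Nonempty (pullback s g : Scheme.{u}) := ⟨v⟩
    obtain ⟨l⟩ := TwistBC9.nonempty_lP_oneM (pullback.fst s g) a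
    let e : (lP (pullback.snd s g)).obj ((lP g).obj K) ≅ TwistBC9.oneD (pullback s g) a :=
      (lPComp (pullback.snd s g) g pullback.condition.symm ≪≫ (lPComp (pullback.fst s g) s rfl).symm).app K ≪≫
        (lP (pullback.fst s g)).mapIso d ≪≫ l
    let φ : (DCoh.HD ((lP g).obj K) a).restrict (pullback.snd s g) ≅ Coh.structureModule (pullback s g) :=
      (DPerf.hdResIso (pullback.snd s g) ((lP g).obj K) a).symm ≪≫
        (DerivedCategory.homologyFunctor _ a).mapIso (((lPRes (pullback.snd s g)).app _).symm ≪≫ e) ≪≫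
        (DerivedCategory.singleFunctorCompHomologyFunctorIso _ a).app (Coh.structureModule (pullback s g))
    exact not_isZero_structureModule' (pullback s g : Scheme.{u})
      (IsZero.of_iso ((Scheme.Modules.restrictFunctor (pullback.snd s g)).map_isZero (hz a hne)) φ.symm)
  have hz' : ∀ t : ℤ, t ≠ c → IsZero (DCoh.HD K t) := fun t ht => DPerf.isZero_of_stalks fun z => by
    obtain ⟨U, s, hs, ⟨u, rfl⟩, ⟨d⟩⟩ := key z
    have h0 : IsZero ((DCoh.HD K t).restrict s) := IsZero.of_iso
      (by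
        rcases lt_or_gt_of_ne ht with h | h
        · exact DerivedCategory.isZero_of_isGE (TwistBC9.oneD U c) c t h
        · exact DerivedCategory.isZero_of_isLE (TwistBC9.oneD U c) c t h)
      ((DPerf.hdResIso s K t).symm ≪≫
        (DerivedCategory.homologyFunctor _ t).mapIso (((lPRes s).app K).symm ≪≫ d))
    exact AddCommGrpCat.subsingleton_of_isZero
      ((RHom.stalkZero_restrict_iff s u _).1 (DGen9.stalkZero_of_isZero u h0))
  haveI : K.IsGE c := (DerivedCategory.isGE_iff _ _).2 fun t ht => hz' t ht.ne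
  haveI : K.IsLE c := (DerivedCategory.isLE_iff _ _).2 fun t ht => hz' t ht.ne'
  obtain ⟨L, ⟨e⟩⟩ := K.exists_iso_singleFunctor_obj_of_isGE_of_isLE c
  choose U s hs hx d using key
  haveI := hs
  refine ⟨L, ParaF27.isInvertible_of_cover s (fun x => ⟨x, hx x⟩) fun x => ?_, ⟨e⟩⟩
  exact Twist.isInvertible_of_iso
    ((Scheme.Modules.restrictFunctor (s x)).mapIso
        (((DerivedCategory.singleFunctorCompHomologyFunctorIso _ c).app L).symm ≪≫
          (DerivedCategory.homologyFunctor _ c).mapIso e.symm) ≪≫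
      (DPerf.hdResIso (s x) K c).symm ≪≫
      (DerivedCategory.homologyFunctor _ c).mapIso (((lPRes (s x)).app K).symm ≪≫ (d x).some) ≪≫
      (DerivedCategory.singleFunctorCompHomologyFunctorIso _ c).app (Coh.structureModule (U x))).symm
    (PicLoc.isInvertible_structureModule (U x))

/-- The top cohomology sheaf of the derived pullback of a module in degree `c`. -/
theorem nonempty_hd_lP_single (g : X ⟶ X') [DCoh.HasRpush g] (c : ℤ) (L : X'.Modules) :
    Nonempty (DCoh.HD ((lP g).obj ((DerivedCategory.singleFunctor X'.Modules c).obj L)) c ≅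
      (Scheme.Modules.pullback g).obj L) := by
  obtain ⟨_, -⟩ := DPush.exists_commShift_isTriangulated g
  letI := (adjLP g).leftAdjointCommShift ℤ
  haveI := TwistBC9.isIso_H0_cTr g L
  let M := (DerivedCategory.singleFunctor X'.Modules 0).obj L
  exact ⟨(DerivedCategory.homologyFunctor X.Modules c).mapIso
      ((lP g).mapIso (((DerivedCategory.singleFunctors X'.Modules).shiftIso (-c) c 0 (by omega)).app L).symm ≪≫
        ((lP g).commShiftIso (-c)).app M) ≪≫
    ((DerivedCategory.homologyFunctor X.Modules 0).shiftIso (-c) c 0 (by omega)).app ((lP g).obj M) ≪≫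
    asIso ((DerivedCategory.homologyFunctor X.Modules 0).map ((TwistBC9.cTr g).app L)) ≪≫
    (DerivedCategory.singleFunctorCompHomologyFunctorIso _ 0).app ((Scheme.Modules.pullback g).obj L)⟩

end Degree

/-- An invertible complex is locally a shift of the structure sheaf. -/
theorem locShift_of_gorenstein {X Y : Scheme.{u}} [IsNoetherian Y] (f : X ⟶ Y) [IsProper f] [Flat f]
    (hG : Dual3.IsGorensteinMor f) [DCoh.HasRpush f] {hp : DCoh.RpushPreservesQCoh f}
    {a : DCoh.DQCoh Y ⥤ DCoh.DQCoh X} (adj : DCoh.RpushQ f hp ⊣ a) : LocShift (a.obj (oQ Y)).obj := by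
  haveI : ∀ (U V : Scheme.{u}) (j : U ⟶ V) [IsOpenImmersion j],
      PreservesFiniteLimits (Scheme.Modules.restrictFunctor j) := fun U V j _ => inferInstance
  intro x
  obtain ⟨U, hxU, hU⟩ := exists_invertible_of_gorenstein f f (𝟙 X) (Category.id_comp f) adj
    ((DBC9.lPId X).app (a.obj (oQ Y)).obj) x (hG x)
  obtain ⟨W, n, hxW, ⟨c⟩⟩ := hU ⟨x, hxU⟩
  obtain ⟨s⟩ := nonempty_shiftOne' (W : Scheme.{u}) 0 n
  exact ⟨W, W.ι ≫ U.ι, inferInstance, 0 - n, ⟨⟨⟨x, hxU⟩, hxW⟩, rfl⟩,
    ⟨((lPComp W.ι U.ι rfl).app _).symm ≪≫ (lPRes W.ι).app _ ≪≫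
      (DPerf.resD W.ι).mapIso ((lPRes U.ι).app _) ≪≫ c ≪≫ s⟩⟩

end Groth.Agent.BC8
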