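import Groth.Agent.Lib.BC8.GorExtend
import Groth.Prelude.Def_FSch2
import Mathlib.RingTheory.PowerSeries.Inverse
import Mathlib.RingTheory.PowerSeries.Ideal
import Mathlib.RingTheory.HopkinsLevitzki

/-! The formal spectrum of `k[[t]]` and Gorenstein deformations over it. -/

set_option autoImplicit false
set_option linter.unusedSectionVars false
set_option linter.style.haveILetI false
set_option backward.isDefEq.respectTransparency false
set_option backward.isDefEq.respectTransparency.types false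

universe u

open CategoryTheory CategoryTheory.Limits AlgebraicGeometry

noncomputable section

namespace Groth.Agent.BC8.GorExt

section Ring

variable (k : Type u) [Field k]

/-- The ideal of the uniformizer. -/
abbrev tI : Ideal (PowerSeries k) := Ideal.span {PowerSeries.X (R := k)}

/-- The levels `k[[t]]/(t^{m+1})`. -/
abbrev Lvl (m : ℕ) : Type u := PowerSeries k ⧸ tI k ^ (m + 1)

theorem tI_isMaximal : (tI k).IsMaximal := by
  have h := IsLocalRing.maximalIdeal.isMaximal (PowerSeries k)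
  rw [PowerSeries.maximalIdeal_eq_span_X] at h
  exact h

instance nontrivial_lvl (m : ℕ) : Nontrivial (Lvl k m) :=
  Ideal.Quotient.nontrivial_iff.2 fun h =>
    (tI_isMaximal k).ne_top (top_le_iff.1 (h ▸ Ideal.pow_le_self (Nat.succ_ne_zero m)))

instance isLocalRing_lvl (m : ℕ) : IsLocalRing (Lvl k m) :=
  IsLocalRing.of_surjective' (Ideal.Quotient.mk (tI k ^ (m + 1))) Ideal.Quotient.mk_surjective

theorem isMaximal_of_prime (m : ℕ) (P : Ideal (Lvl k m)) [P.IsPrime] : P.IsMaximal := by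
  have hle : tI k ≤ P.comap (Ideal.Quotient.mk (tI k ^ (m + 1))) :=
    (Ideal.IsPrime.comap (Ideal.Quotient.mk (tI k ^ (m + 1))) (K := P)).le_of_pow_le
      (fun x hx => Ideal.mem_comap.2 (by rw [Ideal.Quotient.eq_zero_iff_mem.2 hx]; exact P.zero_mem))
  have he := (tI_isMaximal k).eq_of_le (Ideal.IsPrime.comap _ (K := P)).ne_top hle
  have h := (Ideal.map_eq_top_or_isMaximal_of_surjective (Ideal.Quotient.mk (tI k ^ (m + 1)))
    Ideal.Quotient.mk_surjective (he ▸ tI_isMaximal k))
  rw [Ideal.map_comap_of_surjective _ Ideal.Quotient.mk_surjective] at h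
  exact h.resolve_left (Ideal.IsPrime.ne_top inferInstance)

instance isArtinianRing_lvl (m : ℕ) : IsArtinianRing (Lvl k m) := by
  haveI : Ring.KrullDimLE 0 (Lvl k m) := Ring.krullDimLE_zero_iff.2 fun P hP => isMaximal_of_prime k m P
  exact IsNoetherianRing.isArtinianRing_of_krullDimLE_zero

instance subsingleton_spec_lvl (m : ℕ) : Subsingleton (PrimeSpectrum (Lvl k m)) := ⟨fun p q =>
  PrimeSpectrum.ext ((IsLocalRing.eq_maximalIdeal (isMaximal_of_prime k m p.asIdeal)).trans
    (IsLocalRing.eq_maximalIdeal (isMaximal_of_prime k m q.asIdeal)).symm)⟩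

theorem isField_lvl_zero : IsField (Lvl k 0) :=
  (Ideal.Quotient.maximal_ideal_iff_isField_quotient _).1
    (show (tI k ^ (0 + 1)).IsMaximal by rw [zero_add, pow_one]; exact tI_isMaximal k)

theorem bijective_lvl_zero :
    Function.Bijective ((Ideal.Quotient.mk (tI k ^ (0 + 1))).comp (algebraMap k (PowerSeries k))) := by
  refine ⟨RingHom.injective _, fun y => ?_⟩
  obtain ⟨p, rfl⟩ := Ideal.Quotient.mk_surjective y
  refine ⟨PowerSeries.constantCoeff p, ?_⟩
  rw [RingHom.comp_apply, Ideal.Quotient.eq, zero_add, pow_one, Ideal.mem_span_singleton,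
    PowerSeries.X_dvd_iff]
  simp

theorem exists_toX (m : ℕ) : ∃ φ : Lvl k m →+* Lvl k 0, Function.Surjective φ ∧
    (FSch.spf (PowerSeries k) (tI k)).toX m = Spec.map (CommRingCat.ofHom φ) := by
  induction m with
  | zero => exact ⟨RingHom.id _, fun y => ⟨y, rfl⟩, (Spec.map_id _).symm⟩
  | succ m ih =>
    obtain ⟨φ, hφ, e⟩ := ih
    let π : Lvl k (m + 1) →+* Lvl k m :=
      Ideal.Quotient.factor (Ideal.pow_le_pow_right (I := tI k) (Nat.le_succ (m + 1)))
    refine ⟨φ.comp π, hφ.comp (Ideal.Quotient.factor_surjective _), ?_⟩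
    change (FSch.spf (PowerSeries k) (tI k)).toX m ≫ CohB1.specQuotTrans (tI k) m = _
    rw [e]
    exact (Spec.map_comp _ _).symm

end Ring

section Sys

variable {k : Type u} [Field k] {𝔛 : FSch.Sys.{u}} (𝔣 : 𝔛 ⟶ FSch.spf (PowerSeries k) (tI k))
  (hadic : FSch.IsAdicHom 𝔣)

include hadic in
theorem isPullback_toX (m : ℕ) : IsPullback (𝔛.toX m) (FSch.Hom.app 𝔣 0) (FSch.Hom.app 𝔣 m)
    ((FSch.spf (PowerSeries k) (tI k)).toX m) := by
  induction m with
  | zero =>
    haveI : IsIso (𝔛.toX 0) := inferInstanceAs (IsIso (𝟙 (𝔛.X 0)))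
    haveI : IsIso ((FSch.spf (PowerSeries k) (tI k)).toX 0) :=
      inferInstanceAs (IsIso (𝟙 ((FSch.spf (PowerSeries k) (tI k)).X 0)))
    exact IsPullback.of_horiz_isIso ⟨by simp [FSch.Sys.toX]⟩
  | succ m ih => exact ih.paste_horiz (hadic m)

include hadic in
theorem surjective_toX (m : ℕ) : Function.Surjective (𝔛.toX m) := by
  haveI : Subsingleton ((FSch.spf (PowerSeries k) (tI k)).X m : Scheme.{u}) := subsingleton_spec_lvl k m
  haveI : Nonempty ((FSch.spf (PowerSeries k) (tI k)).X 0 : Scheme.{u}) :=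
    inferInstanceAs (Nonempty (PrimeSpectrum (Lvl k 0)))
  have : Surjective ((FSch.spf (PowerSeries k) (tI k)).toX m) :=
    ⟨fun y => ⟨Classical.arbitrary _, Subsingleton.elim _ _⟩⟩
  exact (MorphismProperty.of_isPullback (P := @Surjective) (isPullback_toX 𝔣 hadic m).flip this).surj

include hadic in
/-- The levels of a flat deformation of a Gorenstein scheme are Gorenstein morphisms. -/
theorem isGorensteinMor_app (m : ℕ) [Flat (FSch.Hom.app 𝔣 m)] {X : Scheme.{u}} (hX : Dual3.IsGorenstein X)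
    (e : X ≅ 𝔛.X 0) : Dual3.IsGorensteinMor (FSch.Hom.app 𝔣 m) := by
  obtain ⟨φ, hφ, eφ⟩ := exists_toX k m
  have hker : RingHom.ker φ = IsLocalRing.maximalIdeal (Lvl k m) :=
    IsLocalRing.eq_maximalIdeal (Ideal.Quotient.maximal_of_isField _
      (((RingHom.quotientKerEquivOfSurjective hφ).toMulEquiv).isField (isField_lvl_zero k)))
  let ρ : IsLocalRing.ResidueField (Lvl k m) →+* Lvl k 0 :=
    Ideal.Quotient.lift _ φ fun a ha => (hker ▸ ha : a ∈ RingHom.ker φ)
  have hρ : Function.Bijective ρ := ⟨RingHom.injective ρ, fun y => by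
    obtain ⟨a, rfl⟩ := hφ y
    exact ⟨IsLocalRing.residue _ a, rfl⟩⟩
  let j := Spec.map (RingEquiv.ofBijective ρ hρ).toCommRingCatIso.hom
  have hj : j ≫ Spec.map (CommRingCat.ofHom (IsLocalRing.residue (Lvl k m))) =
      (FSch.spf (PowerSeries k) (tI k)).toX m := by
    rw [eφ, ← Spec.map_comp]
    rfl
  have hsq : IsPullback (e.hom ≫ 𝔛.toX m) (e.hom ≫ FSch.Hom.app 𝔣 0) (FSch.Hom.app 𝔣 m)
      ((FSch.spf (PowerSeries k) (tI k)).toX m) :=
    (IsPullback.of_horiz_isIso (fst := e.hom) (g := 𝟙 _) (snd := e.hom ≫ FSch.Hom.app 𝔣 0)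
      ⟨by simp⟩).paste_horiz (isPullback_toX 𝔣 hadic m) |>.of_iso (Iso.refl _) (Iso.refl _) (Iso.refl _)
      (Iso.refl _) (by simp) (by simp) (by simp) (by simp)
  exact S16185.result (A := Lvl k m) (FSch.Hom.app 𝔣 m) (e.hom ≫ 𝔛.toX m) ((e.hom ≫ FSch.Hom.app 𝔣 0) ≫ j)
    (hsq.of_iso (Iso.refl _) (Iso.refl _) (asIso j) (Iso.refl _) (by simp) (by simp) (by simp)
      (by simp [← hj, j])) hX

end Sys

end Groth.Agent.BC8.GorExt
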