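import Groth.Agent.Lib.BC8.ViaSheafApps
import Groth.Agent.Lib.GorOpen27.Global
import Groth.Agent.Lib.CMChart4
import Groth.Agent.Lib.CurvOpen16.Goren
import Groth.Agent.Lib.Goren.Basic
import Groth.Agent.Lib.SchBasic.Basic

/-! Gorenstein morphisms and quasi-finite maps to affine space. -/

set_option autoImplicit false
set_option linter.style.haveILetI false
set_option linter.unusedSectionVars false
set_option backward.isDefEq.respectTransparency.types false

universe u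

open CategoryTheory AlgebraicGeometry Groth.Agent.FibDim14 Groth.Agent.VarDim Groth.Agent.CMEquiDim4

noncomputable section

namespace Groth.Agent.BC8

theorem flat_of_isCM_smooth {X S T : Scheme.{u}} {m : ℕ}
    (a : X ⟶ T) [LocallyOfFiniteType a]
    (π : T ⟶ S) [Smooth π]
    [LocallyOfFinitePresentation (a ≫ π)]
    (hdim : ∀ y, FlatMor.fibreDimAt π y = (m : WithBot ℕ∞))
    (x : X) (hflat : ((a ≫ π).stalkMap x).hom.Flat) (hqf : a.QuasiFiniteAt x)
    (hcm : LocCoh.IsCohenMacaulayLocalRing (((a ≫ π).fiber ((a ≫ π) x)).presheaf.stalk ((a ≫ π).asFiber x)))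
    (hd : FlatMor.fibreDimAt (a ≫ π) x = (m : WithBot ℕ∞)) :
    (a.stalkMap x).hom.Flat := by
  set s := (a ≫ π) x with hs
  let F := fibMap a π s
  let z := (a ≫ π).asFiber x
  have hzx : (a ≫ π).fiberι s z = x := (a ≫ π).fiberι_asFiber x
  have hFz : π.fiberι s (F z) = a x := by rw [fiberι_fibMap, hzx]
  haveI : LocallyOfFiniteType (π.fiberToSpecResidueField s) := MorphismProperty.pullback_snd _ _ inferInstance
  haveI : Smooth (toPt π s) := MorphismProperty.pullback_snd _ _ ‹Smooth π›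
  haveI : LocallyOfFiniteType F :=
    MorphismProperty.of_isPullback (isPullback_fibMap a π s) ‹LocallyOfFiniteType a›
  haveI : IsRegularLocalRing ((π.fiber s).presheaf.stalk (F z)) :=
    SmoothReg17.isRegularLocalRing_stalk (toPt π s) (F z)
  haveI := hcm
  have hF0 : FlatMor.fibreDimAt F z = 0 := by
    rw [fibreDimAt_baseChange (isPullback_fibMap a π s), hzx, (fibreDimAt_eq_zero_iff a x).2 hqf]
  obtain ⟨b, hb, hb'⟩ := exists_stalk_dim (toPt (a ≫ π) s) z
  obtain ⟨c, hc, hc'⟩ := exists_stalk_dim (toPt π s) (F z)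
  have e1 : b + rd (a ≫ π) x = m := by
    rw [show FlatMor.localDim ((a ≫ π).fiber s) z = FlatMor.fibreDimAt (a ≫ π) x from rfl, hd] at hb'
    have h1 : m = sdim (toPt (a ≫ π) s) z + b := by exact_mod_cast hb'
    rw [← rd_fiberι, hzx] at h1
    omega
  have e2 : c + rd π (a x) = m := by
    have h0 : FlatMor.localDim (π.fiber s) (F z) = (m : WithBot ℕ∞) := by
      rw [← hdim (a x), fibreDimAt_eq_localDim_preimage]
      exact localDim_of_range (π.fiberι s).isEmbedding (π.range_fiberι s) (F z) hFz rfl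
    rw [h0] at hc'
    have h1 : m = sdim (toPt π s) (F z) + c := by exact_mod_cast hc'
    rw [← rd_fiberι, hFz] at h1
    omega
  have e3 : rd a x = 0 := by
    have h1 := rd_le_fibreDimAt a (specializes_rfl (x := x)) rfl
    rw [(fibreDimAt_eq_zero_iff a x).2 hqf] at h1
    exact Nat.le_zero.1 (by exact_mod_cast h1)
  have e4 : b = c := by rw [rd_comp a π x] at e1; omega
  have hflatF : (F.stalkMap z).hom.Flat := by
    algebraize [(F.stalkMap z).hom]
    haveI : IsLocalHom (algebraMap ((π.fiber s).presheaf.stalk (F z)) (((a ≫ π).fiber s).presheaf.stalk z)) :=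
      F.toLRSHom.prop z
    refine Miracle4.flat_of_ringKrullDim_eq ?_
    obtain ⟨e₀⟩ := FlatDepth.nonempty_fiberStalkEquiv F z
    have hfz : ringKrullDim (CInt.fiberStalk F z) = 0 := by
      obtain ⟨n, hn, hn'⟩ := exists_stalk_dim (toPt F (F z)) (F.asFiber z)
      rw [show FlatMor.localDim (F.fiber (F z)) (F.asFiber z) = FlatMor.fibreDimAt F z from rfl, hF0] at hn'
      have : n = 0 := by
        have h1 : (0 : ℕ) = sdim (toPt F (F z)) (F.asFiber z) + n := by exact_mod_cast hn'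
        omega
      exact hn.trans (by rw [this]; rfl)
    have h5 : ringKrullDim ((((a ≫ π).fiber s).presheaf.stalk z) ⧸
        (IsLocalRing.maximalIdeal ((π.fiber s).presheaf.stalk (F z))).map (algebraMap _ _)) = 0 :=
      (ringKrullDim_eq_of_ringEquiv e₀).trans hfz
    rw [h5, add_zero, hb, hc, e4]
  have hF' : FlatH4.fibreMapAt' a π (S.fromSpecResidueField s) = F := by
    apply Limits.pullback.hom_ext
    · rw [FlatH4.fibreMapAt']
      exact (Limits.pullback.lift_fst _ _ _).trans (Limits.pullback.lift_fst _ _ _).symm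
    · rw [FlatH4.fibreMapAt']
      refine (Limits.pullback.lift_snd _ _ _).trans ((Category.comp_id _).trans ?_)
      exact (Limits.pullback.lift_snd _ _ _).symm
  have h := FlatH4.flat_of_flat_fibreMapAt' a π (S.fromSpecResidueField s) z
    (FlatH4.flat_stalkMap_of_eq (a ≫ π) hzx.symm hflat) (by rw [hF']; exact hflatF)
  exact FlatH4.flat_stalkMap_of_eq a hzx h

/-- The chart of affine space over an affine open of the base. -/
def affChart {S : Scheme.{u}} (m : ℕ) (V : S.Opens) (hV : IsAffineOpen V) :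
    Spec (CommRingCat.of (MvPolynomial (Fin m) Γ(S, V))) ⟶ 𝔸(ULift.{u} (Fin m); S) :=
  Spec.map (CommRingCat.ofHom (MvPolynomial.renameEquiv Γ(S, V) (Equiv.ulift.{u, 0} (α := Fin m))).toRingHom) ≫
    (AffineSpace.SpecIso (ULift.{u} (Fin m)) Γ(S, V)).inv ≫ AffineSpace.map (ULift.{u} (Fin m)) hV.fromSpec

instance isOpenImmersion_affChart {S : Scheme.{u}} (m : ℕ) (V : S.Opens) (hV : IsAffineOpen V) :
    IsOpenImmersion (affChart m V hV) := by
  haveI : IsOpenImmersion (AffineSpace.map (ULift.{u} (Fin m)) hV.fromSpec) :=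
    MorphismProperty.of_isPullback (AffineSpace.isPullback_map hV.fromSpec).flip (inferInstance : IsOpenImmersion hV.fromSpec)
  haveI : IsIso (CommRingCat.ofHom (MvPolynomial.renameEquiv Γ(S, V) (Equiv.ulift.{u, 0} (α := Fin m))).toRingHom) :=
    (MvPolynomial.renameEquiv Γ(S, V) (Equiv.ulift.{u, 0} (α := Fin m))).toRingEquiv.toCommRingCatIso.isIso_hom
  exact inferInstanceAs (IsOpenImmersion (_ ≫ _ ≫ _))

theorem affChart_over {S : Scheme.{u}} (m : ℕ) (V : S.Opens) (hV : IsAffineOpen V) :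
    affChart m V hV ≫ (𝔸(ULift.{u} (Fin m); S) ↘ S) =
      Spec.map (CommRingCat.ofHom (algebraMap Γ(S, V) (MvPolynomial (Fin m) Γ(S, V)))) ≫ hV.fromSpec := by
  simp only [affChart, Category.assoc, AffineSpace.map_over, AffineSpace.SpecIso_inv_over_assoc]
  rw [← Category.assoc]
  congr 1
  rw [← Spec.map_comp]
  refine congrArg Spec.map (CommRingCat.hom_ext (RingHom.ext fun t => ?_))
  exact MvPolynomial.rename_C _ t

theorem mem_range_affChart {S : Scheme.{u}} (m : ℕ) (V : S.Opens) (hV : IsAffineOpen V) (y : 𝔸(ULift.{u} (Fin m); S))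
    (hy : (𝔸(ULift.{u} (Fin m); S) ↘ S) y ∈ V) : y ∈ Set.range (affChart m V hV) := by
  obtain ⟨v, hv⟩ : (𝔸(ULift.{u} (Fin m); S) ↘ S) y ∈ Set.range hV.fromSpec := by rw [hV.range_fromSpec]; exact hy
  have sq := AffineSpace.isPullback_map (n := ULift.{u} (Fin m)) hV.fromSpec
  obtain ⟨w, hw, -⟩ := Scheme.Pullback.exists_preimage_pullback
    (f := 𝔸(ULift.{u} (Fin m); S) ↘ S) (g := hV.fromSpec) y v hv.symm
  haveI : IsIso (CommRingCat.ofHom (MvPolynomial.renameEquiv Γ(S, V) (Equiv.ulift.{u, 0} (α := Fin m))).toRingHom) :=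
    (MvPolynomial.renameEquiv Γ(S, V) (Equiv.ulift.{u, 0} (α := Fin m))).toRingEquiv.toCommRingCatIso.isIso_hom
  let e := asIso (Spec.map (CommRingCat.ofHom (MvPolynomial.renameEquiv Γ(S, V) (Equiv.ulift.{u, 0} (α := Fin m))).toRingHom)) ≪≫
    (AffineSpace.SpecIso (ULift.{u} (Fin m)) Γ(S, V)).symm ≪≫ sq.isoPullback
  have he : affChart m V hV = e.hom ≫ Limits.pullback.fst _ _ := by
    simp [affChart, e]
  refine ⟨e.inv w, ?_⟩
  rw [he, ← Scheme.Hom.comp_apply, Iso.inv_hom_id_assoc]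
  exact hw

theorem fibreDimAt_affineSpace_over {S : Scheme.{u}} (m : ℕ) (y : 𝔸(ULift.{u} (Fin m); S)) :
    FlatMor.fibreDimAt (𝔸(ULift.{u} (Fin m); S) ↘ S) y = (m : WithBot ℕ∞) := by
  obtain ⟨V, hV, hyV, -⟩ := exists_isAffineOpen_mem_and_subset (X := S) (x := (𝔸(ULift.{u} (Fin m); S) ↘ S) y)
    (U := ⊤) trivial
  obtain ⟨t, rfl⟩ := mem_range_affChart m V hV y hyV
  rw [← fibreDimAt_etale_comp (affChart m V hV), affChart_over, fibreDimAt_comp_lqf]
  exact FibGen4.fibreDimAt_affineSpace m t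

theorem isCMAt_of_gorensteinAt {X S : Scheme.{u}} (f : X ⟶ S) (x : X) (h : Dual3.IsGorensteinAt f x) :
    MoreMor.IsCMAt f x := by
  haveI := h.2
  exact ⟨h.1, GorenLib.isCohenMacaulayLocalRing_of_gorenstein⟩

variable {X S : Scheme.{u}} (f : X ⟶ S) [Flat f] [LocallyOfFinitePresentation f]

/-- A map to affine space which is quasi-finite at a point is Gorenstein there iff `f` is. -/
theorem gorensteinAt_iff_of_qf {d : ℕ} (U : X.Opens) (w : (U : Scheme.{u}))
    (hd : FlatMor.fibreDimAt f (U.ι w) = (d : WithBot ℕ∞))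
    (g : (U : Scheme.{u}) ⟶ 𝔸(ULift.{u} (Fin d); S))
    (hg : g ≫ (𝔸(ULift.{u} (Fin d); S) ↘ S) = U.ι ≫ f) (hqf : g.QuasiFiniteAt w) :
    Dual3.IsGorensteinAt f (U.ι w) ↔ Dual3.IsGorensteinAt g w := by
  haveI : LocallyOfFinitePresentation (g ≫ (𝔸(ULift.{u} (Fin d); S) ↘ S)) := hg.symm ▸ inferInstance
  haveI : Flat (g ≫ (𝔸(ULift.{u} (Fin d); S) ↘ S)) := hg.symm ▸ inferInstance
  haveI : LocallyOfFinitePresentation g :=
    SchBasic.locallyOfFinitePresentation_of_comp g (𝔸(ULift.{u} (Fin d); S) ↘ S)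
  have key : Dual3.IsGorensteinAt (g ≫ (𝔸(ULift.{u} (Fin d); S) ↘ S)) w ↔ Dual3.IsGorensteinAt f (U.ι w) := by
    rw [hg]; exact GorOpen27.isGorensteinAt_openImmersion_comp U.ι f w
  rw [← key]
  obtain ⟨h1, h2⟩ := Goren15.isGorensteinAt_comp g (𝔸(ULift.{u} (Fin d); S) ↘ S) w
    (GorOpen27.isLocallyNoetherian_fiber _ _) (GorOpen27.isLocallyNoetherian_fiber _ _)
  refine ⟨fun h => (h2 h ?_).1, fun h => h1 h (CurvOpen16.isGorensteinAt_of_smooth _ _)⟩
  refine flat_of_isCM_smooth g (𝔸(ULift.{u} (Fin d); S) ↘ S) (fibreDimAt_affineSpace_over d) w h.1 hqf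
    (isCMAt_of_gorensteinAt _ w h).2 ?_
  simp only [hg]
  rw [fibreDimAt_etale_comp, hd]

/-- Quasi-finite maps to affine space exist. -/
theorem exists_qf_toAffineSpace {d : ℕ} (x : X) (hd : FlatMor.fibreDimAt f x = (d : WithBot ℕ∞)) :
    ∃ (U : X.Opens) (hxU : x ∈ U) (g : (U : Scheme.{u}) ⟶ 𝔸(ULift.{u} (Fin d); S)),
      g ≫ (𝔸(ULift.{u} (Fin d); S) ↘ S) = U.ι ≫ f ∧ g.QuasiFiniteAt ⟨x, hxU⟩ := by
  obtain ⟨V, hV, U, hU, hUV, hxU, H⟩ := QFAffine4.exists_chart_qfAt f x hd.le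
  let φ := f.appLE V U hUV
  letI : Algebra Γ(S, V) Γ(X, U) := φ.hom.toAlgebra
  obtain ⟨m, b, hm, hqf⟩ := H
  haveI : Algebra.FiniteType Γ(S, V) Γ(X, U) := f.finiteType_appLE hV hU hUV
  let a : Spec Γ(X, U) ⟶ Spec (CommRingCat.of (MvPolynomial (Fin m) Γ(S, V))) :=
    Spec.map (CommRingCat.ofHom (MvPolynomial.aeval (R := Γ(S, V)) b).toRingHom)
  let π₀ := Spec.map (CommRingCat.ofHom (algebraMap Γ(S, V) (MvPolynomial (Fin m) Γ(S, V))))
  have haπ₀ : a ≫ π₀ = Spec.map φ := by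
    rw [← Spec.map_comp]
    exact congrArg Spec.map (CommRingCat.hom_ext (RingHom.ext fun t => (MvPolynomial.aeval b).commutes t))
  have haπ : a ≫ affChart m V hV ≫ (𝔸(ULift.{u} (Fin m); S) ↘ S) = hU.fromSpec ≫ f := by
    rw [affChart_over, ← Category.assoc, haπ₀]
    exact IsAffineOpen.SpecMap_appLE_fromSpec f hV hU hUV
  haveI : LocallyOfFiniteType (a ≫ π₀) := by
    rw [haπ₀]
    exact (HasRingHomProperty.Spec_iff (P := @LocallyOfFiniteType)).2 (f.finiteType_appLE hV hU hUV)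
  haveI : LocallyOfFiniteType a := AlgebraicGeometry.locallyOfFiniteType_of_comp a π₀
  let P : Spec Γ(X, U) := hU.primeIdealOf ⟨x, hxU⟩
  have hP : hU.fromSpec P = x := hU.fromSpec_primeIdealOf ⟨x, hxU⟩
  have hmd : m = d := by
    refine le_antisymm hm ?_
    have h1 := fibreDimAt_comp_le a (affChart m V hV ≫ (𝔸(ULift.{u} (Fin m); S) ↘ S)) P
    rw [(fibreDimAt_eq_zero_iff a P).2 hqf, zero_add, haπ, fibreDimAt_etale_comp, hP, hd,
      fibreDimAt_etale_comp, fibreDimAt_affineSpace_over] at h1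
    exact_mod_cast h1
  subst hmd
  refine ⟨U, hxU, hU.isoSpec.hom ≫ a ≫ affChart m V hV, ?_, ?_⟩
  · rw [Category.assoc, Category.assoc, haπ, ← Category.assoc]
    rw [← IsAffineOpen.isoSpec_inv_ι, Iso.hom_inv_id_assoc]
  · rw [← fibreDimAt_eq_zero_iff, fibreDimAt_etale_comp, fibreDimAt_comp_lqf]
    exact (fibreDimAt_eq_zero_iff a _).2 hqf

/-- Gorenstein points have Gorenstein quasi-finite charts to affine space. -/
theorem exists_gorenstein_qf_toAffineSpace {d : ℕ} (x : X) (hd : FlatMor.fibreDimAt f x = (d : WithBot ℕ∞))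
    (h : Dual3.IsGorensteinAt f x) :
    ∃ (U : X.Opens) (_ : x ∈ U) (g : (U : Scheme.{u}) ⟶ 𝔸(ULift.{u} (Fin d); S)),
      g ≫ (𝔸(ULift.{u} (Fin d); S) ↘ S) = U.ι ≫ f ∧ LocallyQuasiFinite g ∧ Dual3.IsGorensteinMor g := by
  obtain ⟨n, W, hxW, g, hg, hqf, hfl, hn⟩ := exists_flat_qf_toAffineSpace_dim f (isCMAt_of_gorensteinAt f x h)
  rw [hd] at hn
  obtain rfl : d = n := by exact_mod_cast hn
  haveI : LocallyOfFinitePresentation (g ≫ (𝔸(ULift.{u} (Fin d); S) ↘ S)) := hg.symm ▸ inferInstance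
  haveI : LocallyOfFinitePresentation g :=
    SchBasic.locallyOfFinitePresentation_of_comp g (𝔸(ULift.{u} (Fin d); S) ↘ S)
  let O : (W : Scheme.{u}).Opens := ⟨{y | (g.stalkMap y).hom.Flat}, FlatH4.isOpen_flatLocus g⟩
  haveI : Flat (O.ι ≫ g) := by
    refine Flat.iff_flat_stalkMap _ |>.2 fun y => ?_
    rw [FlatH4.flat_stalkMap_comp_left_iff]
    exact y.2
  let g₁ := (W.ι.isoImage O).inv ≫ O.ι ≫ g
  let U₁ : X.Opens := W.ι ''ᵁ O
  have hxU₁ : x ∈ U₁ := ⟨⟨x, hxW⟩, hfl, rfl⟩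
  have hg₁ : g₁ ≫ (𝔸(ULift.{u} (Fin d); S) ↘ S) = U₁.ι ≫ f := by
    simp only [g₁]
    rw [Category.assoc, Category.assoc, hg, ← Category.assoc, ← Category.assoc, Category.assoc _ O.ι,
      ← Scheme.Hom.isoImage_hom_ι W.ι O, Iso.inv_hom_id_assoc]
  haveI : LocallyQuasiFinite g₁ := inferInstance
  haveI : Flat g₁ := inferInstance
  haveI : LocallyOfFinitePresentation g₁ := inferInstance
  have hG : Dual3.IsGorensteinAt g₁ ⟨x, hxU₁⟩ :=
    (gorensteinAt_iff_of_qf f U₁ ⟨x, hxU₁⟩ hd g₁ hg₁ (g₁.quasiFiniteAt _)).1 h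
  let G : (U₁ : Scheme.{u}).Opens := ⟨_, GorOpen27.isOpen_gorensteinLocus g₁⟩
  let g₂ := (U₁.ι.isoImage G).inv ≫ G.ι ≫ g₁
  have hg₂ : g₂ ≫ (𝔸(ULift.{u} (Fin d); S) ↘ S) = (U₁.ι ''ᵁ G).ι ≫ f := by
    simp only [g₂]
    rw [Category.assoc, Category.assoc, hg₁, ← Category.assoc, ← Category.assoc, Category.assoc _ G.ι,
      ← Scheme.Hom.isoImage_hom_ι U₁.ι G, Iso.inv_hom_id_assoc]
  refine ⟨U₁.ι ''ᵁ G, ⟨⟨x, hxU₁⟩, hG, rfl⟩, g₂, hg₂, inferInstance, fun y => ?_⟩
  refine (GorOpen27.isGorensteinAt_openImmersion_comp (U₁.ι.isoImage G).inv (G.ι ≫ g₁) y).2 ?_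
  refine (GorOpen27.isGorensteinAt_openImmersion_comp G.ι g₁ _).2 ?_
  exact ((U₁.ι.isoImage G).inv y).2

end Groth.Agent.BC8
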