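import Groth.Agent.Lib.BC8.HomDual
import Groth.Agent.Lib.Dlz27.Point
import Groth.Agent.Lib.DMod.Resolve
import Groth.Agent.Lib.DMod.PCModule

/-! Biduality for complexes with finite cohomology. -/

set_option autoImplicit false
set_option linter.style.haveILetI false
set_option linter.unusedSectionVars false
set_option backward.isDefEq.respectTransparency false
set_option backward.isDefEq.respectTransparency.types false
set_option maxHeartbeats 1000000

universe u

open CategoryTheory CategoryTheory.Limits CochainComplex CochainComplex.HomComplex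

attribute [local instance] HasDerivedCategory.standard

noncomputable section

namespace Groth.Agent.BC8.HomDual

open KFlat.HomAdj (coc)

variable {A : Type u} [CommRing A] (W : DRing.Cx A)

theorem quasiIso_bidual_of_iso [W.IsKInjective] {K K' : DRing.Cx A} (f : K ⟶ K') [QuasiIso f]
    (h : QuasiIso (bidual W K)) : QuasiIso (bidual W K') := by
  haveI : QuasiIso (f ≫ bidual W K') := by rw [bidual_natural]; infer_instance
  exact quasiIso_of_comp_left f (bidual W K')

theorem isStrictlyLE_hom (K : DRing.Cx A) (c b : ℤ) [K.IsStrictlyGE c] [W.IsStrictlyLE b] :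
    (DRing.homCx K W).IsStrictlyLE (b - c) := by
  refine (CochainComplex.isStrictlyLE_iff _ _).2 fun n hn => ?_
  refine (DMod.isZero_iff_subsingleton _).2 ⟨fun z z' => hom_ext' W fun p q h x => ?_⟩
  by_cases hp : p < c
  · haveI := ModuleCat.subsingleton_of_isZero (K.isZero_of_isStrictlyGE c p hp)
    rw [Subsingleton.elim x 0, map_zero, map_zero]
  · haveI := ModuleCat.subsingleton_of_isZero (W.isZero_of_isStrictlyLE b q (by omega))
    exact Subsingleton.elim _ _

theorem isStrictlyGE_hom (K : DRing.Cx A) (c a : ℤ) [K.IsStrictlyLE c] [W.IsStrictlyGE a] :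
    (DRing.homCx K W).IsStrictlyGE (a - c) := by
  refine (CochainComplex.isStrictlyGE_iff _ _).2 fun n hn => ?_
  refine (DMod.isZero_iff_subsingleton _).2 ⟨fun z z' => hom_ext' W fun p q h x => ?_⟩
  by_cases hp : c < p
  · haveI := ModuleCat.subsingleton_of_isZero (K.isZero_of_isStrictlyLE c p hp)
    rw [Subsingleton.elim x 0, map_zero, map_zero]
  · haveI := ModuleCat.subsingleton_of_isZero (W.isZero_of_isStrictlyGE a q (by omega))
    exact Subsingleton.elim _ _

theorem exactAt_of_quasiIso {P Q : DRing.Cx A} (g : P ⟶ Q) [QuasiIso g] (i : ℤ) (h : P.ExactAt i) : Q.ExactAt i := by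
  rw [HomologicalComplex.exactAt_iff_isZero_homology] at h ⊢
  exact h.of_iso (asIso (HomologicalComplex.homologyMap g i)).symm

theorem isLE_hom [W.IsKInjective] (K : DRing.Cx A) (c b : ℤ) [K.IsGE c] [W.IsStrictlyLE b] :
    (DRing.homCx K W).IsLE (b - c) := by
  haveI := quasiIso_pre W (K.πTruncGE c)
  haveI := isStrictlyLE_hom W (K.truncGE c) c b
  exact (CochainComplex.isLE_iff _ _).2 fun i hi => exactAt_of_quasiIso (pre W (K.πTruncGE c)) i
    (CochainComplex.exactAt_of_isLE (DRing.homCx (K.truncGE c) W) (b - c) i hi)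

theorem isGE_hom [W.IsKInjective] (K : DRing.Cx A) (c a : ℤ) [K.IsLE c] [W.IsStrictlyGE a] :
    (DRing.homCx K W).IsGE (a - c) := by
  haveI := quasiIso_pre W (K.ιTruncLE c)
  haveI := isStrictlyGE_hom W (K.truncLE c) c a
  have h : ∀ i, i < a - c → (DRing.homCx K W).ExactAt i := fun i hi => by
    have h' := CochainComplex.exactAt_of_isGE (DRing.homCx (K.truncLE c) W) (a - c) i hi
    rw [HomologicalComplex.exactAt_iff_isZero_homology] at h' ⊢
    exact h'.of_iso (asIso (HomologicalComplex.homologyMap (pre W (K.ιTruncLE c)) i))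
  exact (CochainComplex.isGE_iff _ _).2 h

/-- Degreewise biduality passes along an exact sequence with small quotient. -/
theorem isIso_bidual_left [W.IsKInjective] (hW : ∀ i, Injective (W.X i)) {S : ShortComplex (DRing.Cx A)}
    (hS : S.ShortExact) (i : ℤ) (h₁ : IsIso (HomologicalComplex.homologyMap (bidual W S.X₁) i))
    (h₃ : ∀ j, (j = i - 1 ∨ j = i) → S.X₃.ExactAt j ∧ ((F W).obj S.X₃).ExactAt j) :
    IsIso (HomologicalComplex.homologyMap (bidual W S.X₂) i) := by
  obtain ⟨w, hFS⟩ := shortExact_F W hW hS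
  have key : ∀ {T : ShortComplex (DRing.Cx A)}, T.ShortExact → T.X₃.ExactAt (i - 1) → T.X₃.ExactAt i →
      IsIso (HomologicalComplex.homologyMap T.f i) := fun {T} hT ha hb => by
    rw [HomologicalComplex.exactAt_iff_isZero_homology] at ha hb
    haveI : Epi (HomologicalComplex.homologyMap T.f i) := (hT.homology_exact₂ i).epi_f (hb.eq_of_tgt _ _)
    haveI : Mono (HomologicalComplex.homologyMap T.f i) :=
      (hT.homology_exact₁ (i - 1) i (sub_add_cancel i 1)).mono_g (ha.eq_of_src _ _)
    exact isIso_of_mono_of_epi _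
  haveI := key hS (h₃ _ (Or.inl rfl)).1 (h₃ _ (Or.inr rfl)).1
  haveI : IsIso (HomologicalComplex.homologyMap ((F W).map S.f) i) :=
    key hFS (h₃ _ (Or.inl rfl)).2 (h₃ _ (Or.inr rfl)).2
  haveI := h₁
  have : IsIso (HomologicalComplex.homologyMap S.f i ≫ HomologicalComplex.homologyMap (bidual W S.X₂) i) := by
    rw [← HomologicalComplex.homologyMap_comp, bidual_natural, HomologicalComplex.homologyMap_comp]
    infer_instance
  exact IsIso.of_isIso_comp_left (HomologicalComplex.homologyMap S.f i) _

theorem quasiIso_bidual_of_isZero {K : DRing.Cx A} (h : ∀ p, IsZero (K.X p)) : QuasiIso (bidual W K) := by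
  have h1 : ∀ p, IsZero ((DRing.homCx K W).X p) := fun p => (DMod.isZero_iff_subsingleton _).2
    ⟨fun z z' => hom_ext' W fun a b hab x => by
      haveI := ModuleCat.subsingleton_of_isZero (h a)
      rw [Subsingleton.elim x 0, map_zero, map_zero]⟩
  have h2 : ∀ p, IsZero (((F W).obj K).X p) := fun p => (DMod.isZero_iff_subsingleton _).2
    ⟨fun z z' => hom_ext' W fun a b hab x => by
      haveI := ModuleCat.subsingleton_of_isZero (h1 a)
      rw [Subsingleton.elim x 0, map_zero, map_zero]⟩
  haveI : ∀ p, IsIso ((bidual W K).f p) := fun p => ⟨0, (h p).eq_of_src _ _, (h2 p).eq_of_src _ _⟩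
  haveI : IsIso (bidual W K) := HomologicalComplex.Hom.isIso_of_components _
  infer_instance

section Single

variable (n : ℤ)

/-- The ring in degree `n`. -/
abbrev ptCx : DRing.Cx A := (HomologicalComplex.single (ModuleCat.{u} A) (ComplexShape.up ℤ) n).obj (ModuleCat.of A A)

/-- Its generator. -/
def ptOne : (ptCx (A := A) n).X n :=
  (HomologicalComplex.singleObjXSelf (ComplexShape.up ℤ) n (ModuleCat.of A A)).inv (1 : A)

theorem ptX_eq (x : (ptCx (A := A) n).X n) : ∃ a : A, x = a • ptOne n := by
  refine ⟨(HomologicalComplex.singleObjXSelf (ComplexShape.up ℤ) n (ModuleCat.of A A)).hom x, ?_⟩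
  rw [ptOne, ← map_smul, show ((HomologicalComplex.singleObjXSelf (ComplexShape.up ℤ) n
    (ModuleCat.of A A)).hom x : A) • (1 : A) = (HomologicalComplex.singleObjXSelf (ComplexShape.up ℤ) n
    (ModuleCat.of A A)).hom x from smul_eq_mul _ _ |>.trans (mul_one _), ← ModuleCat.comp_apply, Iso.hom_inv_id]
  rfl

/-- A value as a cochain on the point. -/
def ofVal (p q : ℤ) (h : p + n = q) : W.X q →ₗ[A] (DRing.homCx (ptCx n) W).X p where
  toFun w := Cochain.mk fun a b hab =>
    if ha : a = n then eqToHom (by rw [ha]) ≫ (HomologicalComplex.singleObjXSelf (ComplexShape.up ℤ) n (ModuleCat.of A A)).hom ≫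
      ModuleCat.ofHom (LinearMap.toSpanSingleton A (W.X q) w) ≫ eqToHom (by rw [show q = b by omega])
    else 0
  map_add' w w' := by
    refine hom_ext' W fun a b hab x => ?_
    change ((dite (a = n) _ _ : (ptCx n).X a ⟶ W.X b)).hom x = ((dite (a = n) _ _ : (ptCx n).X a ⟶ W.X b)).hom x + ((dite (a = n) _ _ : (ptCx n).X a ⟶ W.X b)).hom x
    by_cases ha : a = n
    · subst ha
      obtain rfl : q = b := by omega
      simp [LinearMap.toSpanSingleton_apply]
    · simp [ha]
  map_smul' r w := by
    refine hom_ext' W fun a b hab x => ?_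
    change ((dite (a = n) _ _ : (ptCx n).X a ⟶ W.X b)).hom x = r • ((dite (a = n) _ _ : (ptCx n).X a ⟶ W.X b)).hom x
    by_cases ha : a = n
    · subst ha
      obtain rfl : q = b := by omega
      simp [LinearMap.toSpanSingleton_apply, smul_comm r]
    · simp [ha]

theorem ofVal_one (p q : ℤ) (h : p + n = q) (w : W.X q) :
    (coc (ofVal W n p q h w)).v n q (by omega) (ptOne n) = w := by
  change ((dite (n = n) _ _ : (ptCx n).X n ⟶ W.X q)).hom (ptOne n) = w
  rw [dif_pos rfl]
  simp only [eqToHom_refl, Category.id_comp, Category.comp_id, ModuleCat.hom_comp, LinearMap.comp_apply, ptOne]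
  refine (congrArg _ (congrArg (fun φ : ModuleCat.of A A ⟶ ModuleCat.of A A => φ (1 : A))
    (HomologicalComplex.singleObjXSelf (ComplexShape.up ℤ) n (ModuleCat.of A A)).inv_hom_id)).trans ?_
  exact one_smul A w

theorem pt_ext {p : ℤ} {z z' : (DRing.homCx (ptCx n) W).X p}
    (h : (coc z).v n (p + n) (by omega) (ptOne n) = (coc z').v n (p + n) (by omega) (ptOne n)) : z = z' := by
  refine hom_ext' W fun a b hab x => ?_
  by_cases ha : a = n
  · subst ha
    obtain rfl : b = p + a := by omega
    obtain ⟨r, rfl⟩ := ptX_eq a x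
    rw [map_smul, map_smul, h]
  · haveI : Subsingleton ((ptCx (A := A) n).X a) :=
      ModuleCat.subsingleton_of_isZero (HomologicalComplex.isZero_single_obj_X (ComplexShape.up ℤ) n _ a ha)
    rw [Subsingleton.elim x 0, map_zero, map_zero]

theorem d_ptHom (p q q' : ℤ) (h : p + n = q) (h' : q + 1 = q') (z : (DRing.homCx (ptCx n) W).X p) :
    (coc ((DRing.homCx (ptCx n) W).d p (p + 1) z)).v n q' (by omega) (ptOne n) =
      W.d q q' ((coc z).v n q (by omega) (ptOne n)) := by
  change (δ p (p + 1) (coc z)).v n q' (by omega) (ptOne n) = _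
  rw [δ_v p (p + 1) rfl _ n q' (by omega) q (n + 1) (by omega) rfl, HomologicalComplex.single_obj_d, zero_comp,
    smul_zero, add_zero]
  rfl

/-- Cochains on `Hom•(A[-n], W)` as cochains on `W`. -/
def theta (i m : ℤ) (hm : n + m = i) (z : Cochain (DRing.homCx (ptCx n) W) W i) : Cochain W W m :=
  Cochain.mk fun q r hqr => (n * q).negOnePow •
    (ModuleCat.ofHom (ofVal W n (q - n) q (by omega)) ≫ z.v (q - n) r (by omega))

/-- The inverse of `theta`. -/
def thetaInv (i m : ℤ) (hm : n + m = i) (y : Cochain W W m) : Cochain (DRing.homCx (ptCx n) W) W i :=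
  Cochain.mk fun p q hpq => (n * (p + n)).negOnePow •
    (ModuleCat.ofHom
      { toFun := fun z : (DRing.homCx (ptCx n) W).X p => (coc z).v n (p + n) (by omega) (ptOne n)
        map_add' := fun _ _ => rfl
        map_smul' := fun _ _ => rfl } ≫ y.v (p + n) q (by omega))

theorem theta_v (i m : ℤ) (hm : n + m = i) (z : Cochain (DRing.homCx (ptCx n) W) W i) (q r : ℤ) (h : q + m = r)
    (w : W.X q) : (theta W n i m hm z).v q r h w = (n * q).negOnePow • z.v (q - n) r (by omega) (ofVal W n (q - n) q (by omega) w) := rfl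

theorem thetaInv_v (i m : ℤ) (hm : n + m = i) (y : Cochain W W m) (p q : ℤ) (h : p + i = q) (z : (DRing.homCx (ptCx n) W).X p) :
    (thetaInv W n i m hm y).v p q h z =
      (n * (p + n)).negOnePow • y.v (p + n) q (by omega) ((coc z).v n (p + n) (by omega) (ptOne n)) := rfl

theorem theta_thetaInv (i m : ℤ) (hm : n + m = i) (y : Cochain W W m) :
    theta W n i m hm (thetaInv W n i m hm y) = y := by
  refine Cochain.ext _ _ fun q r h => ModuleCat.hom_ext (LinearMap.ext fun w => ?_)
  rw [theta_v, thetaInv_v]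
  have key : ∀ q', (hq : q' = q) → (n * q).negOnePow • (n * q').negOnePow • y.v q' r (by omega)
      ((coc (ofVal W n (q - n) q (by omega) w)).v n q' (by omega) (ptOne n)) = y.v q r h w := by
    rintro q' rfl
    rw [ofVal_one, smul_smul, Int.units_mul_self, one_smul]
  exact key (q - n + n) (by omega)

theorem theta_injective (i m : ℤ) (hm : n + m = i) : Function.Injective (theta W n i m hm) := by
  intro z z' hz
  refine Cochain.ext _ _ fun p q h => ModuleCat.hom_ext (LinearMap.ext fun x => ?_)
  have key : ∀ p', (hp : p' = p) → ∀ x' : (DRing.homCx (ptCx n) W).X p',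
      z.v p' q (by omega) x' = z'.v p' q (by omega) x' → z.v p' q (by omega) x' = z'.v p' q (by omega) x' :=
    fun _ _ _ h => h
  obtain ⟨r, rfl⟩ : ∃ r, p = r - n := ⟨p + n, by omega⟩
  have hx : x = ofVal W n (r - n) r (by omega) ((coc x).v n r (by omega) (ptOne n)) := by
    refine pt_ext W n ?_
    have : ∀ r', (hr : r' = r) → (coc x).v n r' (by omega) (ptOne n) =
        (coc (ofVal W n (r - n) r (by omega) ((coc x).v n r (by omega) (ptOne n)))).v n r' (by omega) (ptOne n) := by
      rintro r' rfl
      rw [ofVal_one]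
    exact this _ (by omega)
  have h1 := congrArg (fun t : Cochain W W m => t.v r q (by omega) ((coc x).v n r (by omega) (ptOne n))) hz
  simp only [theta_v] at h1
  rw [← hx] at h1
  exact MulAction.injective (n * r).negOnePow h1

theorem delta_theta (i m : ℤ) (hm : n + m = i) (z : Cochain (DRing.homCx (ptCx n) W) W i) :
    δ m (m + 1) (theta W n i m hm z) = theta W n (i + 1) (m + 1) (by omega) (δ i (i + 1) z) := by
  refine Cochain.ext _ _ fun q r h => ModuleCat.hom_ext (LinearMap.ext fun w => ?_)
  rw [δ_v m (m + 1) rfl _ q r h (r - 1) (q + 1) rfl rfl, theta_v W n (i + 1) (m + 1),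
    δ_v i (i + 1) rfl z (q - n) r (by omega) (r - 1) (q - n + 1) rfl rfl]
  change W.d (r - 1) r ((theta W n i m hm z).v q (r - 1) (by omega) w) +
      (m + 1).negOnePow • (theta W n i m hm z).v (q + 1) r (by omega) (W.d q (q + 1) w) =
    (n * q).negOnePow • (W.d (r - 1) r (z.v (q - n) (r - 1) (by omega) (ofVal W n (q - n) q (by omega) w)) +
      (i + 1).negOnePow • z.v (q - n + 1) r (by omega)
        ((DRing.homCx (ptCx n) W).d (q - n) (q - n + 1) (ofVal W n (q - n) q (by omega) w)))
  have hd : (DRing.homCx (ptCx n) W).d (q - n) (q - n + 1) (ofVal W n (q - n) q (by omega) w) =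
      ofVal W n (q - n + 1) (q + 1) (by omega) (W.d q (q + 1) w) := by
    refine pt_ext W n ?_
    have : ∀ r', (hr : r' = q + 1) → (coc ((DRing.homCx (ptCx n) W).d (q - n) (q - n + 1)
        (ofVal W n (q - n) q (by omega) w))).v n r' (by omega) (ptOne n) =
        (coc (ofVal W n (q - n + 1) (q + 1) (by omega) (W.d q (q + 1) w))).v n r' (by omega) (ptOne n) := by
      rintro r' rfl
      rw [ofVal_one, d_ptHom W n (q - n) q (q + 1) (by omega) rfl, ofVal_one]
    exact this _ (by omega)
  have hsh : ∀ p', (hp : p' = q + 1 - n) → z.v p' r (by omega) (ofVal W n p' (q + 1) (by omega) (W.d q (q + 1) w)) =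
      z.v (q + 1 - n) r (by omega) (ofVal W n (q + 1 - n) (q + 1) (by omega) (W.d q (q + 1) w)) := by
    rintro p' rfl; rfl
  rw [hd, hsh _ (by omega), theta_v, theta_v, Units.smul_def, map_zsmul, ← Units.smul_def, smul_add, smul_smul,
    smul_smul, ← Int.negOnePow_add, ← Int.negOnePow_add]
  congr 2
  rw [Int.negOnePow_eq_iff, Int.even_iff]
  ring_nf
  omega

theorem theta_bidual (a : A) :
    theta W n n 0 (add_zero n) ((bidual W (ptCx n)).f n (a • ptOne n)) =
      ((n.negOnePow : ℤ) : A) • a • Cochain.ofHom (𝟙 W) := by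
  refine Cochain.ext _ _ fun q r h => ModuleCat.hom_ext (LinearMap.ext fun w => ?_)
  obtain rfl : r = q := by omega
  rw [theta_v]
  change (n * r).negOnePow • (n * (r - n)).negOnePow • (coc (ofVal W n (r - n) r (by omega) w)).v n r (by omega)
    (a • ptOne n) = ((n.negOnePow : ℤ) : A) • a • ((Cochain.ofHom (𝟙 W)).v r r (by omega) w)
  rw [map_smul, ofVal_one, Cochain.ofHom_v, smul_smul, ← Int.negOnePow_add, Int.cast_smul_eq_zsmul, ← Units.smul_def,
    show (n * r + n * (r - n)).negOnePow = n.negOnePow by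
      rw [Int.negOnePow_eq_iff, Int.even_iff]
      rcases Int.emod_two_eq_zero_or_one n with hn | hn <;> rcases Int.emod_two_eq_zero_or_one r with hr | hr <;>
        simp [Int.sub_emod, Int.add_emod, Int.mul_emod, hn, hr]]
  rfl

theorem theta_sub (i m : ℤ) (hm : n + m = i) (z z' : Cochain (DRing.homCx (ptCx n) W) W i) :
    theta W n i m hm (z - z') = theta W n i m hm z - theta W n i m hm z' :=
  Cochain.ext _ _ fun q r h => ModuleCat.hom_ext (LinearMap.ext fun w => by
    rw [theta_v]
    change (n * q).negOnePow • ((z.v (q - n) r _) (ofVal W n (q - n) q _ w) - (z'.v (q - n) r _) (ofVal W n (q - n) q _ w)) =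
      (theta W n i m hm z).v q r h w - (theta W n i m hm z').v q r h w
    rw [smul_sub, theta_v, theta_v])

theorem theta_zero (i m : ℤ) (hm : n + m = i) : theta W n i m hm 0 = 0 :=
  Cochain.ext _ _ fun q r h => ModuleCat.hom_ext (LinearMap.ext fun w => by
    rw [theta_v]
    exact smul_zero _)

theorem delta_thetaInv (i j m m' : ℤ) (hij : i + 1 = j) (hmm : m + 1 = m') (hm : n + m = i) (y : Cochain W W m) :
    theta W n j m' (by omega) (δ i j (thetaInv W n i m hm y)) = δ m m' y := by
  subst hij hmm
  rw [← delta_theta W n i m hm, theta_thetaInv]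

variable [W.IsKInjective] {ω : Dual.D A}

theorem quasiIso_bidual_pt (e : DerivedCategory.Q.obj W ≅ ω) (hω : Dual.IsDualizing A ω) :
    QuasiIso (bidual W (ptCx n)) := by
  refine quasiIso_of_cycles _ (fun i x hx h => ?_) fun i y hy => ?_
  · by_cases hi : i = n
    · subst hi
      obtain ⟨a, rfl⟩ := ptX_eq i x
      obtain ⟨y, hy⟩ := h
      have h1 : δ (-1) 0 (theta W i (i - 1) (-1) (by omega) y) =
          ((i.negOnePow : ℤ) : A) • a • Cochain.ofHom (𝟙 W) := by
        rw [← theta_bidual W i a]
        have := delta_theta W i (i - 1) (-1) (by omega) y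
        refine this.trans ?_
        have h2 : ∀ j, (hj : j = i) → ∀ hm, theta W i j 0 hm (δ (i - 1) j y) =
            theta W i i 0 (add_zero i) (δ (i - 1) i y) := by rintro j rfl hm; rfl
        exact (h2 _ (by omega) _).trans (congrArg (theta W i i 0 (add_zero i)) hy)
      rw [smul_smul] at h1
      have h3 := Dlz27.eq_zero_of_scalar e hω h1.symm
      have ha : a = 0 := by
        have : ((i.negOnePow : ℤ) : A) * ((i.negOnePow : ℤ) : A) = 1 := by
          rw [← Int.cast_mul, ← Units.val_mul, Int.units_mul_self, Units.val_one, Int.cast_one]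
        calc a = ((i.negOnePow : ℤ) : A) * ((i.negOnePow : ℤ) : A) * a := by rw [this, one_mul]
          _ = 0 := by rw [mul_assoc, h3, mul_zero]
      exact ⟨0, by rw [ha, zero_smul, map_zero]⟩
    · haveI : Subsingleton ((ptCx (A := A) n).X i) :=
        ModuleCat.subsingleton_of_isZero (HomologicalComplex.isZero_single_obj_X (ComplexShape.up ℤ) n _ i hi)
      exact ⟨0, by rw [map_zero]; exact Subsingleton.elim _ _⟩
  · change δ i (i + 1) (coc y) = 0 at hy
    have hz : ∀ m, (hm : n + m = i) → δ m (m + 1) (theta W n i m hm (coc y)) = 0 := fun m hm => by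
      rw [delta_theta, hy, theta_zero]
    by_cases hi : i = n
    · subst hi
      obtain ⟨a, w, hw⟩ := Dlz27.exists_scalar_of_cocycle e hω _ (hz 0 (add_zero i))
      refine ⟨(((i.negOnePow : ℤ) : A) * a) • ptOne i, by rw [HomologicalComplex.single_obj_d]; rfl,
        thetaInv W i (i - 1) (-1) (by omega) (-w), theta_injective W i i 0 (add_zero i) ?_⟩
      change theta W i i 0 (add_zero i) (δ (i - 1) i (thetaInv W i (i - 1) (-1) (by omega) (-w))) =
        theta W i i 0 (add_zero i) (coc ((bidual W (ptCx i)).f i _) - coc y)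
      rw [delta_thetaInv W i (i - 1) i (-1) 0 (by omega) (by omega), theta_sub]
      change _ = theta W i i 0 (add_zero i) ((bidual W (ptCx i)).f i _) - _
      rw [theta_bidual, hw, δ_neg, smul_smul, ← mul_assoc, ← Int.cast_mul, ← Units.val_mul, Int.units_mul_self,
        Units.val_one, Int.cast_one, one_mul]
      abel
    · obtain ⟨w, hw⟩ := Dlz27.exists_delta_of_cocycle e hω (n := i - n) (by omega) _ (hz (i - n) (by omega))
      refine ⟨0, map_zero _, thetaInv W n (i - 1) (i - n - 1) (by omega) (-w),
        theta_injective W n i (i - n) (by omega) ?_⟩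
      rw [map_zero]
      change theta W n i (i - n) _ (δ (i - 1) i (thetaInv W n (i - 1) (i - n - 1) (by omega) (-w))) =
        theta W n i (i - n) _ (0 - coc y)
      rw [delta_thetaInv W n (i - 1) i (i - n - 1) (i - n) (by omega) (by omega), theta_sub, theta_zero, δ_neg, hw,
        zero_sub]

end Single

section Main

variable [W.IsKInjective] {ω : Dual.D A} (e : DerivedCategory.Q.obj W ≅ ω) (hω : Dual.IsDualizing A ω)
  (hW : ∀ i, Injective (W.X i))

include e hω hW

theorem quasiIso_bidual_pi (n : ℤ) (k : ℕ) : QuasiIso (bidual W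
    ((HomologicalComplex.single (ModuleCat.{u} A) (ComplexShape.up ℤ) n).obj (ModuleCat.of A (Fin k → A)))) := by
  induction k with
  | zero =>
    refine quasiIso_bidual_of_isZero W fun p => ?_
    by_cases hp : p = n
    · subst hp
      exact (ModuleCat.isZero_of_subsingleton (ModuleCat.of A (Fin 0 → A))).of_iso
        (HomologicalComplex.singleObjXSelf (ComplexShape.up ℤ) p _)
    · exact HomologicalComplex.isZero_single_obj_X (ComplexShape.up ℤ) n _ p hp
  | succ k ih =>
    let f : ModuleCat.of A (Fin k → A) ⟶ ModuleCat.of A (Fin (k + 1) → A) :=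
      ModuleCat.ofHom
        { toFun := fun v => Fin.cons 0 v
          map_add' := fun v v' => by ext i; refine Fin.cases ?_ (fun j => ?_) i <;> simp
          map_smul' := fun r v => by ext i; refine Fin.cases ?_ (fun j => ?_) i <;> simp }
    let g : ModuleCat.of A (Fin (k + 1) → A) ⟶ ModuleCat.of A A :=
      ModuleCat.ofHom (LinearMap.proj (R := A) (φ := fun _ : Fin (k + 1) => A) 0)
    let T : ShortComplex (ModuleCat.{u} A) := ShortComplex.mk f g (ModuleCat.hom_ext (LinearMap.ext fun v => by
      show (Fin.cons 0 v : Fin (k + 1) → A) 0 = 0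
      simp))
    have hT : T.ShortExact := by
      refine ModuleCat.shortComplex_shortExact T (fun v => ⟨fun hv => ⟨Fin.tail v, ?_⟩, ?_⟩) ?_ fun a => ⟨Fin.cons a 0, ?_⟩
      · change (v : Fin (k + 1) → A) 0 = 0 at hv
        change Fin.cons 0 (Fin.tail v) = v
        rw [← hv]
        exact Fin.cons_self_tail v
      · rintro ⟨v', rfl⟩
        change (Fin.cons 0 (v' : Fin k → A) : Fin (k + 1) → A) 0 = 0
        simp
      · intro v v' h
        change (Fin.cons (0 : A) (v : Fin k → A) : Fin (k + 1) → A) = Fin.cons 0 (v' : Fin k → A) at h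
        exact Fin.cons_right_injective _ h
      · change (Fin.cons a 0 : Fin (k + 1) → A) 0 = a
        simp
    exact quasiIso_bidual_middle W hW (S := T.map (HomologicalComplex.single (ModuleCat.{u} A) (ComplexShape.up ℤ) n))
      (hT.map_of_exact _) ih (quasiIso_bidual_pt W n e hω)

theorem quasiIso_bidual_bounded (k : ℕ) : ∀ (a : ℤ) (K : DRing.Cx A) [K.IsStrictlyGE a] [K.IsStrictlyLE (a + k)],
    DRing.TermwiseFiniteFree K → QuasiIso (bidual W K) := by
  induction k with
  | zero =>
    intro a K _ h2 hK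
    haveI : K.IsStrictlyLE a := by simpa using h2
    obtain ⟨Y, ⟨eY⟩⟩ := CochainComplex.exists_iso_single K a
    haveI := (hK a).1
    haveI := (hK a).2
    let B := _root_.Module.Free.chooseBasis A (K.X a)
    let r := Fintype.card (_root_.Module.Free.ChooseBasisIndex A (K.X a))
    let eX : ModuleCat.of A (Fin r → A) ≅ K.X a :=
      ((B.reindex (Fintype.equivFin _)).equivFun.symm).toModuleIso
    let eY' : Y ≅ K.X a := (HomologicalComplex.singleObjXSelf (ComplexShape.up ℤ) a Y).symm ≪≫
      ((HomologicalComplex.eval _ _ a).mapIso eY).symm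
    let f : (HomologicalComplex.single (ModuleCat.{u} A) (ComplexShape.up ℤ) a).obj (ModuleCat.of A (Fin r → A)) ⟶ K :=
      (((HomologicalComplex.single _ _ a).mapIso (eX ≪≫ eY'.symm)) ≪≫ eY.symm).hom
    exact quasiIso_bidual_of_iso W f (quasiIso_bidual_pi W e hω hW a r)
  | succ k ih =>
    intro a K _ _ hK
    have hfree := fun i => DMod.sigmaGE_mem DMod.modClass_finiteFree hK (a + 1) i
    haveI : (DMod.sigmaGE K (a + 1)).IsStrictlyLE (a + 1 + k) := by
      refine (CochainComplex.isStrictlyLE_iff _ _).2 fun i hi => ?_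
      haveI := ModuleCat.subsingleton_of_isZero (K.isZero_of_isStrictlyLE (a + (k + 1 : ℕ)) i (by omega))
      exact (DMod.isZero_iff_subsingleton _).2 (DMod.sigmaGEXEquiv K (a + 1) i (by omega)).toEquiv.subsingleton
    haveI : (DMod.sigmaLT K (a + 1)).IsStrictlyLE (a + (0 : ℕ)) :=
      DMod.isStrictlyLE_sigmaLT K (a + 1) _ (by omega)
    haveI : (DMod.sigmaLT K (a + 1)).IsStrictlyGE a := by
      refine (CochainComplex.isStrictlyGE_iff _ _).2 fun i hi => ?_
      haveI := ModuleCat.subsingleton_of_isZero (K.isZero_of_isStrictlyGE a i hi)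
      exact (DMod.isZero_iff_subsingleton _).2 (DMod.sigmaLTXEquiv K (a + 1) i (by omega)).toEquiv.subsingleton
    refine quasiIso_bidual_middle W hW (shortExact_sesCx K _ (DMod.geSub_stable K (a + 1)))
      (ih (a + 1) (DMod.sigmaGE K (a + 1)) hfree) ?_
    have hlt := fun i => DMod.sigmaLT_mem DMod.modClass_finiteFree hK (a + 1) i
    have h0 : QuasiIso (bidual W (DMod.sigmaLT K (a + 1))) := by
      haveI : (DMod.sigmaLT K (a + 1)).IsStrictlyLE a := DMod.isStrictlyLE_sigmaLT K (a + 1) _ rfl
      obtain ⟨Y, ⟨eY⟩⟩ := CochainComplex.exists_iso_single (DMod.sigmaLT K (a + 1)) a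
      haveI := (hlt a).1
      haveI := (hlt a).2
      let B := _root_.Module.Free.chooseBasis A ((DMod.sigmaLT K (a + 1)).X a)
      let r := Fintype.card (_root_.Module.Free.ChooseBasisIndex A ((DMod.sigmaLT K (a + 1)).X a))
      let eX : ModuleCat.of A (Fin r → A) ≅ (DMod.sigmaLT K (a + 1)).X a :=
        ((B.reindex (Fintype.equivFin _)).equivFun.symm).toModuleIso
      let eY' : Y ≅ (DMod.sigmaLT K (a + 1)).X a := (HomologicalComplex.singleObjXSelf (ComplexShape.up ℤ) a Y).symm ≪≫
        ((HomologicalComplex.eval _ _ a).mapIso eY).symm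
      exact quasiIso_bidual_of_iso W (((HomologicalComplex.single _ _ a).mapIso (eX ≪≫ eY'.symm)) ≪≫ eY.symm).hom
        (quasiIso_bidual_pi W e hω hW a r)
    exact h0

variable (lo hi : ℤ) [W.IsStrictlyGE lo] [W.IsStrictlyLE hi]

omit e hω hW in
theorem exactAt_F_of_isLE (K : DRing.Cx A) (m : ℤ) [K.IsLE m] (i : ℤ) (h : hi - lo + m < i) :
    ((F W).obj K).ExactAt i := by
  haveI := isGE_hom W K m lo
  haveI := isLE_hom W (DRing.homCx K W) (lo - m) hi
  exact CochainComplex.exactAt_of_isLE (DRing.homCx (DRing.homCx K W) W) (hi - (lo - m)) i (by omega)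

omit e hω hW in
theorem exactAt_F_of_isGE (K : DRing.Cx A) (c : ℤ) [K.IsGE c] (i : ℤ) (h : i < lo - hi + c) :
    ((F W).obj K).ExactAt i := by
  haveI := isLE_hom W K c hi
  haveI := isGE_hom W (DRing.homCx K W) (hi - c) lo
  exact CochainComplex.exactAt_of_isGE (DRing.homCx (DRing.homCx K W) W) (lo - (hi - c)) i (by omega)

include lo hi in
theorem quasiIso_bidual_free (K : DRing.Cx A) (b : ℤ) [K.IsStrictlyLE b] (hK : DRing.TermwiseFiniteFree K) :
    QuasiIso (bidual W K) := by
  rw [quasiIso_iff]
  intro i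
  rw [quasiIsoAt_iff_isIso_homologyMap]
  obtain ⟨m, hm1, hm2, hm3⟩ : ∃ m : ℤ, m ≤ b ∧ m ≤ i - 2 ∧ m + (hi - lo) ≤ i - 2 :=
    ⟨min b (min (i - 2) (i - 2 - (hi - lo))), by omega, by omega, by omega⟩
  haveI : (DMod.sigmaGE K m).IsStrictlyLE (m + (b - m).toNat) := by
    refine (CochainComplex.isStrictlyLE_iff _ _).2 fun j hj => ?_
    haveI := ModuleCat.subsingleton_of_isZero (K.isZero_of_isStrictlyLE b j (by omega))
    exact (DMod.isZero_iff_subsingleton _).2 (DMod.sigmaGEXEquiv K m j (by omega)).toEquiv.subsingleton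
  haveI := quasiIso_bidual_bounded W e hω hW (b - m).toNat m (DMod.sigmaGE K m)
    (fun i => DMod.sigmaGE_mem DMod.modClass_finiteFree hK m i)
  haveI := DMod.isStrictlyLE_sigmaLT K m (m - 1) (by omega)
  refine isIso_bidual_left W hW (shortExact_sesCx K _ (DMod.geSub_stable K m)) i
    (inferInstanceAs (IsIso (HomologicalComplex.homologyMap (bidual W (DMod.sigmaGE K m)) i))) fun j hj => ⟨?_, ?_⟩
  · exact CochainComplex.exactAt_of_isLE (DMod.sigmaLT K m) (m - 1) j (by omega)
  · exact exactAt_F_of_isLE W lo hi (DMod.sigmaLT K m) (m - 1) j (by omega)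

include lo hi in
theorem quasiIso_bidual_le [IsNoetherianRing A] (K : DRing.Cx A) (b : ℤ) [K.IsStrictlyLE b]
    (hK : ∀ i, _root_.Module.Finite A (K.homology i)) : QuasiIso (bidual W K) := by
  have hpc : DRing.IsPseudoCoherent' A (DRing.toD K) := (DMod.pc'_iff _).2 fun m =>
    DMod.pc_of_homology (b := b) fun i _ => by
      haveI : _root_.Module.Finite A
        ((HomologicalComplex.homologyFunctor (ModuleCat.{u} A) (ComplexShape.up ℤ) i).obj K) := hK i
      haveI : _root_.Module.Finite A (Dual.HD A (DRing.toD K) i) :=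
        _root_.Module.Finite.equiv ((DerivedCategory.homologyFunctorFactors _ i).app K).symm.toLinearEquiv
      exact DMod.pcModule_of_noetherian _ _
  obtain ⟨E, b', hb', hE, ⟨eE⟩⟩ := hpc
  haveI := (DMod.vanishesAbove_iff E b').1 hb'
  haveI : E.IsKProjective := DMod.isKProjective b' fun i => by
    haveI := (hE i).2
    infer_instance
  obtain ⟨g, hg⟩ := DMod.exists_map_eq eE.hom
  haveI : QuasiIso g := by
    rw [← DerivedCategory.isIso_Q_map_iff_quasiIso, hg]
    infer_instance
  exact quasiIso_bidual_of_iso W g (quasiIso_bidual_free W e hω hW lo hi E b' hE)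

include lo hi in
/-- Biduality for finite cohomology. -/
theorem quasiIso_bidual [IsNoetherianRing A] (K : DRing.Cx A) (hK : ∀ i, _root_.Module.Finite A (K.homology i)) :
    QuasiIso (bidual W K) := by
  rw [quasiIso_iff]
  intro i
  rw [quasiIsoAt_iff_isIso_homologyMap]
  obtain ⟨m, hm1, hm2⟩ : ∃ m : ℤ, i + 1 ≤ m ∧ i + (hi - lo) + 1 ≤ m :=
    ⟨max (i + 1) (i + (hi - lo) + 1), by omega, by omega⟩
  let S : ∀ j, Submodule A (K.X j) := fun j =>
    if j < m then ⊤ else if j = m then LinearMap.ker (K.d j (j + 1)).hom else ⊥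
  have hS : ∀ j, ∀ x ∈ S j, K.d j (j + 1) x ∈ S (j + 1) := by
    intro j x hx
    by_cases h1 : j + 1 < m
    · simp [S, h1]
    by_cases h2 : j + 1 = m
    · subst h2
      simp only [S, lt_irrefl, if_false, if_true, LinearMap.mem_ker]
      exact congrArg (fun f : K.X j ⟶ K.X (j + 1 + 1) => f x) (K.d_comp_d j (j + 1) (j + 1 + 1))
    · by_cases h3 : j = m
      · simp only [S, h3, lt_irrefl, if_false, if_true, LinearMap.mem_ker] at hx
        subst h3
        simp [S, hx]
      · simp only [S, show ¬ j < m by omega, h3, if_false, Submodule.mem_bot] at hx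
        rw [hx, map_zero]
        exact zero_mem _
  haveI : (DMod.subCx K S hS).IsStrictlyLE m := by
    refine (CochainComplex.isStrictlyLE_iff _ _).2 fun j hj => (DMod.isZero_iff_subsingleton _).2 ?_
    change Subsingleton (S j)
    rw [show S j = ⊥ by simp [S, show ¬ j < m by omega, show j ≠ m by omega]]
    infer_instance
  have hC : ∀ j, j ≤ m → (DMod.quotCx K S hS).ExactAt j := fun j hj => by
    by_cases h1 : j < m
    · rw [HomologicalComplex.exactAt_iff_isZero_homology]
      refine (HomologicalComplex.exactAt_iff_isZero_homology _ _).1 (ShortComplex.exact_of_isZero_X₂ _ ?_)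
      haveI : Subsingleton (K.X j ⧸ S j) := by
        rw [Submodule.Quotient.subsingleton_iff]; simp [S, h1]
      exact (DMod.isZero_iff_subsingleton _).2 ‹_›
    · obtain rfl : j = m := by omega
      rw [HomologicalComplex.exactAt_iff' _ (j - 1) j (j + 1) (by simp) (by simp), ShortComplex.moduleCat_exact_iff]
      intro x hx
      obtain ⟨y, rfl⟩ := Submodule.Quotient.mk_surjective (S j) x
      refine ⟨0, (map_zero _).trans ((Submodule.Quotient.mk_eq_zero (S j)).2 ?_).symm⟩
      simp only [S, lt_irrefl, if_false, if_true, LinearMap.mem_ker]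
      simp [DMod.quotCx] at hx
      erw [Submodule.mapQ_apply, Submodule.Quotient.mk_eq_zero] at hx
      simpa [S] using hx
  haveI : (DMod.quotCx K S hS).IsGE (m + 1) := (CochainComplex.isGE_iff _ _).2 fun j hj => hC j (by omega)
  have hses := shortExact_sesCx K S hS
  haveI : QuasiIso (bidual W (sesCx K S hS).X₁) := by
    refine quasiIso_bidual_le W e hω hW lo hi (DMod.subCx K S hS) m fun j => ?_
    by_cases hj : j ≤ m
    · have e1 := (HomologicalComplex.exactAt_iff_isZero_homology _ _).1 (hC (j - 1) (by omega))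
      have e2 := (HomologicalComplex.exactAt_iff_isZero_homology _ _).1 (hC j hj)
      haveI : Epi (HomologicalComplex.homologyMap (sesCx K S hS).f j) :=
        (hses.homology_exact₂ j).epi_f (e2.eq_of_tgt _ _)
      haveI : Mono (HomologicalComplex.homologyMap (sesCx K S hS).f j) :=
        (hses.homology_exact₁ (j - 1) j (sub_add_cancel j 1)).mono_g (e1.eq_of_src _ _)
      haveI := isIso_of_mono_of_epi (HomologicalComplex.homologyMap (sesCx K S hS).f j)
      haveI := hK j
      haveI : _root_.Module.Finite A ((sesCx K S hS).X₂.homology j) := hK j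
      exact _root_.Module.Finite.equiv
        (asIso (HomologicalComplex.homologyMap (sesCx K S hS).f j)).symm.toLinearEquiv
    · haveI := ModuleCat.subsingleton_of_isZero
        ((HomologicalComplex.exactAt_iff_isZero_homology _ _).1
          (CochainComplex.exactAt_of_isLE (DMod.subCx K S hS) m j (by omega)))
      infer_instance
  refine isIso_bidual_left W hW hses i inferInstance fun j hj => ⟨hC j (by omega), ?_⟩
  exact exactAt_F_of_isGE W lo hi (DMod.quotCx K S hS) (m + 1) j (by omega)

end Main

end Groth.Agent.BC8.HomDual
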