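import Groth.Agent.Lib.Dlz27.Rep
import Groth.Agent.Lib.DMod.Basic
import Groth.Agent.Lib.KFlat.HomAdj
import Mathlib.Algebra.Homology.HomotopyCategory.HomComplexCohomology
import Mathlib.Algebra.Homology.HomologySequenceLemmas

/-! The contravariant Hom complex into a K-injective complex. -/

set_option autoImplicit false
set_option linter.style.haveILetI false
set_option linter.unusedSectionVars false
set_option backward.isDefEq.respectTransparency false
set_option backward.isDefEq.respectTransparency.types false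
set_option maxHeartbeats 1000000

universe u

open CategoryTheory CategoryTheory.Limits CochainComplex CochainComplex.HomComplex

attribute [local instance] HasDerivedCategory.standard

noncomputable section

namespace Groth.Agent.BC8.HomDual

open KFlat.HomAdj (coc)

variable {A : Type u} [CommRing A]

/-- Quasi-isomorphisms of complexes of modules, on cycles. -/
theorem quasiIso_of_cycles {P Q : DRing.Cx A} (g : P ⟶ Q)
    (hinj : ∀ (i : ℤ) (x : P.X i), P.d i (i + 1) x = 0 → (∃ y, Q.d (i - 1) i y = g.f i x) →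
      ∃ y, P.d (i - 1) i y = x)
    (hsurj : ∀ (i : ℤ) (y : Q.X i), Q.d i (i + 1) y = 0 →
      ∃ x, P.d i (i + 1) x = 0 ∧ ∃ w, Q.d (i - 1) i w = g.f i x - y) : QuasiIso g := by
  rw [quasiIso_iff]
  intro i
  rw [quasiIsoAt_iff_isIso_homologyMap]
  refine (ConcreteCategory.isIso_iff_bijective _).2 ⟨?_, ?_⟩
  · refine (injective_iff_map_eq_zero _).2 fun x hx => ?_
    obtain ⟨z, rfl⟩ := DMod.homologyπ_surjective P i x
    have h1 : Q.homologyπ i (HomologicalComplex.cyclesMap g i z) = 0 :=
      (DMod.homologyMap_π g i z).symm.trans hx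
    obtain ⟨y, hy⟩ := (DMod.homologyπ_eq_zero_iff (i := i - 1) (by simp) _).1 h1
    obtain ⟨y', hy'⟩ := hinj i (P.iCycles i z) (DMod.d_iCycles i (i + 1) z)
      ⟨y, hy.trans (DMod.iCycles_cyclesMap g i z)⟩
    exact (DMod.homologyπ_eq_zero_iff (i := i - 1) (by simp) _).2 ⟨y', hy'⟩
  · intro y
    obtain ⟨z, rfl⟩ := DMod.homologyπ_surjective Q i y
    obtain ⟨x, hx, w, hw⟩ := hsurj i (Q.iCycles i z) (DMod.d_iCycles i (i + 1) z)
    obtain ⟨z', hz'⟩ := DMod.exists_cycle (K := P) (k := i + 1) (by simp) x hx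
    refine ⟨P.homologyπ i z', sub_eq_zero.1 ?_⟩
    rw [DMod.homologyMap_π, ← map_sub]
    refine (DMod.homologyπ_eq_zero_iff (i := i - 1) (by simp) _).2 ⟨w, ?_⟩
    rw [hw, map_sub, DMod.iCycles_cyclesMap, hz']

/-- A subcomplex and its quotient. -/
def sesCx (K : DRing.Cx A) (S : ∀ i, Submodule A (K.X i))
    (hS : ∀ i, ∀ x ∈ S i, K.d i (i + 1) x ∈ S (i + 1)) : ShortComplex (DRing.Cx A) :=
  ShortComplex.mk (DMod.subι K S hS) (DMod.quotπ K S hS) (HomologicalComplex.hom_ext _ _ fun i =>
    ModuleCat.hom_ext (LinearMap.ext fun x => (Submodule.Quotient.mk_eq_zero (S i)).2 x.2))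

theorem shortExact_sesCx (K : DRing.Cx A) (S : ∀ i, Submodule A (K.X i))
    (hS : ∀ i, ∀ x ∈ S i, K.d i (i + 1) x ∈ S (i + 1)) : (sesCx K S hS).ShortExact := by
  refine HomologicalComplex.shortExact_of_degreewise_shortExact (sesCx K S hS) fun i => ?_
  exact ModuleCat.shortComplex_shortExact _ (LinearMap.exact_subtype_mkQ (S i))
    Subtype.coe_injective (Submodule.mkQ_surjective _)

variable (W : DRing.Cx A)

/-- Precomposition on cochains. -/
def preLin {K K' : DRing.Cx A} (f : K ⟶ K') (i : ℤ) : Cochain K' W i →ₗ[A] Cochain K W i where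
  toFun z := (Cochain.ofHom f).comp z (zero_add i)
  map_add' z z' := by simp
  map_smul' a z := by simp

/-- `Hom•(-, W)` on morphisms. -/
def pre {K K' : DRing.Cx A} (f : K ⟶ K') : DRing.homCx K' W ⟶ DRing.homCx K W where
  f i := ModuleCat.ofHom (preLin W f i)
  comm' i j _ := by
    ext z
    change δ i j ((Cochain.ofHom f).comp z (zero_add i)) = (Cochain.ofHom f).comp (δ i j z) (zero_add j)
    exact δ_ofHom_comp f z j

theorem pre_v {K K' : DRing.Cx A} (f : K ⟶ K') (n : ℤ) (z : (DRing.homCx K' W).X n) (p q : ℤ) (h : p + n = q)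
    (x : K.X p) : (coc ((pre W f).f n z)).v p q h x = (coc z).v p q h (f.f p x) := by
  change ((Cochain.ofHom f).comp (coc z) (zero_add n)).v p q h x = _
  rw [Cochain.zero_cochain_comp_v, Cochain.ofHom_v]
  rfl

/-- Cochains of a Hom complex are determined by their values. -/
theorem hom_ext' {K : DRing.Cx A} {n : ℤ} {z z' : (DRing.homCx K W).X n}
    (h : ∀ (p q : ℤ) (hpq : p + n = q) (x : K.X p), (coc z).v p q hpq x = (coc z').v p q hpq x) : z = z' :=
  Cochain.ext _ _ fun p q hpq => ModuleCat.hom_ext (LinearMap.ext fun x => h p q hpq x)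

/-- `Hom•(Hom•(-, W), W)`. -/
def F : DRing.Cx A ⥤ DRing.Cx A where
  obj K := DRing.homCx (DRing.homCx K W) W
  map f := pre W (pre W f)
  map_id K := HomologicalComplex.hom_ext _ _ fun i => ModuleCat.hom_ext (LinearMap.ext fun z =>
    hom_ext' W fun p q h x => by
      refine (pre_v W _ i z p q h x).trans ?_
      refine congrArg (fun y => (coc z).v p q h y) (hom_ext' W fun p' q' h' x' => ?_)
      exact pre_v W _ p x p' q' h' x')
  map_comp {K K' K''} f g := HomologicalComplex.hom_ext _ _ fun i => ModuleCat.hom_ext (LinearMap.ext fun z =>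
    hom_ext' W fun p q h x => by
      refine (pre_v W _ i z p q h x).trans ?_
      refine Eq.trans ?_ (pre_v W _ i _ p q h x).symm
      refine Eq.trans ?_ (pre_v W _ i z p q h _).symm
      refine congrArg (fun y => (coc z).v p q h y) (hom_ext' W fun p' q' h' x' => ?_)
      refine (pre_v W _ p x p' q' h' x').trans ?_
      refine Eq.trans ?_ (pre_v W _ p _ p' q' h' x').symm
      exact (pre_v W _ p x p' q' h' _).symm)

/-- The biduality map on elements. -/
def bidualLin (K : DRing.Cx A) (i : ℤ) : K.X i →ₗ[A] Cochain (DRing.homCx K W) W i where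
  toFun x := Cochain.mk fun p q h => ModuleCat.ofHom
    { toFun := fun z => (i * p).negOnePow • (coc z).v i q (by omega) x
      map_add' := fun z z' => smul_add _ _ _
      map_smul' := fun r z => smul_comm _ r _ }
  map_add' x x' := by
    ext p q h z
    change (i * p).negOnePow • ((coc z).v i q _).hom (x + x') = _
    rw [map_add, smul_add]
    rfl
  map_smul' r x := by
    ext p q h z
    change (i * p).negOnePow • ((coc z).v i q _).hom (r • x) = _
    rw [map_smul, smul_comm]
    rfl

/-- The biduality map. -/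
def bidual (K : DRing.Cx A) : K ⟶ (F W).obj K where
  f i := ModuleCat.ofHom (bidualLin W K i)
  comm' := by
    rintro i i' (rfl : i + 1 = i')
    ext x
    change δ i (i + 1) (bidualLin W K i x) = bidualLin W K (i + 1) (K.d i (i + 1) x)
    ext p q h z
    rw [δ_v i (i + 1) rfl _ p q h (q - 1) (p + 1) rfl rfl]
    change W.d (q - 1) q ((i * p).negOnePow • (coc z).v i (q - 1) (by omega) x) +
      (i + 1).negOnePow • ((i * (p + 1)).negOnePow • (δ p (p + 1) (coc z)).v i q (by omega) x) =
        ((i + 1) * p).negOnePow • (coc z).v (i + 1) q (by omega) (K.d i (i + 1) x)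
    rw [δ_v p (p + 1) rfl (coc z) i q (by omega) (q - 1) (i + 1) (by omega) rfl]
    change W.d (q - 1) q ((i * p).negOnePow • (coc z).v i (q - 1) (by omega) x) +
      (i + 1).negOnePow • ((i * (p + 1)).negOnePow • (W.d (q - 1) q ((coc z).v i (q - 1) (by omega) x) +
        (p + 1).negOnePow • (coc z).v (i + 1) q (by omega) (K.d i (i + 1) x))) = _
    rw [Units.smul_def, map_zsmul, ← Units.smul_def, smul_add, smul_add, smul_smul, smul_smul, smul_smul, ← add_assoc,
      ← Int.negOnePow_add, ← Int.negOnePow_add,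
      show (i + 1) + i * (p + 1) = i * p + 1 + (i + i) by ring, Int.negOnePow_add (i * p + 1) (i + i),
      Int.negOnePow_even (i + i) (by simp), mul_one, Int.negOnePow_succ, Units.neg_smul, add_neg_cancel, zero_add]
    congr 1
    rw [Int.negOnePow_eq_iff, Int.even_iff]
    ring_nf
    omega

theorem bidual_v (K : DRing.Cx A) (i : ℤ) (x : K.X i) (p q : ℤ) (h : p + i = q) (z : (DRing.homCx K W).X p) :
    (coc ((bidual W K).f i x)).v p q h z = (i * p).negOnePow • (coc z).v i q (by omega) x := rfl

theorem bidual_natural {K K' : DRing.Cx A} (f : K ⟶ K') : f ≫ bidual W K' = bidual W K ≫ (F W).map f :=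
  HomologicalComplex.hom_ext _ _ fun i => ModuleCat.hom_ext (LinearMap.ext fun x =>
    hom_ext' W fun p q h z => by
      refine (bidual_v W K' i (f.f i x) p q h z).trans ?_
      refine Eq.trans ?_ (pre_v W (pre W f) i _ p q h z).symm
      refine Eq.trans ?_ (bidual_v W K i x p q h _).symm
      exact congrArg ((i * p).negOnePow • ·) (pre_v W f p z i q (by omega) x).symm)

variable [W.IsKInjective]

theorem quasiIso_pre {K K' : DRing.Cx A} (f : K ⟶ K') [QuasiIso f] : QuasiIso (pre W f) := by
  let Qq := HomotopyCategory.quotient (ModuleCat.{u} A) (ComplexShape.up ℤ)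
  haveI : IsIso (DerivedCategory.Q.map f) := inferInstance
  have hbij : ∀ n : ℤ, Function.Bijective fun g : Qq.obj K' ⟶ Qq.obj (W⟦n⟧) => Qq.map f ≫ g := fun n => by
    haveI : (W⟦n⟧).IsKInjective := inferInstance
    haveI : IsIso (DerivedCategory.Qh.map (Qq.map f)) :=
      (NatIso.isIso_map_iff (DerivedCategory.quotientCompQhIso (ModuleCat.{u} A)) f).2 inferInstance
    refine (Function.Bijective.of_comp_iff'
      (CochainComplex.IsKInjective.Qh_map_bijective (Qq.obj K) (W⟦n⟧)) _).1 ?_
    have : (DerivedCategory.Qh.map ∘ fun g : Qq.obj K' ⟶ Qq.obj (W⟦n⟧) => Qq.map f ≫ g) =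
        (asIso (DerivedCategory.Qh.map (Qq.map f))).symm.homFromEquiv ∘ DerivedCategory.Qh.map := by
      funext g
      simp [Iso.homFromEquiv_apply]
    rw [this]
    exact (Equiv.bijective _).comp (CochainComplex.IsKInjective.Qh_map_bijective _ _)
  have key : ∀ (n : ℤ) (c : Cocycle K' W n), CohomologyClass.toHom (CohomologyClass.mk (c.precomp f)) =
      Qq.map f ≫ CohomologyClass.toHom (CohomologyClass.mk c) := fun n c => by
    rw [CohomologyClass.toHom_mk, CohomologyClass.toHom_mk, Cocycle.equivHomShift_symm_precomp, Functor.map_comp]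
  refine quasiIso_of_cycles _ (fun i x hx h => ?_) fun i y hy => ?_
  · let c : Cocycle K' W i := Cocycle.mk x (i + 1) rfl hx
    obtain ⟨y, hy⟩ := h
    have h0 : CohomologyClass.toHom (CohomologyClass.mk (c.precomp f)) = 0 :=
      (CohomologyClass.toHom_mk_eq_zero_iff _).2 ((mem_coboundaries_iff _ (i - 1) (by omega)).2 ⟨y, hy⟩)
    rw [key] at h0
    have h1 : CohomologyClass.toHom (CohomologyClass.mk c) = 0 :=
      (hbij i).1 (h0.trans (comp_zero).symm)
    exact (mem_coboundaries_iff c (i - 1) (by omega)).1 ((CohomologyClass.toHom_mk_eq_zero_iff c).1 h1)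
  · let c' : Cocycle K W i := Cocycle.mk y (i + 1) rfl hy
    obtain ⟨g, hg⟩ := (hbij i).2 (CohomologyClass.toHom (CohomologyClass.mk c'))
    obtain ⟨cl, rfl⟩ := (CohomologyClass.toHom_bijective _ _ _).2 g
    obtain ⟨c, rfl⟩ := cl.mk_surjective
    refine ⟨c.1, c.δ_eq_zero (i + 1), ?_⟩
    have h2 : CohomologyClass.toHom (CohomologyClass.mk (c.precomp f - c')) = 0 := by
      rw [CohomologyClass.mk_sub, map_sub, key]
      exact sub_eq_zero.2 hg
    exact (mem_coboundaries_iff _ (i - 1) (by omega)).1 ((CohomologyClass.toHom_mk_eq_zero_iff _).1 h2)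

instance quasiIso_F {K K' : DRing.Cx A} (f : K ⟶ K') [QuasiIso f] : QuasiIso ((F W).map f) := by
  haveI := quasiIso_pre W f
  exact quasiIso_pre W (pre W f)

theorem shortExact_pre (hW : ∀ i, Injective (W.X i)) {S : ShortComplex (DRing.Cx A)} (hS : S.ShortExact) :
    ∃ h : pre W S.g ≫ pre W S.f = 0, (ShortComplex.mk (pre W S.g) (pre W S.f) h).ShortExact := by
  have hSp : ∀ p, (S.map (HomologicalComplex.eval _ _ p)).ShortExact := fun p =>
    hS.map_of_exact (HomologicalComplex.eval _ _ p)
  have h0 : pre W S.g ≫ pre W S.f = 0 := HomologicalComplex.hom_ext _ _ fun i =>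
    ModuleCat.hom_ext (LinearMap.ext fun z => hom_ext' W fun p q h x => by
      refine (pre_v W S.f i _ p q h x).trans ?_
      refine (pre_v W S.g i z p q h _).trans ?_
      have := congrArg (fun φ : S.X₁ ⟶ S.X₃ => φ.f p x) S.zero
      simp only [HomologicalComplex.comp_f, ModuleCat.comp_apply, HomologicalComplex.zero_f] at this
      rw [this]
      exact map_zero _)
  refine ⟨h0, HomologicalComplex.shortExact_of_degreewise_shortExact _ fun n =>
    ModuleCat.shortComplex_shortExact _ ?_ ?_ ?_⟩
  · intro z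
    refine ⟨fun hz => ?_, ?_⟩
    · have hv : ∀ p q (h : p + n = q), (S.f.f p) ≫ (coc z).v p q h = 0 := fun p q h =>
        ModuleCat.hom_ext (LinearMap.ext fun x => by
          have := congrArg (fun t => (coc t).v p q h x) hz
          exact (pre_v W S.f n z p q h x).symm.trans this)
      haveI := fun p => (hSp p).epi_g
      refine ⟨Cochain.mk fun p q h => (hSp p).exact.desc ((coc z).v p q h) (hv p q h), ?_⟩
      refine hom_ext' W fun p q h x => (pre_v W S.g n _ p q h x).trans ?_
      change ((hSp p).exact.desc ((coc z).v p q h) (hv p q h)) (S.g.f p x) = _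
      exact congrArg (fun φ : S.X₂.X p ⟶ W.X q => φ x) ((hSp p).exact.g_desc _ (hv p q h))
    · rintro ⟨w, rfl⟩
      exact congrArg (fun φ : DRing.homCx S.X₃ W ⟶ DRing.homCx S.X₁ W => φ.f n w) h0
  · intro z z' hz
    haveI := fun p => (hSp p).epi_g
    refine hom_ext' W fun p q h x => ?_
    obtain ⟨y, rfl⟩ := (ModuleCat.epi_iff_surjective (S.g.f p)).1 (hSp p).epi_g x
    have := congrArg (fun t => (coc t).v p q h y) hz
    exact (pre_v W S.g n z p q h y).symm.trans (this.trans (pre_v W S.g n z' p q h y))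
  · intro z
    haveI := fun p => (hSp p).mono_f
    haveI : ∀ p, Mono (S.f.f p) := fun p => (hSp p).mono_f
    haveI := hW
    refine ⟨Cochain.mk fun p q h => Injective.factorThru ((coc z).v p q h) (S.f.f p), ?_⟩
    refine hom_ext' W fun p q h x => (pre_v W S.f n _ p q h x).trans ?_
    exact congrArg (fun φ : S.X₁.X p ⟶ W.X q => φ x)
      (Injective.comp_factorThru ((coc z).v p q h) (S.f.f p))

theorem shortExact_F (hW : ∀ i, Injective (W.X i)) {S : ShortComplex (DRing.Cx A)} (hS : S.ShortExact) :
    ∃ h : (F W).map S.f ≫ (F W).map S.g = 0, (ShortComplex.mk _ _ h).ShortExact := by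
  obtain ⟨h, h'⟩ := shortExact_pre W hW hS
  exact shortExact_pre W hW h'

/-- Short exact sequences: biduality in two places gives it in the middle. -/
theorem quasiIso_bidual_middle (hW : ∀ i, Injective (W.X i)) {S : ShortComplex (DRing.Cx A)} (hS : S.ShortExact)
    (h₁ : QuasiIso (bidual W S.X₁)) (h₃ : QuasiIso (bidual W S.X₃)) : QuasiIso (bidual W S.X₂) := by
  obtain ⟨w, hFS⟩ := shortExact_F W hW hS
  let φ : S ⟶ ShortComplex.mk _ _ w :=
    { τ₁ := bidual W S.X₁
      τ₂ := bidual W S.X₂
      τ₃ := bidual W S.X₃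
      comm₁₂ := (bidual_natural W S.f).symm
      comm₂₃ := (bidual_natural W S.g).symm }
  rw [quasiIso_iff]
  intro i
  rw [quasiIsoAt_iff_isIso_homologyMap]
  have e1 : ∀ j, IsIso (HomologicalComplex.homologyMap φ.τ₁ j) := fun j =>
    inferInstanceAs (IsIso (HomologicalComplex.homologyMap (bidual W S.X₁) j))
  have e3 : ∀ j, IsIso (HomologicalComplex.homologyMap φ.τ₃ j) := fun j =>
    inferInstanceAs (IsIso (HomologicalComplex.homologyMap (bidual W S.X₃) j))
  let Φ := fun (j k : ℤ) (hjk : (ComplexShape.up ℤ).Rel j k) =>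
    HomologicalComplex.HomologySequence.mapComposableArrows₅ φ hS hFS j k hjk
  have hp : (ComplexShape.up ℤ).Rel (i - 1) i := by simp
  have hn : (ComplexShape.up ℤ).Rel i (i + 1) := by simp
  haveI : Mono (HomologicalComplex.homologyMap φ.τ₂ i) :=
    Abelian.mono_of_epi_of_mono_of_mono ((ComposableArrows.δ₀Functor ⋙ ComposableArrows.δ₀Functor).map (Φ _ _ hp))
      (HomologicalComplex.HomologySequence.composableArrows₅_exact hS _ _ hp).δ₀.δ₀
      (HomologicalComplex.HomologySequence.composableArrows₅_exact hFS _ _ hp).δ₀.δ₀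
      (by haveI := e3 (i - 1); exact (inferInstance : Epi (HomologicalComplex.homologyMap φ.τ₃ (i - 1))))
      (by haveI := e1 i; exact (inferInstance : Mono (HomologicalComplex.homologyMap φ.τ₁ i)))
      (by haveI := e3 i; exact (inferInstance : Mono (HomologicalComplex.homologyMap φ.τ₃ i)))
  haveI : Epi (HomologicalComplex.homologyMap φ.τ₂ i) :=
    Abelian.epi_of_epi_of_epi_of_mono ((ComposableArrows.δlastFunctor ⋙ ComposableArrows.δlastFunctor).map (Φ _ _ hn))
      (HomologicalComplex.HomologySequence.composableArrows₅_exact hS _ _ hn).δlast.δlast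
      (HomologicalComplex.HomologySequence.composableArrows₅_exact hFS _ _ hn).δlast.δlast
      (by haveI := e1 i; exact (inferInstance : Epi (HomologicalComplex.homologyMap φ.τ₁ i)))
      (by haveI := e3 i; exact (inferInstance : Epi (HomologicalComplex.homologyMap φ.τ₃ i)))
      (by haveI := e1 (i + 1); exact (inferInstance : Mono (HomologicalComplex.homologyMap φ.τ₁ (i + 1))))
  exact isIso_of_mono_of_epi (HomologicalComplex.homologyMap φ.τ₂ i)

end Groth.Agent.BC8.HomDual
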