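import Groth.Agent.Lib.RGamma27.FlatBC
import Groth.Agent.Lib.DQC.ExactAdj
import Groth.Agent.Lib.DlzFin27.Adj
import Groth.Agent.Lib.BC8.UpperD
import Mathlib.Algebra.Homology.DerivedCategory.ShortExact

/-! The right adjoint of restriction to a hyperplane section: `RHom_{P'}(P, L ⊗ P') ≅ L[-1]`. -/

set_option autoImplicit false
set_option linter.style.haveILetI false
set_option linter.unusedSectionVars false
set_option backward.isDefEq.respectTransparency false
set_option backward.isDefEq.respectTransparency.types false
set_option maxHeartbeats 800000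

universe u

open CategoryTheory CategoryTheory.Limits Pretriangulated TensorProduct

attribute [local instance] HasDerivedCategory.standard

noncomputable section

namespace Groth.Agent.BC8

section Right

variable {A B : Type u} [CommRing A] [CommRing B] (φ : A →+* B) {R : Dual.D A ⥤ Dual.D B}
  (adj : DRing.restrictD φ ⊣ R)

/-- `coextendScalars` on complexes. -/
abbrev coX (W : DRing.Cx A) : DRing.Cx B :=
  haveI : (ModuleCat.coextendScalars.{u, u, u} φ).Additive := DlzFin27.additive_coextend φ
  DQC.rightX (G := ModuleCat.coextendScalars.{u, u, u} φ) W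

include adj in
theorem nonempty_rightAdj_coX (W : DRing.Cx A) [W.IsKInjective] :
    Nonempty (R.obj (DerivedCategory.Q.obj W) ≅ DerivedCategory.Q.obj (coX φ W)) := by
  haveI : (ModuleCat.coextendScalars.{u, u, u} φ).Additive := DlzFin27.additive_coextend φ
  let F := ModuleCat.restrictScalars.{u} φ
  let a := ModuleCat.restrictCoextendScalarsAdj.{u} φ
  let ε := DQC.epsD F a W
  let v : DerivedCategory.Q.obj (coX φ W) ⟶ R.obj (DerivedCategory.Q.obj W) := adj.homEquiv _ _ ε
  haveI : IsIso v := DlzFin27.isIso_of_postcomp v fun N => by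
    have : (fun f : N ⟶ DerivedCategory.Q.obj (coX φ W) => f ≫ v) =
        (adj.homEquiv N _) ∘ fun f => F.mapDerivedCategory.map f ≫ ε := by
      funext f
      exact (adj.homEquiv_naturality_left f ε).symm
    rw [this]
    exact (Equiv.bijective _).comp (DQC.bijective_adjD F a W N)
  exact ⟨(asIso v).symm⟩

end Right

variable {P P' : Type u} [CommRing P] [CommRing P'] (ι : P →+* P') (s : P' →+* P) (hs : s.comp ι = RingHom.id P)
  (τ : P') (hτ : ∀ x, τ * x = 0 → x = 0) (hker : RingHom.ker s = Ideal.span {τ})

/-- `M ↦ M ⊗ P'` as modules over the smaller ring. -/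
abbrev exR : ModuleCat.{u} P ⥤ ModuleCat.{u} P :=
  ModuleCat.extendScalars.{u, u, u} ι ⋙ ModuleCat.restrictScalars.{u} ι

/-- An endomorphism of `P'` over `P` acts on every `M ⊗ P'`. -/
def rT (f : (ModuleCat.restrictScalars.{u} ι).obj (ModuleCat.of P' P') →ₗ[P]
    (ModuleCat.restrictScalars.{u} ι).obj (ModuleCat.of P' P')) : exR ι ⟶ exR ι where
  app M := ModuleCat.ofHom (X := (exR ι).obj M) (Y := (exR ι).obj M)
    { toFun := fun x => LinearMap.rTensor M f x
      map_add' := fun x y => map_add (LinearMap.rTensor M f) x y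
      map_smul' := fun p x => by
        let E := (ModuleCat.extendScalars.{u, u, u} ι).obj M
        change (show E from LinearMap.rTensor M f (ι p • (show E from x) : E)) =
          (ι p • (show E from LinearMap.rTensor M f x) : E)
        induction x using TensorProduct.induction_on with
        | zero =>
          exact ((congrArg _ (smul_zero (ι p))).trans (map_zero _)).trans
            ((congrArg (fun t => (ι p • t : (ModuleCat.extendScalars.{u, u, u} ι).obj M)) (map_zero _)).trans
              (smul_zero (ι p))).symm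
        | tmul a m => exact congrArg (· ⊗ₜ[P] m) (f.map_smul p a)
        | add x y hx hy =>
          exact (((congrArg _ (smul_add (ι p) x y)).trans (map_add _ _ _)).trans (congrArg₂ (· + ·) hx hy)).trans
            ((congrArg (fun t => (ι p • t : (ModuleCat.extendScalars.{u, u, u} ι).obj M)) (map_add _ x y)).trans
              (smul_add (ι p) _ _)).symm }
  naturality M N g := by
    ext x
    induction x using TensorProduct.induction_on with
    | zero => simp
    | tmul a m => rfl
    | add x y hx hy => simp only [map_add, hx, hy]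

/-- Multiplication by `τ` on restricted modules. -/
def tauR : ModuleCat.restrictScalars.{u} ι ⟶ ModuleCat.restrictScalars.{u} ι where
  app M := ModuleCat.ofHom (X := (ModuleCat.restrictScalars.{u} ι).obj M) (Y := (ModuleCat.restrictScalars.{u} ι).obj M)
    { toFun := fun x => (τ • (show M from x) : M)
      map_add' := fun x y => smul_add τ (show M from x) (show M from y)
      map_smul' := fun p x => smul_comm τ (ι p) (show M from x) }
  naturality M N g := by
    ext x
    exact (g.hom.map_smul τ (show M from x)).symm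

/-- The underlying maps of coextended modules. -/
abbrev CoF (M : ModuleCat.{u} P') : Type u := (ModuleCat.restrictScalars.{u} s).obj (ModuleCat.of P P) →ₗ[P'] M

/-- Evaluation at one. -/
def evOne : ModuleCat.coextendScalars.{u, u, u} s ⟶ ModuleCat.restrictScalars.{u} ι where
  app M := ModuleCat.ofHom (X := (ModuleCat.coextendScalars.{u, u, u} s).obj M)
    (Y := (ModuleCat.restrictScalars.{u} ι).obj M)
    { toFun := fun t => (show CoF s M from t) (1 : P)
      map_add' := fun x y => rfl
      map_smul' := fun p t' => by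
        let t : CoF s M := t'
        show t ((1 : P) * p) = (ι p • t (1 : P) : M)
        refine (congrArg t ?_).trans (t.map_smul (ι p) (1 : P))
        show (1 : P) * p = s (ι p) * 1
        rw [mul_comm, show s (ι p) = p from RingHom.congr_fun hs p] }
  naturality M N g := rfl

include hs hτ hker in
theorem shortExact_hyperplane (M : ModuleCat.{u} P') [Injective M] :
    ∃ h : (evOne ι s hs).app M ≫ (tauR ι τ).app M = 0, (ShortComplex.mk _ _ h).ShortExact := by
  have hτs : s τ = 0 := RingHom.mem_ker.1 (hker ▸ Ideal.mem_span_singleton_self τ)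
  have h : (evOne ι s hs).app M ≫ (tauR ι τ).app M = 0 := by
    ext t'
    let t : CoF s M := t'
    show (τ • t (1 : P) : M) = 0
    refine ((t.map_smul τ (1 : P)).symm.trans (congrArg t ?_)).trans (map_zero t)
    show s τ * (1 : P) = 0
    rw [hτs, zero_mul]
  refine ⟨h, { exact := ?_, mono_f := ?_, epi_g := ?_ }⟩
  · rw [ShortComplex.moduleCat_exact_iff]
    intro x hx
    let x' : M := x
    have hx' : τ • x' = 0 := hx
    have key : ∀ q : P', (q - ι (s q)) • x' = 0 := fun q => by
      have : q - ι (s q) ∈ RingHom.ker s := by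
        rw [RingHom.mem_ker, map_sub, show s (ι (s q)) = s q from RingHom.congr_fun hs (s q), sub_self]
      rw [hker] at this
      obtain ⟨r, hr⟩ := Ideal.mem_span_singleton.1 this
      rw [hr, mul_comm, mul_smul, hx', smul_zero]
    refine ⟨({ toFun := fun p => ι (show P from p) • x'
               map_add' := fun a b => by
                 show ι ((show P from a) + (show P from b)) • x' = _
                 rw [map_add, add_smul]
               map_smul' := fun q p => by
                 show ι (s q * (show P from p)) • x' = q • (ι (show P from p) • x')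
                 rw [map_mul, mul_smul, ← sub_eq_zero]
                 have := key q
                 rw [sub_smul, sub_eq_zero] at this
                 rw [smul_comm (ι (s q)) (ι (show P from p)), ← this, smul_comm, sub_self] } :
      (ModuleCat.restrictScalars.{u} s).obj (ModuleCat.of P P) →ₗ[P'] M), ?_⟩
    show ι (1 : P) • x' = x'
    rw [map_one, one_smul]
  · rw [ModuleCat.mono_iff_injective]
    intro a b hab
    refine LinearMap.ext fun p => ?_
    let p' : P := p
    change (show CoF s M from a) (1 : P) = (show CoF s M from b) (1 : P) at hab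
    have e : ∀ t : (ModuleCat.restrictScalars.{u} s).obj (ModuleCat.of P P) →ₗ[P'] M,
        t p = ι p' • t (1 : P) := fun t => by
      refine (congrArg t ?_).trans (t.map_smul (ι p') (1 : P))
      show p' = s (ι p') * 1
      rw [mul_one, show s (ι p') = p' from RingHom.congr_fun hs p']
    exact ((e a).trans (congrArg (ι p' • ·) hab)).trans (e b).symm
  · rw [ModuleCat.epi_iff_surjective]
    intro y
    let y' : M := y
    let P₁ := ModuleCat.of P' P'
    let f : P₁ ⟶ P₁ := ModuleCat.ofHom (LinearMap.mulLeft P' τ)
    haveI : Mono f := (ModuleCat.mono_iff_injective f).2 fun a b hab => by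
      refine sub_eq_zero.1 (hτ _ ?_)
      rw [mul_sub, sub_eq_zero]
      exact hab
    let g : P₁ ⟶ M := ModuleCat.ofHom (LinearMap.toSpanSingleton P' M y')
    let w := Injective.factorThru g f
    refine ⟨w (1 : P'), ?_⟩
    show τ • w (1 : P') = y'
    have hw : w (f (1 : P')) = g (1 : P') :=
      congrArg (fun k => (ModuleCat.Hom.hom k) (1 : P')) (Injective.comp_factorThru g f)
    refine (w.hom.map_smul τ (1 : P')).symm.trans (hw.trans ?_)
    exact one_smul P' y'

/-- The retraction `M ⊗ P' ⟶ M`. -/
def retrS : exR ι ⟶ 𝟭 (ModuleCat.{u} P) where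
  app M :=
    let c : (ModuleCat.restrictScalars.{u} ι).obj ((ModuleCat.restrictScalars.{u} s).obj M) ⟶ M :=
      ModuleCat.ofHom (X := (ModuleCat.restrictScalars.{u} ι).obj ((ModuleCat.restrictScalars.{u} s).obj M))
        { toFun := fun x => (x : M)
          map_add' := fun _ _ => rfl
          map_smul' := fun p x => congrArg (fun t : P => t • (show M from x)) (RingHom.congr_fun hs p) }
    let d : M ⟶ (ModuleCat.restrictScalars.{u} ι).obj ((ModuleCat.restrictScalars.{u} s).obj M) :=
      ModuleCat.ofHom (Y := (ModuleCat.restrictScalars.{u} ι).obj ((ModuleCat.restrictScalars.{u} s).obj M))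
        { toFun := fun x => (x : M)
          map_add' := fun _ _ => rfl
          map_smul' := fun p x => by
            show p • (x : M) = s (ι p) • (x : M)
            rw [show s (ι p) = p from RingHom.congr_fun hs p] }
    (ModuleCat.restrictScalars.{u} ι).map
      (((ModuleCat.extendRestrictScalarsAdj.{u} ι).homEquiv M ((ModuleCat.restrictScalars.{u} s).obj M)).symm d) ≫ c
  naturality M N g := by
    ext x
    induction x using TensorProduct.induction_on with
    | zero => simp
    | tmul a m => exact (g.hom.map_smul (s a) (show M from m)).symm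
    | add x y hx hy => simp only [map_add, hx, hy]

include hs hτ hker in
/-- The split sequence `0 → M ⊗ P' → M ⊗ P' → M → 0`. -/
theorem exists_split : ∃ f : (ModuleCat.restrictScalars.{u} ι).obj (ModuleCat.of P' P') →ₗ[P]
    (ModuleCat.restrictScalars.{u} ι).obj (ModuleCat.of P' P'), ∀ M : ModuleCat.{u} P,
      (tauR ι τ).app ((ModuleCat.extendScalars.{u, u, u} ι).obj M) ≫ (rT ι f).app M = 𝟙 _ ∧
      (tauR ι τ).app ((ModuleCat.extendScalars.{u, u, u} ι).obj M) ≫ (retrS ι s hs).app M = 0 ∧
      (ModuleCat.extendRestrictScalarsAdj.{u} ι).unit.app M ≫ (retrS ι s hs).app M = 𝟙 _ ∧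
      ((rT ι f).app M ≫ (tauR ι τ).app ((ModuleCat.extendScalars.{u, u, u} ι).obj M) :
          (exR ι).obj M ⟶ (exR ι).obj M) +
        ((retrS ι s hs).app M ≫ (ModuleCat.extendRestrictScalarsAdj.{u} ι).unit.app M :) = 𝟙 _ := by
  have hτs : s τ = 0 := RingHom.mem_ker.1 (hker ▸ Ideal.mem_span_singleton_self τ)
  have hex : ∀ q : P', ∃ r : P', τ * r = q - ι (s q) := fun q => by
    have : q - ι (s q) ∈ RingHom.ker s := by
      rw [RingHom.mem_ker, map_sub, show s (ι (s q)) = s q from RingHom.congr_fun hs (s q), sub_self]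
    rw [hker] at this
    obtain ⟨r, hr⟩ := Ideal.mem_span_singleton.1 this
    exact ⟨r, hr.symm⟩
  choose r hr using hex
  have cancel : ∀ a b : P', τ * a = τ * b → a = b := fun a b h => by
    refine sub_eq_zero.1 (hτ _ ?_)
    rw [mul_sub, h, sub_self]
  refine ⟨{ toFun := fun q => r (show P' from q)
            map_add' := fun a b => cancel _ _ (by
              show τ * r ((show P' from a) + (show P' from b)) = τ * (r (show P' from a) + r (show P' from b))
              rw [mul_add, hr, hr, hr, map_add, map_add]; ring)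
            map_smul' := fun p a => cancel _ _ (by
              show τ * r (ι p * (show P' from a)) = τ * (ι p * r (show P' from a))
              rw [mul_left_comm, hr, hr, map_mul, map_mul, show s (ι p) = p from RingHom.congr_fun hs p]; ring) },
    fun M => ⟨?_, ?_, ?_, ?_⟩⟩
  · ext x
    induction x using TensorProduct.induction_on with
    | zero => simp
    | tmul a m =>
      refine congrArg (· ⊗ₜ[P] (show M from m)) (cancel _ _ ?_)
      show τ * r (τ * (show P' from a)) = τ * (show P' from a)
      rw [hr, map_mul, hτs, zero_mul, map_zero, sub_zero]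
    | add x y hx hy => simp only [map_add, hx, hy]
  · ext x
    induction x using TensorProduct.induction_on with
    | zero => simp
    | tmul a m =>
      show s (τ * (show P' from a)) • (show M from m) = 0
      rw [map_mul, hτs, zero_mul, zero_smul]
    | add x y hx hy => simp only [map_add, hx, hy]
  · ext m
    show s (1 : P') • (show M from m) = m
    rw [map_one, one_smul]
  · ext x
    induction x using TensorProduct.induction_on with
    | zero => simp
    | tmul a m =>
      let E := (ModuleCat.restrictScalars.{u} ι).obj (ModuleCat.of P' P')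
      show ((show E from τ * r (show P' from a)) ⊗ₜ[P] (show M from m) : E ⊗[P] M) +
        (show E from (1 : P')) ⊗ₜ[P] (s (show P' from a) • (show M from m)) = (show E from a) ⊗ₜ[P] (show M from m)
      rw [← TensorProduct.smul_tmul, ← TensorProduct.add_tmul]
      refine congrArg (· ⊗ₜ[P] (show M from m)) ?_
      show τ * r (show P' from a) + ι (s (show P' from a)) * 1 = (show P' from a)
      rw [hr, mul_one, sub_add_cancel]
    | add x y hx hy => simp only [map_add, hx, hy]

/-- A split sequence pushed through an exact sequence with epimorphic connecting map. -/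
theorem isIso_comp_delta {A : Type*} [Category A] [Abelian A] {J C W D : A} (η : J ⟶ C) (S : C ⟶ J) (r τC : C ⟶ C)
    (w : C ⟶ W) [IsIso w] (τW : W ⟶ W) (δ : W ⟶ D) [Epi δ] (h0 : τW ≫ δ = 0)
    (hex : (ShortComplex.mk τW δ h0).Exact) (h₂ : τC ≫ S = 0) (h₃ : η ≫ S = 𝟙 J) (h₄ : r ≫ τC + S ≫ η = 𝟙 C)
    (hw : w ≫ τW = τC ≫ w) : IsIso (η ≫ w ≫ δ) := by
  haveI : Epi (ShortComplex.mk τW δ h0).g := ‹Epi δ›
  have hk : τW ≫ inv w ≫ S = 0 := by
    rw [← cancel_epi w, reassoc_of% hw, IsIso.hom_inv_id_assoc, h₂, comp_zero]
  let k := hex.desc (inv w ≫ S) hk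
  have hdk : δ ≫ k = inv w ≫ S := hex.g_desc _ _
  refine ⟨k, ?_, ?_⟩
  · rw [Category.assoc, Category.assoc, hdk, IsIso.hom_inv_id_assoc, h₃]
  · rw [← cancel_epi δ, reassoc_of% hdk, Category.comp_id, IsIso.inv_comp_eq]
    have h5 : S ≫ η = 𝟙 C - r ≫ τC := by rw [← h₄]; abel
    rw [reassoc_of% h5, Preadditive.sub_comp, Category.assoc, Category.id_comp, ← reassoc_of% hw, h0, comp_zero,
      comp_zero, sub_zero]

include hs hτ hker in
/-- `RHom_{P'}(P, L ⊗ P') ≅ L[-1]` for a hyperplane section with retraction. -/
theorem nonempty_hyperplane [IsNoetherianRing P] [IsNoetherianRing P'] (hflat : ι.Flat) [DRing.HasLBaseChange ι] {Rs : Dual.D P' ⥤ Dual.D P}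
    (adj : DRing.restrictD s ⊣ Rs) (L : Dual.D P) :
    Nonempty (Rs.obj ((DRing.LBaseChange ι).obj L) ≅ L⟦(-1 : ℤ)⟧) := by
  have : (DerivedCategory.Q : DRing.Cx P ⥤ Dual.D P).EssSurj :=
    Localization.essSurj _ (HomologicalComplex.quasiIso (ModuleCat.{u} P) (ComplexShape.up ℤ))
  let J := (DerivedCategory.Q : DRing.Cx P ⥤ Dual.D P).objPreimage L
  let eL : DerivedCategory.Q.obj J ≅ L := (DerivedCategory.Q : DRing.Cx P ⥤ Dual.D P).objObjPreimageIso L
  haveI := RGamma27.isIso_valueMap_of_flat ι hflat J
  let C := (DBaseChange.extCx ι).obj J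
  obtain ⟨W, w, hW, hw, -, hWinj⟩ := KInjLib.exists_resolution C
  haveI := hW
  obtain ⟨f, hf⟩ := exists_split ι s hs τ hτ hker
  haveI : (ModuleCat.coextendScalars.{u, u, u} s).Additive := DlzFin27.additive_coextend s
  let ext := ModuleCat.extendScalars.{u, u, u} ι
  let res := ModuleCat.restrictScalars.{u} ι
  let resC := res.mapHomologicalComplex (ComplexShape.up ℤ)
  let T : DRing.Cx P := coX s W
  let Wr : DRing.Cx P := resC.obj W
  let Cr : DRing.Cx P := resC.obj C
  let τW : Wr ⟶ Wr :=
    { f := fun i => (tauR ι τ).app (W.X i)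
      comm' := fun i j _ => ((tauR ι τ).naturality (W.d i j)).symm }
  let τC : Cr ⟶ Cr :=
    { f := fun i => (tauR ι τ).app (C.X i)
      comm' := fun i j _ => ((tauR ι τ).naturality (C.d i j)).symm }
  let r : Cr ⟶ Cr :=
    { f := fun i => (rT ι f).app (J.X i)
      comm' := fun i j _ => ((rT ι f).naturality (J.d i j)).symm }
  let η : J ⟶ Cr :=
    { f := fun i => (ModuleCat.extendRestrictScalarsAdj.{u} ι).unit.app (J.X i)
      comm' := fun i j _ => ((ModuleCat.extendRestrictScalarsAdj.{u} ι).unit.naturality (J.d i j)).symm }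
  let S : Cr ⟶ J :=
    { f := fun i => (retrS ι s hs).app (J.X i)
      comm' := fun i j _ => ((retrS ι s hs).naturality (J.d i j)).symm }
  let ev : T ⟶ Wr :=
    { f := fun i => (evOne ι s hs).app (W.X i)
      comm' := fun i j _ => ((evOne ι s hs).naturality (W.d i j)).symm }
  let wr : Cr ⟶ Wr := resC.map w
  haveI : _root_.QuasiIso w := hw
  haveI : _root_.QuasiIso wr := inferInstanceAs (_root_.QuasiIso ((res.mapHomologicalComplex _).map w))
  haveI : IsIso (DerivedCategory.Q.map wr) := (DerivedCategory.isIso_Q_map_iff_quasiIso _ _).2 inferInstance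
  have hw' : wr ≫ τW = τC ≫ wr := HomologicalComplex.hom_ext _ _ fun i => (tauR ι τ).naturality (w.f i)
  have hC1 : τC ≫ r = 𝟙 Cr := HomologicalComplex.hom_ext _ _ fun i => (hf (J.X i)).1
  have hC2 : τC ≫ S = 0 := HomologicalComplex.hom_ext _ _ fun i => (hf (J.X i)).2.1
  have hC3 : η ≫ S = 𝟙 J := HomologicalComplex.hom_ext _ _ fun i => (hf (J.X i)).2.2.1
  have hC4 : r ≫ τC + S ≫ η = 𝟙 Cr := HomologicalComplex.hom_ext _ _ fun i => (hf (J.X i)).2.2.2
  have h0 : ev ≫ τW = 0 := HomologicalComplex.hom_ext _ _ fun i =>
    haveI := hWinj i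
    (shortExact_hyperplane ι s hs τ hτ hker (W.X i)).1
  have hS : (ShortComplex.mk ev τW h0).ShortExact :=
    HomologicalComplex.shortExact_of_degreewise_shortExact _ fun i =>
      haveI := hWinj i
      (shortExact_hyperplane ι s hs τ hτ hker (W.X i)).2
  let δ := DerivedCategory.triangleOfSESδ hS
  have hT := DerivedCategory.triangleOfSES_distinguished hS
  let u : DerivedCategory.Q.obj J ⟶ (DerivedCategory.Q.obj T)⟦(1 : ℤ)⟧ :=
    DerivedCategory.Q.map η ≫ DerivedCategory.Q.map wr ≫ δ
  haveI : IsIso u := by
    refine (DerivedCategory.isIso_iff _ u).2 fun i => ?_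
    let H := DerivedCategory.homologyFunctor (ModuleCat.{u} P) i
    have hm : ∀ k : ℤ, Mono ((DerivedCategory.homologyFunctor (ModuleCat.{u} P) k).map (DerivedCategory.Q.map τW)) :=
      fun k => by
        let Hk := DerivedCategory.homologyFunctor (ModuleCat.{u} P) k
        haveI : Mono (Hk.map (DerivedCategory.Q.map τC)) :=
          mono_of_mono_fac (show Hk.map (DerivedCategory.Q.map τC) ≫ Hk.map (DerivedCategory.Q.map r) = 𝟙 _ by
            rw [← Functor.map_comp, ← Functor.map_comp, hC1, CategoryTheory.Functor.map_id, CategoryTheory.Functor.map_id])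
        have : Hk.map (DerivedCategory.Q.map τW) =
            inv (Hk.map (DerivedCategory.Q.map wr)) ≫ Hk.map (DerivedCategory.Q.map τC) ≫
              Hk.map (DerivedCategory.Q.map wr) := by
          rw [IsIso.eq_inv_comp, ← Functor.map_comp, ← Functor.map_comp, hw', Functor.map_comp, Functor.map_comp]
        rw [this]
        infer_instance
    have hr1 := rot_of_distTriang _ hT
    have hr2 := rot_of_distTriang _ hr1
    have hr3 := rot_of_distTriang _ hr2
    haveI : Mono (H.map ((DerivedCategory.Q.map τW)⟦(1 : ℤ)⟧')) := by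
      haveI : Mono (((DerivedCategory.homologyFunctor (ModuleCat.{u} P) 0).shift (i + 1)).map
          (DerivedCategory.Q.map τW)) := hm (i + 1)
      let n := (DerivedCategory.homologyFunctor (ModuleCat.{u} P) 0).shiftIso (1 : ℤ) i (i + 1) (by lia)
      have hn : H.map ((DerivedCategory.Q.map τW)⟦(1 : ℤ)⟧') = n.hom.app _ ≫
          ((DerivedCategory.homologyFunctor (ModuleCat.{u} P) 0).shift (i + 1)).map (DerivedCategory.Q.map τW) ≫
            n.inv.app _ := by
        refine Eq.trans ?_ (Category.assoc _ _ _)
        rw [← n.hom.naturality, Category.assoc, Iso.hom_inv_id_app, Category.comp_id]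
        rfl
      rw [hn]
      exact @mono_comp _ _ _ _ _ (n.hom.app _) (@IsIso.mono_of_iso _ _ _ _ _ (Iso.isIso_hom (n.app _))) _
        (@mono_comp _ _ _ _ _ _ ‹_› (n.inv.app _) (@IsIso.mono_of_iso _ _ _ _ _ (Iso.isIso_hom (n.app _).symm)))
    have he1 := H.map_distinguished_exact _ hr2
    have he2 := H.map_distinguished_exact _ hr3
    haveI : Mono (((shortComplexOfDistTriangle _ hr3).map H).g) := by
      show Mono (H.map (-(DerivedCategory.Q.map τW)⟦(1 : ℤ)⟧'))
      rw [Functor.map_neg]
      infer_instance
    have hz : ((shortComplexOfDistTriangle _ hr3).map H).f = 0 := he2.mono_g_iff.1 inferInstance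
    haveI : Epi (H.map δ) := he1.epi_f_iff.2 hz
    show IsIso (H.map (DerivedCategory.Q.map η ≫ DerivedCategory.Q.map wr ≫ δ))
    rw [Functor.map_comp, Functor.map_comp]
    refine isIso_comp_delta _ (H.map (DerivedCategory.Q.map S)) (H.map (DerivedCategory.Q.map r))
      (H.map (DerivedCategory.Q.map τC)) _ (H.map (DerivedCategory.Q.map τW)) _ ?_
      (H.map_distinguished_exact _ hr1) ?_ ?_ ?_ ?_
    · exact ((shortComplexOfDistTriangle _ hr1).map H).zero
    · rw [← Functor.map_comp, ← Functor.map_comp, hC2, Functor.map_zero, Functor.map_zero]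
    · rw [← Functor.map_comp, ← Functor.map_comp, hC3, CategoryTheory.Functor.map_id, CategoryTheory.Functor.map_id]
    · rw [← Functor.map_comp, ← Functor.map_comp, ← Functor.map_comp, ← Functor.map_comp, ← Functor.map_add,
        ← Functor.map_add, hC4, CategoryTheory.Functor.map_id, CategoryTheory.Functor.map_id]
    · rw [← Functor.map_comp, ← Functor.map_comp, hw', Functor.map_comp, Functor.map_comp]
  obtain ⟨eR⟩ := nonempty_rightAdj_coX s adj W
  exact ⟨Rs.mapIso ((DRing.LBaseChange ι).mapIso eL.symm ≪≫ asIso ((DBaseChange.valueMap ι).app J) ≪≫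
      (DerivedCategory.Q.mapIso (Iso.refl C) :) ≪≫ @asIso _ _ _ _ (DerivedCategory.Q.map w)
        ((DerivedCategory.isIso_Q_map_iff_quasiIso _ _).2 hw)) ≪≫ eR ≪≫
    (shiftShiftNeg (DerivedCategory.Q.obj T) (1 : ℤ)).symm ≪≫
      (shiftFunctor (Dual.D P) (-1 : ℤ)).mapIso ((asIso u).symm ≪≫ eL)⟩

end Groth.Agent.BC8
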