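import Groth.Agent.Lib.BC8.PrincipalSpec
import Groth.Agent.Lib.BC8.Shriek
import Groth.Agent.Lib.TwistBC9.Tensor
import Mathlib.RingTheory.Regular.RegularSequence

/-!
The twisted inverse image of the structure sheaf along the quotient by a regular sequence.
-/

set_option autoImplicit false
set_option linter.unusedSectionVars false
set_option linter.style.haveILetI false
set_option backward.isDefEq.respectTransparency false
set_option backward.isDefEq.respectTransparency.types false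
set_option maxHeartbeats 800000

universe u

open CategoryTheory CategoryTheory.Limits AlgebraicGeometry RingTheory.Sequence
open scoped Pointwise

attribute [local instance] HasDerivedCategory.standard

namespace Groth.Agent.BC8

/-- The quotient by the first element of a regular sequence. -/
theorem isWeaklyRegular_tail {R : Type u} [CommRing R] (r : R) (rs : List R) (h : IsWeaklyRegular R (r :: rs)) :
    IsWeaklyRegular (R ⧸ Ideal.span {r}) (rs.map (Ideal.Quotient.mk (Ideal.span {r}))) := by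
  obtain ⟨-, h2⟩ := (isWeaklyRegular_cons_iff' R r rs).1 h
  have hI : r • (⊤ : Submodule R R) = (Ideal.span {r}) := by
    rw [← Submodule.ideal_span_singleton_smul, smul_eq_mul, Ideal.mul_top]
  let e₀ : QuotSMulTop r R ≃ₗ[R] (R ⧸ Ideal.span {r}) := Submodule.quotEquivOfEq _ _ hI
  let e : QuotSMulTop r R ≃ₗ[R ⧸ Ideal.span {r}] (R ⧸ Ideal.span {r}) :=
    { e₀ with
      map_smul' := fun c x => by
        obtain ⟨c, rfl⟩ := Ideal.Quotient.mk_surjective c
        exact e₀.map_smul c x }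
  exact (e.isWeaklyRegular_congr _).1 h2

/-- `a(O)[n] ≅ O` for the quotient by a regular sequence of length `n`. -/
theorem nonempty_regSeq : ∀ (n : ℕ) (R : CommRingCat.{u}) [IsNoetherianRing R] (S : CommRingCat.{u}) (φ : R ⟶ S),
    Function.Surjective φ.hom → ∀ rs : List R, rs.length = n → IsWeaklyRegular R rs →
      RingHom.ker φ.hom = Ideal.ofList rs → ∀ [DCoh.HasRpush (Spec.map φ)] {hf : DCoh.RpushPreservesQCoh (Spec.map φ)}
      {a : DCoh.DQCoh (Spec R) ⥤ DCoh.DQCoh (Spec S)} (_ : DCoh.RpushQ (Spec.map φ) hf ⊣ a) (O : DCoh.DQCoh (Spec R)),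
      (O.obj ≅ DCoh.inD (Spec R) (Coh.structureModule (Spec R))) →
      Nonempty ((a.obj O).obj⟦(n : ℤ)⟧ ≅ DCoh.inD (Spec S) (Coh.structureModule (Spec S))) := by
  intro n
  induction n with
  | zero =>
    intro R _ S φ hs rs hlen hreg hker _ hf a adj O eO
    obtain rfl : rs = [] := List.length_eq_zero_iff.1 hlen
    haveI : IsIso φ := (ConcreteCategory.isIso_iff_bijective φ).2
      ⟨(RingHom.injective_iff_ker_eq_bot φ.hom).2 (by rw [hker, Ideal.ofList_nil]), hs⟩
    haveI : IsIso (Spec.map φ) := inferInstance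
    obtain ⟨m⟩ := nonempty_shriek_open (Spec.map φ) (Spec.map φ) (𝟙 _) (Category.id_comp _) adj
    obtain ⟨l⟩ := TwistBC9.nonempty_lP_oneM (Spec.map φ) 0
    exact ⟨(shiftFunctorZero' (DCoh.D _) ((0 : ℕ) : ℤ) (by simp)).app _ ≪≫ ((DBC9.lPId _).app _).symm ≪≫
      m.app ⟨O, 0, (DerivedCategory.TStructure.t : Triangulated.TStructure (DCoh.D _)).isGE_of_iso eO.symm 0⟩ ≪≫
      (DMon9.lP (Spec.map φ)).mapIso eO ≪≫ l⟩
  | succ m ih =>
    intro R _ S φ hs rs hlen hreg hker _ hf a adj O eO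
    obtain ⟨r, rs', rfl⟩ : ∃ r rs', rs = r :: rs' := by
      cases rs with
      | nil => simp at hlen
      | cons r rs' => exact ⟨r, rs', rfl⟩
    let R₁ : CommRingCat.{u} := CommRingCat.of (R ⧸ Ideal.span {r})
    let π : R ⟶ R₁ := CommRingCat.ofHom (Ideal.Quotient.mk _)
    have hle : Ideal.span {r} ≤ RingHom.ker φ.hom := by
      rw [hker, Ideal.ofList_cons]; exact le_sup_left
    let ψ : R₁ ⟶ S := CommRingCat.ofHom (Ideal.Quotient.lift _ φ.hom hle)
    have hπψ : π ≫ ψ = φ := by ext x; rfl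
    have hψs : Function.Surjective ψ.hom := fun y => by
      obtain ⟨x, hx⟩ := hs y
      exact ⟨Ideal.Quotient.mk _ x, hx⟩
    have hψk : RingHom.ker ψ.hom = Ideal.ofList (rs'.map π.hom) := by
      show RingHom.ker (Ideal.Quotient.lift _ φ.hom hle) = _
      rw [Ideal.ker_quotient_lift _ hle, hker, Ideal.ofList_cons, Ideal.map_sup, Ideal.map_ofList,
        Ideal.map_quotient_self, bot_sup_eq]
      rfl
    have h1 := ((isWeaklyRegular_cons_iff' R r rs').1 hreg).1
    haveI : PreservesFiniteLimits (tilde.functor R) := M1.tilde_preservesFiniteLimits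
    haveI := DBC9.hasRpush (Spec.map π)
    haveI := DBC9.hasRpush (Spec.map ψ)
    let hπ := rpushPreserves (Spec.map π)
    let hψ := rpushPreserves (Spec.map ψ)
    haveI := isLeftAdjoint_rpushQ (Spec.map π) hπ
    haveI := isLeftAdjoint_rpushQ (Spec.map ψ) hψ
    let adjπ := Adjunction.ofIsLeftAdjoint (DCoh.RpushQ (Spec.map π) hπ)
    let adjψ := Adjunction.ofIsLeftAdjoint (DCoh.RpushQ (Spec.map ψ) hψ)
    let O₁ := ((DCoh.RpushQ (Spec.map π) hπ).rightAdjoint.obj O)⟦(1 : ℤ)⟧
    obtain ⟨p⟩ := nonempty_principal_spec π Ideal.Quotient.mk_surjective r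
      (fun x hx => h1 (show r • x = r • (0 : R) by rw [smul_zero]; exact hx)) Ideal.mk_ker adjπ O eO
    let e₁ : O₁.obj ≅ DCoh.inD (Spec R₁) (Coh.structureModule (Spec R₁)) :=
      ((ObjectProperty.ι _).commShiftIso (1 : ℤ)).app _ ≪≫ p
    obtain ⟨i⟩ := ih R₁ S ψ hψs (rs'.map π.hom) (by simpa using hlen) (isWeaklyRegular_tail r rs' hreg) hψk adjψ O₁ e₁
    obtain ⟨_, _⟩ := exists_triangulated (Spec.map ψ) hψ adjψ
    exact ⟨(shiftFunctor _ ((m + 1 : ℕ) : ℤ)).mapIso ((ObjectProperty.ι _).mapIso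
        ((compA adjψ adjπ adj (by rw [← Spec.map_comp, hπψ])).app O).symm) ≪≫
      (shiftFunctorAdd' (DCoh.D _) (1 : ℤ) (m : ℤ) ((m + 1 : ℕ) : ℤ) (by push_cast; ring)).app _ ≪≫
      (shiftFunctor _ (m : ℤ)).mapIso ((((ObjectProperty.ι _).commShiftIso (1 : ℤ)).app _).symm ≪≫
        (ObjectProperty.ι _).mapIso (((DCoh.RpushQ (Spec.map ψ) hψ).rightAdjoint.commShiftIso (1 : ℤ)).app _).symm) ≪≫ i⟩

end Groth.Agent.BC8
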