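import Groth.Agent.Lib.BC8.Loc
import Groth.Agent.Lib.BC8.RegSeq

/-!
Invertibility of the twisted inverse image of the structure sheaf: regular immersions, smooth morphisms.
-/

set_option autoImplicit false
set_option linter.unusedSectionVars false
set_option linter.style.haveILetI false
set_option backward.isDefEq.respectTransparency false
set_option backward.isDefEq.respectTransparency.types false
set_option maxHeartbeats 800000

universe u

open CategoryTheory CategoryTheory.Limits AlgebraicGeometry MonoidalCategory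

attribute [local instance] HasDerivedCategory.standard

namespace Groth.Agent.BC8

open DMon9

/-- `a(O) ≅ O[-n]` from `a(O)[n] ≅ O`. -/
theorem nonempty_unshift {X : Scheme.{u}} (K : DCoh.D X) (n : ℤ)
    (e : K⟦n⟧ ≅ DCoh.inD X (Coh.structureModule X)) : Nonempty (K ≅ TwistBC9.oneD X n) := by
  obtain ⟨s⟩ := nonempty_shiftOne' X 0 (-n)
  exact ⟨((shiftFunctorCompIsoId (DCoh.D X) n (-n) (by omega)).app K).symm ≪≫
    (shiftFunctor _ (-n)).mapIso e ≪≫ s ≪≫ eqToIso (by congr 1; omega)⟩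

/-- Regular closed immersions: `i^!O` is invertible. -/
theorem locShift_closed {Z X : Scheme.{u}} [IsNoetherian X] (i : Z ⟶ X) (hi : Mor2.IsRegularClosedImmersion i)
    [IsProper i] [DCoh.HasRpush i] {hp : DCoh.RpushPreservesQCoh i} {a : DCoh.DQCoh X ⥤ DCoh.DQCoh Z}
    (adj : DCoh.RpushQ i hp ⊣ a) : LocShift (a.obj (oQ X)).obj := by
  haveI := hi.1
  refine locShift_of_iso ((DBC9.lPId Z).app _) fun z => ?_
  obtain ⟨U, hU, hz, rs, hreg, hker⟩ := hi.2 z
  obtain ⟨hW, hs⟩ := CI2.surjective_app_of_closed i hU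
  haveI : IsNoetherianRing Γ(X, U) := IsLocallyNoetherian.component_noetherian ⟨U, hU⟩
  let φ := i.app U
  haveI : IsClosedImmersion (Spec.map φ) := IsClosedImmersion.spec_of_surjective _ hs
  haveI := DBC9.hasRpush (Spec.map φ)
  let hφ := rpushPreserves (Spec.map φ)
  haveI := isLeftAdjoint_rpushQ (Spec.map φ) hφ
  let adjφ := Adjunction.ofIsLeftAdjoint (DCoh.RpushQ (Spec.map φ) hφ)
  have w : hW.fromSpec ≫ 𝟙 Z ≫ i = (𝟙 _ ≫ Spec.map φ) ≫ hU.fromSpec := by
    rw [Category.id_comp, Category.id_comp, ← hU.SpecMap_appLE_fromSpec i hW le_rfl, Scheme.Hom.appLE_eq_app]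
  obtain ⟨n⟩ := nonempty_loc_one adj hU.fromSpec hW.fromSpec adjφ w
  have hk : RingHom.ker φ.hom = Ideal.ofList rs := by rw [← hker, Scheme.Hom.ker_apply]
  haveI : PreservesFiniteLimits (tilde.functor Γ(X, U)) := M1.tilde_preservesFiniteLimits
  obtain ⟨r⟩ := nonempty_regSeq rs.length _ _ φ hs rs rfl hreg.toIsWeaklyRegular hk adjφ (oQ _) (Iso.refl _)
  obtain ⟨r'⟩ := nonempty_unshift _ _ r
  refine ⟨_, hW.fromSpec, inferInstance, rs.length, ?_, ⟨n ≪≫ (DBC9.lPId _).app _ ≪≫ r'⟩⟩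
  rw [hW.range_fromSpec]
  exact hz

variable {U Y Xb : Scheme.{u}} [IsNoetherian Y] (f : U ⟶ Y) [Smooth f] [IsSeparated f] [QuasiCompact f]
  (p : Xb ⟶ Y) [IsProper p]
  (j : U ⟶ Xb) [IsOpenImmersion j] (hfac : j ≫ p = f) [DCoh.HasRpush p] {hp : DCoh.RpushPreservesQCoh p}
  {a : DCoh.DQCoh Y ⥤ DCoh.DQCoh Xb} (adj : DCoh.RpushQ p hp ⊣ a)

include hfac adj in
/-- Smooth morphisms: `f^!O` is invertible. -/
theorem locShift_smooth : LocShift ((lP j).obj (a.obj (oQ Y)).obj) := by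
  haveI : IsLocallyNoetherian U := LocallyOfFiniteType.isLocallyNoetherian f
  haveI : CompactSpace U := QuasiCompact.compactSpace_of_compactSpace f
  haveI : IsNoetherian U := { }
  haveI : IsLocallyNoetherian (pullback f f) := LocallyOfFiniteType.isLocallyNoetherian (pullback.fst f f ≫ f)
  haveI : CompactSpace (pullback f f : Scheme.{u}) := QuasiCompact.compactSpace_of_compactSpace (pullback.fst f f ≫ f)
  haveI : IsNoetherian (pullback f f) := { }
  haveI := DBC9.hasRpush (pullback.diagonal f)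
  let hΔ := rpushPreserves (pullback.diagonal f)
  haveI := isLeftAdjoint_rpushQ (pullback.diagonal f) hΔ
  let adjΔ := Adjunction.ofIsLeftAdjoint (DCoh.RpushQ (pullback.diagonal f) hΔ)
  obtain ⟨n⟩ := nonempty_shriek_diag f p j hfac adj adjΔ (oQ _) (unitIso (Iso.refl _))
  obtain ⟨l⟩ := TwistBC9.nonempty_lP_oneM f 0
  exact locShift_factor (locShift_closed _ ((S1515.result f).1.1 inferInstance).2 adjΔ) (n := 0)
    ((n.app ⟨oQ Y, isBdd_oQ Y⟩).symm ≪≫ l)

/-- `f^!O` for a closed immersion followed by a smooth morphism. -/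
theorem locShift_comp {Z : Scheme.{u}} (i : Z ⟶ U) [IsProper i] [DCoh.HasRpush i] {hpi : DCoh.RpushPreservesQCoh i}
    {ai : DCoh.DQCoh U ⥤ DCoh.DQCoh Z} (adji : DCoh.RpushQ i hpi ⊣ ai) (hi : LocShift (ai.obj (oQ U)).obj)
    {Zb : Scheme.{u}} (p' : Zb ⟶ Y) [IsProper p'] (j' : Z ⟶ Zb) [IsOpenImmersion j'] (hfac' : j' ≫ p' = i ≫ f)
    [DCoh.HasRpush p'] {hp' : DCoh.RpushPreservesQCoh p'}
    {a' : DCoh.DQCoh Y ⥤ DCoh.DQCoh Zb} (adj' : DCoh.RpushQ p' hp' ⊣ a')
    (hfac : j ≫ p = f) (adj : DCoh.RpushQ p hp ⊣ a) :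
    LocShift ((lP j').obj (a'.obj (oQ Y)).obj) := by
  haveI : IsLocallyNoetherian U := LocallyOfFiniteType.isLocallyNoetherian f
  haveI : CompactSpace U := QuasiCompact.compactSpace_of_compactSpace f
  haveI : IsNoetherian U := { }
  haveI : CompactSpace Z := QuasiCompact.compactSpace_of_compactSpace i
  haveI : QuasiSeparatedSpace Z := quasiSeparatedSpace_of_quasiSeparated i
  obtain ⟨n⟩ := nonempty_shriek_comp (f := i) (g := f) (jf := 𝟙 Z) (pf := i) (Category.id_comp i) hfac hfac' adji adj adj'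
  have hM := locShift_smooth f p j hfac adj
  obtain ⟨t⟩ := nonempty_shriek_perfect (f := i) (Category.id_comp i) adji
    ((lq j).obj (a.obj (oQ Y))) (isPerfect_of_locShift hM)
  exact locShift_of_iso (n.app ⟨oQ Y, isBdd_oQ Y⟩ ≪≫ t).symm
    (locShift_ten (locShift_lP _ hi) (locShift_lP i hM))

end Groth.Agent.BC8
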