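import Groth.Agent.Lib.DMon9.LPExtra
import Groth.Agent.Lib.ModLimH13.Sections

set_option autoImplicit false
set_option linter.unusedSectionVars false
set_option linter.style.haveILetI false
set_option backward.isDefEq.respectTransparency false
set_option backward.isDefEq.respectTransparency.types false
set_option maxHeartbeats 800000

universe u

open CategoryTheory CategoryTheory.Limits MonoidalCategory AlgebraicGeometry
open Localization.Monoidal

attribute [local instance] HasDerivedCategory.standard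

namespace Groth.Agent.BC8

open KFlat KFlat.Sch DMon9 M2

variable {X Y Z : Scheme.{u}} (f : X ⟶ Y) (g : Y ⟶ Z)

noncomputable abbrev gam {h : X ⟶ Z} (w : f ≫ g = h) :
    Scheme.Modules.pullback g ⋙ Scheme.Modules.pullback f ≅ Scheme.Modules.pullback h :=
  Scheme.Modules.pullbackComp f g ≪≫ Scheme.Modules.pullbackCongr w

theorem gam_cmp {h : X ⟶ Z} (w : f ≫ g = h) (A B : Z.Modules) :
    (Scheme.Modules.pullback f).map (pullCmp g A B) ≫
        pullCmp f ((Scheme.Modules.pullback g).obj A) ((Scheme.Modules.pullback g).obj B) ≫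
          tensorMap ((gam f g w).hom.app A) ((gam f g w).hom.app B) =
      (gam f g w).hom.app (CohB1.tensorMod A B) ≫ pullCmp h A B := by
  subst w
  refine pull_hom_ext f (pull_hom_ext g (tensorMod_hom_ext fun U a b => ?_))
  rw [homEquiv_app_apply g, homEquiv_app_apply g, homEquiv_app_apply f, homEquiv_app_apply f]
  rw [comp_app_apply, comp_app_apply, comp_app_apply]
  rw [pull_map_pullSec, pullCmp_pullSec, pullCmp_pullSec]
  have hcg : ∀ (M : Z.Modules) (s : Γ(M, U)), ((gam f g rfl).hom.app M).app (f ⁻¹ᵁ g ⁻¹ᵁ U)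
      (pullSec f _ (pullSec g M s)) = pullSec (f ≫ g) M s := fun M s => by
    refine Eq.trans ?_ (ModLimH13.pullbackComp_pullSec f g M s)
    simp [gam, Scheme.Modules.pullbackCongr]
  refine (tensorMap_tsec (L := (Scheme.Modules.pullback f).obj ((Scheme.Modules.pullback g).obj A))
    (M := (Scheme.Modules.pullback f).obj ((Scheme.Modules.pullback g).obj B))
    ((gam f g rfl).hom.app A) ((gam f g rfl).hom.app B)
    (pullSec f _ (pullSec g A a)) (pullSec f _ (pullSec g B b))).trans ?_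
  refine (congrArg₂ (fun x y => tsec _ _ x y) (hcg A a) (hcg B b)).trans ?_
  refine Eq.trans ?_ (congrArg _ (hcg (CohB1.tensorMod A B) (tsec A B a b)).symm)
  exact (pullCmp_pullSec (f ≫ g) A B a b).symm

/-- Compatibility with the tensor product, for complexes. -/
theorem mu_cx {h : X ⟶ Z} (w : f ≫ g = h) (A B : CochainComplex Z.Modules ℤ) :
    (muCx f ((pullCx g).obj A) ((pullCx g).obj B)).hom ≫ (pullCx f).map (muCx g A B).hom ≫
        (Functor.mapHomologicalComplexCompIso (gam f g w) (ComplexShape.up ℤ)).hom.app (A ⊗ B) =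
      ((Functor.mapHomologicalComplexCompIso (gam f g w) (ComplexShape.up ℤ)).hom.app A ⊗ₘ
        (Functor.mapHomologicalComplexCompIso (gam f g w) (ComplexShape.up ℤ)).hom.app B) ≫ (muCx h A B).hom := by
  refine HomologicalComplex.hom_ext _ _ fun n => HomologicalComplex.mapBifunctor.hom_ext fun p q hpq => ?_
  let γ := (gam f g w).hom
  let Φ := Functor.mapHomologicalComplexCompIso (gam f g w) (ComplexShape.up ℤ)
  let φA : (pullCx f).obj ((pullCx g).obj A) ⟶ (pullCx h).obj A := Φ.hom.app A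
  let φB : (pullCx f).obj ((pullCx g).obj B) ⟶ (pullCx h).obj B := Φ.hom.app B
  let ι₁ := HomologicalComplex.ιTensorObj ((pullCx f).obj ((pullCx g).obj A)) ((pullCx f).obj ((pullCx g).obj B)) p q n hpq
  show ι₁ ≫ (muCx f _ _).hom.f n ≫ (Scheme.Modules.pullback f).map ((muCx g A B).hom.f n) ≫ γ.app ((A ⊗ B).X n) =
    ι₁ ≫ (φA ⊗ₘ φB).f n ≫ (muCx h A B).hom.f n
  have hl : ι₁ ≫ (φA ⊗ₘ φB).f n = (γ.app (A.X p) ⊗ₘ γ.app (B.X q)) ≫
      HomologicalComplex.ιTensorObj ((pullCx h).obj A) ((pullCx h).obj B) p q n hpq := by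
    rw [MonoidalCategory.tensorHom_def, HomologicalComplex.comp_f, ← Category.assoc, ι_whiskerRight]
    rw [Category.assoc, ι_whiskerLeft, ← Category.assoc, MonoidalCategory.tensorHom_def]
    rfl
  rw [reassoc_of% hl, ι_muCx, ← Category.assoc ι₁, ι_muCx, Category.assoc]
  rw [← Functor.map_comp_assoc, ι_muCx, Functor.map_comp, Category.assoc]
  let iota : A.X p ⊗ B.X q ⟶ (A ⊗ B).X n := HomologicalComplex.ιTensorObj A B p q n hpq
  have hn : (Scheme.Modules.pullback f).map ((Scheme.Modules.pullback g).map iota) ≫ γ.app ((A ⊗ B).X n) =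
      γ.app (A.X p ⊗ B.X q) ≫ (Scheme.Modules.pullback h).map iota := γ.naturality iota
  change _ ≫ _ ≫ (Scheme.Modules.pullback f).map ((Scheme.Modules.pullback g).map iota) ≫ γ.app ((A ⊗ B).X n) =
    _ ≫ _ ≫ (Scheme.Modules.pullback h).map iota
  rw [hn]
  simp only [← Category.assoc]
  congr 1
  let μf := (pullCore f).μIso ((Scheme.Modules.pullback g).obj (A.X p)) ((Scheme.Modules.pullback g).obj (B.X q))
  let μg := (pullCore g).μIso (A.X p) (B.X q)
  let μh := (pullCore h).μIso (A.X p) (B.X q)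
  rw [← cancel_mono μh.inv]
  show ((μf.hom ≫ (Scheme.Modules.pullback f).map μg.hom) ≫ γ.app (A.X p ⊗ B.X q)) ≫ μh.inv =
    ((γ.app (A.X p) ⊗ₘ γ.app (B.X q)) ≫ μh.hom) ≫ μh.inv
  rw [Category.assoc _ μh.hom, Iso.hom_inv_id, Category.comp_id, Category.assoc]
  have e := gam_cmp f g w (A.X p) (B.X q)
  refine (congrArg (_ ≫ ·) e.symm).trans ?_
  show (μf.hom ≫ (Scheme.Modules.pullback f).map μg.hom) ≫ (Scheme.Modules.pullback f).map μg.inv ≫ μf.inv ≫
    (γ.app (A.X p) ⊗ₘ γ.app (B.X q)) = _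
  rw [Category.assoc, ← Functor.map_comp_assoc, Iso.hom_inv_id, CategoryTheory.Functor.map_id, Category.id_comp,
    Iso.hom_inv_id_assoc]

section Mult

variable {C D E : Type*} [Category* C] [Category* D] [Category* E] [MonoidalCategory C] [MonoidalCategory D]
  [MonoidalCategory E]

open Functor.LaxMonoidal

/-- Compatibility of a transformation with tensor products. -/
def Mult {F F' : C ⥤ D} [F.Monoidal] [F'.Monoidal] (τ : F ⟶ F') : Prop :=
  ∀ A B : C, μ F A B ≫ τ.app (A ⊗ B) = (τ.app A ⊗ₘ τ.app B) ≫ μ F' A B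

theorem mult_of_isMonoidal {F F' : C ⥤ D} [F.Monoidal] [F'.Monoidal] (τ : F ⟶ F') [τ.IsMonoidal] : Mult τ :=
  fun A B => NatTrans.IsMonoidal.tensor A B

theorem mult_comp {F F' F'' : C ⥤ D} [F.Monoidal] [F'.Monoidal] [F''.Monoidal] {τ : F ⟶ F'} {τ' : F' ⟶ F''}
    (h : Mult τ) (h' : Mult τ') : Mult (τ ≫ τ') := fun A B => by
  simp only [NatTrans.comp_app]
  rw [← Category.assoc, h A B, Category.assoc, h' A B, ← Category.assoc, MonoidalCategory.tensorHom_comp_tensorHom]

theorem mult_symm {F F' : C ⥤ D} [F.Monoidal] [F'.Monoidal] (τ : F ≅ F') (h : Mult τ.hom) : Mult τ.inv :=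
  fun A B => by
    rw [← cancel_mono (τ.hom.app (A ⊗ B)), Category.assoc, Category.assoc, Iso.inv_hom_id_app, Category.comp_id,
      h A B, ← Category.assoc, MonoidalCategory.tensorHom_comp_tensorHom]
    simp

theorem mult_whiskerLeft (K : C ⥤ D) [K.Monoidal] {F F' : D ⥤ E} [F.Monoidal] [F'.Monoidal] {τ : F ⟶ F'}
    (h : Mult τ) : Mult (Functor.whiskerLeft K τ) := fun A B => by
  simp only [comp_μ, Functor.whiskerLeft_app, Functor.comp_obj, Category.assoc]
  rw [τ.naturality, ← Category.assoc, h, Category.assoc]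

theorem mult_whiskerRight {F F' : C ⥤ D} [F.Monoidal] [F'.Monoidal] {τ : F ⟶ F'} (h : Mult τ) (K : D ⥤ E)
    [K.Monoidal] : Mult (Functor.whiskerRight τ K) := fun A B => by
  simp only [comp_μ, Functor.whiskerRight_app, Functor.comp_obj, Category.assoc]
  rw [← K.map_comp, h, K.map_comp, μ_natural_assoc]

theorem mult_assoc {B : Type*} [Category* B] [MonoidalCategory B] (F : B ⥤ C) (G : C ⥤ D) (H : D ⥤ E) [F.Monoidal]
    [G.Monoidal] [H.Monoidal] : Mult (Functor.associator F G H).hom ∧ Mult (Functor.associator F G H).inv :=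
  ⟨fun A B => by simp [comp_μ], fun A B => by simp [comp_μ]⟩

theorem mult_of_whiskerLeft (L : C ⥤ D) [L.Monoidal] [L.EssSurj] {F F' : D ⥤ E} [F.Monoidal] [F'.Monoidal]
    (τ : F ⟶ F') (h : Mult (Functor.whiskerLeft L τ)) : Mult τ := fun A B => by
  have h' := h (L.objPreimage A) (L.objPreimage B)
  simp only [comp_μ, Functor.whiskerLeft_app, Functor.comp_obj, Category.assoc] at h'
  rw [τ.naturality, ← Category.assoc, ← Category.assoc] at h'
  have h'' := (cancel_mono (F'.map (μ L (L.objPreimage A) (L.objPreimage B)))).1 h'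
  let u := (L.objObjPreimageIso A).hom
  let v := (L.objObjPreimageIso B).hom
  rw [← cancel_epi (F.map u ⊗ₘ F.map v), μ_natural_assoc, τ.naturality, ← Category.assoc, h'', Category.assoc,
    ← μ_natural, ← Category.assoc, ← Category.assoc, MonoidalCategory.tensorHom_comp_tensorHom,
    MonoidalCategory.tensorHom_comp_tensorHom, τ.naturality, τ.naturality]

end Mult

/-- Pullback of K-flat complexes along a composite. -/
noncomputable def kfComp {h : X ⟶ Z} (w : f ≫ g = h) : kfPull g ⋙ kfPull f ≅ kfPull h :=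
  NatIso.ofComponents (fun A => ObjectProperty.isoMk _
      ((Functor.mapHomologicalComplexCompIso (gam f g w) (ComplexShape.up ℤ)).app A.obj))
    (fun φ => ObjectProperty.hom_ext _
      ((Functor.mapHomologicalComplexCompIso (gam f g w) (ComplexShape.up ℤ)).hom.naturality φ.hom))

theorem mult_kfComp {h : X ⟶ Z} (w : f ≫ g = h) : Mult (kfComp f g w).hom := fun A B => by
  refine ObjectProperty.hom_ext _ ?_
  rw [Functor.LaxMonoidal.comp_μ]
  exact (Category.assoc _ _ _).trans (mu_cx f g w A.obj B.obj)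

/-- The lifting isomorphism. -/
noncomputable abbrev eLift : qM Z ⋙ dPull g ≅ kfPull g ⋙ qM Y :=
  Localization.Lifting.iso (qM Z) (kfW Z) (gPull g) (dPull g)

theorem mult_eLift : Mult (eLift g).hom :=
  haveI := Localization.Monoidal.lifting_isMonoidal (qM Z) (kfW Z) (dPull g) (gPull g)
  mult_of_isMonoidal _

/-- The composite on K-flat complexes, in the derived category. -/
noncomputable def dComp₀ {h : X ⟶ Z} (w : f ≫ g = h) : qM Z ⋙ dPull g ⋙ dPull f ≅ qM Z ⋙ dPull h :=
  (Functor.associator _ _ _).symm ≪≫ Functor.isoWhiskerRight (eLift g) (dPull f) ≪≫ Functor.associator _ _ _ ≪≫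
    Functor.isoWhiskerLeft (kfPull g) (eLift f) ≪≫ (Functor.associator _ _ _).symm ≪≫
    Functor.isoWhiskerRight (kfComp f g w) (qM X) ≪≫ (eLift h).symm

theorem mult_dComp₀ {h : X ⟶ Z} (w : f ≫ g = h) : Mult (dComp₀ f g w).hom :=
  mult_comp (mult_assoc _ _ _).2 (mult_comp (mult_whiskerRight (mult_eLift g) _) (mult_comp (mult_assoc _ _ _).1
    (mult_comp (mult_whiskerLeft _ (mult_eLift f)) (mult_comp (mult_assoc _ _ _).2
      (mult_comp (mult_whiskerRight (mult_kfComp f g w) _) (mult_symm _ (mult_eLift h)))))))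

/-- Monoidal derived pullback along a composite. -/
noncomputable def dComp {h : X ⟶ Z} (w : f ≫ g = h) : dPull g ⋙ dPull f ≅ dPull h :=
  Localization.liftNatIso (qM Z) (kfW Z) (qM Z ⋙ dPull g ⋙ dPull f) (qM Z ⋙ dPull h) _ _ (dComp₀ f g w)

theorem mult_dComp {h : X ⟶ Z} (w : f ≫ g = h) : Mult (dComp f g w).hom := by
  haveI : (qM Z).EssSurj := Localization.essSurj _ (kfW Z)
  refine mult_of_whiskerLeft (qM Z) _ ?_
  have e : Functor.whiskerLeft (qM Z) (dComp f g w).hom = (dComp₀ f g w).hom := by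
    ext A
    simp [dComp]
  exact e.symm ▸ mult_dComp₀ f g w

/-- The multiplicative square of derived pullbacks. -/
theorem exists_mult_sq {X' Y' : Scheme.{u}} {f : X ⟶ Y} {g : Y' ⟶ Y} {f' : X' ⟶ Y'} {g' : X' ⟶ X}
    (w : f' ≫ g = g' ≫ f) : ∃ σ : lP g ⋙ lP f' ≅ lP f ⋙ lP g',
      Mult (F := dPull g ⋙ dPull f') (F' := dPull f ⋙ dPull g') σ.hom :=
  ⟨(dComp f' g w ≪≫ (dComp g' f rfl).symm :),
    mult_comp (mult_dComp f' g w) (mult_symm _ (mult_dComp g' f rfl))⟩

end Groth.Agent.BC8
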