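import Groth.Agent.Lib.BC8.LichCore
import Groth.Agent.Lib.ProjSpace.Basic
import Groth.Agent.Lib.CohFound.Chow
import Groth.Agent.Lib.BlowUpExist.Proper
import Groth.Agent.Lib.BlowUpFib6.Basic
import Groth.Agent.S0025
import Groth.Agent.S1618
import Groth.Agent.S1682

/-! Top cohomology of a non-proper variety vanishes. -/

set_option autoImplicit false
set_option linter.style.haveILetI false
set_option linter.unusedSectionVars false
set_option backward.isDefEq.respectTransparency false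
set_option backward.isDefEq.respectTransparency.types false
set_option maxHeartbeats 1000000

universe u

open CategoryTheory CategoryTheory.Limits AlgebraicGeometry Opposite TopologicalSpace

noncomputable section

namespace Groth.Agent.BC8

/-- A non-proper variety admits a proper birational map from the complement of an effective Cartier divisor
on a proper variety. -/
theorem exists_cartier_model (k : Type u) [Field k] (U : Scheme.{u}) (f : U ⟶ Spec (CommRingCat.of k))
    [IsIntegral U] [IsSeparated f] [LocallyOfFiniteType f] [QuasiCompact f] (hnp : ¬ IsProper f) :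
    ∃ (Xt : Scheme.{u}) (q : Xt ⟶ Spec (CommRingCat.of k)) (_ : IsProper q) (_ : IsIntegral Xt)
      (I : Xt.IdealSheafData) (_ : BlowUp.IsEffCartierIdeal I) (_ : (EffCartier.cmpl I : Set Xt) ≠ Set.univ)
      (π : (EffCartier.cmpl I).toScheme ⟶ U) (_ : IsProper π) (_ : π ≫ f = (EffCartier.cmpl I).ι ≫ q)
      (U₀ : U.Opens) (_ : (U₀ : Set U).Nonempty) (j : U₀.toScheme ⟶ (EffCartier.cmpl I).toScheme)
      (_ : IsOpenImmersion j) (_ : j ≫ π = U₀.ι),
      topologicalKrullDim Xt = topologicalKrullDim U := by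
  let S := Spec (CommRingCat.of k)
  obtain ⟨n, X', π₀, j, hj, hfac, hπ, -, U₀, hdense, hiso⟩ := S0025.result f
  haveI := hj; haveI := hπ; haveI := hiso
  have hne : (U₀ : Set U).Nonempty := hdense.nonempty
  haveI : IsNoetherian S := inferInstance
  haveI : IsLocallyNoetherian U := LocallyOfFiniteType.isLocallyNoetherian f
  haveI : CompactSpace U := QuasiCompact.compactSpace_of_compactSpace f
  haveI : IsNoetherian U := { }
  let P := CohB1.ProjSpaceOver n S
  let b := CohB1.ProjSpaceOver.toBase n S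
  haveI : IsLocallyNoetherian P := LocallyOfFiniteType.isLocallyNoetherian b
  haveI : CompactSpace P := QuasiCompact.compactSpace_of_compactSpace b
  haveI : IsNoetherian P := { }
  haveI : Nonempty U₀.toScheme := hne.to_subtype
  let W := (π₀ ⁻¹ᵁ U₀).toScheme
  haveI : Nonempty W := ⟨(asIso (π₀ ∣_ U₀)).inv (Classical.arbitrary U₀.toScheme)⟩
  haveI : IsIntegral W := isIntegral_of_isOpenImmersion (π₀ ∣_ U₀ ≫ U₀.ι)
  let kk : W ⟶ P := (π₀ ⁻¹ᵁ U₀).ι ≫ j
  haveI : CompactSpace X' := QuasiCompact.compactSpace_of_compactSpace π₀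
  haveI : IsLocallyNoetherian X' := LocallyOfFiniteType.isLocallyNoetherian π₀
  haveI : IsNoetherian X' := { }
  haveI : IsLocallyNoetherian W := LocallyOfFiniteType.isLocallyNoetherian (π₀ ⁻¹ᵁ U₀).ι
  haveI : CompactSpace W :=
    isCompact_iff_compactSpace.1 (TopologicalSpace.NoetherianSpace.isCompact ((π₀ ⁻¹ᵁ U₀ : X'.Opens) : Set X'))
  haveI : IsNoetherian W := { }
  haveI : QuasiCompact j := ⟨fun V _ _ => TopologicalSpace.NoetherianSpace.isCompact _⟩
  haveI : QuasiCompact kk := ⟨fun V _ _ => TopologicalSpace.NoetherianSpace.isCompact _⟩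
  haveI : IsReduced kk.image := CohFound.isReduced_image kk
  haveI : IrreducibleSpace kk.image := by
    have h := ((IrreducibleSpace.isIrreducible_univ W).image kk.toImage kk.toImage.continuous.continuousOn).closure
    rw [Set.image_univ, ((isDominant_iff kk.toImage).1 inferInstance).closure_range] at h
    exact (irreducibleSpace_def _).2 h
  haveI : IsIntegral kk.image := isIntegral_of_irreducibleSpace_of_isReduced _
  let Xb := kk.image
  let i := kk.imageι
  let p : Xb ⟶ S := i ≫ b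
  haveI : IsLocallyNoetherian Xb := LocallyOfFiniteType.isLocallyNoetherian (i ≫ b)
  haveI : IsProper p := inferInstanceAs (IsProper (i ≫ b))
  -- the part of `Xb` over the piece of `P` where `X'` is closed
  let O := j.coborderRange
  let V := i ⁻¹ᵁ O
  let c : X' ⟶ O.toScheme := j.liftCoborder
  have hc : c ≫ O.ι = j := j.liftCoborder_ι
  let Y := pullback c (i ∣_ O)
  let s₀ : W ⟶ V.toScheme := IsOpenImmersion.lift V.ι kk.toImage (by
    rintro _ ⟨w, rfl⟩
    rw [Scheme.Opens.range_ι]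
    show i (kk.toImage w) ∈ O
    rw [← Scheme.Hom.comp_apply, Scheme.Hom.toImage_imageι]
    show j ((π₀ ⁻¹ᵁ U₀).ι w) ∈ O
    exact subset_coborder ⟨_, rfl⟩)
  have hs₀ : s₀ ≫ V.ι = kk.toImage := IsOpenImmersion.lift_fac _ _ _
  haveI : IsOpenImmersion (s₀ ≫ V.ι) := hs₀ ▸ inferInstance
  haveI : IsOpenImmersion s₀ := IsOpenImmersion.of_comp s₀ V.ι
  let sY : W ⟶ Y := pullback.lift (π₀ ⁻¹ᵁ U₀).ι s₀ (by
    rw [← cancel_mono O.ι, Category.assoc, hc, Category.assoc, morphismRestrict_ι, ← Category.assoc, hs₀,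
      Scheme.Hom.toImage_imageι])
  let r : Y ⟶ V.toScheme := pullback.snd c (i ∣_ O)
  have hsr : sY ≫ r = s₀ := pullback.lift_snd _ _ _
  haveI : Surjective r := by
    refine ⟨fun v => ?_⟩
    have hd : DenseRange s₀ := by
      rw [DenseRange, dense_iff_inter_open]
      intro A hA hAne
      obtain ⟨_, ⟨a, ha, rfl⟩, w, hw⟩ := dense_iff_inter_open.1 ((isDominant_iff kk.toImage).1 inferInstance)
        (V.ι '' A) (V.ι.isOpenEmbedding.isOpenMap A hA) (hAne.image _)
      refine ⟨s₀ w, ?_, w, rfl⟩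
      rw [← hs₀, Scheme.Hom.comp_apply] at hw
      exact V.ι.isOpenEmbedding.injective hw ▸ ha
    have hsub : Set.range s₀ ⊆ Set.range r := by
      rintro _ ⟨w, rfl⟩; exact ⟨sY w, by rw [← hsr, Scheme.Hom.comp_apply]⟩
    exact (r.isClosedEmbedding.isClosed_range.closure_subset_iff.2 hsub) (hd v)
  haveI : IsIso r := isIso_of_isClosedImmersion_of_surjective r
  let g : V.toScheme ⟶ X' := inv r ≫ pullback.fst c (i ∣_ O)
  haveI : IsClosedImmersion g := inferInstanceAs (IsClosedImmersion (inv r ≫ pullback.fst c (i ∣_ O)))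
  have hgj : g ≫ j = V.ι ≫ i := by
    rw [← hc, ← Category.assoc, ← morphismRestrict_ι]
    congr 1
    rw [Category.assoc, pullback.condition, IsIso.inv_hom_id_assoc]
  have hsg : s₀ ≫ g = (π₀ ⁻¹ᵁ U₀).ι := by
    rw [← hsr, Category.assoc, IsIso.hom_inv_id_assoc, pullback.lift_fst]
  let π₁ : V.toScheme ⟶ U := g ≫ π₀
  have hπ₁f : π₁ ≫ f = V.ι ≫ p := by rw [Category.assoc, ← hfac, ← Category.assoc, hgj, Category.assoc]
  have hπ₁ : IsProper π₁ := inferInstanceAs (IsProper (g ≫ π₀))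
  let e₀ : U₀.toScheme ⟶ W := inv (π₀ ∣_ U₀)
  have he₀ : e₀ ≫ (π₀ ⁻¹ᵁ U₀).ι ≫ π₀ = U₀.ι := by
    rw [← morphismRestrict_ι, IsIso.inv_hom_id_assoc]
  let j₁ : U₀.toScheme ⟶ V.toScheme := e₀ ≫ s₀
  have hj₁ : j₁ ≫ π₁ = U₀.ι := by rw [Category.assoc, reassoc_of% hsg, he₀]
  have hVne : (V : Set Xb) ≠ Set.univ := fun hV => hnp (by
    haveI : IsIso V.ι := by
      exact isIso_of_isOpenImmersion_of_opensRange_eq_top V.ι
        (V.opensRange_ι.trans (Opens.ext hV))
    haveI : IsProper (π₁ ≫ f) := hπ₁f ▸ inferInstance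
    haveI : Surjective π₁ := ⟨fun u => by
      have hsub : (U₀ : Set U) ⊆ Set.range π₁ := fun x hx =>
        ⟨j₁ ⟨x, hx⟩, by rw [← Scheme.Hom.comp_apply, hj₁]; rfl⟩
      exact (π₁.isClosedMap.isClosed_range.closure_subset_iff.2 hsub) (hdense u)⟩
    haveI : UniversallyClosed f := UniversallyClosed.of_comp_surjective π₁ f
    exact { })
  -- blow up the boundary
  let Z : Closeds Xb := ⟨(V : Set Xb)ᶜ, V.isOpen.isClosed_compl⟩
  let C := Scheme.IdealSheafData.vanishingIdeal Z
  have hC : C.support.compl = V := by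
    apply Opens.ext
    show (C.support : Set Xb)ᶜ = V
    rw [Scheme.IdealSheafData.coe_support_vanishingIdeal]
    exact compl_compl _
  let Xt := colimit (BlowUpExist.ChartIdx.diagram C)
  let bl : Xt ⟶ Xb := BlowUpExist.ChartIdx.blowUpHom C
  have hbl : BlowUp.IsBlowUp bl C := BlowUpExist.ChartIdx.isBlowUp_blowUpHom
  haveI : IsProper bl := BlowUpExist.isProper (fun A => (IsLocallyNoetherian.component_noetherian A).noetherian _) hbl
  have hCiso : IsIso (bl ∣_ V) := hC ▸ S1682.result C bl hbl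
  haveI := hCiso
  let e₁ : V.toScheme ⟶ (bl ⁻¹ᵁ V).toScheme := inv (bl ∣_ V)
  haveI : Nonempty Xt := ⟨(bl ⁻¹ᵁ V).ι (e₁ (j₁ (Classical.arbitrary _)))⟩
  obtain ⟨hint, -, -⟩ := BlowUpFib6.isIntegral_of_isBlowUp hbl
  haveI := hint
  let I := C.comap bl
  have hI : BlowUp.IsEffCartierIdeal I := hbl.1
  have hcm : EffCartier.cmpl I = bl ⁻¹ᵁ V := by
    rw [← hC]
    apply Opens.ext
    show (I.support : Set Xt)ᶜ = bl ⁻¹' (C.support : Set Xb)ᶜ
    rw [Scheme.IdealSheafData.support_comap, Set.preimage_compl]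
    rfl
  let e₂ := Xt.isoOfEq hcm
  let π : (EffCartier.cmpl I).toScheme ⟶ U := e₂.hom ≫ (bl ∣_ V) ≫ π₁
  let j₂ : U₀.toScheme ⟶ (EffCartier.cmpl I).toScheme := j₁ ≫ e₁ ≫ e₂.inv
  refine ⟨Xt, bl ≫ p, inferInstance, hint, I, hI, ?_, π, inferInstanceAs (IsProper (e₂.hom ≫ (bl ∣_ V) ≫ π₁)), ?_,
    U₀, hne, j₂, inferInstanceAs (IsOpenImmersion (j₁ ≫ e₁ ≫ e₂.inv)), ?_, ?_⟩
  · intro h
    apply hVne
    rw [Set.eq_univ_iff_forall]
    intro x
    obtain ⟨y, hy⟩ : x ∈ Set.range bl := by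
      refine bl.isClosedMap.isClosed_range.closure_subset_iff.2 ?_
        ((V.isOpen.dense ⟨(j₁ (Classical.arbitrary U₀.toScheme)).1, (j₁ _).2⟩) x)
      exact fun v hv => ⟨(bl ⁻¹ᵁ V).ι (e₁ ⟨v, hv⟩), by
        rw [← Scheme.Hom.comp_apply, ← morphismRestrict_ι, ← Scheme.Hom.comp_apply, IsIso.inv_hom_id_assoc]; rfl⟩
    have : y ∈ (EffCartier.cmpl I : Set Xt) := h ▸ trivial
    rw [hcm] at this
    exact hy ▸ this
  · simp only [π, e₂, Category.assoc, hπ₁f, morphismRestrict_ι_assoc, Scheme.isoOfEq_hom_ι_assoc]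
  · simp only [j₂, π, e₁, Category.assoc, Iso.inv_hom_id_assoc, IsIso.inv_hom_id_assoc, hj₁]
  · let jt : U₀.toScheme ⟶ Xt := j₂ ≫ (EffCartier.cmpl I).ι
    letI : Xt.Over S := ⟨bl ≫ p⟩
    letI : U.Over S := ⟨f⟩
    haveI : LocallyOfFiniteType (Xt ↘ S) := inferInstanceAs (LocallyOfFiniteType (bl ≫ p))
    haveI : LocallyOfFiniteType (U ↘ S) := inferInstanceAs (LocallyOfFiniteType f)
    rw [← S1618.result k U U₀ hne, ← S1618.result k Xt jt.opensRange (Set.range_nonempty _)]
    exact (IsHomeomorph.topologicalKrullDim_eq _ jt.isOpenEmbedding.isEmbedding.toHomeomorph.isHomeomorph).symm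

end Groth.Agent.BC8
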