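import Groth.Agent.Lib.BC8.LichMain
import Groth.Agent.Lib.RedSep.Basic
import Groth.Agent.S0027
import Groth.Agent.Lib.CohFound.ClosedImmPush

/-! Lichtenbaum's theorem. -/

set_option autoImplicit false
set_option linter.style.haveILetI false
set_option linter.unusedSectionVars false
set_option backward.isDefEq.respectTransparency false
set_option backward.isDefEq.respectTransparency.types false
set_option maxHeartbeats 1000000

universe u

open CategoryTheory CategoryTheory.Limits AlgebraicGeometry Opposite TopologicalSpace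

attribute [local instance] HasDerivedCategory.standard

noncomputable section

namespace Groth.Agent.BC8

variable (k : Type u) [Field k]

/-- A proper variety has nonzero top cohomology. -/
theorem exists_nontrivial_HH_top (Z : Scheme.{u}) [Z.Over (Spec (CommRingCat.of k))]
    [IsProper (Z ↘ Spec (CommRingCat.of k))] [IrreducibleSpace Z] (d : ℕ)
    (hd : topologicalKrullDim Z = (d : WithBot ℕ∞)) :
    ∃ ω : Z.Modules, Coh.IsCoh ω ∧ Nontrivial (Coh.HH Z ω d) := by
  haveI : ∀ (U V : Scheme.{u}) (j : U ⟶ V) [IsOpenImmersion j],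
      PreservesFiniteLimits (Scheme.Modules.restrictFunctor j) := fun U V j _ => inferInstance
  haveI : ∀ (R : CommRingCat.{u}), PreservesFiniteLimits (tilde.functor R) := fun R => M1.tilde_preservesFiniteLimits
  let f := Z ↘ Spec (CommRingCat.of k)
  haveI : IsLocallyNoetherian Z := LocallyOfFiniteType.isLocallyNoetherian f
  haveI : CompactSpace Z := QuasiCompact.compactSpace_of_compactSpace f
  haveI : IsNoetherian (Spec (CommRingCat.of k)) := inferInstance
  haveI : IsNoetherian Z := { }
  haveI := DBC9.hasRpush f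
  let hp := rpushPreserves f
  haveI := isLeftAdjoint_rpushQ f hp
  let adj := Adjunction.ofIsLeftAdjoint (DCoh.RpushQ f hp)
  have hω := repr_of_adj k Z adj d hd.le
  let eW : (W₀ k).obj ≅ (DPerf.tildeDD (CommRingCat.of k)).obj (Dual.inD k k) := Iso.refl _
  have hK := isDualizingSch_proper (A := CommRingCat.of k) (isDualizing_self_field k) f adj eW
  have hn := dlt_eq_zero_of_isClosed (A := CommRingCat.of k) (isDualizing_self_field k) (isNormalized_self_field k)
    f adj eW
  refine ⟨DCoh.HD ((((DCoh.RpushQ f hp).rightAdjoint).obj (W₀ k))).obj (-((d : ℤ) - 0)), isCohD_dualizing hK _, ?_⟩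
  by_contra hs
  rw [not_nontrivial_iff_subsingleton] at hs
  have hz := isZero_of_subsingleton_HH hω
  have hmem : genericPoint Z ∈ {x : Z | Nontrivial (((DCoh.HD ((((DCoh.RpushQ f hp).rightAdjoint).obj (W₀ k))).obj
      (-(d : ℤ)))).presheaf.stalk x)} := by
    rw [support_top hK hn d hd]
    refine Set.mem_biUnion (x := Set.univ) ⟨?_, ?_⟩ trivial
    · exact ⟨IrreducibleSpace.isIrreducible_univ Z, fun t _ _ => Set.subset_univ t⟩
    · exact (IsHomeomorph.topologicalKrullDim_eq _ (Homeomorph.Set.univ Z).isHomeomorph).trans hd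
  refine not_nontrivial_iff_subsingleton.2 ?_ hmem
  rw [show (-(d : ℤ)) = -((d : ℤ) - 0) by ring]
  exact AddCommGrpCat.subsingleton_of_isZero
    ((Scheme.Modules.toPresheaf Z ⋙ TopCat.Presheaf.stalkFunctor _ (genericPoint Z)).map_isZero hz)

/-- Lichtenbaum's theorem: both directions. -/
theorem lichtenbaum (X : Scheme.{u}) (f : X ⟶ Spec (CommRingCat.of k)) [IsSeparated f] [LocallyOfFiniteType f]
    [QuasiCompact f] [Nonempty X] (d : ℕ) (hd : topologicalKrullDim X ≤ (d : WithBot ℕ∞)) :
    (∀ M : X.Modules, Coh.IsCoh M → Subsingleton (Coh.HH X M d)) ↔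
      ∀ (Z : Scheme.{u}) (i : Z ⟶ X) [IsClosedImmersion i] [IrreducibleSpace Z],
        topologicalKrullDim Z = d → ¬ IsProper (i ≫ f) := by
  haveI : IsLocallyNoetherian X := LocallyOfFiniteType.isLocallyNoetherian f
  haveI : CompactSpace X := QuasiCompact.compactSpace_of_compactSpace f
  haveI : IsNoetherian X := { }
  letI : X.Over (Spec (CommRingCat.of k)) := ⟨f⟩
  refine ⟨fun h Z i _ _ hZd hprop => ?_, fun h M hM => ?_⟩
  · let J := Scheme.IdealSheafData.vanishingIdeal (⊤ : Closeds Z)
    haveI : IsReduced J.subscheme := RedSepLib.isReduced_vanishingIdeal_subscheme _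
    haveI : Surjective J.subschemeι := ⟨fun z => by
      rw [← Set.mem_range, Scheme.IdealSheafData.range_subschemeι, Scheme.IdealSheafData.coe_support_vanishingIdeal]
      trivial⟩
    let e : J.subscheme ≃ₜ Z := (IsHomeomorph.homeomorph J.subschemeι
      ((isHomeomorph_iff_isEmbedding_surjective).2 ⟨J.subschemeι.isClosedEmbedding.isEmbedding,
        J.subschemeι.surjective⟩))
    have hdim : topologicalKrullDim J.subscheme = (d : WithBot ℕ∞) :=
      (IsHomeomorph.topologicalKrullDim_eq _ e.isHomeomorph).trans hZd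
    haveI : IrreducibleSpace J.subscheme := by
      have h0 := (IrreducibleSpace.isIrreducible_univ Z).image e.symm e.symm.continuous.continuousOn
      rw [Set.image_univ, e.symm.surjective.range_eq] at h0
      exact (irreducibleSpace_def _).2 h0
    let i' : J.subscheme ⟶ X := J.subschemeι ≫ i
    haveI := hprop
    letI : J.subscheme.Over (Spec (CommRingCat.of k)) := ⟨i' ≫ f⟩
    haveI : IsProper (J.subscheme ↘ Spec (CommRingCat.of k)) := by
      show IsProper ((J.subschemeι ≫ i) ≫ f)
      rw [Category.assoc]; infer_instance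
    obtain ⟨ω, hω, hnt⟩ := exists_nontrivial_HH_top k J.subscheme d hdim
    haveI : ω.IsQuasicoherent := hω.1
    haveI : IsLocallyNoetherian J.subscheme := LocallyOfFiniteType.isLocallyNoetherian i'
    obtain ⟨T⟩ := CurveCoh17.nonempty_hequiv_push (A := k) (f := i') rfl ω d
    haveI := h _ (CohFound.isCoh_push_closedImm i' hω)
    exact not_nontrivial_iff_subsingleton.2 T.symm.toEquiv.subsingleton hnt
  · refine S0027.result X (fun M => Subsingleton (Coh.HH X M d)) ?_ ?_ ?_ M hM
    · rintro A B ⟨e⟩ hA
      refine subsingleton_of_forall_eq 0 fun x => ?_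
      have hid : Sheaf.H.map ((SheafOfModules.toSheaf X.ringCatSheaf).map e.hom) d
          (Sheaf.H.map ((SheafOfModules.toSheaf X.ringCatSheaf).map e.inv) d x) = x := by
        rw [← Sheaf.H.map_comp_apply, ← Functor.map_comp, e.inv_hom_id, CategoryTheory.Functor.map_id,
          Sheaf.H.map_id_apply]
      rw [← hid, Subsingleton.elim (α := Coh.HH X A d) (Sheaf.H.map _ d x) 0, map_zero]
    · intro S hS _ _ _ h1 h3
      simp only [CohFound.subsingleton_HH_iff] at h1 h3 ⊢
      exact SheafVan16.van_X₂ (CohFound.shortExact_abF hS) ⊤ d h1 h3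
    · intro Z i hi hint I ι _ hI
      haveI := hi; haveI := hint
      letI : Z.Over (Spec (CommRingCat.of k)) := ⟨i ≫ f⟩
      haveI : IsLocallyNoetherian Z := LocallyOfFiniteType.isLocallyNoetherian i
      haveI : CompactSpace Z := QuasiCompact.compactSpace_of_compactSpace (i ≫ f)
      haveI : IsNoetherian Z := { }
      haveI : I.IsQuasicoherent := hI
      obtain ⟨T⟩ := CurveCoh17.nonempty_hequiv_push (A := k) (f := i) rfl I d
      haveI : Subsingleton (Coh.HH Z I d) := by
        have hZd : topologicalKrullDim Z ≤ (d : WithBot ℕ∞) :=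
          le_trans i.isClosedEmbedding.isInducing.topologicalKrullDim_le hd
        rcases hZd.lt_or_eq with hlt | heq
        · exact not_nontrivial_iff_subsingleton.1 fun hn =>
            absurd (le_topologicalKrullDim_of_nontrivial k Z (i ≫ f) I d hn) (not_le.2 hlt)
        · exact subsingleton_HH_of_not_proper k Z (i ≫ f) (h Z i heq) d hZd I hI
      exact T.toEquiv.subsingleton

end Groth.Agent.BC8
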