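import Groth.Agent.Lib.BC8.LichChow

/-! Lichtenbaum vanishing for varieties. -/

set_option autoImplicit false
set_option linter.style.haveILetI false
set_option linter.unusedSectionVars false
set_option backward.isDefEq.respectTransparency false
set_option backward.isDefEq.respectTransparency.types false
set_option maxHeartbeats 1000000

universe u

open CategoryTheory CategoryTheory.Limits AlgebraicGeometry Opposite TopologicalSpace

attribute [local instance] HasDerivedCategory.standard

noncomputable section

namespace Groth.Agent.BC8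

/-- A non-proper variety of dimension at most `d` has no `H^d`. -/
theorem subsingleton_HH_of_not_proper (k : Type u) [Field k] (U : Scheme.{u}) (f : U ⟶ Spec (CommRingCat.of k))
    [IsIntegral U] [IsSeparated f] [LocallyOfFiniteType f] [QuasiCompact f] (hnp : ¬ IsProper f)
    (d : ℕ) (hd : topologicalKrullDim U ≤ (d : WithBot ℕ∞)) (F : U.Modules) (hF : Coh.IsQCoh F) :
    Subsingleton (Coh.HH U F d) := by
  obtain ⟨Xt, q, hq, hint, I, hI, hne, π, hπ, hπf, U₀, hne₀, j, hj, hjπ, hdim⟩ := exists_cartier_model k U f hnp
  haveI := hq; haveI := hint; haveI := hπ; haveI := hj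
  letI : U.Over (Spec (CommRingCat.of k)) := ⟨f⟩
  letI : Xt.Over (Spec (CommRingCat.of k)) := ⟨q⟩
  let U' := (EffCartier.cmpl I).toScheme
  letI : U'.Over (Spec (CommRingCat.of k)) := ⟨(EffCartier.cmpl I).ι ≫ q⟩
  haveI : IsProper (Xt ↘ Spec (CommRingCat.of k)) := hq
  haveI : IsLocallyNoetherian U := LocallyOfFiniteType.isLocallyNoetherian f
  haveI : CompactSpace U := QuasiCompact.compactSpace_of_compactSpace f
  haveI : IsNoetherian U := { }
  haveI : U.IsSeparated := ⟨by rw [← terminal.comp_from f]; infer_instance⟩
  haveI : IsLocallyNoetherian Xt := LocallyOfFiniteType.isLocallyNoetherian q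
  haveI : CompactSpace Xt := QuasiCompact.compactSpace_of_compactSpace q
  haveI : IsNoetherian Xt := { }
  haveI : IsLocallyNoetherian U' := LocallyOfFiniteType.isLocallyNoetherian (EffCartier.cmpl I).ι
  haveI : CompactSpace U' :=
    isCompact_iff_compactSpace.1 (NoetherianSpace.isCompact ((EffCartier.cmpl I : Xt.Opens) : Set Xt))
  haveI : IsNoetherian U' := { }
  haveI : IsSeparated (U ↘ Spec (CommRingCat.of k)) := ‹IsSeparated f›
  haveI : QuasiCompact (U ↘ Spec (CommRingCat.of k)) := ‹QuasiCompact f›
  haveI : IsSeparated (U' ↘ Spec (CommRingCat.of k)) := by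
    show IsSeparated ((EffCartier.cmpl I).ι ≫ q); rw [← hπf]; infer_instance
  haveI : QuasiCompact (U' ↘ Spec (CommRingCat.of k)) := by
    show QuasiCompact ((EffCartier.cmpl I).ι ≫ q); rw [← hπf]; infer_instance
  have hdt : topologicalKrullDim Xt ≤ (d : WithBot ℕ∞) := hdim ▸ hd
  exact subsingleton_of_birational (k := k) π hπf U₀ hne₀ j hjπ d hd
    (le_trans (Topology.IsInducing.subtypeVal (t := ((EffCartier.cmpl I : Xt.Opens) : Set Xt))).topologicalKrullDim_le hdt)
    (fun G hG => subsingleton_HH_cmpl (k := k) I hI hne rfl d hdt G hG) F hF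

/-- Cohomology of a variety vanishes above its dimension. -/
theorem le_topologicalKrullDim_of_nontrivial (k : Type u) [Field k] (U : Scheme.{u}) (f : U ⟶ Spec (CommRingCat.of k))
    [IrreducibleSpace U] [LocallyOfFiniteType f] [QuasiCompact f] (F : U.Modules) (d : ℕ)
    (h : Nontrivial (Coh.HH U F d)) : (d : WithBot ℕ∞) ≤ topologicalKrullDim U := by
  haveI : IsLocallyNoetherian U := LocallyOfFiniteType.isLocallyNoetherian f
  haveI : CompactSpace U := QuasiCompact.compactSpace_of_compactSpace f
  haveI : IsNoetherian U := { }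
  by_contra hlt
  rw [not_le] at hlt
  rcases d with _ | m
  · haveI : Nonempty (IrreducibleCloseds U) :=
      ⟨⟨Set.univ, IrreducibleSpace.isIrreducible_univ U, isClosed_univ⟩⟩
    exact absurd hlt (not_lt.2 Order.krullDim_nonneg)
  · exact not_nontrivial_iff_subsingleton.2
      (subsingleton_HH_above U m (ENat.WithBot.lt_add_one_iff.1 (by exact_mod_cast hlt)) F (i := m + 1) (by omega)) h

end Groth.Agent.BC8
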