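import Groth.Agent.Lib.BC8.Principal
import Groth.Agent.Lib.BC8.Tri
import Groth.Agent.Lib.DPush9.Tilde
import Groth.Agent.Lib.DGen9.KoszulOrth

/-!
The twisted inverse image of the structure sheaf along a principal divisor of an affine scheme.
-/

set_option autoImplicit false
set_option linter.unusedSectionVars false
set_option linter.style.haveILetI false
set_option backward.isDefEq.respectTransparency false
set_option backward.isDefEq.respectTransparency.types false
set_option maxHeartbeats 800000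

universe u

open CategoryTheory CategoryTheory.Limits AlgebraicGeometry

attribute [local instance] HasDerivedCategory.standard

namespace Groth.Agent.BC8

variable (R : CommRingCat.{u}) [PreservesFiniteLimits (tilde.functor R)]

/-- The structure sheaf as the tilde of the ring. -/
noncomputable def oneTilde :
    DCoh.inD (Spec R) (Coh.structureModule (Spec R)) ≅
      (DPerf.tildeDD R).obj ((DerivedCategory.singleFunctor (ModuleCat.{u} R) 0).obj (ModuleCat.of R R)) :=
  (DerivedCategory.singleFunctor (Spec R).Modules 0).mapIso (tildeSelf (R := R)).symm ≪≫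
    ((tilde.functor R).mapDerivedCategorySingleFunctor 0).symm.app (ModuleCat.of R R)

variable {R}

/-- `Ext`-free form of the fully faithfulness of `tilde`. -/
noncomputable def tildeEquiv (N M : DerivedCategory (ModuleCat.{u} R)) :
    (N ⟶ M) ≃ ((DPerf.tildeDD R).obj N ⟶ (DPerf.tildeDD R).obj M) :=
  Equiv.ofBijective _ (DQC.bijective_map N M)

variable {S : CommRingCat.{u}} (φ : R ⟶ S) (hsurj : Function.Surjective φ.hom) (τ : R)
  (hτ : ∀ a : R, τ * a = 0 → a = 0) (hker : RingHom.ker φ.hom = Ideal.span {τ})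
  [DCoh.HasRpush (Spec.map φ)] {hf : DCoh.RpushPreservesQCoh (Spec.map φ)}
  {a : DCoh.DQCoh (Spec R) ⥤ DCoh.DQCoh (Spec S)} (adj : DCoh.RpushQ (Spec.map φ) hf ⊣ a)

include hsurj hτ hker adj in
/-- `a(O)[1] ≅ O` for a principal divisor. -/
theorem nonempty_principal_spec (O : DCoh.DQCoh (Spec R))
    (eO : O.obj ≅ DCoh.inD (Spec R) (Coh.structureModule (Spec R))) :
    Nonempty (((a.obj O).obj)⟦(1 : ℤ)⟧ ≅ DCoh.inD (Spec S) (Coh.structureModule (Spec S))) := by
  haveI : PreservesFiniteLimits (tilde.functor S) := M1.tilde_preservesFiniteLimits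
  obtain ⟨ε⟩ := DPush9.nonempty_tildeD_rpush_iso φ
  obtain ⟨_, _⟩ := exists_triangulated (Spec.map φ) hf adj
  let A₁ := ((DerivedCategory.singleFunctor (ModuleCat.{u} R) 0).obj (ModuleCat.of R R))⟦(1 : ℤ)⟧
  let K₁ : DCoh.DQCoh (Spec R) := O⟦(1 : ℤ)⟧
  let eK : K₁.obj ≅ (DPerf.tildeDD R).obj A₁ :=
    ((ObjectProperty.ι _).commShiftIso (1 : ℤ)).app O ≪≫ (shiftFunctor _ (1 : ℤ)).mapIso (eO ≪≫ oneTilde R) ≪≫
      (((DPerf.tildeDD R).commShiftIso (1 : ℤ)).app _).symm
  obtain ⟨M, ⟨eM⟩⟩ := DQC.exists_iso_of_isQCohD (a.obj K₁).obj (a.obj K₁).property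
  let tq : DerivedCategory (ModuleCat.{u} S) → DCoh.DQCoh (Spec S) := fun N =>
    ⟨(DPerf.tildeDD S).obj N, DQC.isQCohD_obj N⟩
  let e : ∀ N : DerivedCategory (ModuleCat.{u} S), (N ⟶ M) ≃ ((DRing.restrictD φ.hom).obj N ⟶ A₁) := fun N =>
    (((tildeEquiv N M).trans ((Iso.refl _).homCongr eM)).trans
      (((ObjectProperty.fullyFaithfulι _).homEquiv (X := tq N) (Y := a.obj K₁)).symm.trans
        ((adj.homEquiv (tq N) K₁).symm.trans ((ObjectProperty.fullyFaithfulι _).homEquiv)))).trans
      (((ε.app N).homCongr eK).trans (tildeEquiv _ A₁).symm)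
  have he : ∀ {N N' : DerivedCategory (ModuleCat.{u} S)} (v : N ⟶ N') (w : N' ⟶ M),
      e N (v ≫ w) = (DRing.restrictD φ.hom).map v ≫ e N' w := by
    intro N N' v w
    apply (tildeEquiv _ A₁).injective
    have h1 : ∀ (N : DerivedCategory (ModuleCat.{u} S)) (w : N ⟶ M),
        (tildeEquiv _ A₁) (e N w) = ε.inv.app N ≫ ((adj.homEquiv (tq N) K₁).symm
          (ObjectProperty.homMk ((DPerf.tildeDD S).map w ≫ eM.hom))).hom ≫ eK.hom := by
      intro N w
      refine (Equiv.apply_symm_apply _ _).trans ?_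
      show ε.inv.app N ≫ ((adj.homEquiv (tq N) K₁).symm (ObjectProperty.homMk
        (𝟙 _ ≫ (DPerf.tildeDD S).map w ≫ eM.hom))).hom ≫ eK.hom = _
      rw [Category.id_comp]
    rw [h1]
    refine Eq.trans ?_ ((DPerf.tildeDD R).map_comp _ _).symm
    rw [show (DPerf.tildeDD R).map (e N' w) = _ from h1 N' w, ← Category.assoc ((DPerf.tildeDD R).map _),
      show (DPerf.tildeDD R).map ((DRing.restrictD φ.hom).map v) ≫ ε.inv.app N' =
        ε.inv.app N ≫ (DCoh.Rpush (Spec.map φ)).map ((DPerf.tildeDD S).map v) from ε.inv.naturality v,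
      Category.assoc]
    congr 1
    rw [← Category.assoc]
    congr 1
    let vq : tq N ⟶ tq N' := ObjectProperty.homMk ((DPerf.tildeDD S).map v)
    refine Eq.trans ?_ (congrArg (fun t => t.hom) (adj.homEquiv_naturality_left_symm vq
      (ObjectProperty.homMk ((DPerf.tildeDD S).map w ≫ eM.hom))))
    congr 2
    exact ObjectProperty.hom_ext _ (by
      show (DPerf.tildeDD S).map (v ≫ w) ≫ eM.hom = (DPerf.tildeDD S).map v ≫ (DPerf.tildeDD S).map w ≫ eM.hom
      rw [Functor.map_comp, Category.assoc])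
  obtain ⟨i⟩ := nonempty_principal φ hsurj τ hτ hker M e he
  exact ⟨((ObjectProperty.ι _).commShiftIso (1 : ℤ)).symm.app (a.obj O) ≪≫
    (ObjectProperty.ι _).mapIso ((a.commShiftIso (1 : ℤ)).symm.app O) ≪≫ eM.symm ≪≫
    (DPerf.tildeDD S).mapIso i.symm ≪≫ (oneTilde S).symm⟩

end Groth.Agent.BC8
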