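import Groth.Agent.Lib.BC8.SmoothDiag
import Groth.Agent.Lib.BC8.PrincipalSpec
import Groth.Agent.Lib.ProjSpace.BaseChange
import Groth.Agent.Lib.TwistBC9.Tensor
import Mathlib.RingTheory.PolynomialAlgebra
import Mathlib.RingTheory.Polynomial.Ideal

/-!
The twisted inverse image of the affine line over `ℤ`.
-/

set_option autoImplicit false
set_option linter.unusedSectionVars false
set_option linter.style.haveILetI false
set_option backward.isDefEq.respectTransparency false
set_option backward.isDefEq.respectTransparency.types false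
set_option maxHeartbeats 800000

universe u

open CategoryTheory CategoryTheory.Limits AlgebraicGeometry TensorProduct

attribute [local instance] HasDerivedCategory.standard

namespace Groth.Agent.BC8

/-- The kernel of multiplication of a polynomial ring in one variable. -/
theorem exists_ker_mul (R : Type u) [CommRing R] (σ : Type) [Unique σ] :
    ∃ d : MvPolynomial σ R ⊗[R] MvPolynomial σ R, (∀ z, d * z = 0 → z = 0) ∧
      RingHom.ker (Algebra.TensorProduct.lmul' R : MvPolynomial σ R ⊗[R] MvPolynomial σ R →ₐ[R] _).toRingHom =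
        Ideal.span {d} := by
  let A := MvPolynomial σ R
  let E : Polynomial A ≃ₐ[R] A ⊗[R] A :=
    (polyEquivTensor R A).trans (Algebra.TensorProduct.congr AlgEquiv.refl (MvPolynomial.uniqueAlgEquiv R σ).symm)
  let x : A := MvPolynomial.X default
  have hcomp : ((Algebra.TensorProduct.lmul' R : A ⊗[R] A →ₐ[R] A).comp E.toAlgHom) =
      (Polynomial.aeval x : Polynomial A →ₐ[A] A).restrictScalars R := by
    refine Polynomial.algHom_ext' ?_ ?_
    · refine AlgHom.ext fun a => ?_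
      simp [E, polyEquivTensor_apply, x, Polynomial.CAlgHom]
    · simp [E, polyEquivTensor_apply, x, MvPolynomial.uniqueAlgEquiv]
      exact Polynomial.eval₂_X _ _
  have hk : ∀ p, (Algebra.TensorProduct.lmul' R : A ⊗[R] A →ₐ[R] A) (E p) = p.eval x := fun p => by
    simpa [Polynomial.coe_aeval_eq_eval] using AlgHom.congr_fun hcomp p
  refine ⟨E (Polynomial.X - Polynomial.C x), fun z hz => ?_, ?_⟩
  · obtain ⟨p, rfl⟩ := E.surjective z
    rw [← map_mul, ← map_zero E] at hz
    have h0 : (Polynomial.X - Polynomial.C x) * p = (Polynomial.X - Polynomial.C x) * 0 := by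
      rw [mul_zero]; exact E.injective hz
    rw [(Polynomial.monic_X_sub_C x).isRegular.left h0, map_zero]
  · ext z
    obtain ⟨p, rfl⟩ := E.surjective z
    rw [RingHom.mem_ker, Ideal.mem_span_singleton]
    show (Algebra.TensorProduct.lmul' R : A ⊗[R] A →ₐ[R] A) (E p) = 0 ↔ _
    rw [hk, ← Polynomial.IsRoot.def, ← Polynomial.dvd_iff_isRoot]
    exact ⟨fun h => map_dvd E h, fun h => by
      have := map_dvd E.symm h
      rwa [E.symm_apply_apply, E.symm_apply_apply] at this⟩

/-- The index of the chart of the projective line. -/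
abbrev LineIdx : Type := {j : Fin (1 + 1) // j ≠ 0}

instance : Unique LineIdx where
  default := ⟨1, by decide⟩
  uniq := fun a => by
    obtain ⟨a, ha⟩ := a
    refine Subtype.ext (Fin.ext ?_)
    show a.val = 1
    have := a.isLt
    have : a.val ≠ 0 := fun h => ha (Fin.ext h)
    omega

/-- The ring of integers in the universe. -/
abbrev ZR : Type u := ULift.{u} ℤ

/-- The polynomial ring in one variable over `ℤ`. -/
abbrev ZA : Type u := MvPolynomial LineIdx ZR.{u}

/-- The affine line over `ℤ`. -/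
noncomputable abbrev lineZ : Spec (CommRingCat.of ZA.{u}) ⟶ Spec (CommRingCat.of ZR.{u}) :=
  Spec.map (CommRingCat.ofHom (algebraMap ZR.{u} ZA.{u}))

/-- `Δ^!O[1] ≅ O` for the affine line over `ℤ`. -/
theorem nonempty_lineZ_diag [DCoh.HasRpush (pullback.diagonal lineZ.{u})]
    {hΔ : DCoh.RpushPreservesQCoh (pullback.diagonal lineZ.{u})}
    {aΔ : DCoh.DQCoh (pullback lineZ.{u} lineZ.{u}) ⥤ DCoh.DQCoh (Spec (CommRingCat.of ZA.{u}))}
    (adjΔ : DCoh.RpushQ (pullback.diagonal lineZ.{u}) hΔ ⊣ aΔ) (O : DCoh.DQCoh (pullback lineZ.{u} lineZ.{u}))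
    (eO : O.obj ≅ DCoh.inD _ (Coh.structureModule (pullback lineZ.{u} lineZ.{u}))) :
    Nonempty ((aΔ.obj O).obj⟦(1 : ℤ)⟧ ≅
      DCoh.inD (Spec (CommRingCat.of ZA.{u})) (Coh.structureModule (Spec (CommRingCat.of ZA.{u})))) := by
  let e := pullbackSpecIso ZR.{u} ZA.{u} ZA.{u}
  let μ : CommRingCat.of (ZA.{u} ⊗[ZR.{u}] ZA.{u}) ⟶ CommRingCat.of ZA.{u} :=
    CommRingCat.ofHom (Algebra.TensorProduct.lmul' ZR.{u} : ZA.{u} ⊗[ZR.{u}] ZA.{u} →ₐ[ZR.{u}] ZA.{u}).toRingHom
  have hd : Spec.map μ ≫ e.inv = pullback.diagonal lineZ.{u} := (diagonal_SpecMap _ _).symm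
  haveI : IsNoetherianRing ZR.{u} := isNoetherianRing_of_ringEquiv ℤ ULift.ringEquiv.symm
  haveI : IsNoetherian (pullback lineZ.{u} lineZ.{u}) := by
    haveI : IsLocallyNoetherian (pullback lineZ.{u} lineZ.{u}) :=
      LocallyOfFiniteType.isLocallyNoetherian (pullback.fst lineZ.{u} lineZ.{u} ≫ lineZ)
    exact { }
  haveI : CompactSpace (Spec (CommRingCat.of (ZA.{u} ⊗[ZR.{u}] ZA.{u}))) := inferInstance
  haveI := DBC9.hasRpush e.inv
  haveI := DBC9.hasRpush (Spec.map μ)
  let hi := rpushPreserves e.inv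
  let hm := rpushPreserves (Spec.map μ)
  haveI := isLeftAdjoint_rpushQ e.inv hi
  haveI := isLeftAdjoint_rpushQ (Spec.map μ) hm
  let adji := Adjunction.ofIsLeftAdjoint (DCoh.RpushQ e.inv hi)
  let adjm := Adjunction.ofIsLeftAdjoint (DCoh.RpushQ (Spec.map μ) hm)
  let Oi := (DCoh.RpushQ e.inv hi).rightAdjoint.obj O
  have hbdd : Dual3.IsBddBelowQ _ O :=
    ⟨0, (DerivedCategory.TStructure.t : Triangulated.TStructure (DCoh.D _)).isGE_of_iso eO.symm 0⟩
  obtain ⟨n⟩ := nonempty_shriek_open e.inv e.inv (𝟙 _) (Category.id_comp _) adji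
  obtain ⟨u⟩ := TwistBC9.nonempty_lP_oneM e.inv 0
  obtain ⟨d, hd1, hd2⟩ := exists_ker_mul ZR.{u} LineIdx
  haveI : PreservesFiniteLimits (tilde.functor (CommRingCat.of (ZA.{u} ⊗[ZR.{u}] ZA.{u}))) :=
    M1.tilde_preservesFiniteLimits
  obtain ⟨r⟩ := nonempty_principal_spec μ (fun a => ⟨a ⊗ₜ 1, (Algebra.TensorProduct.lmul'_apply_tmul a 1).trans (mul_one a)⟩)
    d hd1 hd2 adjm Oi
    (((DBC9.lPId _).app _).symm ≪≫ n.app ⟨O, hbdd⟩ ≪≫ (DMon9.lP e.inv).mapIso eO ≪≫ u)
  exact ⟨(shiftFunctor _ (1 : ℤ)).mapIso ((ObjectProperty.ι _).mapIso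
    (((compA adjm adji adjΔ hd).app O).symm)) ≪≫ r⟩

end Groth.Agent.BC8
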