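import Groth.Agent.Lib.BC8.Cop
import Groth.Agent.Lib.DGen9.PerfMain
import Mathlib.AlgebraicGeometry.Morphisms.Affine

/-!
Global base change for right adjoints.
-/

set_option autoImplicit false
set_option linter.unusedSectionVars false
set_option linter.style.haveILetI false
set_option backward.isDefEq.respectTransparency false
set_option backward.isDefEq.respectTransparency.types false
set_option maxHeartbeats 800000

universe u

open CategoryTheory CategoryTheory.Limits AlgebraicGeometry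

attribute [local instance] HasDerivedCategory.standard

namespace Groth.Agent.BC8

open DMon9

variable {X Y X' Y' : Scheme.{u}}

theorem qc_of_qcqs (k : X ⟶ Y) [CompactSpace X] [QuasiSeparatedSpace Y] : QuasiCompact k :=
  QuasiCompact.of_comp k (terminal.from Y)

theorem qs_of_qcqs (k : X ⟶ Y) [QuasiSeparatedSpace X] : QuasiSeparated k :=
  QuasiSeparated.of_comp k (terminal.from Y)

theorem rpushPreserves (k : X ⟶ Y) [QuasiCompact k] [QuasiSeparated k] [DCoh.HasRpush k] :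
    DCoh.RpushPreservesQCoh k :=
  fun K hK => DPush.isQCohD_rpush k K hK

/-- Tor-independence on affine opens. -/
def TorI (f : X ⟶ Y) (g : Y' ⟶ Y) : Prop :=
  ∀ (U : Y.Opens), IsAffineOpen U → ∀ (U' : Y'.Opens), IsAffineOpen U' → ∀ (hU' : U' ≤ g ⁻¹ᵁ U)
    (V : X.Opens), IsAffineOpen V → ∀ (hV : V ≤ f ⁻¹ᵁ U),
    DBC9.TorIndep (g.appLE U U' hU').hom (f.appLE U V hV).hom

/-- The base change of an open of the new base. -/
theorem torI_open {f : X ⟶ Y} {g : Y' ⟶ Y} (h : TorI f g) (U' : Y'.Opens) : TorI f (U'.ι ≫ g) := by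
  intro U hU W hW hle V hV hVU q hq
  have hW' : IsAffineOpen (U'.ι ''ᵁ W) := hW.image_of_isOpenImmersion U'.ι
  have hle' : U'.ι ''ᵁ W ≤ g ⁻¹ᵁ U := by
    rintro _ ⟨z, hz, rfl⟩
    exact hle hz
  have h0 := h U hU _ hW' hle' V hV hVU q hq
  let c : Γ(Y', U'.ι ''ᵁ W) ≅ Γ((U' : Scheme.{u}), W) := U'.ι.appIso W
  have hc : (U'.ι ≫ g).appLE U W hle = g.appLE U (U'.ι ''ᵁ W) hle' ≫ c.hom := by
    rw [← Scheme.Hom.appLE_comp_appLE U'.ι g U (U'.ι ''ᵁ W) W hle'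
      (fun z hz => ⟨z, hz, rfl⟩)]
    congr 1
    exact (U'.ι.appIso_hom' W).symm
  letI m₁ : Module Γ(Y, U) Γ(Y', U'.ι ''ᵁ W) := (g.appLE U (U'.ι ''ᵁ W) hle').hom.toModule
  letI m₂ : Module Γ(Y, U) Γ((U' : Scheme.{u}), W) := ((U'.ι ≫ g).appLE U W hle).hom.toModule
  letI m₃ : Module Γ(Y, U) Γ(X, V) := (f.appLE U V hVU).hom.toModule
  let e : Γ(Y', U'.ι ''ᵁ W) ≃ₗ[Γ(Y, U)] Γ((U' : Scheme.{u}), W) :=
    { c.commRingCatIsoToRingEquiv.toAddEquiv with
      map_smul' := fun r x => by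
        show c.hom ((g.appLE U (U'.ι ''ᵁ W) hle').hom r * x) = ((U'.ι ≫ g).appLE U W hle).hom r * c.hom x
        rw [map_mul, hc]
        rfl }
  haveI : Subsingleton (((CategoryTheory.Tor (ModuleCat.{u} Γ(Y, U)) q).obj (ModuleCat.of _ Γ(Y', U'.ι ''ᵁ W))).obj
      (ModuleCat.of _ Γ(X, V))) := h0
  exact ((((CategoryTheory.Tor (ModuleCat.{u} Γ(Y, U)) q).mapIso e.toModuleIso).app
    (ModuleCat.of _ Γ(X, V))).toLinearEquiv).symm.subsingleton

/-- Flat squares are tor-independent. -/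
theorem torI_of_flat {f : X ⟶ Y} {g : Y' ⟶ Y} (hflat : Flat f ∨ Flat g) : TorI f g :=
  fun U hU U' hU' hle V hV hVU => by
    rcases hflat with h | h
    · exact DBC9.torIndep_of_flat_right _ _ (h.flat_appLE hU hV hVU)
    · exact DBC9.torIndep_of_flat_left _ _ (h.flat_appLE hU hU' hle)

variable {f : X ⟶ Y} {g : Y' ⟶ Y} {f' : X' ⟶ Y'} {g' : X' ⟶ X}

/-- The projection from the part over an affine open factors as affine followed by an open immersion. -/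
theorem refl_chart (hsq : IsPullback g' f' f g) {U : Y.Opens} (hU : IsAffineOpen U) {U' : Y'.Opens}
    (hU' : IsAffineOpen U') (hle : U' ≤ g ⁻¹ᵁ U) [DCoh.HasRpush ((f' ⁻¹ᵁ U').ι ≫ g')] :
    Refl ((f' ⁻¹ᵁ U').ι ≫ g') := by
  haveI : IsAffine (U : Scheme.{u}) := hU
  haveI : IsAffine (U' : Scheme.{u}) := hU'
  let gU := g.resLE U U' hle
  have hgU : gU ≫ U.ι = U'.ι ≫ g := Scheme.Hom.resLE_comp_ι g hle
  have hU0 := (isPullback_morphismRestrict f U).flip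
  have hT : IsPullback ((f' ⁻¹ᵁ U').ι ≫ g') (f' ∣_ U') f (U'.ι ≫ g) :=
    (isPullback_morphismRestrict f' U').flip.paste_horiz hsq
  rw [← hgU] at hT
  have w : ((f' ⁻¹ᵁ U').ι ≫ g') ≫ f = ((f' ∣_ U') ≫ gU) ≫ U.ι := by rw [hT.w, Category.assoc]
  let p := hU0.lift ((f' ⁻¹ᵁ U').ι ≫ g') ((f' ∣_ U') ≫ gU) w
  have hp : p ≫ (f ⁻¹ᵁ U).ι = (f' ⁻¹ᵁ U').ι ≫ g' := hU0.lift_fst _ _ _
  have hsqp : IsPullback p (f' ∣_ U') (f ∣_ U) gU :=
    IsPullback.of_right (by rwa [hp]) (hU0.lift_snd _ _ _) hU0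
  haveI : IsAffineHom p := MorphismProperty.of_isPullback hsqp.flip (inferInstance : IsAffineHom gU)
  exact refl_comp p (f ⁻¹ᵁ U).ι _ hp

variable [CompactSpace X] [QuasiSeparatedSpace X] [CompactSpace Y] [QuasiSeparatedSpace Y]
  [CompactSpace X'] [QuasiSeparatedSpace X'] [CompactSpace Y'] [QuasiSeparatedSpace Y']
  [DCoh.HasRpush f] [DCoh.HasRpush f'] {hf : DCoh.RpushPreservesQCoh f} {hf' : DCoh.RpushPreservesQCoh f'}
  {a : DCoh.DQCoh Y ⥤ DCoh.DQCoh X} {a' : DCoh.DQCoh Y' ⥤ DCoh.DQCoh X'}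
  (adj : DCoh.RpushQ f hf ⊣ a) (adj' : DCoh.RpushQ f' hf' ⊣ a')

omit [CompactSpace X'] [QuasiSeparatedSpace X'] in
theorem compactSpace_preimage [QuasiCompact f'] {U' : Y'.Opens} (hU' : IsAffineOpen U') :
    CompactSpace (f' ⁻¹ᵁ U' : Scheme.{u}) :=
  isCompact_iff_compactSpace.mp (f'.isCompact_preimage hU'.isCompact)

theorem quasiSeparatedSpace_open {W : X'.Opens} : QuasiSeparatedSpace (W : Scheme.{u}) :=
  W.ι.isOpenEmbedding.quasiSeparatedSpace

include adj adj' in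
/-- Preservation of coproducts passes to tor-independent base changes. -/
theorem preservesCoproducts_baseChange (hsq : IsPullback g' f' f g) (htor : TorI f g)
    (hcop : ∀ J : Type u, PreservesColimitsOfShape (Discrete J) a) (J : Type u) :
    PreservesColimitsOfShape (Discrete J) a' := by
  haveI := qc_of_qcqs f
  haveI := qs_of_qcqs f
  haveI := qc_of_qcqs f'
  haveI := qs_of_qcqs f'
  refine Dual8.preservesCoproducts adj' (fun P hP => PerfPush9.isPerfect_of_cover fun y => ?_) J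
  obtain ⟨U, hU, hyU, -⟩ := TopologicalSpace.Opens.isBasis_iff_nbhd.1 Y.isBasis_affineOpens
    (TopologicalSpace.Opens.mem_top (g y))
  obtain ⟨U', hU', hyU', hle⟩ : ∃ U' : Y'.Opens, IsAffineOpen U' ∧ y ∈ U' ∧ U' ≤ g ⁻¹ᵁ U :=
    TopologicalSpace.Opens.isBasis_iff_nbhd.1 Y'.isBasis_affineOpens (show y ∈ g ⁻¹ᵁ U from hyU)
  haveI : IsAffine (U' : Scheme.{u}) := hU'
  haveI := compactSpace_preimage (f' := f') hU'
  haveI := quasiSeparatedSpace_open (W := f' ⁻¹ᵁ U')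
  haveI := qc_of_qcqs (f' ∣_ U')
  haveI := qs_of_qcqs (f' ∣_ U')
  haveI := qc_of_qcqs (U'.ι ≫ g)
  haveI := qs_of_qcqs (U'.ι ≫ g)
  haveI := qc_of_qcqs ((f' ⁻¹ᵁ U').ι ≫ g')
  haveI := qs_of_qcqs ((f' ⁻¹ᵁ U').ι ≫ g')
  haveI := DBC9.hasRpush (f' ∣_ U')
  haveI := DBC9.hasRpush (U'.ι ≫ g)
  haveI := DBC9.hasRpush ((f' ⁻¹ᵁ U').ι ≫ g')
  let hT := rpushPreserves (f' ∣_ U')
  haveI := isLeftAdjoint_rpushQ (f' ∣_ U') hT
  let adjT := Adjunction.ofIsLeftAdjoint (DCoh.RpushQ (f' ∣_ U') hT)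
  have hsqc : IsPullback ((f' ⁻¹ᵁ U').ι ≫ g') (f' ∣_ U') f (U'.ι ≫ g) :=
    (isPullback_morphismRestrict f' U').flip.paste_horiz hsq
  have hgood : DBC9.Good f (f' ∣_ U') (U'.ι ≫ g) ((f' ⁻¹ᵁ U').ι ≫ g') :=
    DBC9.good_main _ _ _ _ hsqc (torI_open htor U')
  have hcT := preservesCoproducts_of_refl (rpushPreserves (U'.ι ≫ g)) (rpushPreserves ((f' ⁻¹ᵁ U').ι ≫ g'))
    adj adjT hgood (DBC9.σcan hsqc.w.symm) (refl_chart hsq hU hU' hle) hcop
  refine ⟨U', U'.ι, inferInstance, ⟨⟨y, hyU'⟩, rfl⟩, ?_⟩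
  obtain ⟨c⟩ := DMV.nonempty_restrictD_rpush f' U'
  refine DGen9.isPerfect_of_iso (c.app P).symm (isPerfect_rpush adjT hcT _ ?_)
  exact DGen9.isPerfect_of_iso ((lPRes (f' ⁻¹ᵁ U').ι).app P) (PerfPush9.isPerfect_lP _ hP)

variable [DCoh.HasRpush g] [DCoh.HasRpush g'] {hg : DCoh.RpushPreservesQCoh g} {hg' : DCoh.RpushPreservesQCoh g'}

/-- Base change for right adjoints, in flat squares. -/
theorem isIso_beta₀_flat (hsq : IsPullback g' f' f g) (hflat : Flat f ∨ Flat g)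
    (hcop : ∀ J : Type u, PreservesColimitsOfShape (Discrete J) a)
    (σ : lP g ⋙ lP f' ≅ lP f ⋙ lP g') (hσm : MultSq σ)
    (hσ : ∀ E, IsIso ((DBC9.bc (adjq f hf) (adjq f' hf') (sigQ σ).hom).app E)) (K : DCoh.DQCoh Y) :
    IsIso (beta₀ adj adj' σ hσ K) := by
  haveI := qc_of_qcqs f
  haveI := qs_of_qcqs f
  haveI := qc_of_qcqs f'
  haveI := qs_of_qcqs f'
  have hcop' := fun J => preservesCoproducts_baseChange adj adj' hsq (torI_of_flat hflat) hcop J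
  haveI : IsIso (beta₀ adj adj' σ hσ K).hom := by
    refine RHom.isIso_of_cover _ fun x => ?_
    obtain ⟨U, hU, hyU, -⟩ := TopologicalSpace.Opens.isBasis_iff_nbhd.1 Y.isBasis_affineOpens
      (TopologicalSpace.Opens.mem_top (g (f' x)))
    obtain ⟨U', hU', hyU', hle⟩ : ∃ U' : Y'.Opens, IsAffineOpen U' ∧ f' x ∈ U' ∧ U' ≤ g ⁻¹ᵁ U :=
      TopologicalSpace.Opens.isBasis_iff_nbhd.1 Y'.isBasis_affineOpens (show f' x ∈ g ⁻¹ᵁ U from hyU)
    haveI : IsAffine (U' : Scheme.{u}) := hU'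
    let i := (f' ⁻¹ᵁ U').ι
    let fT := f' ∣_ U'
    haveI := compactSpace_preimage (f' := f') hU'
    haveI := quasiSeparatedSpace_open (W := f' ⁻¹ᵁ U')
    haveI := qc_of_qcqs fT
    haveI := qs_of_qcqs fT
    haveI := qc_of_qcqs U'.ι
    haveI := qs_of_qcqs U'.ι
    haveI := qc_of_qcqs i
    haveI := qs_of_qcqs i
    haveI := qc_of_qcqs (U'.ι ≫ g)
    haveI := qs_of_qcqs (U'.ι ≫ g)
    haveI := qc_of_qcqs (i ≫ g')
    haveI := qs_of_qcqs (i ≫ g')
    haveI := DBC9.hasRpush fT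
    haveI := DBC9.hasRpush U'.ι
    haveI := DBC9.hasRpush i
    haveI := DBC9.hasRpush (U'.ι ≫ g)
    haveI := DBC9.hasRpush (i ≫ g')
    let hT := rpushPreserves fT
    haveI := isLeftAdjoint_rpushQ fT hT
    let adjT := Adjunction.ofIsLeftAdjoint (DCoh.RpushQ fT hT)
    have hsqj : IsPullback i fT f' U'.ι := (isPullback_morphismRestrict f' U').flip
    have hsqc : IsPullback (i ≫ g') fT f (U'.ι ≫ g) := hsqj.paste_horiz hsq
    have hfl : Flat f ∨ Flat (U'.ι ≫ g) := hflat.imp id fun h => @Flat.comp _ _ _ U'.ι g inferInstance h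
    have hfj : Flat f' ∨ Flat U'.ι := Or.inr inferInstance
    obtain ⟨τ, hτm⟩ := exists_mult_sq (hsqj.w.symm)
    have hgj := good_of_flat hsqj hfj
    have hgc := good_of_flat hsqc hfl
    have hτ := isIso_bc_sigQ (hf := hf') (hf' := hT) hgj τ
    have hc := isIso_bc_sigQ (hf := hf) (hf' := hT) hgc (sigPaste σ τ)
    haveI hj := isIso_beta₀_of_refl (hg := rpushPreserves U'.ι) (hg' := rpushPreserves i) adj' adjT hgj
      (good_of_flat hsqj.flip hfj.symm) hcop' (refl_openImmersion i) τ hτm hτ ((lq g).obj K)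
    haveI hb := isIso_beta₀_of_refl (hg := rpushPreserves (U'.ι ≫ g)) (hg' := rpushPreserves (i ≫ g')) adj adjT hgc
      (good_of_flat hsqc.flip hfl.symm) hcop (refl_chart hsq hU hU' hle) (sigPaste σ τ)
      (multSq_sigPaste σ hσm τ hτm) hc K
    have hp := beta₀_paste adj adj' adjT σ hσ τ hτ hc K
    haveI : IsIso ((lq i).map (beta₀ adj adj' σ hσ K) ≫ beta₀ adj' adjT τ hτ ((lq g).obj K)) := by
      rw [hp]; infer_instance
    haveI : IsIso ((lq i).map (beta₀ adj adj' σ hσ K)) :=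
      IsIso.of_isIso_comp_right _ (beta₀ adj' adjT τ hτ ((lq g).obj K))
    exact ⟨f' ⁻¹ᵁ U', hyU', (NatIso.isIso_map_iff (lPRes i) _).1 (isIso_hom ((lq i).map (beta₀ adj adj' σ hσ K)))⟩
  exact isIso_q _

include adj adj' in
/-- Base change for right adjoints, for the data of the prelude. -/
theorem exists_bcMap_flat [DCoh.HasLpull g] [DCoh.HasLpull g'] {hLg : Dual3.LpullPreservesQCoh g}
    {hLg' : Dual3.LpullPreservesQCoh g'} (adjg : Dual3.LpullQ g hLg ⊣ DCoh.RpushQ g hg)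
    (adjg' : Dual3.LpullQ g' hLg' ⊣ DCoh.RpushQ g' hg') (hsq : IsPullback g' f' f g) (hflat : Flat f ∨ Flat g)
    (hcop : ∀ J : Type u, PreservesColimitsOfShape (Discrete J) a) :
    ∃ (e : DCoh.RpushQ g' hg' ⋙ DCoh.RpushQ f hf ≅ DCoh.RpushQ f' hf' ⋙ DCoh.RpushQ g hg)
      (hξ : ∀ M : DCoh.DQCoh Y', IsIso (Dual3.xi adj adj' e M)),
      ∀ K : DCoh.DQCoh Y, IsIso (Dual3.bcMap adj adj' e adjg adjg' K (hξ _)) := by
  obtain ⟨σ, hσm⟩ := exists_mult_sq hsq.w.symm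
  have hgood := good_of_flat hsq hflat
  haveI := qc_of_qcqs f
  haveI := qs_of_qcqs f
  haveI := qc_of_qcqs g
  haveI := qs_of_qcqs g
  haveI := qc_of_qcqs g'
  haveI := qs_of_qcqs g'
  refine ⟨eOf σ adjg adjg', fun M => isIso_xi hgood σ adj adj' adjg adjg' M, fun K => ?_⟩
  haveI : IsIso (xiMap adj adj' (eOf σ adjg adjg') ((Dual3.LpullQ g hLg).obj K)) :=
    isIso_xi hgood σ adj adj' adjg adjg' _
  haveI := isIso_theta (hf := hf) (hf' := hf') hgood σ adjg adjg' (a.obj K)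
  have h := isIso_beta adj adj' σ (isIso_bc_sigQ hgood σ) adjg adjg' K
    (isIso_beta₀_flat adj adj' hsq hflat hcop σ hσm _ K)
  rw [Dual3.bcMap]
  erw [bcMap_eq adjg' adjg adj adj' (eOf σ adjg adjg') K]
  exact h

end Groth.Agent.BC8
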