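import Groth.Agent.Lib.BC8.Gen
import Groth.Agent.Lib.BC8.LPMon

/-!
Base change for the right adjoint of derived direct image, after pushing forward.
-/

set_option autoImplicit false
set_option linter.unusedSectionVars false
set_option linter.style.haveILetI false
set_option backward.isDefEq.respectTransparency false
set_option backward.isDefEq.respectTransparency.types false
set_option maxHeartbeats 800000

universe u

open CategoryTheory CategoryTheory.Limits MonoidalCategory AlgebraicGeometry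

attribute [local instance] HasDerivedCategory.standard

namespace Groth.Agent.BC8

open DMon9

variable {X Y X' Y' : Scheme.{u}} {f : X ⟶ Y} {g : Y' ⟶ Y} {f' : X' ⟶ Y'} {g' : X' ⟶ X}
  [DCoh.HasRpush f] [DCoh.HasRpush f'] [DCoh.HasRpush g] [DCoh.HasRpush g']
  {hf : DCoh.RpushPreservesQCoh f} {hf' : DCoh.RpushPreservesQCoh f'}
  {hg : DCoh.RpushPreservesQCoh g} {hg' : DCoh.RpushPreservesQCoh g'}
  {a : DCoh.DQCoh Y ⥤ DCoh.DQCoh X} {a' : DCoh.DQCoh Y' ⥤ DCoh.DQCoh X'}
  (adj : DCoh.RpushQ f hf ⊣ a) (adj' : DCoh.RpushQ f' hf' ⊣ a')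

/-- Compatibility of a square of pullbacks with tensor products. -/
def MultSq (σ : lP g ⋙ lP f' ≅ lP f ⋙ lP g') : Prop :=
  Mult (F := dPull g ⋙ dPull f') (F' := dPull f ⋙ dPull g') σ.hom

theorem theta_std (σ : lP g ⋙ lP f' ≅ lP f ⋙ lP g') (E : DCoh.DQCoh X) :
    (theta (adjq g' hg') (adjq g hg) (DBC9.rightIso (adjq f hf) (adjq f' hf') (sigQ σ) (adjq g hg) (adjq g' hg'))).app E =
      (DBC9.bc (adjq f hf) (adjq f' hf') (sigQ σ).hom).app E := by
  rw [theta_app, ← DBC9.bc_eq_transpose]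

/-- `Rg_*` of the structure sheaf. -/
noncomputable def vq (g : Y' ⟶ Y) [DCoh.HasRpush g] (hg : DCoh.RpushPreservesQCoh g) : DCoh.DQCoh Y :=
  ⟨(rM g).obj (𝟙_ (DM Y')), hg _ isQCohD_one⟩

variable [CompactSpace X] [QuasiSeparatedSpace X] [CompactSpace Y] [QuasiSeparatedSpace Y]
  [QuasiCompact f] [QuasiSeparated f] [QuasiCompact g] [QuasiSeparated g] [QuasiCompact g'] [QuasiSeparated g']

theorem isIso_push_beta₀_iff (hg : DCoh.RpushPreservesQCoh g) (hgood : DBC9.Good f f' g g') (hgood' : DBC9.Good g g' f f')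
    (σ : lP g ⋙ lP f' ≅ lP f ⋙ lP g') (hσ : MultSq σ) (K : DCoh.DQCoh Y)
    [IsIso ((DBC9.bc (adjq f hf) (adjq f' hf') (sigQ σ).hom).app (a.obj K))] :
    IsIso ((DCoh.RpushQ g' hg').map (adj'.homEquiv ((lq g').obj (a.obj K)) ((lq g).obj K)
      (inv ((DBC9.bc (adjq f hf) (adjq f' hf') (sigQ σ).hom).app (a.obj K)) ≫ (lq g).map (adj.counit.app K)))) ↔
      IsIso (Dual8.tau adj K (vq g hg)) := by
  let e₀ := DBC9.rightIso (adjq f hf) (adjq f' hf') (sigQ σ) (adjq g hg) (adjq g' hg')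
  let θ := fun E => (DBC9.bc (adjq f hf) (adjq f' hf') (sigQ σ).hom).app E
  have hth : ∀ E, (theta (adjq g' hg') (adjq g hg) e₀).app E = θ E := theta_std σ
  haveI : ∀ E, IsIso ((theta (adjq g' hg') (adjq g hg) e₀).app E) := fun E => by
    rw [hth]; exact isIso_bc_sigQ hgood σ E
  let β : (lq g').obj (a.obj K) ⟶ a'.obj ((lq g).obj K) :=
    adj'.homEquiv _ _ (inv (θ (a.obj K)) ≫ (lq g).map (adj.counit.app K))
  have hβ : θ (a.obj K) ≫ (DCoh.RpushQ f' hf').map β ≫ adj'.counit.app ((lq g).obj K) =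
      (lq g).map (adj.counit.app K) := by
    exact (congrArg (θ (a.obj K) ≫ ·) ((adj'.homEquiv_counit _ _ _).symm.trans (Equiv.symm_apply_apply _ _))).trans
      (IsIso.hom_inv_id_assoc _ _)
  let Vq : DCoh.DQCoh Y := ⟨(rM g).obj (𝟙_ (DM Y')), hg _ isQCohD_one⟩
  change _ ↔ IsIso (Dual8.tau adj K Vq)
  let c : (dPull g).obj ((rM g).obj (𝟙_ (DM Y'))) ⟶ 𝟙_ (DM Y') := (adjM g).counit.app (𝟙_ (DM Y'))
  let σM : dPull g ⋙ dPull f' ≅ dPull f ⋙ dPull g' := σ
  let c' : (dPull g').obj ((dPull f).obj ((rM g).obj (𝟙_ (DM Y')))) ⟶ 𝟙_ (DM X') := pullC σM c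
  let E := a.obj K
  let EM : DM X := E.obj
  let KM : DM Y := K.obj
  let W : DCoh.DQCoh X := Dual8.mq f E Vq
  let zq : (lq g').obj W ⟶ (lq g').obj E := ObjectProperty.homMk (actL (L := dPull g') c' EM)
  let zt := (adjq g' hg').homEquiv W ((lq g').obj E) zq
  have hzt : zt.hom = EM ◁ (adjM g').homEquiv _ _ c' ≫ qApp (adjM g') EM := by
    refine Eq.trans ?_ (homEquiv_actL (adjM g') c' EM)
    simp only [zt, Adjunction.homEquiv_unit]
    rfl
  haveI : IsIso zt := by
    have hV : (adjM g').homEquiv _ _ c' = (DBC9.bc (adjLP g) (adjLP g') σ.inv).app (𝟙_ (DM Y') : DM Y') ≫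
        (rM g').map (Functor.OplaxMonoidal.η (dPull f')) := by
      rw [DBC9.bc_app]
      refine Eq.trans ?_ ((adjM g').homEquiv_naturality_right _ _)
      exact congrArg ((adjM g').homEquiv _ _) (Category.assoc _ _ _).symm
    haveI hb : IsIso ((DBC9.bc (adjLP g) (adjLP g') σ.inv).app (𝟙_ (DM Y') : DM Y')) :=
      hgood' (adjLP g) (adjLP g') σ.symm (𝟙_ (DM Y') : DM Y') isQCohD_one
    haveI : IsIso ((adjM g').homEquiv _ _ c') := by
      rw [hV]
      haveI : IsIso ((rM g').map (Functor.OplaxMonoidal.η (dPull f'))) := inferInstance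
      exact @IsIso.comp_isIso _ _ _ _ _ _ _ hb this
    haveI : IsIso zt.hom := by
      rw [hzt]
      haveI h1 : IsIso (EM ◁ (adjM g').homEquiv _ _ c') := inferInstance
      exact @IsIso.comp_isIso _ _ _ _ _ _ _ h1 (isIso_qApp g' EM E.property)
    exact isIso_q _
  let qK : Dual8.tq K Vq ⟶ (DCoh.RpushQ g hg).obj ((lq g).obj K) := ObjectProperty.homMk (qApp (adjM g) KM)
  haveI : IsIso qK := by
    haveI : IsIso qK.hom := isIso_qApp g KM K.property
    exact isIso_q _
  haveI := isIso_xiMap (adjq g' hg') (adjq g hg) adj adj' e₀ ((lq g).obj K)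
  have key : zt ≫ (DCoh.RpushQ g' hg').map β ≫ xiMap adj adj' e₀ ((lq g).obj K) =
      Dual8.tau adj K Vq ≫ a.map qK := by
    rw [← Category.assoc, ← (adjq g' hg').homEquiv_naturality_right]
    refine (adj.homEquiv _ _).symm.injective (((adjq g hg).homEquiv _ _).symm.injective ?_)
    rw [← theta_xi, hth, Functor.map_comp, Category.assoc, Dual8.tau, adj.homEquiv_naturality_right_symm,
      Equiv.symm_apply_apply, Adjunction.homEquiv_counit]
    let pI : (rM f).obj W.obj ⟶ (rM f).obj EM ⊗ (Vq.obj : DM Y) := Dual8.projInv E Vq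
    let u : (lq g).obj ((DCoh.RpushQ f hf).obj W) ⟶ (lq g).obj ((DCoh.RpushQ f hf).obj E) :=
      ObjectProperty.homMk ((dPull g).map pI ≫ actL c ((rM f).obj EM))
    have hu : θ W ≫ (DCoh.RpushQ f' hf').map zq = u ≫ θ E := by
      apply ObjectProperty.hom_ext
      show (θ W).hom ≫ (rM f').map (actL (L := dPull g') c' EM) =
        ((dPull g).map pI ≫ actL c ((rM f).obj EM)) ≫ (θ E).hom
      simp only [θ, bc_sigQ]
      let bW : (dPull g).obj ((rM f).obj W.obj) ⟶ (rM f').obj ((dPull g').obj W.obj) :=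
        (DBC9.bc (adjLP f) (adjLP f') σ.hom).app W.obj
      let bE : (dPull g).obj ((rM f).obj EM) ⟶ (rM f').obj ((dPull g').obj EM) :=
        (DBC9.bc (adjLP f) (adjLP f') σ.hom).app E.obj
      let P₁ : (rM f).obj EM ⊗ (Vq.obj : DM Y) ⟶ (rM f).obj W.obj :=
        projApp (adjM f) EM ((rM g).obj (𝟙_ (DM Y')))
      have hP : pI ≫ P₁ = 𝟙 _ := (Dual8.projInv_projApp E Vq).1
      have hc : (dPull g).map P₁ ≫ bW ≫ (rM f').map (actL (L := dPull g') c' EM) = actL c ((rM f).obj EM) ≫ bE :=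
        proj_bc (adjM f) (adjM f') σM (fun U U' => by
          have h := hσ U U'
          simp only [Functor.LaxMonoidal.comp_μ, Category.assoc] at h
          exact h) c EM
      show bW ≫ (rM f').map (actL (L := dPull g') c' EM) = ((dPull g).map pI ≫ actL c ((rM f).obj EM)) ≫ bE
      refine Eq.trans ?_ (Category.assoc _ _ _).symm
      refine Eq.trans ?_ (congrArg ((dPull g).map pI ≫ ·) hc)
      rw [← Functor.map_comp_assoc, hP, CategoryTheory.Functor.map_id]
      exact (Category.id_comp _).symm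
    rw [reassoc_of% hu, hβ]
    apply ObjectProperty.hom_ext
    have hq : (dPull g).map (qApp (adjM g) KM) ≫ (adjM g).counit.app ((dPull g).obj KM) = actL c KM :=
      ((adjM g).homEquiv_counit _ _ _).symm.trans (Equiv.symm_apply_apply _ _)
    show ((dPull g).map pI ≫ actL c ((rM f).obj EM)) ≫ (dPull g).map (Dual8.epsA adj K) =
      (dPull g).map ((pI ≫ Dual8.epsA adj K ▷ (Vq.obj : DM Y)) ≫ qApp (adjM g) KM) ≫
        (adjM g).counit.app ((dPull g).obj KM)
    rw [Functor.map_comp, Functor.map_comp, Category.assoc, Category.assoc, Category.assoc, hq, actL_natural]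
  constructor
  · intro h
    haveI : IsIso ((DCoh.RpushQ g' hg').map β) := h
    haveI : IsIso (Dual8.tau adj K Vq ≫ a.map qK) := key ▸ inferInstance
    exact IsIso.of_isIso_comp_right (Dual8.tau adj K Vq) (a.map qK)
  intro h
  haveI := h
  haveI : IsIso (zt ≫ (DCoh.RpushQ g' hg').map β ≫ xiMap adj adj' e₀ ((lq g).obj K)) := key ▸ inferInstance
  haveI : IsIso ((DCoh.RpushQ g' hg').map β ≫ xiMap adj adj' e₀ ((lq g).obj K)) :=
    IsIso.of_isIso_comp_left zt _
  exact IsIso.of_isIso_comp_right ((DCoh.RpushQ g' hg').map β) (xiMap adj adj' e₀ ((lq g).obj K))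

theorem isIso_push_beta₀ (hg : DCoh.RpushPreservesQCoh g) (hgood : DBC9.Good f f' g g') (hgood' : DBC9.Good g g' f f')
    (hcop : ∀ J : Type u, PreservesColimitsOfShape (Discrete J) a)
    (σ : lP g ⋙ lP f' ≅ lP f ⋙ lP g') (hσ : MultSq σ) (K : DCoh.DQCoh Y)
    [IsIso ((DBC9.bc (adjq f hf) (adjq f' hf') (sigQ σ).hom).app (a.obj K))] :
    IsIso ((DCoh.RpushQ g' hg').map (adj'.homEquiv ((lq g').obj (a.obj K)) ((lq g).obj K)
      (inv ((DBC9.bc (adjq f hf) (adjq f' hf') (sigQ σ).hom).app (a.obj K)) ≫ (lq g).map (adj.counit.app K)))) :=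
  (isIso_push_beta₀_iff adj adj' hg hgood hgood' σ hσ K).2 (isIso_tau adj hcop K _)

end Groth.Agent.BC8
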