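import Groth.Agent.Lib.BC8.DlzDim
import Groth.Agent.Lib.FlatDepth.SkLocal

/-! Sections of a quasi-coherent module vanish when they vanish at the associated points; the lowest
cohomology sheaf of a dualizing complex. -/

set_option autoImplicit false
set_option linter.style.haveILetI false
set_option linter.unusedSectionVars false
set_option backward.isDefEq.respectTransparency false
set_option backward.isDefEq.respectTransparency.types false
set_option maxHeartbeats 1000000

universe u

open CategoryTheory CategoryTheory.Limits AlgebraicGeometry Opposite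

attribute [local instance] HasDerivedCategory.standard

noncomputable section

namespace Groth.Agent.BC8

variable {X : Scheme.{u}}

open Dlz27 in
/-- Associated primes of the lowest cohomology module have the lowest degree. -/
theorem deg_eq_of_mem_ass {A : Type u} [CommRing A] [IsNoetherianRing A] {ω : Dual.D A}
    (hω : Dual.IsDualizing A ω) (M : Model ω) (c : ℤ) (h : ∀ i < c, Subsingleton (Dual.HD A ω i))
    (hc : ∀ q : PrimeSpectrum A, c ≤ deg hω M q) (p : PrimeSpectrum A)
    (hp : p.asIdeal ∈ associatedPrimes A (Dual.HD A ω c)) : deg hω M p = c := by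
  let H := Dual.HD A ω c
  haveI := hω.finite_cohomology c
  let S := p.asIdeal.primeCompl
  haveI : Module.Finite (Localization.AtPrime p.asIdeal) (LocalizedModule S H) :=
    Module.Finite.of_isLocalizedModule S (LocalizedModule.mkLinearMap S H)
  have hass : IsLocalRing.maximalIdeal (Localization.AtPrime p.asIdeal) ∈
      associatedPrimes (Localization.AtPrime p.asIdeal) (LocalizedModule S H) :=
    Module.associatedPrimes.mem_associatedPrimes_atPrime_of_mem_associatedPrimes (IsAssociatedPrime.isPrime hp |> fun _ => hp)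
  haveI : Nontrivial (LocalizedModule S H) := not_subsingleton_iff_nontrivial.1 fun hs => by
    haveI := hs
    exact Set.eq_empty_iff_forall_notMem.1 associatedPrimes.eq_empty_of_subsingleton _ hass
  obtain ⟨-, r, -, hrp, hr⟩ := le_deg_of_not_vanS hω M p c A ((nontrivial_localized_HD_iff M p c).1 this)
  have hr' : deg hω M r = c := le_antisymm hr (hc r)
  rcases eq_or_lt_of_le hrp with rfl | hlt
  · exact hr'
  exfalso
  have hmin : r.asIdeal ∈ minimalPrimes A := ⟨⟨r.isPrime, bot_le⟩, fun s hs hsr => by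
    let s' : PrimeSpectrum A := ⟨s, hs.1⟩
    rcases eq_or_lt_of_le (show s' ≤ r from hsr) with e | hl
    · exact (congrArg PrimeSpectrum.asIdeal e).ge
    · exact absurd (deg_strictMono hω M hl) (not_lt.2 (hr'.trans_le (hc s')))⟩
  haveI : Nontrivial (LocalizedModule r.asIdeal.primeCompl H) := by
    rw [nontrivial_localized_HD_iff M r c, vanS_self_minimal_iff M hω r hmin, not_not, hr']
  obtain ⟨m, hm⟩ := Module.mem_support_iff'.1 (show r ∈ Module.support A H from this)
  have hd : LocCoh.depth (Localization.AtPrime p.asIdeal) (LocalizedModule S H) = 0 := Depth3.depth_eq_zero_iff.2 hass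
  have h2 := (DlzSch27.localized_lowest hω p c h).1 (IsLocalRing.maximalIdeal (Localization.AtPrime p.asIdeal))
  obtain ⟨i1, i2⟩ := FlatDepth.invariants_localization_localization (M := H) S
    (IsLocalRing.maximalIdeal (Localization.AtPrime p.asIdeal))
  rw [i1, i2] at h2
  have key : ∀ (a b : Ideal A) [a.IsPrime] [b.IsPrime], a = b →
      min ((2 : ℕ) : WithBot ℕ∞) (Module.supportDim (Localization.AtPrime a) (LocalizedModule a.primeCompl H)) ≤
        ((LocCoh.depth (Localization.AtPrime a) (LocalizedModule a.primeCompl H) : ℕ∞) : WithBot ℕ∞) →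
      min ((2 : ℕ) : WithBot ℕ∞) (Module.supportDim (Localization.AtPrime b) (LocalizedModule b.primeCompl H)) ≤
        ((LocCoh.depth (Localization.AtPrime b) (LocalizedModule b.primeCompl H) : ℕ∞) : WithBot ℕ∞) := by
    intro a b _ _ e h'; subst e; exact h'
  have hdim := key _ p.asIdeal Localization.AtPrime.under_maximalIdeal h2
  rw [hd] at hdim
  let L := Localization.AtPrime p.asIdeal
  have hdisj : Disjoint (S : Set A) (r.asIdeal : Set A) :=
    Set.disjoint_left.2 fun a ha ha' => ha (hrp ha')
  haveI hr'' := IsLocalization.isPrime_of_isPrime_disjoint S L r.asIdeal r.isPrime hdisj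
  let r' : PrimeSpectrum L := ⟨r.asIdeal.map (algebraMap A L), hr''⟩
  have hcm : r'.asIdeal.comap (algebraMap A L) = r.asIdeal := IsLocalization.comap_map_of_isPrime_disjoint S L r.isPrime hdisj
  let p' : PrimeSpectrum L := ⟨IsLocalRing.maximalIdeal L, inferInstance⟩
  have hr's : r' ∈ Module.support L (LocalizedModule S H) := by
    refine Module.mem_support_iff'.2 ⟨LocalizedModule.mkLinearMap S H m, fun a ha hz => ?_⟩
    obtain ⟨⟨b, t⟩, rfl⟩ := IsLocalization.mk'_surjective S a
    have hb : b ∉ r.asIdeal := fun hb => ha ((IsLocalization.mk'_mem_iff).2 (hcm.ge hb))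
    rw [LocalizedModule.mkLinearMap_apply, ← Localization.mk_eq_mk', LocalizedModule.mk_smul_mk] at hz
    obtain ⟨v, hv⟩ := LocalizedModule.mk_eq.1 (hz.trans (LocalizedModule.zero_mk (t * 1)).symm)
    refine hm ((v : A) * (t * 1 : S) * b) (r.isPrime.mul_notMem (r.isPrime.mul_notMem ?_ ?_) hb) ?_
    · exact fun hv' => v.2 (hrp hv')
    · exact fun ht' => (t * 1).2 (hrp ht')
    · rw [mul_smul, mul_smul]
      simp only [one_smul, smul_zero, Submonoid.smul_def] at hv
      exact hv
  have hne : r' ≠ p' := fun e => hlt.ne (PrimeSpectrum.ext (by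
    rw [← hcm, e]; exact Localization.AtPrime.under_maximalIdeal))
  have hps : p' ∈ Module.support L (LocalizedModule S H) :=
    Module.mem_support_mono (show r' ≤ p' from IsLocalRing.le_maximalIdeal hr''.ne_top) hr's
  have h1 : (1 : WithBot ℕ∞) ≤ Module.supportDim L (LocalizedModule S H) := by
    refine le_trans ?_ (Order.LTSeries.length_le_krullDim
      ((RelSeries.singleton _ (⟨r', hr's⟩ : Module.support L (LocalizedModule S H))).snoc ⟨p', hps⟩
        (lt_of_le_of_ne (show (⟨r', hr's⟩ : Module.support L (LocalizedModule S H)) ≤ ⟨p', hps⟩ from IsLocalRing.le_maximalIdeal hr''.ne_top) fun e => hne (congrArg Subtype.val e))))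
    simp
  have := le_trans (le_min (by exact_mod_cast (one_le_two : (1:ℕ) ≤ 2)) h1) hdim
  exact absurd this (by norm_num)

theorem germ_toOpen {R : CommRingCat.{u}} (H : ModuleCat.{u} R) (W : (Spec R).Opens) (p : Spec R) (hp : p ∈ W)
    (h : H) : (tilde H).presheaf.germ W p hp ((tilde.toOpen H W).hom h) = (tilde.toStalk H p).hom h := by
  have h1 : (tilde H).presheaf.map (homOfLE (le_top : W ≤ ⊤)).op ((tilde.toOpen H ⊤).hom h) = (tilde.toOpen H W).hom h := rfl
  rw [← h1]
  exact TopCat.Presheaf.germ_res_apply _ _ _ _ _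

theorem isLocalizedModule_toStalk {R : CommRingCat.{u}} (H : ModuleCat.{u} R) (p : PrimeSpectrum.Top R) :
    IsLocalizedModule p.asIdeal.primeCompl (tilde.toStalk H p).hom := inferInstance

/-- A section restricting to zero on `U` vanishes on a chart whose associated points lie in `U`. -/
theorem map_eq_zero_of_ass {R : CommRingCat.{u}} [IsNoetherianRing R] (M : X.Modules) (j : Spec R ⟶ X)
    [IsOpenImmersion j] {H : ModuleCat.{u} R} (e : M.restrict j ≅ tilde H) (U V : X.Opens) (hV : j ''ᵁ ⊤ ≤ V)
    (hass : ∀ P : PrimeSpectrum R, P.asIdeal ∈ associatedPrimes R H → j P ∈ U)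
    (s : M.presheaf.obj (op V)) (hs : M.presheaf.map (homOfLE (inf_le_left : V ⊓ U ≤ V)).op s = 0) :
    M.presheaf.map (homOfLE hV).op s = 0 := by
  let s' : M.presheaf.obj (op (j ''ᵁ ⊤)) := M.presheaf.map (homOfLE hV).op s
  let t : Γ(tilde H, ⊤) := e.hom.app ⊤ s'
  suffices ht : t = 0 by
    have hinj : Function.Injective (e.hom.app ⊤) :=
      (ConcreteCategory.bijective_of_isIso (((Scheme.Modules.toPresheaf (Spec R)).map e.hom).app (op ⊤))).1
    exact hinj (ht.trans (map_zero _).symm)
  obtain ⟨h, hh⟩ := (ConcreteCategory.bijective_of_isIso (tilde.toOpen H ⊤)).2 t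
  suffices h0 : h = 0 by rw [← hh, h0]; exact map_zero _
  by_contra hne
  obtain ⟨P, hP, hle⟩ := exists_le_isAssociatedPrime_of_isNoetherianRing R h hne
  let p : PrimeSpectrum R := ⟨P, IsAssociatedPrime.isPrime hP⟩
  haveI : p.asIdeal.IsPrime := p.isPrime
  have hpU : j p ∈ U := hass p hP
  let W : (Spec R).Opens := j ⁻¹ᵁ U
  have hW : j ''ᵁ W ≤ V ⊓ U := le_inf ((j.opensFunctor.map (homOfLE (le_top : W ≤ ⊤))).le.trans hV)
    (j.image_preimage_eq_opensRange_inf U ▸ inf_le_right)
  have h1 : (tilde H).presheaf.map (homOfLE (le_top : W ≤ ⊤)).op t = 0 := by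
    have hn := ConcreteCategory.congr_hom (e.hom.mapPresheaf.naturality (homOfLE (le_top : W ≤ ⊤)).op) s'
    refine hn.symm.trans (Eq.trans (congrArg (e.hom.app W) ?_) (map_zero (e.hom.app W).hom))
    show M.presheaf.map (j.opensFunctor.map (homOfLE (le_top : W ≤ ⊤))).op (M.presheaf.map (homOfLE hV).op s) = 0
    rw [← ConcreteCategory.comp_apply, ← M.presheaf.map_comp,
      show (homOfLE hV).op ≫ (j.opensFunctor.map (homOfLE (le_top : W ≤ ⊤))).op =
        (homOfLE (inf_le_left : V ⊓ U ≤ V)).op ≫ (homOfLE hW).op from Subsingleton.elim _ _,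
      M.presheaf.map_comp, ConcreteCategory.comp_apply, hs, map_zero]
  have h2 : (tilde.toStalk H p).hom h = 0 := by
    rw [← germ_toOpen H ⊤ p trivial h]
    have hg := TopCat.Presheaf.germ_res_apply (tilde H).presheaf (homOfLE (le_top : W ≤ ⊤)) p hpU t
    rw [h1, map_zero] at hg
    exact (congrArg _ hh).trans hg.symm
  haveI hloc : IsLocalizedModule p.asIdeal.primeCompl (tilde.toStalk H p).hom :=
    isLocalizedModule_toStalk H p
  obtain ⟨c, hc⟩ := (IsLocalizedModule.eq_zero_iff p.asIdeal.primeCompl _).1 h2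
  exact c.2 (hle (Submodule.mem_colon_singleton.2 ((Submodule.mem_bot R).2 hc)))

variable [IsLocallyNoetherian X]
  [∀ (U : Scheme.{u}) (j : U ⟶ X) [IsOpenImmersion j], PreservesFiniteLimits (Scheme.Modules.restrictFunctor j)]
  [∀ (R : CommRingCat.{u}), PreservesFiniteLimits (tilde.functor R)] {K : DCoh.D X}

open Dlz27

/-- Sections of the lowest cohomology sheaf are detected at the points of lowest degree. -/
theorem injective_restrict_lowest (hK : Dual2.IsDualizingSch X K) (c : ℤ) (h : ∀ i < c, IsZero (DCoh.HD K i))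
    (U : X.Opens) (hU : ∀ x : X, dlt hK x = c → x ∈ U) (V : X.Opens) :
    Function.Injective ((DCoh.HD K c).presheaf.map (homOfLE (inf_le_left : V ⊓ U ≤ V)).op) := by
  rw [injective_iff_map_eq_zero]
  intro s hs
  let F : TopCat.Sheaf AddCommGrpCat X := ⟨(DCoh.HD K c).presheaf, (DCoh.HD K c).isSheaf⟩
  refine TopCat.Presheaf.section_ext F V s 0 fun x hx => ?_
  obtain ⟨Y, hY, hxY, hYV⟩ := exists_isAffineOpen_mem_and_subset (x := x) (U := V) hx
  haveI := DlzSch27.isNoetherianRing_of_chart (X := X) hY.fromSpec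
  obtain ⟨ω, hω, hM⟩ := DlzSch27.mdl_of_isDualizingSch hK Γ(X, Y) hY.fromSpec
  let C : DlzChart K := ⟨Γ(X, Y), hY.fromSpec, inferInstance, ω, inferInstance, hω, model hω, hM⟩
  have hr : hY.fromSpec ''ᵁ ⊤ = Y := (Scheme.Hom.image_top_eq_opensRange hY.fromSpec).trans hY.opensRange_fromSpec
  obtain ⟨e₀⟩ := hM
  let e : (DCoh.HD K c).restrict hY.fromSpec ≅
      tilde ((DerivedCategory.homologyFunctor (ModuleCat.{u} Γ(X, Y)) c).obj ω) :=
    (RHom.hdMapIso (Scheme.Modules.restrictFunctor hY.fromSpec) K c).symm ≪≫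
      (DerivedCategory.homologyFunctor _ c).mapIso e₀ ≪≫ DPerf.hdTildeIso ω c
  have hc : ∀ q : PrimeSpectrum C.R, c ≤ deg C.dualizing C.M q := DlzSch27.le_deg_of_vanish _ _ c fun i hi => by
    haveI := DlzSch27.subsingleton_HD_of_isZero C.mdl i (h i hi)
    exact (((DerivedCategory.homologyFunctorFactors (ModuleCat.{u} Γ(X, Y)) i).app C.M.W).toLinearEquiv.symm ≪≫ₗ
      ((DerivedCategory.homologyFunctor (ModuleCat.{u} Γ(X, Y)) i).mapIso C.M.e).toLinearEquiv).toEquiv.subsingleton
  have h0 := map_eq_zero_of_ass (DCoh.HD K c) hY.fromSpec e U V (hr.trans_le hYV) (fun P hP => hU _ ((dlt_eq hK C P).trans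
      (deg_eq_of_mem_ass C.dualizing C.M c (fun i hi => DlzSch27.subsingleton_HD_of_isZero C.mdl i (h i hi)) hc P hP))) s hs
  have hx' : x ∈ hY.fromSpec ''ᵁ ⊤ := hr.symm ▸ hxY
  have hg := TopCat.Presheaf.germ_res_apply (DCoh.HD K c).presheaf (homOfLE (hr.trans_le hYV)) x hx' s
  rw [h0, map_zero] at hg
  exact hg.symm.trans (map_zero _).symm

end Groth.Agent.BC8
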