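import Groth.Agent.Lib.BC8.AffineLine
import Groth.Agent.Lib.BC8.Chart
import Groth.Agent.Lib.SmoothRegImm25.Chart
import Mathlib.RingTheory.TensorProduct.MvPolynomial

/-! The twisted inverse image of affine space. -/

set_option autoImplicit false
set_option linter.style.haveILetI false
set_option linter.unusedSectionVars false
set_option backward.isDefEq.respectTransparency false
set_option backward.isDefEq.respectTransparency.types false
set_option maxHeartbeats 1000000

universe u

open CategoryTheory CategoryTheory.Limits AlgebraicGeometry MvPolynomial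
open scoped TensorProduct

attribute [local instance] HasDerivedCategory.standard

noncomputable section

namespace Groth.Agent.BC8

/-- Variables form a regular sequence. -/
theorem isWeaklyRegular_finX (R : Type u) [CommRing R] {ι : Type} {r : ℕ} (e : Fin r → ι) (he : Function.Injective e) :
    RingTheory.Sequence.IsWeaklyRegular (MvPolynomial ι R) (List.ofFn fun i => X (R := R) (e i)) := by
  classical
  rw [Vasc.isWeaklyRegular_ofFn_iff]
  intro i a ha
  let v : ι → MvPolynomial ι R := fun j => if ∃ k, k < i ∧ e k = j then 0 else X j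
  let ψ : MvPolynomial ι R →ₐ[R] MvPolynomial ι R := aeval v
  let J : Ideal (MvPolynomial ι R) := Ideal.span ((fun k => X (R := R) (e k)) '' {k | k < i})
  have hJ : J ≤ RingHom.ker ψ := Ideal.span_le.mpr (by
    rintro _ ⟨k, hk, rfl⟩
    show ψ (X (e k)) = 0
    rw [aeval_X]
    exact if_pos ⟨k, hk, rfl⟩)
  have hsub : ∀ p, p - ψ p ∈ J := by
    intro p
    induction p using MvPolynomial.induction_on with
    | C c => simp [ψ]
    | add u w hu hw => rw [map_add, add_sub_add_comm]; exact J.add_mem hu hw
    | mul_X u j hu =>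
      rw [map_mul, show u * X j - ψ u * ψ (X j) = (u - ψ u) * X j + ψ u * (X j - ψ (X j)) by ring]
      refine J.add_mem (J.mul_mem_right _ hu) (J.mul_mem_left _ ?_)
      rw [aeval_X]
      simp only [v]
      by_cases h : ∃ k, k < i ∧ e k = j
      · rw [if_pos (h := _) h, sub_zero]
        obtain ⟨k, hk, rfl⟩ := h
        exact Ideal.subset_span ⟨k, hk, rfl⟩
      · rw [if_neg h, sub_self]; exact J.zero_mem
  have h0 : ψ (X (e i) * a) = 0 := hJ ha
  rw [map_mul, aeval_X] at h0
  simp only [v] at h0
  rw [if_neg (fun ⟨k, hk, hki⟩ => hk.ne (he hki))] at h0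
  have hz : ψ a = 0 := by
    refine (isRegular_X (n := e i)).left ?_
    show X (e i) * ψ a = X (e i) * 0
    rw [h0, mul_zero]
  show a ∈ J
  have := hsub a
  rwa [hz, sub_zero] at this


/-- The diagonal of affine space is cut out by a regular sequence. -/
theorem exists_regSeq_mul (R : Type u) [CommRing R] (n : ℕ) :
    ∃ rs : List (MvPolynomial (Fin n) R ⊗[R] MvPolynomial (Fin n) R), rs.length = n ∧
      RingTheory.Sequence.IsWeaklyRegular (MvPolynomial (Fin n) R ⊗[R] MvPolynomial (Fin n) R) rs ∧
      RingHom.ker (Algebra.TensorProduct.lmul' R :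
        MvPolynomial (Fin n) R ⊗[R] MvPolynomial (Fin n) R →ₐ[R] _).toRingHom = Ideal.ofList rs := by
  let P := MvPolynomial (Fin n) R
  let a : MvPolynomial (Fin n) P →ₐ[P] MvPolynomial (Fin n) P :=
    aeval fun i => X i - C (X i : P)
  let b : MvPolynomial (Fin n) P →ₐ[P] MvPolynomial (Fin n) P :=
    aeval fun i => X i + C (X i : P)
  let τ : MvPolynomial (Fin n) P ≃ₐ[P] MvPolynomial (Fin n) P := AlgEquiv.ofAlgHom a b
    (MvPolynomial.algHom_ext fun i => by
      rw [AlgHom.comp_apply, show b (X i) = X i + algebraMap P _ (X i : P) from aeval_X _ i, map_add, AlgHom.commutes,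
        show a (X i) = X i - algebraMap P _ (X i : P) from aeval_X _ i, sub_add_cancel, AlgHom.id_apply])
    (MvPolynomial.algHom_ext fun i => by
      rw [AlgHom.comp_apply, show a (X i) = X i - algebraMap P _ (X i : P) from aeval_X _ i, map_sub, AlgHom.commutes,
        show b (X i) = X i + algebraMap P _ (X i : P) from aeval_X _ i, add_sub_cancel_right, AlgHom.id_apply])
  let F : MvPolynomial (Fin n) P ≃+* P ⊗[R] P :=
    τ.toRingEquiv.trans (algebraTensorAlgEquiv (σ := Fin n) R P).symm.toRingEquiv
  let μ : P ⊗[R] P →+* P := (Algebra.TensorProduct.lmul' R : P ⊗[R] P →ₐ[R] P).toRingHom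
  have hC : ∀ p : P, F (C p) = p ⊗ₜ[R] 1 := fun p => by
    show (algebraTensorAlgEquiv (σ := Fin n) R P).symm (a (C p)) = _
    rw [show a (C p) = algebraMap P _ p from a.commutes p, AlgEquiv.commutes]
    rfl
  have hX : ∀ i, μ (F (X i)) = 0 := fun i => by
    show μ ((algebraTensorAlgEquiv (σ := Fin n) R P).symm (a (X i))) = 0
    rw [show a (X i) = X i - algebraMap P _ (X i : P) from aeval_X _ i, map_sub, algebraTensorAlgEquiv_symm_X,
      AlgEquiv.commutes]
    simp [μ, Algebra.TensorProduct.algebraMap_apply]
  let J : Ideal (MvPolynomial (Fin n) P) := Ideal.ofList (List.ofFn fun i : Fin n => X (R := P) i)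
  have hXJ : ∀ i, X (R := P) i ∈ J := fun i => Ideal.subset_span (List.mem_ofFn.2 ⟨i, rfl⟩)
  have hsub : ∀ p, p - C (μ (F p)) ∈ J := fun p => by
    induction p using MvPolynomial.induction_on with
    | C c => simp [hC, μ]
    | add p q hp hq => rw [map_add, map_add, map_add, add_sub_add_comm]; exact J.add_mem hp hq
    | mul_X p i hp =>
      rw [map_mul, map_mul, hX, mul_zero, C_0, sub_zero]
      exact J.mul_mem_left _ (hXJ i)
  have hker : RingHom.ker μ = Ideal.map F.toRingHom J := by
    refine le_antisymm (fun z hz => ?_) (Ideal.map_le_iff_le_comap.2 (Ideal.span_le.2 ?_))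
    · obtain ⟨p, rfl⟩ := F.surjective z
      refine Ideal.mem_map_of_mem F.toRingHom ?_
      have h := hsub p
      rwa [show μ (F p) = 0 from hz, C_0, sub_zero] at h
    · intro p hp
      obtain ⟨i, rfl⟩ := List.mem_ofFn.1 hp
      exact hX i
  refine ⟨List.ofFn fun i => F (X i), List.length_ofFn, ?_, ?_⟩
  · have h := isWeaklyRegular_finX P (ι := Fin n) id Function.injective_id
    rw [Vasc.isWeaklyRegular_ofFn_iff] at h ⊢
    intro i z hz
    obtain ⟨p, rfl⟩ := F.surjective z
    have himg : ∀ k : Fin n, (fun l => F (X (R := P) l)) '' {l | l < k} =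
        F.toRingHom '' ((fun l => X (R := P) l) '' {l | l < k}) := fun k => (Set.image_image _ _ _).symm
    rw [himg, ← Ideal.map_span] at hz ⊢
    rw [← map_mul] at hz
    refine Ideal.mem_map_of_mem F.toRingHom (h i p ?_)
    exact (Ideal.mem_map_iff_of_surjective F.toRingHom F.surjective).1 hz |>.elim
      fun q hq => F.injective hq.2 ▸ hq.1
  · rw [show (Algebra.TensorProduct.lmul' R : P ⊗[R] P →ₐ[R] P).toRingHom = μ from rfl, hker]
    simp only [J, Ideal.ofList, Ideal.map_span]
    congr 1
    ext z
    simp [List.mem_ofFn]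
    rfl

end Groth.Agent.BC8
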