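import Groth.Agent.Lib.BC8.PolyDiag
import Groth.Agent.Lib.BC8.RegSeq

/-! The twisted inverse image of affine space is the structure sheaf shifted by the dimension. -/

set_option autoImplicit false
set_option linter.style.haveILetI false
set_option linter.unusedSectionVars false
set_option backward.isDefEq.respectTransparency false
set_option backward.isDefEq.respectTransparency.types false
set_option maxHeartbeats 1000000

universe u

open CategoryTheory CategoryTheory.Limits AlgebraicGeometry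
open scoped TensorProduct

attribute [local instance] HasDerivedCategory.standard

noncomputable section

namespace Groth.Agent.BC8

open DMon9

/-- The structure morphism of affine space. -/
abbrev polyStr (R : Type u) [CommRing R] (n : ℕ) :
    Spec (CommRingCat.of (MvPolynomial (Fin n) R)) ⟶ Spec (CommRingCat.of R) :=
  Spec.map (CommRingCat.ofHom (algebraMap R (MvPolynomial (Fin n) R)))

/-- `Δ^!O = O[-n]` for affine space. -/
theorem nonempty_poly_diag (R : Type u) [CommRing R] [IsNoetherianRing R] (n : ℕ)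
    [DCoh.HasRpush (pullback.diagonal (polyStr R n))]
    {hΔ : DCoh.RpushPreservesQCoh (pullback.diagonal (polyStr R n))}
    {aΔ : DCoh.DQCoh (pullback (polyStr R n) (polyStr R n)) ⥤ DCoh.DQCoh (Spec (CommRingCat.of (MvPolynomial (Fin n) R)))}
    (adjΔ : DCoh.RpushQ (pullback.diagonal (polyStr R n)) hΔ ⊣ aΔ) :
    Nonempty ((aΔ.obj (oQ _)).obj⟦(n : ℤ)⟧ ≅
      DCoh.inD (Spec (CommRingCat.of (MvPolynomial (Fin n) R)))
        (Coh.structureModule (Spec (CommRingCat.of (MvPolynomial (Fin n) R))))) := by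
  let P := MvPolynomial (Fin n) R
  let e := pullbackSpecIso R P P
  let μ : CommRingCat.of (P ⊗[R] P) ⟶ CommRingCat.of P :=
    CommRingCat.ofHom (Algebra.TensorProduct.lmul' R : P ⊗[R] P →ₐ[R] P).toRingHom
  have hd : Spec.map μ ≫ e.inv = pullback.diagonal (polyStr R n) := (diagonal_SpecMap _ _).symm
  haveI : IsNoetherianRing (P ⊗[R] P) := Algebra.FiniteType.isNoetherianRing P _
  haveI : IsNoetherian (pullback (polyStr R n) (polyStr R n)) := by
    haveI : LocallyOfFiniteType (polyStr R n) :=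
      (HasRingHomProperty.Spec_iff (P := @LocallyOfFiniteType)).2 (RingHom.finiteType_algebraMap.2 inferInstance)
    haveI : IsLocallyNoetherian (pullback (polyStr R n) (polyStr R n)) :=
      LocallyOfFiniteType.isLocallyNoetherian (pullback.fst (polyStr R n) (polyStr R n) ≫ polyStr R n)
    exact { }
  haveI := DBC9.hasRpush e.inv
  haveI := DBC9.hasRpush (Spec.map μ)
  let hi := rpushPreserves e.inv
  let hm := rpushPreserves (Spec.map μ)
  haveI := isLeftAdjoint_rpushQ e.inv hi
  haveI := isLeftAdjoint_rpushQ (Spec.map μ) hm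
  let adji := Adjunction.ofIsLeftAdjoint (DCoh.RpushQ e.inv hi)
  let adjm := Adjunction.ofIsLeftAdjoint (DCoh.RpushQ (Spec.map μ) hm)
  let O := oQ (pullback (polyStr R n) (polyStr R n))
  let Oi := (DCoh.RpushQ e.inv hi).rightAdjoint.obj O
  obtain ⟨o⟩ := nonempty_shriek_open e.inv e.inv (𝟙 _) (Category.id_comp _) adji
  obtain ⟨l⟩ := TwistBC9.nonempty_lP_oneM e.inv 0
  obtain ⟨rs, hlen, hreg, hker⟩ := exists_regSeq_mul R n
  obtain ⟨r⟩ := nonempty_regSeq n _ _ μ (fun a => ⟨a ⊗ₜ 1, (Algebra.TensorProduct.lmul'_apply_tmul a 1).trans (mul_one a)⟩)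
    rs hlen hreg hker adjm Oi
    (((DBC9.lPId _).app _).symm ≪≫ o.app ⟨O, isBdd_oQ _⟩ ≪≫ l)
  exact ⟨(shiftFunctor _ (n : ℤ)).mapIso ((ObjectProperty.ι _).mapIso (((compA adjm adji adjΔ hd).app O).symm)) ≪≫ r⟩

/-- `h^!O = O[n]` for affine space inside projective space. -/
theorem nonempty_poly_shriek (R : Type u) [CommRing R] [IsNoetherianRing R] (n : ℕ)
    [DCoh.HasRpush (CohB1.ProjSpace.toSpec n R)] {hp : DCoh.RpushPreservesQCoh (CohB1.ProjSpace.toSpec n R)}
    {a : DCoh.DQCoh (Spec (CommRingCat.of R)) ⥤ DCoh.DQCoh (CohB1.ProjSpace n R)}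
    (adj : DCoh.RpushQ (CohB1.ProjSpace.toSpec n R) hp ⊣ a) :
    Nonempty ((lP (polyToProj R n)).obj (a.obj (oQ _)).obj ≅
      TwistBC9.oneD (Spec (CommRingCat.of (MvPolynomial (Fin n) R))) (-(n : ℤ))) := by
  let h := polyStr R n
  have hfac : polyToProj R n ≫ CohB1.ProjSpace.toSpec n R = h := polyToProj_toSpec R n
  haveI : Smooth h := (HasRingHomProperty.Spec_iff (P := @Smooth)).2
    (RingHom.smooth_algebraMap.2 ⟨inferInstance, inferInstance⟩)
  haveI : IsNoetherianRing (MvPolynomial (Fin n) R) := inferInstance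
  haveI : QuasiCompact h := qc_of_qcqs h
  haveI : IsLocallyNoetherian (pullback h h) := LocallyOfFiniteType.isLocallyNoetherian (pullback.fst h h ≫ h)
  haveI : IsNoetherian (pullback h h) := { }
  haveI := DBC9.hasRpush (pullback.diagonal h)
  let hΔ := rpushPreserves (pullback.diagonal h)
  haveI := isLeftAdjoint_rpushQ (pullback.diagonal h) hΔ
  let adjΔ := Adjunction.ofIsLeftAdjoint (DCoh.RpushQ (pullback.diagonal h) hΔ)
  obtain ⟨r⟩ := nonempty_poly_diag R n adjΔ
  obtain ⟨d⟩ := nonempty_shriek_diag h (CohB1.ProjSpace.toSpec n R) (polyToProj R n) hfac adj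
    adjΔ (oQ _) (unitIso (Iso.refl _))
  obtain ⟨l⟩ := TwistBC9.nonempty_lP_oneM h 0
  let E := ((DCoh.RpushQ (pullback.diagonal h) hΔ).rightAdjoint.obj (oQ (pullback h h))).obj
  obtain ⟨eE⟩ := nonempty_unshift E (n : ℤ) r
  obtain ⟨s⟩ := nonempty_tenL_one (n : ℤ) E eE
  exact ⟨((shiftFunctorCompIsoId (DCoh.D _) (-(n : ℤ)) (n : ℤ) (by omega)).app _).symm ≪≫
    (shiftFunctor (DCoh.D _) (n : ℤ)).mapIso ((s.app _).symm ≪≫ (d.app ⟨oQ _, isBdd_oQ _⟩).symm ≪≫ l) ≪≫
    shiftOne _ (n : ℤ)⟩

end Groth.Agent.BC8
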