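import Groth.Agent.Lib.DQC.Affine
import Groth.Prelude.Def_DDual2
import Mathlib.Algebra.Homology.DerivedCategory.SingleTriangle

/-!
The right adjoint of restriction of scalars along the quotient by a nonzerodivisor, at the ring.
-/

set_option autoImplicit false
set_option linter.unusedSectionVars false
set_option linter.style.haveILetI false
set_option backward.isDefEq.respectTransparency false
set_option backward.isDefEq.respectTransparency.types false
set_option maxHeartbeats 800000

universe u

open CategoryTheory CategoryTheory.Limits Pretriangulated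

attribute [local instance] HasDerivedCategory.standard

namespace Groth.Agent.BC8

section Vanish

variable {R : CommRingCat.{u}}

/-- No classes from the free module into a shifted module. -/
theorem subsingleton_free_single (Y : ModuleCat.{u} R) (m j : ℤ) (h : m ≠ j) :
    Subsingleton ((DerivedCategory.singleFunctor (ModuleCat.{u} R) m).obj (ModuleCat.of R R) ⟶ (DerivedCategory.singleFunctor (ModuleCat.{u} R) j).obj Y) := by
  have hz : IsZero ((DerivedCategory.homologyFunctor (ModuleCat.{u} R) m).obj ((DerivedCategory.singleFunctor (ModuleCat.{u} R) j).obj Y)) := by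
    rcases lt_or_gt_of_ne h with h' | h'
    · exact DerivedCategory.isZero_of_isGE _ j m h'
    · exact DerivedCategory.isZero_of_isLE _ j m h'
  refine ⟨fun x y => (DQC.bijective_θ_projective _ m _).1 (hz.eq_of_tgt _ _)⟩

/-- No classes from the free module into a shifted module. -/
theorem subsingleton_free_shift (Y : ModuleCat.{u} R) (k : ℤ) (h : k ≠ 0) :
    Subsingleton ((DerivedCategory.singleFunctor (ModuleCat.{u} R) 0).obj (ModuleCat.of R R) ⟶ ((DerivedCategory.singleFunctor (ModuleCat.{u} R) 0).obj Y)⟦k⟧) := by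
  let e := ((DerivedCategory.singleFunctors (ModuleCat.{u} R)).shiftIso k (-k) 0 (by omega)).app Y
  haveI := subsingleton_free_single (R := R) Y 0 (-k) (by omega)
  exact ((Iso.refl _).homCongr e).subsingleton

/-- Transport along a shift. -/
theorem subsingleton_of_single (X : ModuleCat.{u} R) (Z : DerivedCategory (ModuleCat.{u} R)) (m : ℤ)
    (h : Subsingleton ((DerivedCategory.singleFunctor (ModuleCat.{u} R) 0).obj X ⟶ Z⟦m⟧)) : Subsingleton ((DerivedCategory.singleFunctor (ModuleCat.{u} R) m).obj X ⟶ Z) := by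
  let e : ((DerivedCategory.singleFunctor (ModuleCat.{u} R) m).obj X)⟦m⟧ ≅ (DerivedCategory.singleFunctor (ModuleCat.{u} R) 0).obj X :=
    ((DerivedCategory.singleFunctors (ModuleCat.{u} R)).shiftIso m 0 m (by omega)).app X
  exact ⟨fun x y => (shiftFunctor (DerivedCategory (ModuleCat.{u} R)) m).map_injective
    ((cancel_epi e.inv).1 (h.elim _ _))⟩

end Vanish

variable {A B : CommRingCat.{u}} (φ : A ⟶ B) (hsurj : Function.Surjective φ.hom) (τ : A)
  (hτ : ∀ a : A, τ * a = 0 → a = 0) (hker : RingHom.ker φ.hom = Ideal.span {τ})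

include hsurj hτ hker in
/-- An object corepresented by `Hom(res -, A[1])` is the quotient ring in degree zero. -/
theorem nonempty_principal (M : DerivedCategory (ModuleCat.{u} B))
    (e : ∀ N : DerivedCategory (ModuleCat.{u} B), (N ⟶ M) ≃
      ((DRing.restrictD φ.hom).obj N ⟶ ((DerivedCategory.singleFunctor (ModuleCat.{u} A) 0).obj (ModuleCat.of A A))⟦(1 : ℤ)⟧))
    (he : ∀ {N N' : DerivedCategory (ModuleCat.{u} B)} (v : N ⟶ N') (w : N' ⟶ M),
      e N (v ≫ w) = (DRing.restrictD φ.hom).map v ≫ e N' w) :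
    Nonempty ((DerivedCategory.singleFunctor (ModuleCat.{u} B) 0).obj (ModuleCat.of B B) ≅ M) := by
  let SA := DerivedCategory.singleFunctor (ModuleCat.{u} A)
  let SB := DerivedCategory.singleFunctor (ModuleCat.{u} B)
  let res := ModuleCat.restrictScalars.{u} φ.hom
  let B₁ := ModuleCat.of B B
  let A₁ := ModuleCat.of A A
  have hker' : ∀ a : A, φ.hom a = 0 → ∃ b, a = τ * b := fun a ha => by
    have : a ∈ Ideal.span {τ} := hker ▸ (RingHom.mem_ker.2 ha)
    obtain ⟨b, hb⟩ := Ideal.mem_span_singleton.1 this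
    exact ⟨b, hb⟩
  have hτ0 : φ.hom τ = 0 := RingHom.mem_ker.1 (hker ▸ Ideal.mem_span_singleton_self τ)
  let f₁ : A₁ ⟶ A₁ := ModuleCat.ofHom (LinearMap.mulLeft A τ)
  let g₁ : A₁ ⟶ res.obj B₁ := ModuleCat.ofHom (Y := (res.obj B₁ : ModuleCat A))
    { toFun := fun a => (φ.hom a : B)
      map_add' := map_add φ.hom
      map_smul' := fun r a => map_mul φ.hom r a }
  let S := ShortComplex.mk f₁ g₁ (by
    ext a
    show φ.hom (τ * 1) = 0
    rw [mul_one, hτ0])
  have hS : S.ShortExact :=
    { exact := by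
        rw [ShortComplex.moduleCat_exact_iff]
        intro a ha
        obtain ⟨b, hb⟩ := hker' a ha
        exact ⟨b, hb.symm⟩
      mono_f := (ModuleCat.mono_iff_injective f₁).2 fun a b hab => by
        have h0 : τ * ((a : A) - b) = 0 := by rw [mul_sub, sub_eq_zero]; exact hab
        exact sub_eq_zero.1 (hτ _ h0)
      epi_g := (ModuleCat.epi_iff_surjective g₁).2 hsurj }
  have hT := hS.singleTriangle_distinguished
  have hres : ∀ w : res.obj B₁ ⟶ A₁, w = 0 := fun w => by
    ext b
    have h0 : τ * w b = 0 := by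
      have h1 := w.hom.map_smul τ b
      refine h1.symm.trans ((congrArg w ?_).trans (map_zero w.hom))
      exact (congrArg (fun t : B => t * (show B from b)) hτ0).trans (zero_mul _)
    exact hτ _ h0
  have hX : ∀ m : ℤ, m ≠ 0 → Subsingleton ((SA m).obj (res.obj B₁) ⟶ ((SA 0).obj A₁)⟦(1 : ℤ)⟧) := fun m hm => by
    by_cases h2 : m ≤ -2
    · haveI : (DerivedCategory.TStructure.t : Triangulated.TStructure (DerivedCategory (ModuleCat.{u} A))).IsLE
          ((SA m).obj (res.obj B₁)) m := inferInstanceAs (DerivedCategory.IsLE ((SA m).obj (res.obj B₁)) m)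
      haveI : (DerivedCategory.TStructure.t : Triangulated.TStructure (DerivedCategory (ModuleCat.{u} A))).IsGE
          (((SA 0).obj A₁)⟦(1 : ℤ)⟧) (-1) := by
        haveI : (DerivedCategory.TStructure.t : Triangulated.TStructure (DerivedCategory (ModuleCat.{u} A))).IsGE
          ((SA 0).obj A₁) 0 := inferInstanceAs (DerivedCategory.IsGE ((SA 0).obj A₁) 0)
        exact Triangulated.TStructure.isGE_shift _ _ 0 1 (-1) (by omega)
      exact ⟨fun x y => sub_eq_zero.1 ((DerivedCategory.TStructure.t :
        Triangulated.TStructure (DerivedCategory (ModuleCat.{u} A))).zero (x - y) m (-1) (by omega))⟩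
    refine subsingleton_of_single _ _ m ?_
    let c : (((SA 0).obj A₁)⟦(1 : ℤ)⟧)⟦m⟧ ≅ ((SA 0).obj A₁)⟦1 + m⟧ :=
      ((shiftFunctorAdd' (DerivedCategory (ModuleCat.{u} A)) 1 m _ rfl).app _).symm
    suffices Subsingleton ((SA 0).obj (res.obj B₁) ⟶ ((SA 0).obj A₁)⟦1 + m⟧) from
      ((Iso.refl _).homCongr c).subsingleton
    by_cases h1 : m = -1
    · subst h1
      refine ⟨fun x y => ?_⟩
      let z : ((SA 0).obj A₁)⟦(1 : ℤ) + -1⟧ ≅ (SA 0).obj A₁ :=
        (shiftFunctorZero' (DerivedCategory (ModuleCat.{u} A)) ((1 : ℤ) + -1) (by omega)).app _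
      obtain ⟨x', hx⟩ := (SA 0).map_surjective (x ≫ z.hom)
      obtain ⟨y', hy⟩ := (SA 0).map_surjective (y ≫ z.hom)
      rw [← cancel_mono z.hom, ← hx, ← hy, hres x', hres y']
    · refine ⟨fun x y => sub_eq_zero.1 ?_⟩
      have h0 : hS.singleTriangle.mor₂ ≫ (x - y) = 0 := (subsingleton_free_shift A₁ (1 + m) (by omega)).elim _ _
      obtain ⟨g, hg⟩ := Triangle.yoneda_exact₃ _ hT (x - y) h0
      obtain ⟨g', hg'⟩ := (shiftFunctor (DerivedCategory (ModuleCat.{u} A)) (1 : ℤ)).map_surjective
        (g ≫ (shiftFunctorAdd' (DerivedCategory (ModuleCat.{u} A)) m 1 (1 + m) (by omega)).hom.app ((SA 0).obj A₁))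
      have hg0 : g' = 0 := (subsingleton_free_shift A₁ m hm).elim _ _
      rw [hg0, Functor.map_zero] at hg'
      have hg1 : g = 0 := (cancel_mono ((shiftFunctorAdd' (DerivedCategory (ModuleCat.{u} A)) m 1 (1 + m)
        (by omega)).hom.app ((SA 0).obj A₁))).1 (hg'.symm.trans zero_comp.symm)
      rw [hg, hg1, comp_zero]
  have hc : ∀ m : ℤ, Nonempty ((DRing.restrictD φ.hom).obj ((SB m).obj B₁) ≅ (SA m).obj (res.obj B₁)) := fun m =>
    ⟨(res.mapDerivedCategorySingleFunctor m).app B₁⟩
  let c0 : SB 0 ⋙ DRing.restrictD φ.hom ≅ res ⋙ SA 0 := res.mapDerivedCategorySingleFunctor 0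
  let v0 : (SB 0).obj B₁ ⟶ M := (e _).symm (c0.hom.app B₁ ≫ hS.singleδ)
  haveI : IsIso v0 := by
    rw [DerivedCategory.isIso_iff]
    intro m
    have h1 : Function.Bijective fun f : (SB m).obj B₁ ⟶ (SB 0).obj B₁ => f ≫ v0 := by
      refine (Function.Bijective.of_comp_iff' (e _).bijective _).1 ?_
      have hev : (e ((SB m).obj B₁)) ∘ (fun f : (SB m).obj B₁ ⟶ (SB 0).obj B₁ => f ≫ v0) =
          fun f => (DRing.restrictD φ.hom).map f ≫ c0.hom.app B₁ ≫ hS.singleδ := funext fun f => by
        show e _ (f ≫ v0) = _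
        rw [he, Equiv.apply_symm_apply]
      rw [hev]
      by_cases hm : m = 0
      · subst hm
        constructor
        · intro f f' hff
          obtain ⟨u₁, rfl⟩ := (SB 0).map_surjective f
          obtain ⟨u₂, rfl⟩ := (SB 0).map_surjective f'
          have hn : ∀ u : B₁ ⟶ B₁, (DRing.restrictD φ.hom).map ((SB 0).map u) ≫ c0.hom.app B₁ =
              c0.hom.app B₁ ≫ (SA 0).map (res.map u) := fun u => c0.hom.naturality u
          dsimp only at hff
          rw [← Category.assoc, ← Category.assoc, hn, hn, Category.assoc, Category.assoc, cancel_epi] at hff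
          have h0 : (SA 0).map (res.map (u₁ - u₂)) ≫ hS.singleTriangle.mor₃ = 0 := by
            show (SA 0).map (res.map (u₁ - u₂)) ≫ hS.singleδ = 0
            rw [Functor.map_sub, Functor.map_sub, Preadditive.sub_comp, hff, sub_self]
          obtain ⟨w, hw⟩ := Triangle.coyoneda_exact₃ _ hT ((SA 0).map (res.map (u₁ - u₂))) h0
          obtain ⟨w', rfl⟩ := (SA 0).map_surjective w
          rw [hres w', Functor.map_zero, zero_comp] at hw
          have h3 : res.map (u₁ - u₂) = 0 := (SA 0).map_injective (hw.trans ((SA 0).map_zero _ _).symm)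
          rw [sub_eq_zero.1 (res.map_injective (h3.trans (res.map_zero _ _).symm))]
        · intro y
          let v : (SA 0).obj (res.obj B₁) ⟶ ((SA 0).obj A₁)⟦(1 : ℤ)⟧ := c0.inv.app B₁ ≫ y
          have h0 : hS.singleTriangle.mor₂ ≫ v = 0 := (subsingleton_free_shift A₁ 1 (by omega)).elim _ _
          obtain ⟨g, hg⟩ := Triangle.yoneda_exact₃ _ hT v h0
          obtain ⟨g', rfl⟩ := (shiftFunctor (DerivedCategory (ModuleCat.{u} A)) (1 : ℤ)).map_surjective g
          obtain ⟨s, rfl⟩ := (SA 0).map_surjective g'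
          have hs : ∀ a : A, s.hom a = a * s.hom (1 : A) := fun a => by
            have := s.hom.map_smul a (1 : A)
            simpa using this
          let u : B₁ ⟶ B₁ := ModuleCat.ofHom (LinearMap.mulRight B (φ.hom (s.hom (1 : A))))
          let η : S ⟶ S :=
            { τ₁ := s, τ₂ := s, τ₃ := res.map u
              comm₁₂ := by
                ext
                show τ * s.hom (1 : A) = s.hom (τ * 1)
                rw [hs (τ * 1), mul_one]
              comm₂₃ := by
                ext
                show φ.hom (s.hom (1 : A)) = φ.hom 1 * φ.hom (s.hom (1 : A))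
                rw [map_one φ.hom, one_mul] }
          refine ⟨(SB 0).map u, ?_⟩
          have hn : (DRing.restrictD φ.hom).map ((SB 0).map u) ≫ c0.hom.app B₁ =
              c0.hom.app B₁ ≫ (SA 0).map (res.map u) := c0.hom.naturality u
          have hδ := (ShortComplex.ShortExact.singleTriangle.map hS hS η).comm₃
          dsimp only
          rw [← Category.assoc, hn, Category.assoc,
            show (SA 0).map (res.map u) ≫ hS.singleδ = hS.singleδ ≫ ((SA 0).map s)⟦(1 : ℤ)⟧' from hδ.symm,
            show hS.singleδ ≫ ((SA 0).map s)⟦(1 : ℤ)⟧' = v from hg.symm]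
          exact Iso.hom_inv_id_app_assoc c0 B₁ y
      · haveI := subsingleton_free_single (R := B) B₁ m 0 hm
        obtain ⟨c⟩ := hc m
        haveI := hX m hm
        haveI : Subsingleton ((DRing.restrictD φ.hom).obj ((SB m).obj B₁) ⟶ ((SA 0).obj A₁)⟦(1 : ℤ)⟧) :=
          (c.homCongr (Iso.refl _)).subsingleton
        exact ⟨fun _ _ _ => Subsingleton.elim _ _, fun y => ⟨0, Subsingleton.elim _ _⟩⟩
    refine DQC.isIso_of_bijective_homOne _ ?_
    have hθ : (fun s => s ≫ (DerivedCategory.homologyFunctor (ModuleCat.{u} B) m).map v0) ∘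
        (SiteRlim.θ : ((SB m).obj B₁ ⟶ (SB 0).obj B₁) → _) = SiteRlim.θ ∘ fun f => f ≫ v0 :=
      funext fun f => (SiteRlim.θ_comp f v0).symm
    exact (Function.Bijective.of_comp_iff _ (DQC.bijective_θ_projective B₁ m _)).1
      (hθ ▸ (DQC.bijective_θ_projective B₁ m M).comp h1)
  exact ⟨asIso v0⟩

end Groth.Agent.BC8
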