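import Groth.Agent.Lib.RHom.PCoh
import Groth.Agent.Lib.RHom.Vanish
import Groth.Agent.Lib.KInj.DerivedAdj
import Groth.Agent.Lib.DPerf.Noeth
import Groth.Agent.Lib.BC8.CohShriek
import Groth.Agent.Lib.DerTrunc.Basic

/-! Internal hom into bounded complexes of injective sheaves. -/

set_option autoImplicit false
set_option linter.unusedSectionVars false
set_option linter.style.haveILetI false
set_option backward.isDefEq.respectTransparency false
set_option backward.isDefEq.respectTransparency.types false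
set_option maxHeartbeats 1000000

universe u

open CategoryTheory CategoryTheory.Limits CategoryTheory.Pretriangulated AlgebraicGeometry

attribute [local instance] HasDerivedCategory.standard

noncomputable section

namespace Groth.Agent.BC8

open KFlat KFlat.Sch RHom

variable {X : Scheme.{u}}

theorem isStrictlyGE_tcx (K E : CochainComplex X.Modules ℤ) (p c : ℤ) [K.IsStrictlyGE p]
    [E.IsStrictlyGE c] : (((tcx (TX X)).obj K).obj E).IsStrictlyGE (p + c) := by
  rw [CochainComplex.isStrictlyGE_iff]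
  intro n hn
  rw [IsZero.iff_id_eq_zero]
  refine tcx_hom_ext (TX X) fun i j h => IsZero.eq_of_src ?_ _ _
  by_cases hi : i < p
  · exact (((TX X).map_isZero (K.isZero_of_isStrictlyGE p i hi)).obj (E.X j))
  · exact ((TX X).obj (K.X i)).map_isZero (E.isZero_of_isStrictlyGE c j (by omega))

/-- `RHom` from degrees `≥ c` into injectives in degrees `≤ b` lives in degrees `≤ b - c`. -/
theorem isLE_rhom (E : CochainComplex X.Modules ℤ) (c : ℤ) (hE : (DerivedCategory.Q.obj E).IsGE c)
    (Y : DCoh.D X) (b : ℤ) (I : CochainComplex X.Modules ℤ) [I.IsStrictlyLE b] [I.IsKInjective]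
    (eI : DerivedCategory.Q.obj I ≅ Y) : ((DCoh.RSheafHom E).obj Y).IsLE (b - c) := by
  haveI : E.IsGE c := (DerivedCategory.isGE_Q_obj_iff E c).1 hE
  obtain ⟨r⟩ := nonempty_rhomIso (asIso (DerivedCategory.Q.map (E.πTruncGE c)))
  refine @Triangulated.TStructure.isLE_of_iso _ _ _ _ _ _ _ _ _ _ (r.app Y).symm (b - c) ?_
  let E' := E.truncGE c
  obtain ⟨J, hJ, ⟨eJ⟩⟩ := KInjLib.exists_iso_kInjective ((DCoh.RSheafHom E').obj Y)
  refine (DerivedCategory.isLE_iff _ _).2 fun i hi => ?_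
  refine IsZero.of_iso ?_ ((DerivedCategory.homologyFunctor _ i).mapIso eJ ≪≫
    (DerivedCategory.homologyFunctorFactors _ i).app J)
  refine (HomologicalComplex.exactAt_iff_isZero_homology J i).1 ?_
  rw [HomologicalComplex.exactAt_iff' J (i - 1) i (i + 1) (by simp) (by simp),
    ShortComplex.exact_iff_exact_up_to_refinements]
  intro A x hx
  change x ≫ J.d i (i + 1) = 0 at hx
  let S : CochainComplex X.Modules ℤ := (HomologicalComplex.single X.Modules (ComplexShape.up ℤ) i).obj ((cover X).F.obj A)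
  haveI : S.IsStrictlyGE i := inferInstance
  let g : S ⟶ J := HomologicalComplex.mkHomFromSingle ((cover X).π.app A ≫ x) fun j hj => by
    obtain rfl : i + 1 = j := hj
    rw [Category.assoc, hx, comp_zero]
  haveI := isStrictlyGE_tcx S E' i c
  have hz : ∀ f : DerivedCategory.Q.obj S ⟶ (DCoh.RSheafHom E').obj Y, f = 0 := by
    intro f
    apply ((DCoh.RSheafHomAdj E').homEquiv _ Y).symm.injective
    haveI := isIso_counit_kflat E' S (KFlat.isKFlat_single (T := TX X) (a := i) (X := (cover X).F.obj A) (isFlat_cover A))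
    let e := (asIso ((ltCounit E').app S))
    have h0 : ∀ t : DerivedCategory.Q.obj (((tcx (TX X)).obj S).obj E') ⟶ DerivedCategory.Q.obj I, t = 0 := fun t => by
      obtain ⟨t', rfl⟩ := (CochainComplex.IsKInjective.Qh_map_bijective _ I).2 t
      obtain ⟨t'', rfl⟩ := (HomotopyCategory.quotient _ _).map_surjective t'
      have : t'' = 0 := by
        refine HomologicalComplex.hom_ext _ _ fun j => ?_
        by_cases hj : j < i + c
        · exact ((((tcx (TX X)).obj S).obj E').isZero_of_isStrictlyGE (i + c) j hj).eq_of_src _ _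
        · exact (I.isZero_of_isStrictlyLE b j (by omega)).eq_of_tgt _ _
      rw [this, Functor.map_zero, Functor.map_zero]
    have : ∀ u : (DCoh.LTensorCx E').obj (DerivedCategory.Q.obj S) ⟶ Y, u = 0 := fun u => by
      refine (cancel_epi e.inv).1 ((cancel_mono eI.inv).1 ((h0 _).trans ?_))
      rw [comp_zero, zero_comp]
    exact (this _).trans (this _).symm
  have h1 : DerivedCategory.Q.map g = 0 := by
    rw [← cancel_mono eJ.inv, zero_comp]
    exact hz _
  have h2 : (HomotopyCategory.quotient _ (ComplexShape.up ℤ)).map g = 0 := by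
    apply (CochainComplex.IsKInjective.Qh_map_bijective _ J).1
    rw [Functor.map_zero]
    exact h1
  obtain ⟨H⟩ := (HomotopyCategory.quotient_map_eq_zero_iff g).1 h2
  have h3 := H.comm i
  rw [dNext_eq H.hom (show (ComplexShape.up ℤ).Rel i (i + 1) by simp),
    prevD_eq H.hom (show (ComplexShape.up ℤ).Rel (i - 1) i by simp), HomologicalComplex.single_obj_d,
    zero_comp, zero_add, HomologicalComplex.zero_f, add_zero] at h3
  haveI := (cover X).epi A
  refine ⟨(cover X).F.obj A, (cover X).π.app A, inferInstance,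
    (HomologicalComplex.singleObjXSelf (ComplexShape.up ℤ) i _).inv ≫ H.hom i (i - 1), ?_⟩
  have h4 := congrArg ((HomologicalComplex.singleObjXSelf (ComplexShape.up ℤ) i _).inv ≫ ·) h3
  simp only [g, HomologicalComplex.mkHomFromSingle_f, Iso.inv_hom_id_assoc] at h4
  rw [Category.assoc]
  exact h4

/-- The middle object of a triangle. -/
theorem goodAt_obj₂ {𝒮 : X.Modules → Prop} (hS : Mid 𝒮) {Y : DCoh.D X} (T : Triangle (DCoh.D X))
    (hT : T ∈ distTriang _) (j : ℤ) (h₁ : GoodAt 𝒮 Y j T.obj₁) (h₁' : GoodAt 𝒮 Y j (T.obj₁⟦(1 : ℤ)⟧))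
    (h₃ : GoodAt 𝒮 Y j (T.obj₃⟦(-1 : ℤ)⟧)) (h₃' : GoodAt 𝒮 Y j ((T.obj₃⟦(-1 : ℤ)⟧)⟦(1 : ℤ)⟧)) :
    GoodAt 𝒮 Y j T.obj₂ :=
  at_obj₃ hS T.invRotate (inv_rot_of_distTriang _ hT) j h₁' h₃' h₁ h₃

variable [IsLocallyNoetherian X]

theorem isCohD_shift {Z : DCoh.D X} (h : DCoh.IsCohD Z) (m : ℤ) : DCoh.IsCohD (Z⟦m⟧) := fun i =>
  isCoh_iso (((DerivedCategory.homologyFunctor X.Modules 0).shiftIso m i (m + i) rfl).app Z).symm (h (m + i))

theorem isCohD_truncLT {Z : DCoh.D X} (h : DCoh.IsCohD Z) (n : ℤ) :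
    DCoh.IsCohD ((DerivedCategory.TStructure.t.truncLT n).obj Z) := fun i => by
  by_cases hi : i < n
  · haveI := DerTrunc.isIso_homology_truncLTι Z n i hi
    exact isCoh_iso (asIso ((DerivedCategory.homologyFunctor _ i).map
      ((DerivedCategory.TStructure.t.truncLTι n).app Z))).symm (h i)
  · exact DPerf.isCoh_of_isZero (DerivedCategory.isZero_of_isLE _ (n - 1) i (by omega))

theorem isCohD_truncGE {Z : DCoh.D X} (h : DCoh.IsCohD Z) (n : ℤ) :
    DCoh.IsCohD ((DerivedCategory.TStructure.t.truncGE n).obj Z) := fun i => by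
  by_cases hi : n ≤ i
  · haveI := DerTrunc.isIso_homology_truncGEπ Z n i hi
    exact isCoh_iso (asIso ((DerivedCategory.homologyFunctor _ i).map
      ((DerivedCategory.TStructure.t.truncGEπ n).app Z))) (h i)
  · exact DPerf.isCoh_of_isZero (DerivedCategory.isZero_of_isGE _ n i (by omega))

/-- Cohomology sheaves of `RHom` out of a complex with coherent cohomology. -/
theorem mem_HD_rhom_of_coh (𝒮 : X.Modules → Prop) (hS : Mid 𝒮) (h₀ : ∀ {M : X.Modules}, IsZero M → 𝒮 M)
    (Y : DCoh.D X) (a b : ℤ) [Y.IsGE a] (I : CochainComplex X.Modules ℤ) [I.IsStrictlyLE b] [I.IsKInjective]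
    (eI : DerivedCategory.Q.obj I ≅ Y)
    (hpc : ∀ (F : CochainComplex X.Modules ℤ) (m j : ℤ), DCoh.IsPseudoCoherentD m (DCoh.toD X F) → j < a - m →
      𝒮 (DCoh.HD ((DCoh.RSheafHom F).obj Y) j))
    (E : CochainComplex X.Modules ℤ) (hE : DCoh.IsCohD (DCoh.toD X E)) (j : ℤ) :
    𝒮 (DCoh.HD ((DCoh.RSheafHom E).obj Y) j) := by
  let t := DerivedCategory.TStructure.t (C := X.Modules)
  have hle : ∀ (Z : DCoh.D X) (c : ℤ), DCoh.IsCohD Z → Z.IsLE c → GoodAt 𝒮 Y j Z := fun Z c hZ hc F eF => by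
    obtain ⟨eF⟩ := eF
    haveI := t.isLE_of_iso eF.symm c
    exact hpc F (a - j - 1) j (DPerf.isPseudoCoherentD_of_coherent
      (fun i _ => isCoh_iso ((DerivedCategory.homologyFunctor _ i).mapIso eF.symm) (hZ i)) c) (by omega)
  have hge : ∀ (Z : DCoh.D X) (c : ℤ), Z.IsGE c → b - c < j → GoodAt 𝒮 Y j Z := fun Z c hc hj F eF => by
    obtain ⟨eF⟩ := eF
    haveI := isLE_rhom F c (t.isGE_of_iso eF.symm c) Y b I eI
    exact h₀ (DerivedCategory.isZero_of_isLE _ (b - c) j hj)
  have key : GoodAt 𝒮 Y j (DCoh.toD X E) := by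
    let M := b - j + 3
    refine goodAt_obj₂ hS _ (t.triangleLTGE_distinguished M (DCoh.toD X E)) j ?_ ?_ ?_ ?_
    · exact hle _ (M - 1) (isCohD_truncLT hE M) inferInstance
    · exact hle _ (M - 2) (isCohD_shift (isCohD_truncLT hE M) 1) (t.isLE_shift _ (M - 1) 1 (M - 2) (by omega))
    · exact hge _ (M + 1) (t.isGE_shift _ M (-1) (M + 1) (by omega)) (by omega)
    · refine hge _ M ?_ (by omega)
      exact @Triangulated.TStructure.isGE_shift _ _ _ _ _ _ _ t _ (M + 1) 1 M (by omega)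
        (t.isGE_shift _ M (-1) (M + 1) (by omega))
  exact key E ⟨Iso.refl _⟩

theorem isQCohD_rhom_of_coh (Y : DCoh.D X) (hY : DCoh.IsQCohD Y) (a b : ℤ) [Y.IsGE a]
    (I : CochainComplex X.Modules ℤ) [I.IsStrictlyLE b] [I.IsKInjective] (eI : DerivedCategory.Q.obj I ≅ Y)
    (E : CochainComplex X.Modules ℤ) (hE : DCoh.IsCohD (DCoh.toD X E)) :
    DCoh.IsQCohD ((DCoh.RSheafHom E).obj Y) :=
  mem_HD_rhom_of_coh _ mid_qcoh (fun h => DPush.isQCoh_of_isZero h) Y a b I eI
    (fun F _ j hF hj => isQCoh_HD_rhom F Y a hF hY j hj) E hE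

theorem isCohD_rhom_of_coh (Y : DCoh.D X) (hY : DCoh.IsCohD Y) (a b : ℤ) [Y.IsGE a]
    (I : CochainComplex X.Modules ℤ) [I.IsStrictlyLE b] [I.IsKInjective] (eI : DerivedCategory.Q.obj I ≅ Y)
    (E : CochainComplex X.Modules ℤ) (hE : DCoh.IsCohD (DCoh.toD X E)) :
    DCoh.IsCohD ((DCoh.RSheafHom E).obj Y) :=
  mem_HD_rhom_of_coh _ mid_coh (fun h => DPerf.isCoh_of_isZero h) Y a b I eI
    (fun F _ j hF hj => isCoh_HD_rhom F Y a hF hY j hj) E hE

end Groth.Agent.BC8
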