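import Groth.Agent.Lib.BC8.Core
import Mathlib.CategoryTheory.Adjunction.FullyFaithful

/-! Formal lemmas for the reflexivity of twisted inverse images. -/

set_option autoImplicit false
set_option linter.unusedSectionVars false
set_option linter.style.haveILetI false

open CategoryTheory MonoidalCategory

namespace Groth.Agent.BC8

open Functor.OplaxMonoidal Functor.LaxMonoidal DMon9

section Pair

variable {C D : Type*} [Category* C] [Category* D] [MonoidalCategory C] [MonoidalCategory D]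
  {L : C ⥤ D} [L.Monoidal] {R : D ⥤ C} (adj : L ⊣ R)

/-- The pairing of `R G` with `R 𝟙`. -/
noncomputable def pairB {G : D} (ε : R.obj G ⟶ 𝟙_ C) : R.obj G ⊗ R.obj (𝟙_ D) ⟶ 𝟙_ C :=
  projApp adj G (R.obj (𝟙_ D)) ≫ R.map (G ◁ adj.counit.app (𝟙_ D) ≫ (ρ_ G).hom) ≫ ε

theorem qApp_eq_proj (G : D) :
    qApp adj (R.obj G) ≫ R.map (adj.counit.app G) =
      projApp adj G (R.obj (𝟙_ D)) ≫ R.map (G ◁ adj.counit.app (𝟙_ D) ≫ (ρ_ G).hom) := by
  rw [qApp, projApp, ← adj.homEquiv_naturality_right, ← adj.homEquiv_naturality_right]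
  congr 1
  simp only [actL, Category.assoc]
  refine congrArg (δ L (R.obj G) (R.obj (𝟙_ D)) ≫ ·) ?_
  dsimp only [Functor.id_obj, Functor.comp_obj]
  rw [← whisker_exchange_assoc, rightUnitor_naturality]

theorem push_tensor {G : D} (ε : R.obj G ⟶ 𝟙_ C) {T : C} (y : L.obj T ⟶ 𝟙_ D) :
    projApp adj G T ≫ R.map (G ◁ y ≫ (ρ_ G).hom) ≫ ε = R.obj G ◁ adj.homEquiv _ _ y ≫ pairB adj ε := by
  rw [pairB, ← Category.assoc (R.obj G ◁ _), projApp_natural, Category.assoc, ← R.map_comp_assoc,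
    ← whiskerLeft_comp_assoc]
  congr 4
  exact congrArg (G ◁ ·) (((adj.homEquiv T (𝟙_ D)).symm_apply_apply y).symm.trans (adj.homEquiv_counit _ _ _))

/-- The pairing represents maps out of `A ⊗ R 𝟙`. -/
theorem bijective_pairB {G : D} (ε : R.obj G ⟶ 𝟙_ C) (A : C) [IsIso (qApp adj A)]
    (hε : Function.Bijective fun u : L.obj A ⟶ G => R.map u ≫ ε) :
    Function.Bijective fun x : A ⟶ R.obj G => x ▷ R.obj (𝟙_ D) ≫ pairB adj ε := by
  have h : (fun x : A ⟶ R.obj G => x ▷ R.obj (𝟙_ D) ≫ pairB adj ε) =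
      (asIso (qApp adj A)).symm.homFromEquiv ∘ (fun u : L.obj A ⟶ G => R.map u ≫ ε) ∘
        (adj.homEquiv A G).symm := by
    funext x
    simp only [Function.comp_apply, Iso.homFromEquiv_apply, Iso.symm_inv, asIso_hom, pairB, adj.homEquiv_counit,
      R.map_comp, Category.assoc]
    rw [← reassoc_of% (qApp_natural adj x), reassoc_of% (qApp_eq_proj adj G), R.map_comp, Category.assoc]
  rw [h]
  exact (Iso.homFromEquiv _).bijective.comp (hε.comp (adj.homEquiv A G).symm.bijective)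

/-- A pairing which represents maps out of `A ⊗ P` for the dual of `P` is perfect. -/
theorem bijective_of_pairing {P Q B : C} [ExactPairing P Q] (β : B ⊗ P ⟶ 𝟙_ C)
    (hQ : Function.Surjective fun x : Q ⟶ B => x ▷ P ≫ β) (hB : Function.Injective fun x : B ⟶ B => x ▷ P ≫ β)
    (T : C) : Function.Bijective fun y : T ⟶ P => B ◁ y ≫ β := by
  have hu' : Function.Bijective fun x : B ⟶ Q => x ▷ P ≫ ε_ P Q := by
    have : (fun x : B ⟶ Q => x ▷ P ≫ ε_ P Q) =
        (tensorRightHomEquiv B P Q (𝟙_ C)).symm ∘ fun x => x ≫ (λ_ Q).inv := by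
      funext x
      simp only [Function.comp_apply, tensorRightHomEquiv, Equiv.coe_fn_symm_mk, comp_whiskerRight, Category.assoc]
      monoidal
    rw [this]
    exact (Equiv.bijective _).comp ((λ_ Q).symm.homToEquiv).bijective
  obtain ⟨u, hu⟩ := hu'.2 β
  obtain ⟨v, hv⟩ := hQ (ε_ P Q)
  dsimp only at hu hv
  have h₁ : u ≫ v = 𝟙 B := hB (by
    dsimp only
    rw [comp_whiskerRight, Category.assoc, hv, hu, id_whiskerRight, Category.id_comp])
  have h₂ : v ≫ u = 𝟙 Q := by
    have hinj : Function.Bijective fun x : Q ⟶ Q => x ▷ P ≫ ε_ P Q := by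
      have : (fun x : Q ⟶ Q => x ▷ P ≫ ε_ P Q) =
          (tensorRightHomEquiv Q P Q (𝟙_ C)).symm ∘ fun x => x ≫ (λ_ Q).inv := by
        funext x
        simp only [Function.comp_apply, tensorRightHomEquiv, Equiv.coe_fn_symm_mk, comp_whiskerRight, Category.assoc]
        monoidal
      rw [this]
      exact (Equiv.bijective _).comp ((λ_ Q).symm.homToEquiv).bijective
    apply hinj.1
    dsimp only
    rw [comp_whiskerRight, Category.assoc, hu, hv, id_whiskerRight, Category.id_comp]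
  let e : B ≅ Q := ⟨u, v, h₁, h₂⟩
  have h : (fun y : T ⟶ P => B ◁ y ≫ β) =
      (whiskerRightIso e T).symm.homFromEquiv ∘ (tensorLeftHomEquiv T P Q (𝟙_ C)).symm ∘
        fun y : T ⟶ P => y ≫ (ρ_ P).inv := by
    funext y
    simp only [Function.comp_apply, Iso.homFromEquiv_apply, tensorLeftHomEquiv, Equiv.coe_fn_symm_mk,
      Iso.symm_inv, whiskerRightIso_hom, MonoidalCategory.whiskerLeft_comp, Category.assoc, e]
    rw [← hu, whisker_exchange_assoc]
    monoidal
  rw [h]
  exact (Equiv.bijective _).comp ((Equiv.bijective _).comp ((ρ_ P).symm.homToEquiv).bijective)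

/-- Tensoring with `G` is bijective on maps to the unit. -/
theorem bijective_whisker {G : D} (ε : R.obj G ⟶ 𝟙_ C) {Q : C} [ExactPairing (R.obj (𝟙_ D)) Q]
    [IsIso (qApp adj Q)] [IsIso (qApp adj (R.obj G))] {T : C} [IsIso (projApp adj G T)]
    (hQ : Function.Bijective fun u : L.obj Q ⟶ G => R.map u ≫ ε)
    (hB : Function.Bijective fun u : L.obj (R.obj G) ⟶ G => R.map u ≫ ε)
    (hT : Function.Bijective fun u : G ⊗ L.obj T ⟶ G => R.map u ≫ ε) :
    Function.Bijective fun y : L.obj T ⟶ 𝟙_ D => G ◁ y := by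
  have h₁ := bijective_of_pairing (pairB adj ε) (bijective_pairB adj ε Q hQ).2 (bijective_pairB adj ε _ hB).1 T
  let after : (G ⊗ L.obj T ⟶ G ⊗ 𝟙_ D) → (R.obj G ⊗ T ⟶ 𝟙_ C) :=
    (asIso (projApp adj G T)).symm.homFromEquiv ∘ (fun u => R.map u ≫ ε) ∘ (ρ_ G).homToEquiv
  have hafter : Function.Bijective after :=
    (Iso.homFromEquiv _).bijective.comp (hT.comp (Iso.homToEquiv _).bijective)
  refine (hafter.of_comp_iff' _).1 ?_
  have : after ∘ (fun y : L.obj T ⟶ 𝟙_ D => G ◁ y) =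
      (fun y : T ⟶ R.obj (𝟙_ D) => R.obj G ◁ y ≫ pairB adj ε) ∘ adj.homEquiv _ _ := by
    funext y
    exact push_tensor adj ε y
  rw [this]
  exact h₁.comp (Equiv.bijective _)

end Pair

section Local

variable {D₁ D₂ : Type*} [Category* D₁] [Category* D₂] {L : D₂ ⥤ D₁} {F : D₁ ⥤ D₂} (adj : L ⊣ F)
  {TG Rh : D₁ ⥤ D₁} (adjT : TG ⊣ Rh) {TG' : D₂ ⥤ D₂} (χ : F ⋙ TG' ≅ TG ⋙ F)

include χ in
/-- The adjunct of an isomorphism is bijective on maps out of `T` after restriction, if tensoring is. -/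
theorem bijective_restrict_adjunct [IsIso adj.unit] (T : D₂)
    (hess : ∃ S, Nonempty (TG.obj (L.obj T) ≅ L.obj S)) {O A : D₁} (υ : TG.obj O ≅ A)
    (hT : Function.Bijective fun y : T ⟶ F.obj O => TG'.map y) :
    Function.Bijective fun x : T ⟶ F.obj O => x ≫ F.map (adjT.homEquiv O A υ.hom) := by
  haveI := adj.fullyFaithfulLOfIsIsoUnit.full
  haveI := adj.fullyFaithfulLOfIsIsoUnit.faithful
  obtain ⟨S, ⟨eS⟩⟩ := hess
  haveI := adj.isIso_counit_app_of_iso eS
  let ν : TG'.obj T ⟶ F.obj (TG.obj (L.obj T)) := TG'.map (adj.unit.app T) ≫ χ.hom.app (L.obj T)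
  haveI : IsIso ν := by dsimp only [ν]; infer_instance
  let π : L.obj (TG'.obj T) ⟶ TG.obj (L.obj T) := (adj.homEquiv _ _).symm ν
  haveI : IsIso π := by
    show IsIso ((adj.homEquiv _ _).symm ν)
    rw [adj.homEquiv_counit]
    infer_instance
  let after : (T ⟶ F.obj (Rh.obj A)) → (TG'.obj T ⟶ F.obj A) :=
    adj.homEquiv _ _ ∘ (asIso π).symm.homFromEquiv ∘ (adjT.homEquiv _ _).symm ∘ (adj.homEquiv _ _).symm
  have hafter : Function.Bijective after :=
    (Equiv.bijective _).comp ((Equiv.bijective _).comp ((Equiv.bijective _).comp (Equiv.bijective _)))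
  refine (hafter.of_comp_iff' _).1 ?_
  have : after ∘ (fun x : T ⟶ F.obj O => x ≫ F.map (adjT.homEquiv O A υ.hom)) =
      ((asIso (χ.hom.app O)).trans (F.mapIso υ)).homToEquiv ∘ fun y : T ⟶ F.obj O => TG'.map y := by
    funext y
    simp only [after, Function.comp_apply, Iso.homFromEquiv_apply, Iso.symm_inv, asIso_hom,
      Iso.homToEquiv_apply, Iso.trans_hom, Functor.mapIso_hom]
    rw [adj.homEquiv_naturality_right_symm, adjT.homEquiv_naturality_left_symm, Equiv.symm_apply_apply,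
      adj.homEquiv_naturality_right]
    show adj.homEquiv _ _ ((adj.homEquiv _ _).symm ν) ≫ F.map (TG.map _ ≫ υ.hom) = _
    rw [Equiv.apply_symm_apply, F.map_comp]
    show (TG'.map _ ≫ χ.hom.app _) ≫ F.map (TG.map _) ≫ _ = _
    rw [Category.assoc]
    refine (congrArg (TG'.map (adj.unit.app T) ≫ ·) (NatTrans.naturality_assoc χ.hom _ (F.map υ.hom)).symm).trans ?_
    rw [Functor.comp_map, ← TG'.map_comp_assoc]
    exact congrArg (fun t => TG'.map t ≫ χ.hom.app O ≫ F.map υ.hom)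
      ((adj.homEquiv_unit _ _ _).symm.trans ((adj.homEquiv T O).apply_symm_apply y))
  rw [this]
  exact (Equiv.bijective _).comp hT

end Local

end Groth.Agent.BC8
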