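import Groth.Agent.Lib.BC8.Shriek660
import Groth.Agent.Lib.BC8.UpperPlus
import Groth.Agent.Lib.BC8.UpperCoh
import Groth.Agent.Lib.RHom.PCoh
import Groth.Agent.Lib.CohMop.ClosedCounit

/-! `i_* R ≅ RHom(i_*O, -)` for a closed immersion, without finiteness hypotheses. -/

set_option autoImplicit false
set_option linter.style.haveILetI false
set_option linter.unusedSectionVars false
set_option backward.isDefEq.respectTransparency false
set_option backward.isDefEq.respectTransparency.types false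
set_option maxHeartbeats 800000

universe u

open CategoryTheory CategoryTheory.Limits AlgebraicGeometry

attribute [local instance] HasDerivedCategory.standard

namespace Groth.Agent.BC8

open DMon9 KFlat KFlat.Sch

variable {Z X : Scheme.{u}}

/-- Tensoring with a module in degree zero, termwise. -/
noncomputable def tcxSingleIso (A : X.Modules) :
    (CohMop.tenR A).mapHomologicalComplex (ComplexShape.up ℤ) ≅
      (tcx (TX X)).flip.obj ((HomologicalComplex.single X.Modules (ComplexShape.up ℤ) 0).obj A) :=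
  NatIso.ofComponents
    (fun L => HomologicalComplex.Hom.isoOfComponents
      (fun n => singleTotalIso (T := TX X) L 0 A (add_zero n))
      (fun n n' h => (singleTotalIso_d L 0 A (add_zero n) (add_zero n') h).symm))
    fun {L L'} φ => by
      ext n : 1
      change ((TX X).map (φ.f n)).app A ≫ _ ≫ ιt (TX X) L' _ n 0 n _ =
        (_ ≫ ιt (TX X) L _ n 0 n _) ≫ _
      rw [Category.assoc]
      refine Eq.trans ?_ (congrArg (_ ≫ ·) (ι_tcx_map₁ (TX X) φ _ n 0 n (add_zero n))).symm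
      exact (((TX X).map (φ.f n)).naturality_assoc _ _).symm

/-- `i_* i^* ≅ - ⊗ i_*O` on modules. -/
noncomputable def pushPullIso (i : Z ⟶ X) [IsClosedImmersion i] :
    CohMop.tenR ((Scheme.Modules.pushforward i).obj (Coh.structureModule Z)) ≅
      Scheme.Modules.pullback i ⋙ Scheme.Modules.pushforward i :=
  ClImmProj14.tenPushIso i (Coh.structureModule Z) ≪≫
    Functor.isoWhiskerLeft _ (Functor.isoWhiskerRight RHom.unitorNatIso _) ≪≫
    Functor.isoWhiskerLeft _ (Functor.leftUnitor _)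

variable (i : Z ⟶ X) [IsClosedImmersion i]

/-- `i_*O` in degree zero. -/
noncomputable abbrev pushOCx : CochainComplex X.Modules ℤ :=
  (HomologicalComplex.single X.Modules (ComplexShape.up ℤ) 0).obj
    ((Scheme.Modules.pushforward i).obj (Coh.structureModule Z))

/-- `Ri_* Li^* ≅ - ⊗^L i_*O`. -/
theorem nonempty_lP_rpush_lt [DCoh.HasRpush i] [DCoh.HasLTensorCx (pushOCx i)] :
    Nonempty (lP i ⋙ DCoh.Rpush i ≅ DCoh.LTensorCx (pushOCx i)) := by
  obtain ⟨r⟩ := RHom.nonempty_rpushIso i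
  haveI := RHom.preservesFiniteColimits_push i
  haveI := RHom.preservesLimits_pushforward i
  let Pu := Scheme.Modules.pushforward i
  let Pb := Scheme.Modules.pullback i
  let e₁ : qK X ⋙ lP i ⋙ DCoh.Rpush i ≅ (kfP X).ι ⋙
      ((Pb.mapHomologicalComplex (ComplexShape.up ℤ) ⋙ Pu.mapHomologicalComplex (ComplexShape.up ℤ)) ⋙
        DerivedCategory.Q) :=
    (Functor.associator _ _ _).symm ≪≫ Functor.isoWhiskerRight (lPFac i) _ ≪≫ Functor.associator _ _ _ ≪≫
      Functor.isoWhiskerLeft _ (Functor.associator _ _ _ ≪≫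
        Functor.isoWhiskerLeft (pullCx i) (Functor.isoWhiskerLeft DerivedCategory.Q r ≪≫ Pu.mapDerivedCategoryFactors) ≪≫
        (Functor.associator _ _ _).symm)
  let e₂ : qK X ⋙ DCoh.LTensorCx (pushOCx i) ≅ (kfP X).ι ⋙
      ((tcx (TX X)).flip.obj (pushOCx i) ⋙ DerivedCategory.Q) :=
    Functor.associator _ _ _ ≪≫ RHom.ltNatIso (pushOCx i) (kfP X).ι
      (fun K => RHom.isIso_counit_kflat _ K.obj K.property)
  let c : Pb.mapHomologicalComplex (ComplexShape.up ℤ) ⋙ Pu.mapHomologicalComplex (ComplexShape.up ℤ) ≅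
      (tcx (TX X)).flip.obj (pushOCx i) :=
    Functor.mapHomologicalComplexCompIso (pushPullIso i).symm _ ≪≫ tcxSingleIso _
  exact ⟨Localization.liftNatIso (qK X) (kfW X) (qK X ⋙ lP i ⋙ DCoh.Rpush i) (qK X ⋙ DCoh.LTensorCx (pushOCx i))
    _ _ (e₁ ≪≫ Functor.isoWhiskerLeft _ (Functor.isoWhiskerRight c _) ≪≫ e₂.symm)⟩

variable [PreservesFiniteLimits (Scheme.Modules.pushforward i)] [PreservesFiniteColimits (Scheme.Modules.pushforward i)]
  {R : DCoh.D X ⥤ DCoh.D Z} (adjR : Dual3.pushD i ⊣ R)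

include adjR in
/-- `i_* R ≅ RHom(i_*O, -)`. -/
theorem nonempty_upper_rhom [DCoh.HasRpush i] (E : CochainComplex X.Modules ℤ) [DCoh.HasLTensorCx E]
    [DCoh.HasRSheafHom E]
    (eE : DCoh.toD X E ≅ DCoh.inD X ((Scheme.Modules.pushforward i).obj (Coh.structureModule Z))) :
    Nonempty (R ⋙ DCoh.Rpush i ≅ DCoh.RSheafHom E) := by
  haveI := KFlat.Sch.hasLTensorCx (pushOCx i)
  obtain ⟨r⟩ := RHom.nonempty_rpushIso i
  obtain ⟨n⟩ := nonempty_lP_rpush_lt i
  let e₀ : DCoh.inD X ((Scheme.Modules.pushforward i).obj (Coh.structureModule Z)) ≅ DCoh.toD X (pushOCx i) :=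
    (DerivedCategory.singleFunctorIsoCompQ X.Modules 0).app _
  obtain ⟨t₁⟩ := nonempty_ltensor_tenL E _ (eE ≪≫ e₀)
  obtain ⟨t₂⟩ := nonempty_ltensor_tenL (pushOCx i) _ (Iso.refl _)
  let A : DCoh.Rpush i ⊣ R := adjR.ofNatIsoLeft r.symm
  exact ⟨Adjunction.rightAdjointUniq (((adjLP i).comp A).ofNatIsoLeft (n ≪≫ t₂ ≪≫ t₁.symm)) (DCoh.RSheafHomAdj E)⟩

include adjR in
/-- `R` preserves quasi-coherence when `i_*O` is pseudo-coherent. -/
theorem isQCohD_upper_of_pc [DCoh.HasRpush i]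
    (hpc : ∀ m : ℤ, DCoh.IsPseudoCoherentD m (DCoh.inD X ((Scheme.Modules.pushforward i).obj (Coh.structureModule Z))))
    (L : DCoh.D X) (c : ℤ) [L.IsGE c] (hL : DCoh.IsQCohD L) : DCoh.IsQCohD (R.obj L) := by
  let E := pushOCx i
  haveI := KFlat.Sch.hasLTensorCx E
  haveI : DCoh.HasRSheafHom E := RHom.hasRSheafHom E
  let eE : DCoh.toD X E ≅ DCoh.inD X ((Scheme.Modules.pushforward i).obj (Coh.structureModule Z)) :=
    ((DerivedCategory.singleFunctorIsoCompQ X.Modules 0).app _).symm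
  obtain ⟨n⟩ := nonempty_upper_rhom i adjR E eE
  obtain ⟨r⟩ := RHom.nonempty_rpushIso i
  intro j
  have h1 : Coh.IsQCoh (DCoh.HD ((Dual3.pushD i).obj (R.obj L)) j) :=
    M1.isQCoh_of_isIso ((DerivedCategory.homologyFunctor _ j).mapIso ((n.app L).symm ≪≫ r.app _))
      (RHom.isQCoh_HD_rhom E L c (m := c - j - 1) (DGen9.isPseudoCoherentD_of_isoD eE.symm (hpc _)) hL j (by omega))
  have h2 : Coh.IsQCoh ((Scheme.Modules.pushforward i).obj (DCoh.HD (R.obj L) j)) :=
    M1.isQCoh_of_isIso (RHom.hdMapIso _ (R.obj L) j) h1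
  haveI : IsIso ((Scheme.Modules.pullbackPushforwardAdjunction i).counit.app (DCoh.HD (R.obj L) j)) :=
    CohMop.isIso_counit_closedImmersion i _
  exact M1.isQCoh_of_isIso (asIso ((Scheme.Modules.pullbackPushforwardAdjunction i).counit.app _))
    (M1.isQCoh_pullback i h2)

end Groth.Agent.BC8
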