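import Groth.Agent.Lib.FundIso12.Omega
import Groth.Agent.Lib.BC8.UpperRHom
import Groth.Agent.Lib.BC8.Invert
import Groth.Agent.Lib.EnriquesSeveri11.DualSeq

/-! `i^!O ≅ (det conormal)^∨[-r]` for a regular immersion of Noetherian schemes. -/

set_option autoImplicit false
set_option linter.style.haveILetI false
set_option linter.unusedSectionVars false
set_option backward.isDefEq.respectTransparency false
set_option backward.isDefEq.respectTransparency.types false
set_option maxHeartbeats 1000000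

universe u

open CategoryTheory CategoryTheory.Limits AlgebraicGeometry DerivedCategory

attribute [local instance] HasDerivedCategory.standard

namespace Groth.Agent.BC8

open DMon9

theorem isInvertible_dual' {X : Scheme.{u}} {L : X.Modules} (hL : PicF.IsInvertible L) :
    PicF.IsInvertible (CohMop.dual L) := by
  obtain ⟨D, hD, ⟨e⟩⟩ := M2.exists_inverse hL
  obtain ⟨i⟩ := ES11.nonempty_dual_iso_of_inverse hL e
  exact Twist.isInvertible_of_iso i.symm hD

theorem not_isZero_structureModule' (Y : Scheme.{u}) [Nonempty Y] : ¬ IsZero (Coh.structureModule Y) := fun h => by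
  haveI : Nonempty (⊤ : Y.Opens) := ⟨⟨Classical.arbitrary Y, trivial⟩⟩
  have h1 : 𝟙 (Coh.structureModule Y) = 0 := h.eq_of_src _ _
  have h2 := congrArg (fun f : Coh.structureModule Y ⟶ Coh.structureModule Y => f.app ⊤ (1 : Γ(Y, ⊤))) h1
  exact one_ne_zero (α := Γ(Y, ⊤)) h2

/-- An invertible module is nowhere locally zero. -/
theorem not_isZero_restrict_of_isInvertible {X : Scheme.{u}} {D : X.Modules} (hD : PicF.IsInvertible D) {U : Scheme.{u}}
    (i : U ⟶ X) [IsOpenImmersion i] [Nonempty U] : ¬ IsZero (D.restrict i) := fun h => by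
  obtain ⟨u⟩ := ‹Nonempty U›
  obtain ⟨V, hV, ⟨e⟩⟩ := hD (i u)
  let W : X.Opens := V ⊓ i.opensRange
  have hW : IsZero (D.restrict W.ι) := by
    refine DMV.isZero_restrict_mono (U := i.opensRange) inf_le_right ?_
    exact IsZero.of_iso ((Scheme.Modules.restrictFunctor i.isoOpensRange.inv).map_isZero h)
      ((Scheme.Modules.restrictFunctorCongr (show i.opensRange.ι = i.isoOpensRange.inv ≫ i by simp)).app D ≪≫
        (Scheme.Modules.restrictFunctorComp i.isoOpensRange.inv i).app D)
  let O' := V.ι ⁻¹ᵁ W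
  haveI : Nonempty O' := ⟨⟨⟨i u, hV⟩, hV, u, rfl⟩⟩
  haveI : Subsingleton Γ(D, V.ι ''ᵁ O') := DMV.subsingleton_sections_of_isZero hW (by
    rw [Scheme.Hom.image_preimage_eq_opensRange_inf]; exact inf_le_right)
  have h2 : (1 : Γ(V.toScheme, O')) = 0 := by
    refine ((ConcreteCategory.bijective_of_isIso (e.inv.app O')).1 ?_ :)
    exact @Subsingleton.elim Γ(D, V.ι ''ᵁ O') _ _ _
  exact one_ne_zero h2

variable {Z P : Scheme.{u}}

/-- Cohomology sheaves of the upper functor of a closed immersion are Ext sheaves. -/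
theorem nonempty_push_hd_upper [IsLocallyNoetherian P] (i : Z ⟶ P) [IsClosedImmersion i]
    [PreservesFiniteLimits (Scheme.Modules.pushforward i)] [PreservesFiniteColimits (Scheme.Modules.pushforward i)]
    [EnoughInjectives P.Modules] [HasInjectiveResolutions (ModSite.Mod P.sheaf)]
    [ModSite.HasSheafHom (O := P.sheaf) ((Scheme.Modules.pushforward i).obj (Coh.structureModule Z))]
    {R : DCoh.D P ⥤ DCoh.D Z} (adjR : Dual3.pushD i ⊣ R) (M : P.Modules) (k : ℕ) :
    Nonempty ((Scheme.Modules.pushforward i).obj (DCoh.HD (R.obj ((singleFunctor P.Modules 0).obj M)) (k : ℤ)) ≅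
      (ModSite.extSh (O := P.sheaf) ((Scheme.Modules.pushforward i).obj (Coh.structureModule Z)) k).obj M) := by
  haveI := HomO15.isLeftAdjoint i
  let G := (Scheme.Modules.pushforward i).rightAdjoint
  let adj : Scheme.Modules.pushforward i ⊣ G := Adjunction.ofIsLeftAdjoint _
  haveI : G.Additive := adj.right_adjoint_additive
  obtain ⟨np⟩ := nonempty_plus_iso (Scheme.Modules.pushforward i) adj adjR
  let e₀ : (DerivedCategory.homologyFunctor Z.Modules (k : ℤ)).obj (R.obj ((singleFunctor P.Modules 0).obj M)) ≅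
      (G.rightDerived k).obj M :=
    (DerivedCategory.homologyFunctor Z.Modules (k : ℤ)).mapIso
      ((R.mapIso ((singleFunctorIsoCompQ P.Modules 0).app M ≪≫
        ((quotientCompQhIso P.Modules).app _).symm)) ≪≫
        (np.app (DerivedCategory.Plus.Qh.obj ((HomotopyCategory.Plus.quotient P.Modules).obj (RFPlus.sing M)))).symm) ≪≫
      RFPlus.rightDerivedIso G M k
  let A := (Scheme.Modules.pushforward i).obj (Coh.structureModule Z)
  let e : CohMop.tenR A ≅ Scheme.Modules.pullback i ⋙ Scheme.Modules.pushforward i :=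
    ClImmProj14.tenPushIso i (Coh.structureModule Z) ≪≫
      Functor.isoWhiskerLeft _ (Functor.isoWhiskerRight RHom.unitorNatIso _) ≪≫
      Functor.isoWhiskerLeft _ (Functor.leftUnitor _)
  let adj2 := ((Scheme.Modules.pullbackPushforwardAdjunction i).comp adj).ofNatIsoLeft e.symm
  let H : P.Modules ⥤ P.Modules := ModSite.sheafHom (O := P.sheaf) A
  haveI : H.Additive := ModSite.sheafHom_additive (O := P.sheaf) A
  let θ : H ≅ G ⋙ Scheme.Modules.pushforward i :=
    (ModSite.sheafHomAdj (O := P.sheaf) A).rightAdjointUniq (CohMop.ihomAdj A) ≪≫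
      (CohMop.ihomAdj A).rightAdjointUniq adj2
  obtain ⟨c⟩ := BigSite16.nonempty_rightDerived_comp G (Scheme.Modules.pushforward i) M k
  let I := InjectiveResolution.of M
  let d : (H.rightDerived k).obj M ≅ ((G ⋙ Scheme.Modules.pushforward i).rightDerived k).obj M :=
    I.isoRightDerivedObj H k ≪≫
      (HomologicalComplex.homologyFunctor _ _ k).mapIso ((NatIso.mapHomologicalComplex θ _).app I.cocomplex) ≪≫
      (I.isoRightDerivedObj (G ⋙ Scheme.Modules.pushforward i) k).symm
  exact ⟨(Scheme.Modules.pushforward i).mapIso e₀ ≪≫ (d ≪≫ c.symm).symm⟩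

/-- `i^!O ≅ (det conormal)^∨[-r]`. -/
theorem nonempty_regImm_shriek [IsNoetherian P] (i : Z ⟶ P) [IsClosedImmersion i] [DCoh.HasRpush i]
    {hp : DCoh.RpushPreservesQCoh i} {a : DCoh.DQCoh P ⥤ DCoh.DQCoh Z} (adj : DCoh.RpushQ i hp ⊣ a)
    (r : ℕ) (hi : RegImm.IsRegularImmersionOfCodim RegImm.Kind.regular r i) (hm : Mor2.IsRegularClosedImmersion i)
    (L : Z.Modules) (hL : ExtPow.IsExtPow r (Omega.conormal i) L) :
    Nonempty ((a.obj (oQ P)).obj ≅ (singleFunctor Z.Modules (r : ℤ)).obj (CohMop.dual L)) := by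
  haveI := RHom.preservesFiniteColimits_push i
  haveI := RHom.preservesLimits_pushforward i
  haveI : EnoughInjectives P.Modules := inferInstance
  haveI : HasInjectiveResolutions (ModSite.Mod P.sheaf) := inferInstanceAs (HasInjectiveResolutions P.Modules)
  haveI := HomO15.isLeftAdjoint i
  haveI : ModSite.HasSheafHom (O := P.sheaf) ((Scheme.Modules.pushforward i).obj (Coh.structureModule Z)) :=
    CohMop.isLeftAdjoint_tenR _
  haveI := isLeftAdjoint_mapDerived (Scheme.Modules.pushforward i) (Adjunction.ofIsLeftAdjoint (Scheme.Modules.pushforward i))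
  let adjR := Adjunction.ofIsLeftAdjoint (Dual3.pushD i)
  let R := (Dual3.pushD i).rightAdjoint
  obtain ⟨n⟩ := nonempty_upper_natIso i adjR adj
    (fun L => by obtain ⟨c, hc⟩ := L.property; exact isQCohD_upper i adjR L.obj.obj c hc L.obj.property)
  let e₁ : (a.obj (oQ P)).obj ≅ R.obj ((singleFunctor P.Modules 0).obj (Coh.structureModule P)) :=
    n.app ⟨oQ P, isBdd_oQ P⟩
  let K := (a.obj (oQ P)).obj
  have hKq : DCoh.IsQCohD K := (a.obj (oQ P)).property
  obtain ⟨w⟩ := nonempty_push_hd_upper i adjR (Coh.structureModule P) r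
  obtain ⟨v⟩ := FundIso12.nonempty_ext_iso_dual i hi hL (M1.isQCoh_structureModule P)
  let D := CohMop.dual L
  have hD : PicF.IsInvertible D := isInvertible_dual' (FundIso12.isInvertible_det i hi hL)
  let p : CohB1.tensorMod ((Scheme.Modules.pullback i).obj (Coh.structureModule P)) D ≅ D :=
    M2.tensorIso (pullOne i) (Iso.refl D) ≪≫ M2.tensorLUnit D
  let q : (Scheme.Modules.pushforward i).obj (DCoh.HD K (r : ℤ)) ≅ (Scheme.Modules.pushforward i).obj D :=
    (Scheme.Modules.pushforward i).mapIso ((DerivedCategory.homologyFunctor _ _).mapIso e₁) ≪≫ w ≪≫ v.symm ≪≫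
      (Scheme.Modules.pushforward i).mapIso p
  haveI : (DCoh.HD K (r : ℤ)).IsQuasicoherent := hKq _
  haveI : D.IsQuasicoherent := Twist.isQCoh_of_isInvertible hD
  haveI := CohMop.isIso_counit_closedImmersion i (DCoh.HD K (r : ℤ))
  haveI := CohMop.isIso_counit_closedImmersion i D
  let f : DCoh.HD K (r : ℤ) ≅ D :=
    (asIso ((Scheme.Modules.pullbackPushforwardAdjunction i).counit.app _)).symm ≪≫
      (Scheme.Modules.pullback i).mapIso q ≪≫ asIso ((Scheme.Modules.pullbackPushforwardAdjunction i).counit.app D)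
  have hLS := locShift_closed i hm adj
  have hz : ∀ j : ℤ, j ≠ (r : ℤ) → IsZero (DCoh.HD K j) := fun j hj => DPerf.isZero_of_stalks fun z => by
    obtain ⟨U, s, hs, m, hz, ⟨c⟩⟩ := hLS z
    obtain ⟨u, rfl⟩ := hz
    haveI : Nonempty U := ⟨u⟩
    let φ : ∀ t : ℤ, (DCoh.HD K t).restrict s ≅ DCoh.HD (TwistBC9.oneD U m) t := fun t =>
      (DPerf.hdResIso s K t).symm ≪≫
        (DerivedCategory.homologyFunctor _ t).mapIso (((lPRes s).app K).symm ≪≫ c)
    have hoff : ∀ t : ℤ, t ≠ m → IsZero ((DCoh.HD K t).restrict s) := fun t ht =>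
      IsZero.of_iso (by
        rcases lt_or_gt_of_ne ht with h | h
        · exact DerivedCategory.isZero_of_isGE (TwistBC9.oneD U m) m t h
        · exact DerivedCategory.isZero_of_isLE (TwistBC9.oneD U m) m t h) (φ t)
    have hm' : (r : ℤ) = m := by
      by_contra hne
      exact not_isZero_restrict_of_isInvertible hD s
        (IsZero.of_iso (hoff r hne) ((Scheme.Modules.restrictFunctor s).mapIso f).symm)
    have h0 : IsZero ((DCoh.HD K j).restrict s) := hoff j (hm' ▸ hj)
    exact AddCommGrpCat.subsingleton_of_isZero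
      ((RHom.stalkZero_restrict_iff s u _).1 (DGen9.stalkZero_of_isZero u h0))
  haveI : K.IsGE (r : ℤ) := (DerivedCategory.isGE_iff _ _).2 fun t ht => hz t ht.ne
  haveI : K.IsLE (r : ℤ) := (DerivedCategory.isLE_iff _ _).2 fun t ht => hz t ht.ne'
  obtain ⟨Y₀, ⟨e⟩⟩ := K.exists_iso_singleFunctor_obj_of_isGE_of_isLE (r : ℤ)
  exact ⟨e ≪≫ (singleFunctor Z.Modules (r : ℤ)).mapIso
    (((singleFunctorCompHomologyFunctorIso Z.Modules (r : ℤ)).app Y₀).symm ≪≫
      (DerivedCategory.homologyFunctor _ _).mapIso e.symm ≪≫ f)⟩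

end Groth.Agent.BC8
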