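import Groth.Agent.Lib.DGen9.RelLocal
import Groth.Agent.Lib.DBaseChange.TorAmp
import Groth.Agent.Lib.DPerf.RelAmp
import Groth.Agent.Lib.KFlat.TorCriterion

/-! A global representative of relative flat amplitude from the amplitudes at stalks. -/

set_option autoImplicit false
set_option linter.style.haveILetI false
set_option linter.unusedSectionVars false
set_option backward.isDefEq.respectTransparency false
set_option backward.isDefEq.respectTransparency.types false
set_option maxHeartbeats 1000000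

universe u

open CategoryTheory CategoryTheory.Limits AlgebraicGeometry

attribute [local instance] HasDerivedCategory.standard

noncomputable section

namespace Groth.Agent.BC8

/-- An exact functor to modules turns the opcycles into a quotient. -/
theorem flat_opcycles {C : Type*} [Category C] [Abelian C] {A : Type u} [CommRing A] (G : C ⥤ ModuleCat.{u} A)
    [G.Additive] [PreservesFiniteLimits G] [PreservesFiniteColimits G] (E : CochainComplex C ℤ) (c : ℤ)
    (h : Module.Flat A (G.obj (E.X (c + 1)) ⧸ LinearMap.range (G.map (E.d c (c + 1))).hom)) :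
    Module.Flat A (G.obj (E.opcycles (c + 1))) := by
  let S : ShortComplex C := ShortComplex.mk (E.d c (c + 1)) (E.pOpcycles (c + 1)) (E.d_pOpcycles c (c + 1))
  have hS : S.Exact := ShortComplex.exact_of_g_is_cokernel _ (E.opcyclesIsCokernel c (c + 1) (by simp))
  have hex := (ShortComplex.ShortExact.moduleCat_exact_iff_function_exact _).1 (hS.map G)
  haveI : Epi (G.map (E.pOpcycles (c + 1))) := inferInstance
  let π : G.obj (E.X (c + 1)) →ₗ[A] G.obj (E.opcycles (c + 1)) := (G.map (E.pOpcycles (c + 1))).hom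
  have hπ : Function.Surjective π := (ModuleCat.epi_iff_surjective _).1 inferInstance
  have hk : LinearMap.ker π = LinearMap.range (G.map (E.d c (c + 1))).hom := LinearMap.exact_iff.1 hex
  haveI := h
  exact Module.Flat.of_linearEquiv
    ((Submodule.quotEquivOfEq _ _ hk.symm).trans (π.quotKerEquivOfSurjective hπ)).symm

variable {X S : Scheme.{u}}

/-- Global relative flat amplitude from stalks on charts. -/
theorem hasRelFlatAmplitudeIn_of_stalks (f : X ⟶ S) [Flat f] (K : DCoh.D X) (a b : ℤ) (hab : a ≤ b)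
    [K.IsGE a] [K.IsLE b]
    (h : ∀ x : X, ∃ (R A : CommRingCat.{u}) (i : Spec R ⟶ S) (_ : IsOpenImmersion i) (j : Spec A ⟶ X)
      (_ : IsOpenImmersion j) (φ : R ⟶ A), x ∈ j.opensRange ∧ φ.hom.Flat ∧ j ≫ f = Spec.map φ ≫ i ∧
        ∀ y, DRing.HasTorAmplitudeIn ((Spec R).presheaf.stalk ((Spec.map φ) y)) a b
          ((RelT.stD φ y).obj ((DPerf.resD j).obj K))) :
    DCoh.HasRelFlatAmplitudeIn f a b K := by
  obtain ⟨K₀, hK₀, ⟨e₀⟩⟩ := DerivedCategory.exists_iso_Q_obj_of_isLE K b
  let E := KFlat.resObj (KFlat.Sch.cover X) K₀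
  haveI : E.IsStrictlyLE b := KFlat.resObj_isStrictlyLE (KFlat.Sch.cover X) K₀ b
  have hE : ∀ i, FlatMod.IsFlat (E.X i) := fun i =>
    (KFlat.Sch.isFlat_iff _).1 ((KFlat.Sch.isAdapted_resObj K₀).2.2 i)
  haveI : QuasiIso (KFlat.resπ (KFlat.Sch.cover X) K₀) := KFlat.quasiIso_resπ _ _
  let eE : DCoh.toD X E ≅ K := asIso (DerivedCategory.Q.map (KFlat.resπ (KFlat.Sch.cover X) K₀)) ≪≫ e₀.symm
  haveI : E.IsGE a := by
    haveI : (DerivedCategory.Q.obj E).IsGE a := DerivedCategory.TStructure.t.isGE_of_iso eE.symm a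
    exact (DerivedCategory.isGE_Q_obj_iff E a).1 inferInstance
  haveI : IsIso (DerivedCategory.Q.map (E.πTruncGE a)) :=
    (DerivedCategory.isIso_Q_map_iff_quasiIso _ _).2 inferInstance
  refine ⟨E.truncGE a, fun i hi => ?_, fun i => ?_, ⟨(asIso (DerivedCategory.Q.map (E.πTruncGE a))).symm ≪≫ eE⟩⟩
  · rcases hi with hi | hi
    · exact (E.truncGE a).isZero_of_isStrictlyGE a i hi
    · exact (E.truncGE a).isZero_of_isStrictlyLE b i hi
  rcases lt_trichotomy i a with hi | hi | hi
  · exact RelPCS8.isFlatOver_of_isZero ((E.truncGE a).isZero_of_isStrictlyGE a i hi)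
  swap
  · obtain ⟨k, hk⟩ := Int.eq_ofNat_of_zero_le (show 0 ≤ i - a by omega)
    refine RelPCS8.isFlatOver_of_iso (HomologicalComplex.truncGEXIso E (ComplexShape.embeddingUpIntGE a)
      (i := k) (by simp only [ComplexShape.embeddingUpIntGE_f]; omega)
      (by rw [ComplexShape.boundaryGE_embeddingUpIntGE_iff]; omega)).symm (DPerf.isFlatOver_of_isFlat f (hE i))
  subst hi
  refine RelPCS8.isFlatOver_of_iso (E.truncGEXIsoOpcycles i).symm fun x => ?_
  obtain ⟨R, A, ι, _, j, _, φ, ⟨y, rfl⟩, hφ, w, hamp⟩ := h x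
  let Q := E.opcycles i
  refine (QF.isFlatOverAt_pullback_iff j f Q y).1
    (SchDom.isFlatOverAt_of_iso _ ((Scheme.Modules.restrictFunctorIsoPullback j).app Q) y ?_)
  rw [w]
  refine FlatH4.isFlatOverAt_comp (Spec.map φ) ι _ y (Flat.stalkMap ι ((Spec.map φ) y)) ?_
  haveI : Flat (Spec.map φ) := (HasRingHomProperty.Spec_iff (P := @Flat)).2 hφ
  let E' := (DPerf.resX j).obj E
  let eQ : E'.opcycles i ≅ (Scheme.Modules.restrictFunctor j).obj Q :=
    (E.sc i).mapOpcyclesIso (Scheme.Modules.restrictFunctor j)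
  haveI : PreservesFiniteLimits (DerSch.stalkOver (Spec.map φ) y) :=
    (RelPCS8.StalkId.preservesFiniteLimits_stalkOver (Spec.map φ) y).1
  haveI : PreservesFiniteColimits (DerSch.stalkOver (Spec.map φ) y) :=
    (RelPCS8.StalkId.preservesFiniteLimits_stalkOver (Spec.map φ) y).2
  let G := DerSch.stalkOver (Spec.map φ) y
  let T := (DerSch.stalkCxOver (Spec.map φ) y).obj E'
  haveI : T.IsStrictlyLE b := (CochainComplex.isStrictlyLE_iff _ _).2 fun l hl =>
    G.map_isZero ((Scheme.Modules.restrictFunctor j).map_isZero (E.isZero_of_isStrictlyLE b l hl))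
  have hT : ∀ l, Module.Flat _ (T.X l) := fun l =>
    DPerf.isFlatOver_of_isFlat (Spec.map φ) (DPerf.isFlat_res j (hE l)) y
  have hb := DBaseChange.torBound_of_hasTorAmplitudeIn T b hT i b (DBaseChange.hasTorAmplitudeIn_of_iso
    (G.mapDerivedCategory.mapIso ((DPerf.resD j).mapIso eE.symm ≪≫ (DPerf.resFac j).app E) ≪≫
      G.mapDerivedCategoryFactors.app E') (hamp y))
  obtain ⟨c, rfl⟩ : ∃ c, i = c + 1 := ⟨i - 1, by omega⟩
  have hflat := DBaseChange.flat_coker T c (hT _) fun M =>
    (DMod.subsingleton_HD_toD_iff _ c).1 ((DMod.isGE_iff _ (c + 1)).1 (hb M).1 c (by omega))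
  haveI : Module.Flat _ (G.obj (E'.opcycles (c + 1))) := flat_opcycles G E' c hflat
  show Module.Flat _ (G.obj ((Scheme.Modules.restrictFunctor j).obj Q))
  exact Module.Flat.of_linearEquiv (G.mapIso eQ).toLinearEquiv.symm

end Groth.Agent.BC8
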