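import Groth.Agent.Lib.BC8.ShriekViaFinite
import Groth.Agent.Lib.BC8.RelPerfShriek
import Groth.Agent.Lib.BC8.ShriekViaFlat

/-! The upper shriek of a flat algebra is a relative dualizing complex. -/

set_option autoImplicit false
set_option linter.style.haveILetI false
set_option linter.unusedSectionVars false
set_option backward.isDefEq.respectTransparency false
set_option backward.isDefEq.respectTransparency.types false
set_option maxHeartbeats 1000000

universe u

open CategoryTheory CategoryTheory.Limits MvPolynomial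
open scoped TensorProduct

attribute [local instance] HasDerivedCategory.standard

noncomputable section

namespace Groth.Agent.BC8

/-- A right adjoint of restriction absorbs base change along an automorphism of the source. -/
theorem nonempty_lbc_swap {B A : Type u} [CommRing B] [CommRing A] (μ : B →+* A) (σ τ : B →+* B)
    (h₁ : τ.comp σ = RingHom.id B) (h₂ : σ.comp τ = RingHom.id B) (hμ : μ.comp σ = μ) [DRing.HasLBaseChange σ]
    {Rμ : Dual.D B ⥤ Dual.D A} (adj : DRing.restrictD μ ⊣ Rμ) :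
    Nonempty (DRing.LBaseChange σ ⋙ Rμ ≅ Rμ) := by
  obtain ⟨aσ⟩ := DBaseChange.nonempty_adjunction σ
  let e₁ : DRing.restrictD σ ⋙ DRing.restrictD τ ≅ 𝟭 _ := resCompN τ σ ≪≫ eqToIso (by rw [h₂]) ≪≫ resIdN B
  let e₂ : DRing.restrictD τ ⋙ DRing.restrictD σ ≅ 𝟭 _ := resCompN σ τ ≪≫ eqToIso (by rw [h₁]) ≪≫ resIdN B
  let E := CategoryTheory.Equivalence.mk (DRing.restrictD τ) (DRing.restrictD σ) e₂.symm e₁
  let eL : DRing.LBaseChange σ ≅ DRing.restrictD τ := aσ.leftAdjointUniq E.toAdjunction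
  let adjσ : DRing.restrictD σ ⊣ DRing.LBaseChange σ := (E.symm.toAdjunction).ofNatIsoRight eL.symm
  exact ⟨(((adj.comp adjσ)).ofNatIsoLeft (resCompN σ μ ≪≫ eqToIso (by rw [hμ]))).rightAdjointUniq adj⟩

variable {R A : Type u} [CommRing R] [CommRing A] [IsNoetherianRing R] [IsNoetherianRing A] [Algebra R A]
  [_root_.Module.Flat R A] (n : ℕ) (ψ : MvPolynomial (Fin n) R →ₐ[R] A) (hψ : Function.Surjective ψ)
  [DRing.HasLBaseChange (algebraMap R (MvPolynomial (Fin n) R))]
  {Rψ : Dual.D (MvPolynomial (Fin n) R) ⥤ Dual.D A} (adj : DRing.restrictD ψ.toRingHom ⊣ Rψ)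

include hψ adj in
/-- The upper shriek of the base is relatively perfect. -/
theorem isRelPerfect_via : Dual2.IsRelPerfect R A (Dual2.shriekVia n Rψ (Dual.inD R R)) := by
  obtain ⟨o⟩ := nonempty_via_one n Rψ (R := R) (A := A)
  obtain ⟨hperf, -, -⟩ := isRelPerfect_upper_flat n ψ hψ adj
  exact isRelPerfect_of_restrict ψ hψ _
    (DBaseChange.isPerfect_of_iso ((((DRing.restrictD ψ.toRingHom).commShiftIso (n : ℤ)).app _).symm ≪≫
      (DRing.restrictD ψ.toRingHom).mapIso o.symm) (DBaseChange.isPerfect_shift (n : ℤ) hperf))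

include hψ adj in
/-- The upper shriek of the base is a relative dualizing complex. -/
theorem isRelDualizing_via
    [DRing.HasLBaseChange (Algebra.TensorProduct.includeLeftRingHom : A →+* TensorProduct R A A)]
    {Rμ : Dual.D (TensorProduct R A A) ⥤ Dual.D A}
    (adjμ : DRing.restrictD (Algebra.TensorProduct.lmul' R (S := A)).toRingHom ⊣ Rμ) :
    Dual2.IsRelDualizing R A Rμ (Dual2.shriekVia n Rψ (Dual.inD R R)) := by
  refine ⟨isRelPerfect_via n ψ hψ adj, ?_⟩
  let B := A ⊗[R] A
  haveI : Algebra.FiniteType R A := Algebra.FiniteType.of_surjective ψ hψ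
  haveI : Algebra.FiniteType A B := inferInstance
  haveI : IsNoetherianRing B := Algebra.FiniteType.isNoetherianRing A B
  let μ : B →ₐ[R] A := Algebra.TensorProduct.lmul' R (S := A)
  let σ : B →+* B := (Algebra.TensorProduct.comm R A A).toAlgHom.toRingHom
  have hσσ : σ.comp σ = RingHom.id B := by
    have : ((Algebra.TensorProduct.comm R A A).toAlgHom.comp (Algebra.TensorProduct.comm R A A).toAlgHom) =
        AlgHom.id R B := Algebra.TensorProduct.ext' fun a b => rfl
    exact congrArg AlgHom.toRingHom this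
  have hμ : μ.toRingHom.comp σ = μ.toRingHom := by
    have : μ.comp (Algebra.TensorProduct.comm R A A).toAlgHom = μ := Algebra.TensorProduct.ext' fun a b => by
      show μ (b ⊗ₜ[R] a) = μ (a ⊗ₜ[R] b); exact (Algebra.TensorProduct.lmul'_apply_tmul b a).trans ((mul_comm b a).trans (Algebra.TensorProduct.lmul'_apply_tmul a b).symm)
    exact congrArg AlgHom.toRingHom this
  let iR : A →+* B := (Algebra.TensorProduct.includeRight : A →ₐ[R] B).toRingHom
  have hincl : σ.comp iR = (Algebra.TensorProduct.includeLeftRingHom : A →+* B) := RingHom.ext fun a => by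
    show (Algebra.TensorProduct.comm R A A) ((1 : A) ⊗ₜ[R] a) = a ⊗ₜ[R] (1 : A)
    rfl
  haveI := DQC.hasLBaseChange σ
  haveI := DQC.hasLBaseChange iR
  haveI := DQC.hasLBaseChange (σ.comp iR)
  haveI := DQC.hasLBaseChange (algebraMap R A)
  let ω := Dual2.shriekVia n Rψ (Dual.inD R R)
  obtain ⟨sw⟩ := nonempty_lbc_swap μ.toRingHom σ σ hσσ hσσ hμ adjμ
  obtain ⟨lc⟩ := nonempty_lbcComp iR σ
  have lc' : Nonempty ((DRing.LBaseChange (σ.comp iR)).obj ω ≅
      (DRing.LBaseChange (Algebra.TensorProduct.includeLeftRingHom : A →+* B)).obj ω) := by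
    clear lc
    revert ‹DRing.HasLBaseChange (σ.comp iR)›
    rw [hincl]
    intro _
    exact ⟨Iso.refl _⟩
  obtain ⟨m, χ, hχ⟩ := Algebra.FiniteType.iff_quotient_mvPolynomial''.1 (inferInstance : Algebra.FiniteType A B)
  haveI := DQC.hasLBaseChange (algebraMap A (MvPolynomial (Fin m) A))
  haveI := isLeftAdjoint_restrictD χ.toRingHom
  let adjχ := Adjunction.ofIsLeftAdjoint (DRing.restrictD χ.toRingHom)
  obtain ⟨bc⟩ := nonempty_via_bc n ψ hψ adj m χ hχ adjχ (Dual.inD R R) 0
    (fun i hi => ModuleCat.subsingleton_of_isZero (DerivedCategory.isZero_of_isGE _ 0 i hi))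
  haveI : DRing.HasLBaseChange (CommRingCat.ofHom (algebraMap R A)).hom := ‹_›
  obtain ⟨l1⟩ := nonempty_lbc_one (R := CommRingCat.of R) (P := CommRingCat.of A) (CommRingCat.ofHom (algebraMap R A))
  letI algBA : Algebra B A := μ.toRingHom.toAlgebra
  haveI : IsScalarTower A B A := IsScalarTower.of_algebraMap_eq fun a => by
    show a = μ (a ⊗ₜ[R] (1 : A))
    exact ((Algebra.TensorProduct.lmul'_apply_tmul a 1).trans (mul_one a)).symm
  haveI : _root_.Module.Finite B A := RingHom.Finite.of_surjective μ.toRingHom fun a => ⟨a ⊗ₜ[R] 1, (Algebra.TensorProduct.lmul'_apply_tmul a 1).trans (mul_one a)⟩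
  obtain ⟨l, θ, hθ⟩ := Algebra.FiniteType.iff_quotient_mvPolynomial''.1 (inferInstance : Algebra.FiniteType B A)
  obtain ⟨k, η, hη⟩ := Algebra.FiniteType.iff_quotient_mvPolynomial''.1 (inferInstance : Algebra.FiniteType A A)
  haveI := DQC.hasLBaseChange (algebraMap B (MvPolynomial (Fin l) B))
  haveI := DQC.hasLBaseChange (algebraMap A (MvPolynomial (Fin k) A))
  haveI := isLeftAdjoint_restrictD θ.toRingHom
  haveI := isLeftAdjoint_restrictD η.toRingHom
  let adjθ := Adjunction.ofIsLeftAdjoint (DRing.restrictD θ.toRingHom)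
  let adjη := Adjunction.ofIsLeftAdjoint (DRing.restrictD η.toRingHom)
  obtain ⟨cp⟩ := nonempty_via_comp m χ hχ adjχ l θ hθ adjθ k η hη adjη (Dual.inD A A) 0
    (fun i hi => ModuleCat.subsingleton_of_isZero (DerivedCategory.isZero_of_isGE _ 0 i hi))
  obtain ⟨fin⟩ := nonempty_via_finite l θ hθ adjθ (R' := Rμ) adjμ
    (Dual2.shriekVia m (DRing.restrictD χ.toRingHom).rightAdjoint (Dual.inD A A))
  obtain ⟨one⟩ := (goodFin_self A).triv k η hη inferInstance _ adjη
  exact ⟨Rμ.mapIso (lc'.some.symm ≪≫ (lc.app ω).symm) ≪≫ sw.app _ ≪≫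
    Rμ.mapIso (bc ≪≫ (shiftFunctor (Dual.D B) (m : ℤ)).mapIso
      ((DRing.restrictD χ.toRingHom).rightAdjoint.mapIso ((DRing.LBaseChange _).mapIso l1))) ≪≫
    fin.symm ≪≫ cp.symm ≪≫ one⟩

end Groth.Agent.BC8
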