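import Groth.Agent.Lib.BC8.BetaFinal
import Groth.Agent.Lib.DGen9.PerfMain

/-!
`Rf_* a(O)` is the dual of `Rf_* O`, and it is concentrated in non-positive degrees for flat proper `f`.
-/

set_option autoImplicit false
set_option linter.unusedSectionVars false
set_option linter.style.haveILetI false
set_option backward.isDefEq.respectTransparency false
set_option backward.isDefEq.respectTransparency.types false
set_option maxHeartbeats 800000

universe u

open CategoryTheory CategoryTheory.Limits MonoidalCategory AlgebraicGeometry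

attribute [local instance] HasDerivedCategory.standard

namespace Groth.Agent.BC8

open DMon9

attribute [local instance] preadditiveDM

variable {X Y : Scheme.{u}}

/-- A perfect object has a left dual. -/
theorem exists_pairing_left_perfect (A : DM X) (hA : DCoh.IsPerfect (A : DCoh.D X)) :
    ∃ D : DM X, DCoh.IsPerfect (D : DCoh.D X) ∧ Nonempty (ExactPairing A D) := by
  obtain ⟨K, ⟨eA⟩⟩ := exists_qM (A : DCoh.D X)
  have hKp : DCoh.IsPerfect (DCoh.toD X K.obj) := DGen9.isPerfect_of_iso eA.symm hA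
  haveI := KFlat.Sch.hasLTensorCx K.obj
  haveI : DCoh.HasRSheafHom K.obj := RHom.hasRSheafHom K.obj
  obtain ⟨P', q, hP', hq⟩ := RHom.exists_kflat_res
    (DerivedCategory.Q.objPreimage ((DCoh.RSheafHom K.obj).obj (RHom.oD X)))
  haveI := hq
  let eD : DerivedCategory.Q.obj P' ≅ (DCoh.RSheafHom K.obj).obj (RHom.oD X) :=
    asIso (DerivedCategory.Q.map q) ≪≫ DerivedCategory.Q.objObjPreimageIso _
  haveI := KFlat.Sch.hasLTensorCx P'
  let D₁ : KF X := ⟨P', hP'⟩
  obtain ⟨e, he⟩ := RHom.exists_pairing K.property eD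
  obtain ⟨p⟩ := exactPairing_of_isIso (K := K) (D := D₁) e (RHom.isIso_phi e K.property hKp he)
  haveI := p
  have hDp : DCoh.IsPerfect (DCoh.toD X P') := DGen9.isPerfect_of_iso eD.symm (RHom.isPerfect_dual K.obj hKp)
  let eA' : (qM X).obj K ≅ A := eA
  exact ⟨(qM X).obj D₁, hDp, ⟨exactPairingCongr eA'.symm (Iso.refl _)⟩⟩



theorem isLE_oneD : (oneD X).IsLE 0 := by
  refine isLE_of_iso ((DerivedCategory.singleFunctorIsoCompQ X.Modules 0).app (Coh.structureModule X)) ?_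
  infer_instance

/-- Flat pullback preserves lower bounds. -/
theorem isGE_lP_of_flat {f : X ⟶ Y} [DCoh.HasLpull f] [Flat f] (K : DCoh.D Y) (c : ℤ) [K.IsGE c] :
    ((lP f).obj K).IsGE c := by
  simpa using isGE_lP_of_amp (torAmp_unit_of_flat f) K c

variable {f : X ⟶ Y} [DCoh.HasRpush f] {hf : DCoh.RpushPreservesQCoh f}
  [CompactSpace X] [QuasiSeparatedSpace X] [CompactSpace Y] [QuasiSeparatedSpace Y]
  {a : DCoh.DQCoh Y ⥤ DCoh.DQCoh X} (adj : DCoh.RpushQ f hf ⊣ a)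

include adj in
/-- `Rf_* a(O)` is dual to `Rf_* O`. -/
theorem nonempty_rpush_a_iso (O : DCoh.DQCoh Y) (eO : (O.obj : DM Y) ≅ 𝟙_ (DM Y)) (D : DM Y)
    (hD : DCoh.IsQCohD (D : DCoh.D Y)) [ExactPairing ((rM f).obj (𝟙_ (DM X))) D] :
    Nonempty (((DCoh.RpushQ f hf).obj (a.obj O)).obj ≅ (D : DCoh.D Y)) := by
  haveI := qc_of_qcqs f
  haveI := qs_of_qcqs f
  let C : DM Y := (rM f).obj (𝟙_ (DM X))
  have hC : DCoh.IsQCohD (C : DCoh.D Y) := hf _ isQCohD_one
  let Ψ : DCoh.DQCoh Y ⥤ DCoh.DQCoh Y :=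
    ObjectProperty.lift _ (ObjectProperty.ι _ ⋙ (tensorRight C : DM Y ⥤ DM Y))
      fun T => isQCohD_tensor (A := (T.obj : DM Y)) (B := C) T.property hC
  let Ψ' : DCoh.DQCoh Y ⥤ DCoh.DQCoh Y :=
    ObjectProperty.lift _ (ObjectProperty.ι _ ⋙ (tensorRight D : DM Y ⥤ DM Y))
      fun T => isQCohD_tensor (A := (T.obj : DM Y)) (B := D) T.property hD
  let adjΨ : Ψ ⊣ Ψ' :=
    Adjunction.restrictFullyFaithful (tensorRightAdjunction C D : (tensorRight C : DM Y ⥤ DM Y) ⊣ tensorRight D)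
      (ObjectProperty.fullyFaithfulι _) (ObjectProperty.fullyFaithfulι _) (Iso.refl _) (Iso.refl _)
  let q : ∀ T : DCoh.DQCoh Y, Ψ.obj T ≅ (lq f ⋙ DCoh.RpushQ f hf).obj T := fun T =>
    haveI : IsIso (qApp (adjM f) (T.obj : DM Y)) := isIso_qApp f _ T.property
    ObjectProperty.isoMk _ (asIso (qApp (adjM f) (T.obj : DM Y)) :)
  let nq : Ψ ≅ lq f ⋙ DCoh.RpushQ f hf := NatIso.ofComponents q fun {T T'} v => by
    apply ObjectProperty.hom_ext
    exact qApp_natural (adjM f) (A := (T.obj : DM Y)) (A' := (T'.obj : DM Y)) v.hom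
  let w := Adjunction.rightAdjointUniq (((adjq f hf).comp adj).ofNatIsoLeft nq.symm) adjΨ
  let OM : DM Y := O.obj
  let eM : OM ≅ 𝟙_ (DM Y) := eO
  let z : OM ⊗ D ≅ D := whiskerRightIso eM D ≪≫ λ_ D
  exact ⟨(ObjectProperty.ι _).mapIso (w.app O) ≪≫ (z :)⟩

/-- Dual objects of objects which stay in non-negative degrees after tensoring. -/
theorem isLE_dual (D C : DM Y) [ExactPairing C D] (hD : DCoh.IsQCohD (D : DCoh.D Y))
    (h : ∀ W : DCoh.D Y, DCoh.IsQCohD W → W.IsGE 1 → ∀ y : 𝟙_ (DM Y) ⟶ C ⊗ (W : DM Y), y = 0) :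
    (D : DCoh.D Y).IsLE 0 := by
  let t : Triangulated.TStructure (DCoh.D Y) := DerivedCategory.TStructure.t
  let W : DCoh.D Y := (t.truncGE 1).obj (D : DCoh.D Y)
  have hW : DCoh.IsQCohD W := DMV.isQCohD_truncGE _ hD 1
  haveI : DerivedCategory.IsGE W 1 := (inferInstance : t.IsGE ((t.truncGE 1).obj (D : DCoh.D Y)) 1)
  let π : (D : DCoh.D Y) ⟶ W := (t.truncGEπ 1).app _
  let WM : DM Y := W
  let F : (D ⊗ 𝟙_ (DM Y) ⟶ WM) ≃ (𝟙_ (DM Y) ⟶ C ⊗ WM) := tensorLeftHomEquiv (𝟙_ (DM Y)) C D WM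
  have hsub : Subsingleton (D ⊗ 𝟙_ (DM Y) ⟶ WM) :=
    ⟨fun x y => F.injective ((h W hW inferInstance _).trans (h W hW inferInstance _).symm)⟩
  have hπ : π = 0 := by
    have : Subsingleton (D ⟶ WM) := ((ρ_ D).homCongr (Iso.refl WM)).symm.subsingleton
    exact this.elim _ _
  have hz : IsZero W := (IsZero.iff_id_eq_zero W).2 (t.from_truncGE_obj_ext (by
    show π ≫ 𝟙 W = π ≫ 0
    rw [hπ, zero_comp, zero_comp]))
  refine (DerivedCategory.isLE_iff _ _).2 fun i hi => ?_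
  haveI := DerTrunc.isIso_homology_truncGEπ (D : DCoh.D Y) 1 i (by omega)
  exact ((DerivedCategory.homologyFunctor _ i).map_isZero hz).of_iso
    (asIso ((DerivedCategory.homologyFunctor _ i).map π))

include adj in
/-- The vanishing in positive degrees. -/
theorem isZero_HD_rpush_a [IsProper f] [Flat f] [LocallyOfFinitePresentation f] [DCoh.HasLpull f] (O : DCoh.DQCoh Y)
    (eO : (O.obj : DM Y) ≅ 𝟙_ (DM Y)) (i : ℤ) (hi : 0 < i) :
    IsZero (DCoh.HD ((DCoh.RpushQ f hf).obj (a.obj O)).obj i) := by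
  haveI := qc_of_qcqs f
  haveI := qs_of_qcqs f
  let C : DM Y := (rM f).obj (𝟙_ (DM X))
  have hC : DCoh.IsPerfect (C : DCoh.D Y) := PerfPush9.isPerfect_rpush_flat f _ isPerfect_one
  obtain ⟨D, hD, ⟨p⟩⟩ := exists_pairing_left_perfect C hC
  haveI := p
  have hDq : DCoh.IsQCohD (D : DCoh.D Y) := DGen9.isQCohD_of_isPerfect hD
  obtain ⟨e⟩ := nonempty_rpush_a_iso adj O eO D hDq
  haveI : (D : DCoh.D Y).IsLE 0 := isLE_dual D C hDq fun W hW hge y => by
    let WM : DM Y := W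
    let L : DM X := (dPull f).obj WM
    haveI hL : DerivedCategory.IsGE (L : DCoh.D X) 1 := by
      haveI := hge
      exact isGE_lP_of_flat W 1
    let P := projApp (adjM f) (𝟙_ (DM X)) WM
    haveI : IsIso P := isIso_projT f _ isQCohD_one _ hW
    haveI : IsIso ((rM f).map (λ_ L).hom) := inferInstance
    let R := P ≫ (rM f).map (λ_ L).hom
    let y' : (dPull f).obj (𝟙_ (DM Y)) ⟶ L := ((adjM f).homEquiv _ _).symm (y ≫ R)
    let t : Triangulated.TStructure (DCoh.D X) := DerivedCategory.TStructure.t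
    haveI : t.IsLE (((dPull f).obj (𝟙_ (DM Y)) : DM X) : DCoh.D X) 0 := isLE_of_iso (oPull f).symm isLE_oneD
    haveI : t.IsGE (L : DCoh.D X) 1 := hL
    have h0 : ∀ u v : (dPull f).obj (𝟙_ (DM Y)) ⟶ L, u = v := fun u v => sub_eq_zero.1 (t.zero (u - v) 0 1 (by omega))
    have h1 : y ≫ R = (0 : 𝟙_ (DM Y) ⟶ C ⊗ WM) ≫ R := ((adjM f).homEquiv _ _).symm.injective (h0 _ _)
    exact (cancel_mono R).1 h1
  exact (DerivedCategory.isZero_of_isLE (D : DCoh.D Y) 0 i hi).of_iso ((DerivedCategory.homologyFunctor _ i).mapIso e)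

end Groth.Agent.BC8
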