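import Groth.Agent.Lib.BC8.UpperD
import Groth.Agent.Lib.BC8.RelPerfShriek

/-! Rigidity of `f^!O` for flat morphisms. -/

set_option autoImplicit false
set_option linter.style.haveILetI false
set_option linter.unusedSectionVars false
set_option backward.isDefEq.respectTransparency false
set_option backward.isDefEq.respectTransparency.types false

universe u

open CategoryTheory CategoryTheory.Limits AlgebraicGeometry

attribute [local instance] HasDerivedCategory.standard

namespace Groth.Agent.BC8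

open DMon9

variable {X Y Xb : Scheme.{u}} [IsNoetherian Y] (f : X ⟶ Y) [Flat f] [IsSeparated f] [QuasiCompact f]
  [LocallyOfFiniteType f] (p : Xb ⟶ Y) [IsProper p] (j : X ⟶ Xb) [IsOpenImmersion j] (hfac : j ≫ p = f)
  [DCoh.HasRpush p] {hp : DCoh.RpushPreservesQCoh p} {a : DCoh.DQCoh Y ⥤ DCoh.DQCoh Xb}
  (adj : DCoh.RpushQ p hp ⊣ a)

include hfac adj in
/-- `f^!O` is a rigid relative dualizing complex for flat `f`. -/
theorem isRelDualizing_shriek [DCoh.HasLpull (pullback.fst f f)]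
    [PreservesFiniteLimits (Scheme.Modules.pushforward (pullback.diagonal f))]
    [PreservesFiniteColimits (Scheme.Modules.pushforward (pullback.diagonal f))]
    {K : DCoh.D X} (eK : (lP j).obj (a.obj (oQ Y)).obj ≅ K) : Dual3.IsRelDualizing f K := by
  haveI : IsLocallyNoetherian X := LocallyOfFiniteType.isLocallyNoetherian f
  haveI : CompactSpace X := QuasiCompact.compactSpace_of_compactSpace f
  haveI : IsNoetherian X := { }
  haveI : CompactSpace Xb := QuasiCompact.compactSpace_of_compactSpace p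
  haveI : QuasiSeparatedSpace Xb := quasiSeparatedSpace_of_quasiSeparated p
  haveI : IsLocallyNoetherian (pullback f f) := LocallyOfFiniteType.isLocallyNoetherian (pullback.fst f f ≫ f)
  haveI : CompactSpace (pullback f f : Scheme.{u}) := QuasiCompact.compactSpace_of_compactSpace (pullback.fst f f ≫ f)
  haveI : IsNoetherian (pullback f f) := { }
  obtain ⟨hpc, htor⟩ := RelT.relPerf_of_iso f eK (relPerf_shriek f p j hfac adj)
  let Δ := pullback.diagonal f
  let pr1 := pullback.fst f f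
  let pr2 := pullback.snd f f
  let W := pullback p f
  let pW : W ⟶ X := pullback.snd p f
  have hsq : IsPullback pr1 pr2 f f := IsPullback.of_hasPullback f f
  let j' : pullback f f ⟶ W := pullback.lift (pr1 ≫ j) pr2 (by rw [Category.assoc, hfac, hsq.w])
  have hj2 : j' ≫ pW = pr2 := pullback.lift_snd _ _ _
  have hsqs : IsPullback pr1 j' j (pullback.fst p f) :=
    IsPullback.of_bot (by rw [show j' ≫ pullback.snd p f = pr2 from hj2, hfac]; exact hsq)
      (pullback.lift_fst _ _ _).symm (IsPullback.of_hasPullback p f)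
  haveI : IsOpenImmersion j' := MorphismProperty.of_isPullback hsqs (inferInstance : IsOpenImmersion j)
  haveI : CompactSpace W := QuasiCompact.compactSpace_of_compactSpace pW
  haveI : QuasiSeparatedSpace W := quasiSeparatedSpace_of_quasiSeparated pW
  haveI := DBC9.hasRpush Δ
  haveI := DBC9.hasRpush pW
  haveI := DBC9.hasRpush (𝟙 X)
  let hΔ := rpushPreserves Δ
  let hW := rpushPreserves pW
  let h1 := rpushPreserves (𝟙 X)
  haveI := isLeftAdjoint_rpushQ Δ hΔ
  haveI := isLeftAdjoint_rpushQ pW hW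
  let adjΔ := Adjunction.ofIsLeftAdjoint (DCoh.RpushQ Δ hΔ)
  let adjW := Adjunction.ofIsLeftAdjoint (DCoh.RpushQ pW hW)
  obtain ⟨n₁⟩ := nonempty_shriek_flat hsq hfac adj hj2 adjW
  obtain ⟨n₂⟩ := nonempty_shriek_comp (jf := 𝟙 X) (pf := Δ) (f := Δ)
    (g := pr2) (jg := j') (pg := pW) (jgf := 𝟙 X) (pgf := 𝟙 X) (Category.id_comp _) hj2
    (by rw [pullback.diagonal_snd, Category.id_comp]) adjΔ adjW (adjId X h1)
  obtain ⟨l⟩ := TwistBC9.nonempty_lP_oneM f 0
  obtain ⟨lw⟩ := nonempty_lpull_natIso_lP pr1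
  let L : DCoh.DQCoh (pullback f f) := (lq j ⋙ lq pr1).obj (a.obj (oQ Y))
  obtain ⟨c₀, hc₀⟩ := isBdd_a adj ⟨oQ Y, isBdd_oQ Y⟩
  haveI := hc₀
  haveI : DCoh.HasLpull j := KFlat.Sch.hasLpull j
  haveI : DCoh.HasLpull f := KFlat.Sch.hasLpull f
  haveI : ((lP j).obj (a.obj (oQ Y)).obj).IsGE c₀ := isGE_lP_of_flat _ _
  have hc : L.obj.IsGE c₀ := isGE_lP_of_flat (f := pr1) ((lP j).obj (a.obj (oQ Y)).obj) c₀
  let KX : (Dual3.IsBddBelowQ X).FullSubcategory :=
    ⟨(lq f).obj (oQ Y), 0, isGE_lP_of_flat (f := f) (TwistBC9.oneD Y 0) 0⟩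
  let eN : L ≅ (lq j').obj ((DCoh.RpushQ pW hW).rightAdjoint.obj KX.obj) :=
    ObjectProperty.isoMk _ (n₁.app ⟨oQ Y, isBdd_oQ Y⟩)
  let e : DCoh.inD X (Coh.structureModule X) ≅ ((DCoh.RpushQ Δ hΔ).rightAdjoint.obj L).obj :=
    l.symm ≪≫ ((DBC9.lPId X).app _).symm ≪≫ n₂.app KX ≪≫ (DBC9.lPId X).app _ ≪≫
      (ObjectProperty.ι _).mapIso ((DCoh.RpushQ Δ hΔ).rightAdjoint.mapIso eN.symm)
  obtain ⟨R, hR⟩ : ∃ R : DCoh.D (pullback f f) ⥤ DCoh.D X, Nonempty (Dual3.pushD Δ ⊣ R) := by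
    haveI := HomO15.isLeftAdjoint Δ
    haveI : (Scheme.Modules.pushforward Δ).rightAdjoint.Additive :=
      (Adjunction.ofIsLeftAdjoint (Scheme.Modules.pushforward Δ)).right_adjoint_additive
    haveI := isLeftAdjoint_mapDerived (Scheme.Modules.pushforward Δ)
      (Adjunction.ofIsLeftAdjoint (Scheme.Modules.pushforward Δ))
    exact ⟨_, ⟨Adjunction.ofIsLeftAdjoint _⟩⟩
  obtain ⟨adjR⟩ := hR
  obtain ⟨ξ, hξ⟩ := exists_rigid Δ adjR adjΔ L c₀ hc e
    (L' := (DCoh.Lpull (pullback.fst f f)).obj K) ((lP pr1).mapIso eK ≪≫ (lw.app K).symm)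
  exact ⟨ξ, hpc, htor, hξ⟩

end Groth.Agent.BC8
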