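import Groth.Agent.Lib.BC8.Shriek660

/-! The standard setting of the duality statements. -/

set_option autoImplicit false
set_option linter.style.haveILetI false
set_option linter.unusedSectionVars false
set_option backward.isDefEq.respectTransparency false
set_option backward.isDefEq.respectTransparency.types false

universe u

open CategoryTheory CategoryTheory.Limits AlgebraicGeometry

attribute [local instance] HasDerivedCategory.standard

namespace Groth.Agent.BC8

open DMon9

/-- Schemes separated of finite type over a Noetherian base and morphisms between them. -/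
theorem setup_noeth {S X Y : Scheme.{u}} [IsNoetherian S] (p : X ⟶ S) (q : Y ⟶ S) [Dual3.IsSepFT p]
    [Dual3.IsSepFT q] (f : X ⟶ Y) (w : f ≫ q = p) : IsNoetherian Y ∧ IsNoetherian X ∧ LocallyOfFiniteType f := by
  haveI : IsLocallyNoetherian Y := LocallyOfFiniteType.isLocallyNoetherian q
  haveI : CompactSpace Y := QuasiCompact.compactSpace_of_compactSpace q
  haveI : IsLocallyNoetherian X := LocallyOfFiniteType.isLocallyNoetherian p
  haveI : CompactSpace X := QuasiCompact.compactSpace_of_compactSpace p
  haveI : LocallyOfFiniteType (f ≫ q) := w ▸ inferInstance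
  exact ⟨{ }, { }, locallyOfFiniteType_of_comp f q⟩

variable {X Y : Scheme.{u}} {f : X ⟶ Y} (c : DEt.Compactification f)
  (a : DCoh.DQCoh Y ⥤ DCoh.DQCoh c.Xbar)
  [∀ (U V : Scheme.{u}) (j : U ⟶ V) [IsOpenImmersion j], PreservesFiniteLimits (Scheme.Modules.restrictFunctor j)]

/-- `f^!` of the statements is `phiF`. -/
noncomputable def shriekIso : Dual3.shriekC c a ≅ phiF c.j a :=
  Functor.isoWhiskerLeft (a ⋙ ObjectProperty.ι _) (lPRes c.j).symm

/-- An object isomorphic to the structure sheaf is `oQ`. -/
noncomputable def oIso {O : DCoh.DQCoh Y} (e : O.obj ≅ DCoh.inD Y (Coh.structureModule Y)) : O ≅ oQ Y :=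
  ObjectProperty.isoMk _ e

end Groth.Agent.BC8
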