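import Groth.Agent.Lib.BC8.ShriekVia
import Mathlib.Algebra.MvPolynomial.Equiv
import Mathlib.RingTheory.MvPolynomial.Tower

/-! Independence of the algebraic upper shriek of the presentation. -/

set_option autoImplicit false
set_option linter.style.haveILetI false
set_option linter.unusedSectionVars false
set_option backward.isDefEq.respectTransparency false
set_option backward.isDefEq.respectTransparency.types false
set_option maxHeartbeats 800000

universe u

open CategoryTheory CategoryTheory.Limits MvPolynomial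

attribute [local instance] HasDerivedCategory.standard

noncomputable section

namespace Groth.Agent.BC8

variable {R A : Type u} [CommRing R] [IsNoetherianRing R] [CommRing A] [Algebra R A]

theorem isSecDeg_addVar (n : ℕ) (c : MvPolynomial (Fin n) R) :
    IsSecDeg (rename Fin.succ : MvPolynomial (Fin n) R →ₐ[R] MvPolynomial (Fin (n + 1)) R).toRingHom
      (aeval (R := R) (Fin.cases c X) : MvPolynomial (Fin (n + 1)) R →ₐ[R] MvPolynomial (Fin n) R).toRingHom 1 := by
  intro hh Rs adj L
  let ι : MvPolynomial (Fin n) R →ₐ[R] MvPolynomial (Fin (n + 1)) R := rename Fin.succ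
  let s : MvPolynomial (Fin (n + 1)) R →ₐ[R] MvPolynomial (Fin n) R := aeval (Fin.cases c X)
  let τ : MvPolynomial (Fin (n + 1)) R := X 0 - ι c
  have hsι : s.comp ι = AlgHom.id R _ := algHom_ext fun i => by simp [s, ι]
  have hsX : s (X 0) = c := by simp [s]
  have hker : RingHom.ker s.toRingHom = Ideal.span {τ} := by
    refine le_antisymm (fun p hp => ?_) ((Ideal.span_singleton_le_iff_mem _).2 ?_)
    · have h : ∀ q, q - ι (s q) ∈ Ideal.span {τ} := by
        intro q
        induction q using MvPolynomial.induction_on with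
        | C r =>
          have : ι (s (C r)) = C r := by simp [s, ι]
          rw [this, sub_self]
          exact zero_mem _
        | add p q hp hq => rw [map_add, map_add, add_sub_add_comm]; exact add_mem hp hq
        | mul_X p i hp =>
          rw [map_mul, map_mul, show p * X i - ι (s p) * ι (s (X i)) =
            (p - ι (s p)) * X i + ι (s p) * (X i - ι (s (X i))) by ring]
          refine add_mem (Ideal.mul_mem_right _ _ hp) (Ideal.mul_mem_left _ _ ?_)
          refine Fin.cases ?_ (fun j => ?_) i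
          · rw [hsX]
            exact Ideal.mem_span_singleton_self τ
          · have : ι (s (X j.succ)) = X j.succ := by simp [s, ι]
            rw [this, sub_self]
            exact zero_mem _
      have h2 := h p
      rwa [show s p = 0 from hp, map_zero, sub_zero] at h2
    · show s τ = 0
      rw [map_sub, hsX, show s (ι c) = c from AlgHom.congr_fun hsι c, sub_self]
  have hτ : ∀ x, τ * x = 0 → x = 0 := fun x hx => by
    let e := finSuccEquiv R n
    have hι : ∀ p, e (ι p) = Polynomial.C p := by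
      intro p
      induction p using MvPolynomial.induction_on with
      | C r => simp [e, ι, finSuccEquiv_apply]
      | add p q hp hq => rw [map_add, map_add, hp, hq, map_add]
      | mul_X p i hp =>
        have : e (ι (X i)) = Polynomial.C (X i) := by simp [e, ι, finSuccEquiv_apply]
        rw [map_mul, map_mul, hp, this, map_mul]
    have he : e τ = Polynomial.X - Polynomial.C c := by rw [map_sub, hι, finSuccEquiv_X_zero]
    have h0 : (Polynomial.X - Polynomial.C c) * e x = 0 := by rw [← he, ← map_mul, hx, map_zero]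
    exact e.injective (((Polynomial.monic_X_sub_C c).mul_right_eq_zero_iff.1 h0).trans (map_zero e).symm)
  have hflat : ι.toRingHom.Flat := by
    have h : ι.toRingHom = ((finSuccEquiv R n).symm.toRingEquiv.toRingHom).comp Polynomial.C := by
      refine MvPolynomial.ringHom_ext (fun r => ?_) (fun i => ?_)
      · show ι (C r) = (finSuccEquiv R n).symm (Polynomial.C (C r))
        rw [AlgEquiv.eq_symm_apply]
        simp [ι, finSuccEquiv_apply]
      · show ι (X i) = (finSuccEquiv R n).symm (Polynomial.C (X i))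
        rw [AlgEquiv.eq_symm_apply]
        simp [ι, finSuccEquiv_apply]
    rw [h]
    exact RingHom.Flat.comp (RingHom.flat_algebraMap_iff.2 (inferInstance :
      Module.Flat (MvPolynomial (Fin n) R) (Polynomial (MvPolynomial (Fin n) R))))
      (RingHom.Flat.of_bijective (finSuccEquiv R n).symm.bijective)
  haveI : DRing.HasLBaseChange ι.toRingHom := hh
  exact nonempty_hyperplane ι.toRingHom s.toRingHom (congrArg AlgHom.toRingHom hsι) τ hτ hker hflat adj L

/-- Presentation `n ↦ x`; some choice of upper shriek agrees with any other on the same presentation. -/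
theorem nonempty_via_step (n : ℕ) (ψ : MvPolynomial (Fin n) R →ₐ[R] A) (hψ : Function.Surjective ψ) (a : A)
    [DRing.HasLBaseChange (algebraMap R (MvPolynomial (Fin n) R))]
    [DRing.HasLBaseChange (algebraMap R (MvPolynomial (Fin (n + 1)) R))]
    {Rψ : Dual.D (MvPolynomial (Fin n) R) ⥤ Dual.D A} (adj : DRing.restrictD ψ.toRingHom ⊣ Rψ)
    {Rψ' : Dual.D (MvPolynomial (Fin (n + 1)) R) ⥤ Dual.D A}
    (adj' : DRing.restrictD (aeval (R := R) (Fin.cases a (ψ ∘ X) : Fin (n + 1) → A)).toRingHom ⊣ Rψ') (K : Dual.D R) :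
    Nonempty (Dual2.shriekVia (n + 1) Rψ' K ≅ Dual2.shriekVia n Rψ K) := by
  obtain ⟨c, hc⟩ := hψ a
  have h2 : ψ.comp (aeval (R := R) (Fin.cases c X) : MvPolynomial (Fin (n + 1)) R →ₐ[R] _) =
      aeval (R := R) (Fin.cases a (ψ ∘ X) : Fin (n + 1) → A) := algHom_ext fun i => by
    refine Fin.cases ?_ (fun j => ?_) i
    · simp [hc]
    · simp
  obtain ⟨e⟩ := nonempty_change (algebraMap R (MvPolynomial (Fin n) R)) (algebraMap R _) _ _ ψ.toRingHom _
    (AlgHom.comp_algebraMap (rename Fin.succ : MvPolynomial (Fin n) R →ₐ[R] MvPolynomial (Fin (n + 1)) R))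
    (congrArg AlgHom.toRingHom h2) (isSecDeg_addVar n c) adj adj' K
  exact ⟨(shiftFunctor (Dual.D A) ((n + 1 : ℕ) : ℤ)).mapIso e ≪≫
    ((shiftFunctorAdd' (Dual.D A) (-1) ((n + 1 : ℕ) : ℤ) n (by push_cast; ring)).app _).symm⟩

/-- Presentations with the same family of generators up to renumbering. -/
theorem nonempty_via_perm (n m : ℕ) (σ : Fin n ≃ Fin m) (ψ : MvPolynomial (Fin n) R →ₐ[R] A)
    (ψ' : MvPolynomial (Fin m) R →ₐ[R] A) (h : ∀ i, ψ' (X (σ i)) = ψ (X i))
    [DRing.HasLBaseChange (algebraMap R (MvPolynomial (Fin n) R))]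
    [DRing.HasLBaseChange (algebraMap R (MvPolynomial (Fin m) R))]
    {Rψ : Dual.D (MvPolynomial (Fin n) R) ⥤ Dual.D A} (adj : DRing.restrictD ψ.toRingHom ⊣ Rψ)
    {Rψ' : Dual.D (MvPolynomial (Fin m) R) ⥤ Dual.D A} (adj' : DRing.restrictD ψ'.toRingHom ⊣ Rψ') (K : Dual.D R) :
    Nonempty (Dual2.shriekVia m Rψ' K ≅ Dual2.shriekVia n Rψ K) := by
  obtain rfl : n = m := by simpa using Fintype.card_congr σ
  let ι : MvPolynomial (Fin n) R →ₐ[R] MvPolynomial (Fin n) R := rename σ
  let s : MvPolynomial (Fin n) R →ₐ[R] MvPolynomial (Fin n) R := rename σ.symm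
  have h1 : s.comp ι = AlgHom.id R _ := algHom_ext fun i => by simp [s, ι]
  have h2 : ι.comp s = AlgHom.id R _ := algHom_ext fun i => by simp [s, ι]
  have h3 : ψ.comp s = ψ' := algHom_ext fun i => by
    have := h (σ.symm i)
    rw [Equiv.apply_symm_apply] at this
    simpa [s] using this.symm
  obtain ⟨e⟩ := nonempty_change (algebraMap R (MvPolynomial (Fin n) R)) (algebraMap R _) ι.toRingHom s.toRingHom
    ψ.toRingHom _ (AlgHom.comp_algebraMap ι) (congrArg AlgHom.toRingHom h3)
    (isSecDeg_equiv _ _ (congrArg AlgHom.toRingHom h1) (congrArg AlgHom.toRingHom h2)) adj adj' K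
  exact ⟨(shiftFunctor (Dual.D A) (n : ℤ)).mapIso (e ≪≫ (shiftFunctorZero' (Dual.D A) (-0) neg_zero).app _)⟩

/-- Adding finitely many generators. -/
theorem exists_via_append (n : ℕ) (ψ : MvPolynomial (Fin n) R →ₐ[R] A) (hψ : Function.Surjective ψ)
    [DRing.HasLBaseChange (algebraMap R (MvPolynomial (Fin n) R))]
    {Rψ : Dual.D (MvPolynomial (Fin n) R) ⥤ Dual.D A} (adj : DRing.restrictD ψ.toRingHom ⊣ Rψ) (K : Dual.D R) :
    ∀ (m : ℕ) (w : Fin m → A), ∃ (N : ℕ) (θ : MvPolynomial (Fin N) R →ₐ[R] A) (_ : Function.Surjective θ)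
      (e : Fin m ⊕ Fin n ≃ Fin N),
      (∀ i, θ (X (e (Sum.inl i))) = w i) ∧ (∀ j, θ (X (e (Sum.inr j))) = ψ (X j)) ∧
      ∀ (_ : DRing.HasLBaseChange (algebraMap R (MvPolynomial (Fin N) R)))
        (Rθ : Dual.D (MvPolynomial (Fin N) R) ⥤ Dual.D A) (_ : DRing.restrictD θ.toRingHom ⊣ Rθ),
        Nonempty (Dual2.shriekVia N Rθ K ≅ Dual2.shriekVia n Rψ K)
  | 0, w => ⟨n, ψ, hψ, (Equiv.emptySum (Fin 0) (Fin n)), fun i => i.elim0, fun j => rfl, fun _ Rθ adjθ => by
      let e : Rθ ≅ Rψ := adjθ.rightAdjointUniq adj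
      exact ⟨(shiftFunctor (Dual.D A) (n : ℤ)).mapIso (e.app _)⟩⟩
  | m + 1, w => by
    obtain ⟨N, θ, hθ, e, hl, hr, hiso⟩ := exists_via_append n ψ hψ adj K m (w ∘ Fin.succ)
    let θ' : MvPolynomial (Fin (N + 1)) R →ₐ[R] A := aeval (Fin.cases (w 0) (θ ∘ X) : Fin (N + 1) → A)
    have hθ' : Function.Surjective θ' := fun a => by
      obtain ⟨p, rfl⟩ := hθ a
      refine ⟨rename Fin.succ p, ?_⟩
      have h : θ'.comp (rename Fin.succ) = θ := algHom_ext fun i => by simp [θ']
      exact AlgHom.congr_fun h p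
    let e' : Fin (m + 1) ⊕ Fin n ≃ Fin (N + 1) :=
      { toFun := Sum.elim (Fin.cases 0 fun i => (e (Sum.inl i)).succ) fun j => (e (Sum.inr j)).succ
        invFun := Fin.cases (Sum.inl 0) fun k => Sum.map Fin.succ id (e.symm k)
        left_inv := fun x => by
          rcases x with i | j
          · refine Fin.cases ?_ (fun k => ?_) i
            · simp
            · simp
          · simp
        right_inv := fun x => by
          refine Fin.cases ?_ (fun k => ?_) x
          · simp
          · rcases hk : e.symm k with i | j <;> simp [hk, ← (Equiv.symm_apply_eq e).1 hk] }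
    refine ⟨N + 1, θ', hθ', e', ?_, fun j => ?_, fun hh Rθ' adjθ' => ?_⟩
    · intro i
      refine Fin.cases ?_ (fun k => ?_) i
      · simp [e', θ']
      · simp [e', θ', hl]
    · simp [e', θ', hr]
    · haveI := hh
      haveI := DQC.hasLBaseChange (algebraMap R (MvPolynomial (Fin N) R))
      haveI := isLeftAdjoint_restrictD θ.toRingHom
      let adjθ := Adjunction.ofIsLeftAdjoint (DRing.restrictD θ.toRingHom)
      obtain ⟨f⟩ := nonempty_via_step N θ hθ (w 0) adjθ adjθ' K
      obtain ⟨g⟩ := hiso inferInstance _ adjθ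
      exact ⟨f ≪≫ g⟩

/-- The algebraic upper shriek does not depend on the presentation. -/
theorem nonempty_via_indep (n : ℕ) (ψ : MvPolynomial (Fin n) R →ₐ[R] A) (hψ : Function.Surjective ψ)
    [DRing.HasLBaseChange (algebraMap R (MvPolynomial (Fin n) R))]
    {Rψ : Dual.D (MvPolynomial (Fin n) R) ⥤ Dual.D A} (adj : DRing.restrictD ψ.toRingHom ⊣ Rψ)
    (m : ℕ) (ψ' : MvPolynomial (Fin m) R →ₐ[R] A) (hψ' : Function.Surjective ψ')
    [DRing.HasLBaseChange (algebraMap R (MvPolynomial (Fin m) R))]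
    {Rψ' : Dual.D (MvPolynomial (Fin m) R) ⥤ Dual.D A} (adj' : DRing.restrictD ψ'.toRingHom ⊣ Rψ') (K : Dual.D R) :
    Nonempty (Dual2.shriekVia n Rψ K ≅ Dual2.shriekVia m Rψ' K) := by
  obtain ⟨N, θ, hθ, e, hl, hr, hiso⟩ := exists_via_append n ψ hψ adj K m (fun j => ψ' (X j))
  obtain ⟨N', θ', hθ', e', hl', hr', hiso'⟩ := exists_via_append m ψ' hψ' adj' K n (fun i => ψ (X i))
  haveI := DQC.hasLBaseChange (algebraMap R (MvPolynomial (Fin N) R))
  haveI := DQC.hasLBaseChange (algebraMap R (MvPolynomial (Fin N') R))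
  haveI := isLeftAdjoint_restrictD θ.toRingHom
  haveI := isLeftAdjoint_restrictD θ'.toRingHom
  let aθ := Adjunction.ofIsLeftAdjoint (DRing.restrictD θ.toRingHom)
  let aθ' := Adjunction.ofIsLeftAdjoint (DRing.restrictD θ'.toRingHom)
  obtain ⟨g⟩ := hiso inferInstance _ aθ
  obtain ⟨g'⟩ := hiso' inferInstance _ aθ'
  obtain ⟨p⟩ := nonempty_via_perm N N' (e.symm.trans ((Equiv.sumComm _ _).trans e')) θ θ' (fun k => by
    obtain ⟨x, rfl⟩ := e.surjective k
    rcases x with i | j
    · simpa [hl] using hr' i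
    · simpa [hr] using hl' j) aθ aθ' K
  exact ⟨g.symm ≪≫ p.symm ≪≫ g'⟩

end Groth.Agent.BC8
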