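import Groth.Agent.Lib.BC8.Hyperplane
import Groth.Agent.Lib.DBaseChange.Adj
import Groth.Agent.Lib.DQC.Pull
import Groth.Prelude.Def_DualSh

/-! Change of presentation in the algebraic upper shriek. -/

set_option autoImplicit false
set_option linter.style.haveILetI false
set_option linter.unusedSectionVars false
set_option backward.isDefEq.respectTransparency false
set_option backward.isDefEq.respectTransparency.types false
set_option maxHeartbeats 800000

universe u

open CategoryTheory CategoryTheory.Limits Pretriangulated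

attribute [local instance] HasDerivedCategory.standard

noncomputable section

namespace Groth.Agent.BC8

/-- Restrictions compose, naturally. -/
def resCompN {Q P A : Type u} [CommRing Q] [CommRing P] [CommRing A] (σ : Q →+* P) (τ : P →+* A) :
    DRing.restrictD τ ⋙ DRing.restrictD σ ≅ DRing.restrictD (τ.comp σ) :=
  letI W := HomologicalComplex.quasiIso (ModuleCat.{u} A) (ComplexShape.up ℤ)
  letI : Localization.Lifting DerivedCategory.Q W (DerivedCategory.Q ⋙ DRing.restrictD τ ⋙ DRing.restrictD σ)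
      (DRing.restrictD τ ⋙ DRing.restrictD σ) := ⟨Iso.refl _⟩
  letI : Localization.Lifting DerivedCategory.Q W (DerivedCategory.Q ⋙ DRing.restrictD (τ.comp σ))
      (DRing.restrictD (τ.comp σ)) := ⟨Iso.refl _⟩
  let a := (ModuleCat.restrictScalars.{u} τ).mapDerivedCategoryFactors
  let b := (ModuleCat.restrictScalars.{u} σ).mapDerivedCategoryFactors
  let c := (ModuleCat.restrictScalars.{u} (τ.comp σ)).mapDerivedCategoryFactors
  let m : (ModuleCat.restrictScalars.{u} τ).mapHomologicalComplex (ComplexShape.up ℤ) ⋙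
      (ModuleCat.restrictScalars.{u} σ).mapHomologicalComplex (ComplexShape.up ℤ) ≅
      (ModuleCat.restrictScalars.{u} (τ.comp σ)).mapHomologicalComplex (ComplexShape.up ℤ) :=
    NatIso.ofComponents (fun L => HomologicalComplex.Hom.isoOfComponents
      (fun i => ((ModuleCat.restrictScalarsComp.{u} σ τ).app (L.X i)).symm)
      (fun i j _ => ((ModuleCat.restrictScalarsComp.{u} σ τ).inv.naturality (L.d i j)).symm))
      (fun g => HomologicalComplex.hom_ext _ _ fun i => (ModuleCat.restrictScalarsComp.{u} σ τ).inv.naturality (g.f i))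
  Localization.liftNatIso DerivedCategory.Q W (DerivedCategory.Q ⋙ DRing.restrictD τ ⋙ DRing.restrictD σ)
    (DerivedCategory.Q ⋙ DRing.restrictD (τ.comp σ)) _ _
    ((Functor.associator _ _ _).symm ≪≫ Functor.isoWhiskerRight a _ ≪≫ Functor.associator _ _ _ ≪≫
      Functor.isoWhiskerLeft _ b ≪≫ (Functor.associator _ _ _).symm ≪≫ Functor.isoWhiskerRight m _ ≪≫ c.symm)

/-- Restriction along the identity. -/
def resIdN (A : Type u) [CommRing A] : DRing.restrictD (RingHom.id A) ≅ 𝟭 (Dual.D A) :=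
  letI W := HomologicalComplex.quasiIso (ModuleCat.{u} A) (ComplexShape.up ℤ)
  letI : Localization.Lifting DerivedCategory.Q W (DerivedCategory.Q ⋙ DRing.restrictD (RingHom.id A))
      (DRing.restrictD (RingHom.id A)) := ⟨Iso.refl _⟩
  letI : Localization.Lifting DerivedCategory.Q W DerivedCategory.Q (𝟭 (Dual.D A)) := ⟨Functor.rightUnitor _⟩
  let m : (ModuleCat.restrictScalars.{u} (RingHom.id A)).mapHomologicalComplex (ComplexShape.up ℤ) ≅ 𝟭 _ :=
    NatIso.ofComponents (fun L => HomologicalComplex.Hom.isoOfComponents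
      (fun i => (ModuleCat.restrictScalarsId.{u} A).app (L.X i))
      (fun i j _ => ((ModuleCat.restrictScalarsId.{u} A).hom.naturality (L.d i j)).symm))
      (fun g => HomologicalComplex.hom_ext _ _ fun i => (ModuleCat.restrictScalarsId.{u} A).hom.naturality (g.f i))
  Localization.liftNatIso DerivedCategory.Q W (DerivedCategory.Q ⋙ DRing.restrictD (RingHom.id A))
    DerivedCategory.Q _ _
    ((ModuleCat.restrictScalars.{u} (RingHom.id A)).mapDerivedCategoryFactors ≪≫ Functor.isoWhiskerRight m _ ≪≫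
      Functor.leftUnitor _)

theorem isLeftAdjoint_restrictD {A B : Type u} [CommRing A] [CommRing B] (φ : A →+* B) :
    (DRing.restrictD φ).IsLeftAdjoint := by
  haveI : (ModuleCat.coextendScalars.{u, u, u} φ).Additive := DlzFin27.additive_coextend φ
  exact isLeftAdjoint_mapDerived (ModuleCat.restrictScalars.{u} φ) (ModuleCat.restrictCoextendScalarsAdj.{u} φ)

/-- Base changes compose, naturally. -/
theorem nonempty_lbcComp {A B C : Type u} [CommRing A] [CommRing B] [CommRing C] (f : A →+* B) (g : B →+* C)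
    [DRing.HasLBaseChange f] [DRing.HasLBaseChange g] [DRing.HasLBaseChange (g.comp f)] :
    Nonempty (DRing.LBaseChange f ⋙ DRing.LBaseChange g ≅ DRing.LBaseChange (g.comp f)) := by
  obtain ⟨af⟩ := DBaseChange.nonempty_adjunction f
  obtain ⟨ag⟩ := DBaseChange.nonempty_adjunction g
  obtain ⟨ah⟩ := DBaseChange.nonempty_adjunction (g.comp f)
  exact ⟨((af.comp ag).ofNatIsoRight (resCompN f g)).leftAdjointUniq ah⟩

/-- The comparison `d` for a section: `RHom(s, L ⊗ P') ≅ L[-d]`. -/
def IsSecDeg {P P' : Type u} [CommRing P] [CommRing P'] (ι : P →+* P') (s : P' →+* P) (d : ℤ) : Prop :=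
  ∀ (_ : DRing.HasLBaseChange ι) (Rs : Dual.D P' ⥤ Dual.D P) (_ : DRing.restrictD s ⊣ Rs) (L : Dual.D P),
    Nonempty (Rs.obj ((DRing.LBaseChange ι).obj L) ≅ L⟦-d⟧)

theorem isSecDeg_equiv {P P' : Type u} [CommRing P] [CommRing P'] (ι : P →+* P') (s : P' →+* P)
    (h₁ : s.comp ι = RingHom.id P) (h₂ : ι.comp s = RingHom.id P') : IsSecDeg ι s 0 := fun _ Rs adj L => by
  obtain ⟨aι⟩ := DBaseChange.nonempty_adjunction ι
  let e₁ : DRing.restrictD ι ⋙ DRing.restrictD s ≅ 𝟭 _ := resCompN s ι ≪≫ eqToIso (by rw [h₂]) ≪≫ resIdN P'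
  let e₂ : DRing.restrictD s ⋙ DRing.restrictD ι ≅ 𝟭 _ := resCompN ι s ≪≫ eqToIso (by rw [h₁]) ≪≫ resIdN P
  let E := CategoryTheory.Equivalence.mk (DRing.restrictD s) (DRing.restrictD ι) e₂.symm e₁
  let eR : Rs ≅ DRing.restrictD ι := adj.rightAdjointUniq E.toAdjunction
  let eL : DRing.LBaseChange ι ≅ DRing.restrictD s := aι.leftAdjointUniq E.toAdjunction
  exact ⟨eR.app _ ≪≫ (DRing.restrictD ι).mapIso (eL.app L) ≪≫ e₂.app L ≪≫
    ((shiftFunctorZero' (Dual.D P) (-0) neg_zero).app L).symm⟩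

/-- Change of presentation along a map with a section. -/
theorem nonempty_change {R P P' A : Type u} [CommRing R] [CommRing P] [CommRing P'] [CommRing A]
    (α : R →+* P) (α' : R →+* P') (ι : P →+* P') (s : P' →+* P) (ψ : P →+* A) (ψ' : P' →+* A)
    (hα : ι.comp α = α') (hψ : ψ.comp s = ψ') {d : ℤ} (hd : IsSecDeg ι s d)
    [DRing.HasLBaseChange α] [DRing.HasLBaseChange α']
    {Rψ : Dual.D P ⥤ Dual.D A} (adj : DRing.restrictD ψ ⊣ Rψ)
    {Rψ' : Dual.D P' ⥤ Dual.D A} (adj' : DRing.restrictD ψ' ⊣ Rψ') (K : Dual.D R) :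
    Nonempty (Rψ'.obj ((DRing.LBaseChange α').obj K) ≅ (Rψ.obj ((DRing.LBaseChange α).obj K))⟦-d⟧) := by
  subst hα hψ
  haveI := DQC.hasLBaseChange ι
  obtain ⟨c⟩ := nonempty_lbcComp α ι
  haveI := isLeftAdjoint_restrictD s
  let adjs := Adjunction.ofIsLeftAdjoint (DRing.restrictD s)
  obtain ⟨g⟩ := hd inferInstance _ adjs ((DRing.LBaseChange α).obj K)
  let eR : Rψ' ≅ (DRing.restrictD s).rightAdjoint ⋙ Rψ :=
    adj'.rightAdjointUniq ((adj.comp adjs).ofNatIsoLeft (resCompN s ψ))
  letI := adj.rightAdjointCommShift ℤ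
  exact ⟨Rψ'.mapIso (c.app K).symm ≪≫ eR.app _ ≪≫ Rψ.mapIso g ≪≫ (Rψ.commShiftIso (-d)).app _⟩

end Groth.Agent.BC8
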