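import Groth.Agent.Lib.BC8.ShriekViaRange
import Groth.Agent.Lib.BC8.ShriekViaOne
import Groth.Agent.Lib.BC8.DlzTen
import Groth.Agent.Lib.DBaseChange.FibreDim
import Groth.Agent.Lib.DBaseChange.RegGap
import Groth.Agent.Lib.DBaseChange.TorTri
import Groth.Agent.Lib.DMod.PCModule
import Mathlib.RingTheory.RegularLocalRing.Polynomial
import Mathlib.RingTheory.KrullDimension.Polynomial

/-! The upper shriek of the base of a flat algebra lives in nonpositive degrees. -/

set_option autoImplicit false
set_option linter.style.haveILetI false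
set_option linter.unusedSectionVars false
set_option backward.isDefEq.respectTransparency false
set_option backward.isDefEq.respectTransparency.types false
set_option maxHeartbeats 1000000

universe u

open CategoryTheory CategoryTheory.Limits
open scoped TensorProduct

attribute [local instance] HasDerivedCategory.standard

noncomputable section

namespace Groth.Agent.BC8

/-- The fibres of affine space have global dimension the number of variables. -/
theorem pd_fibre_poly {R : Type u} [CommRing R] (k : Type u) [Field k] [Algebra R k] (n : ℕ)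
    (M : Type u) [AddCommGroup M] [Module (k ⊗[R] MvPolynomial (Fin n) R) M] :
    HasProjectiveDimensionLT (ModuleCat.of (k ⊗[R] MvPolynomial (Fin n) R) M) (n + 1) := by
  let e := (MvPolynomial.algebraTensorAlgEquiv (R := R) (A := k) (σ := Fin n)).toRingEquiv
  haveI : IsRegularRing (k ⊗[R] MvPolynomial (Fin n) R) := IsRegularRing.of_ringEquiv e.symm
  refine DBaseChange.pd_le_dim_of_regular (fun p => inferInstance) n ?_ _
  rw [ringKrullDim_eq_of_ringEquiv e, MvPolynomial.ringKrullDim_of_isNoetherianRing,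
    ringKrullDim_eq_zero_of_field, zero_add, Nat.card_eq_fintype_card, Fintype.card_fin]

/-- A flat algebra has projective amplitude `[-n, 0]` over affine space. -/
theorem exists_finProj_pres {R A : Type u} [CommRing R] [CommRing A] [IsNoetherianRing R] [Algebra R A]
    [Module.Flat R A] (n : ℕ) (ψ : MvPolynomial (Fin n) R →ₐ[R] A) (hψ : Function.Surjective ψ) :
    ∃ E : DRing.Cx (MvPolynomial (Fin n) R), DRing.VanishesOutside E (-(n : ℤ)) 0 ∧
      DRing.TermwiseFiniteProjective E ∧
      Nonempty (DRing.toD E ≅ (DRing.restrictD ψ.toRingHom).obj (DGen9.pt (R := A) 0)) := by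
  let P := MvPolynomial (Fin n) R
  letI : Algebra P A := ψ.toRingHom.toAlgebra
  haveI : IsScalarTower R P A := IsScalarTower.of_algHom ψ
  haveI : Module.Finite P A := Module.Finite.of_surjective (Algebra.linearMap P A) hψ
  let K : Dual.D P := Dual.inD P A
  have hK : DRing.IsPseudoCoherent' P K :=
    (DMod.pc'_iff K).2 fun m => DMod.pcModule_of_noetherian (m := m) A
  have hKa : DRing.HasTorAmplitudeIn R 0 0 ((DRing.restrictD (algebraMap R P)).obj K) := by
    refine DBaseChange.hasTorAmplitudeIn_of_iso ?_ (TorBal.amplitude_zero_of_flat (R := R) A)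
    exact (DerivedCategory.singleFunctor _ 0).mapIso (LinearEquiv.toModuleIso
      ({ toFun := id, invFun := id, map_add' := fun _ _ => rfl, left_inv := fun _ => rfl, right_inv := fun _ => rfl
         map_smul' := fun r x => by
           show r • (x : A) = algebraMap R P r • (x : A)
           rw [algebraMap_smul] } : A ≃ₗ[R] (ModuleCat.restrictScalars.{u} (algebraMap R P)).obj (ModuleCat.of P A))) ≪≫
      (((ModuleCat.restrictScalars.{u} (algebraMap R P)).mapDerivedCategorySingleFunctor 0).app (ModuleCat.of P A)).symm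
  obtain ⟨-, hamp⟩ := DBaseChange.isPerfect_of_fibres_globalDim (A := R) (B := P) n
    (fun p M _ _ => pd_fibre_poly p.asIdeal.ResidueField n M) 0 0 K hK hKa
  have hamp' : DRing.HasTorAmplitudeIn P (-(n : ℤ)) 0 K := by rwa [zero_sub] at hamp
  obtain ⟨E, hE, hF, ⟨e⟩⟩ := DMod.exists_finProjAmp ((DMod.pc'_iff K).1 hK (-(n : ℤ) - 1)) hamp'
  exact ⟨E, hE, hF, ⟨e ≪≫ (DerivedCategory.singleFunctor _ 0).mapIso (LinearEquiv.toModuleIso
    ({ toFun := id, invFun := id, map_add' := fun _ _ => rfl, left_inv := fun _ => rfl, right_inv := fun _ => rfl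
       map_smul' := fun _ _ => rfl } : A ≃ₗ[P] (ModuleCat.restrictScalars.{u} ψ.toRingHom).obj (ModuleCat.of A A))) ≪≫
    (((ModuleCat.restrictScalars.{u} ψ.toRingHom).mapDerivedCategorySingleFunctor 0).app (ModuleCat.of A A)).symm⟩⟩

/-- The upper shriek of the base of a flat algebra lives in nonpositive degrees. -/
theorem isLE_via_one {R A : Type u} [CommRing R] [CommRing A] [IsNoetherianRing R] [Algebra R A] [Module.Flat R A]
    (n : ℕ) (ψ : MvPolynomial (Fin n) R →ₐ[R] A) (hψ : Function.Surjective ψ)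
    [DRing.HasLBaseChange (algebraMap R (MvPolynomial (Fin n) R))]
    {Rψ : Dual.D (MvPolynomial (Fin n) R) ⥤ Dual.D A} (adj : DRing.restrictD ψ.toRingHom ⊣ Rψ) :
    (Dual2.shriekVia n Rψ (Dual.inD R R)).IsLE 0 := by
  let P := MvPolynomial (Fin n) R
  obtain ⟨E, hE, hF, ⟨e⟩⟩ := exists_finProj_pres n ψ hψ
  haveI := ((DMod.vanishesOutside_iff E (-(n : ℤ)) 0).1 hE).2
  haveI := DMod.isKProjective 0 fun i => (hF i).2
  haveI := adj.right_adjoint_additive
  obtain ⟨o⟩ := nonempty_via_one n Rψ (R := R) (A := A)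
  let ω₀ := Rψ.obj (Dual.inD P P)
  haveI : ω₀.IsLE (n : ℤ) := by
    refine (DerivedCategory.isLE_iff _ _).2 fun j hj => ?_
    have h1 : Subsingleton (DRing.toD E ⟶ (DerivedCategory.singleFunctor _ (-j)).obj (ModuleCat.of P P)) :=
      DMod.subsingleton_hom_single (hE (-j) (Or.inl (by omega))) _
    let ej : (DRing.restrictD ψ.toRingHom).obj (DGen9.pt (R := A) j) ≅ (DRing.toD E)⟦-j⟧ :=
      (DRing.restrictD ψ.toRingHom).mapIso
          (((DerivedCategory.singleFunctors (ModuleCat.{u} A)).shiftIso (-j) j 0 (by omega)).app _).symm ≪≫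
        ((DRing.restrictD ψ.toRingHom).commShiftIso (-j)).app _ ≪≫
        (shiftFunctor (Dual.D P) (-j)).mapIso e.symm
    let eP : Dual.inD P P ≅ ((DerivedCategory.singleFunctor _ (-j)).obj (ModuleCat.of P P))⟦-j⟧ :=
      (((DerivedCategory.singleFunctors (ModuleCat.{u} P)).shiftIso (-j) 0 (-j) (by omega)).app _).symm
    haveI : Subsingleton ((DRing.toD E)⟦-j⟧ ⟶ ((DerivedCategory.singleFunctor _ (-j)).obj (ModuleCat.of P P))⟦-j⟧) :=
      (Functor.FullyFaithful.ofFullyFaithful (shiftFunctor (Dual.D P) (-j))).homEquiv.symm.subsingleton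
    haveI : Subsingleton (DGen9.pt (R := A) j ⟶ ω₀) :=
      ((adj.homEquiv _ _).symm.trans (ej.homCongr eP)).subsingleton
    exact @ModuleCat.isZero_of_subsingleton _ _ _ (DGen9.eltEquiv (j : ℤ) ω₀).toEquiv.symm.subsingleton
  haveI : (ω₀⟦(n : ℤ)⟧).IsLE 0 := DerivedCategory.TStructure.t.isLE_shift _ (n : ℤ) (n : ℤ) 0 (by omega)
  exact DerivedCategory.TStructure.t.isLE_of_iso o.symm 0

end Groth.Agent.BC8
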