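import Groth.Agent.Lib.BC8.TildeTen
import Groth.Agent.Lib.BC8.ShriekViaComp
import Groth.Agent.Lib.BC8.ShriekViaOne
import Groth.Agent.Lib.BC8.FrobExt
import Groth.Agent.Lib.DMV.ExtZero

/-! The upper shriek of a finite algebra is the right adjoint of restriction. -/

set_option autoImplicit false
set_option linter.style.haveILetI false
set_option linter.unusedSectionVars false
set_option backward.isDefEq.respectTransparency false
set_option backward.isDefEq.respectTransparency.types false
set_option maxHeartbeats 1000000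

universe u

open CategoryTheory CategoryTheory.Limits MvPolynomial AlgebraicGeometry

attribute [local instance] HasDerivedCategory.standard

noncomputable section

namespace Groth.Agent.BC8

/-- A finite free Frobenius extension with trivial upper shriek. -/
structure GoodFin (R C : Type u) [CommRing R] [CommRing C] [Algebra R C] : Prop where
  noeth : IsNoetherianRing C
  fin : _root_.Module.Finite R C
  flat : _root_.Module.Flat R C
  frob : Nonempty (ModuleCat.restrictScalars.{u} (algebraMap R C) ⊣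
    ModuleCat.extendScalars.{u, u, u} (algebraMap R C))
  triv : ∀ (n : ℕ) (θ : MvPolynomial (Fin n) R →ₐ[R] C) (_ : Function.Surjective θ)
    (_ : DRing.HasLBaseChange (algebraMap R (MvPolynomial (Fin n) R)))
    (Rθ : Dual.D (MvPolynomial (Fin n) R) ⥤ Dual.D C) (_ : DRing.restrictD θ.toRingHom ⊣ Rθ),
    Nonempty (Dual2.shriekVia n Rθ (Dual.inD R R) ≅ Dual.inD C C)

theorem goodFin_self (R : Type u) [CommRing R] [IsNoetherianRing R] : GoodFin R R where
  noeth := inferInstance
  fin := inferInstance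
  flat := inferInstance
  frob := nonempty_frob (algebraMap R R) (AddMonoidHom.id R) (fun r s => rfl) (ι := Unit) (fun _ => 1) (fun _ => 1)
    (fun s => by simp) fun s => by simp
  triv n θ hθ hα Rθ adj := by
    let θ₀ : MvPolynomial (Fin 0) R →ₐ[R] R := aeval Fin.elim0
    have hθ₀ : Function.Surjective θ₀ := fun r => ⟨C r, by simp [θ₀]⟩
    haveI := DQC.hasLBaseChange (algebraMap R (MvPolynomial (Fin 0) R))
    haveI := isLeftAdjoint_restrictD θ₀.toRingHom
    let a₀ := Adjunction.ofIsLeftAdjoint (DRing.restrictD θ₀.toRingHom)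
    obtain ⟨w⟩ := nonempty_via_indep n θ hθ adj 0 θ₀ hθ₀ a₀ (Dual.inD R R)
    obtain ⟨o⟩ := nonempty_via_one 0 (DRing.restrictD θ₀.toRingHom).rightAdjoint (R := R) (A := R)
    obtain ⟨e⟩ := exists_upper_regSeq (P := CommRingCat.of (MvPolynomial (Fin 0) R)) (B := CommRingCat.of R)
      (CommRingCat.ofHom θ₀.toRingHom) hθ₀ [] (RingTheory.Sequence.IsWeaklyRegular.nil _ _) (by
        rw [Ideal.ofList_nil, ← RingHom.injective_iff_ker_eq_bot]
        intro a b h
        obtain ⟨a, rfl⟩ := C_surjective (Fin 0) a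
        obtain ⟨b, rfl⟩ := C_surjective (Fin 0) b
        simpa [θ₀] using h) a₀
    exact ⟨w ≪≫ o ≪≫ (shiftFunctor (Dual.D R) ((0 : ℕ) : ℤ)).mapIso (e ≪≫
      ((shiftFunctorZero' (Dual.D R) _ (by simp)).app _)) ≪≫ (shiftFunctorZero' (Dual.D R) _ (by simp)).app _⟩

/-- Adjoining a root of a monic polynomial. -/
theorem goodFin_adjoinRoot {R C : Type u} [CommRing R] [CommRing C] [Algebra R C] [IsNoetherianRing R]
    (h : GoodFin R C) (g : Polynomial C) (hg : g.Monic) : GoodFin R (AdjoinRoot g) := by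
  haveI := h.noeth
  haveI := h.fin
  haveI := h.flat
  haveI : _root_.Module.Finite C (AdjoinRoot g) := hg.finite_adjoinRoot
  haveI : _root_.Module.Free C (AdjoinRoot g) := hg.free_adjoinRoot
  haveI : _root_.Module.Finite R (AdjoinRoot g) := _root_.Module.Finite.trans C _
  haveI : IsNoetherianRing (AdjoinRoot g) := IsNoetherianRing.of_finite C _
  refine ⟨inferInstance, inferInstance, _root_.Module.Flat.trans R C _, ?_, fun k θ' hθ' _ Rθ' adj' => ?_⟩
  · obtain ⟨f₁⟩ := h.frob
    obtain ⟨f₂⟩ := nonempty_frob_adjoinRoot g hg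
    have hc : algebraMap R (AdjoinRoot g) = (algebraMap C (AdjoinRoot g)).comp (algebraMap R C) :=
      IsScalarTower.algebraMap_eq R C _
    rw [hc]
    let eR := ModuleCat.restrictScalarsComp.{u} (algebraMap R C) (algebraMap C (AdjoinRoot g))
    let eE : ModuleCat.extendScalars.{u, u, u} (algebraMap R C) ⋙ ModuleCat.extendScalars.{u, u, u} (algebraMap C (AdjoinRoot g)) ≅
        ModuleCat.extendScalars.{u, u, u} ((algebraMap C (AdjoinRoot g)).comp (algebraMap R C)) :=
      (((ModuleCat.extendRestrictScalarsAdj (algebraMap R C)).comp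
        (ModuleCat.extendRestrictScalarsAdj (algebraMap C (AdjoinRoot g)))).ofNatIsoRight eR.symm).leftAdjointUniq
          (ModuleCat.extendRestrictScalarsAdj _)
    exact ⟨((f₂.comp f₁).ofNatIsoLeft eR.symm).ofNatIsoRight eE⟩
  · obtain ⟨n, θ, hθ⟩ := Algebra.FiniteType.iff_quotient_mvPolynomial''.1 (inferInstance : Algebra.FiniteType R C)
    haveI := DQC.hasLBaseChange (algebraMap R (MvPolynomial (Fin n) R))
    haveI := isLeftAdjoint_restrictD θ.toRingHom
    let adj := Adjunction.ofIsLeftAdjoint (DRing.restrictD θ.toRingHom)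
    let E := uniqueAlgEquiv C (Fin 1)
    let χ : MvPolynomial (Fin 1) C →ₐ[C] AdjoinRoot g := (AdjoinRoot.mkₐ g).comp E.toAlgHom
    have hχ : Function.Surjective χ := AdjoinRoot.mk_surjective.comp E.surjective
    haveI := DQC.hasLBaseChange (algebraMap C (MvPolynomial (Fin 1) C))
    haveI := isLeftAdjoint_restrictD χ.toRingHom
    let adjχ := Adjunction.ofIsLeftAdjoint (DRing.restrictD χ.toRingHom)
    obtain ⟨w⟩ := nonempty_via_comp n θ hθ adj 1 χ hχ adjχ k θ' hθ' adj' (Dual.inD R R) 0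
      fun i hi => ModuleCat.subsingleton_of_isZero (DerivedCategory.isZero_of_isGE _ 0 i hi)
    obtain ⟨t⟩ := h.triv n θ hθ inferInstance _ adj
    obtain ⟨o⟩ := nonempty_via_one 1 (DRing.restrictD χ.toRingHom).rightAdjoint (R := C) (A := AdjoinRoot g)
    obtain ⟨e⟩ := exists_upper_regSeq (P := CommRingCat.of (MvPolynomial (Fin 1) C)) (B := CommRingCat.of (AdjoinRoot g))
      (CommRingCat.ofHom χ.toRingHom) hχ [E.symm g] (by
        refine (RingTheory.Sequence.isWeaklyRegular_cons_iff _ _ _).2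
          ⟨fun a b hab => ?_, RingTheory.Sequence.IsWeaklyRegular.nil _ _⟩
        apply E.injective
        have h2 := congrArg E hab
        simp only [smul_eq_mul, map_mul, AlgEquiv.apply_symm_apply] at h2
        exact hg.isRegular.left h2) (by
        ext p
        rw [Ideal.ofList_singleton, Ideal.mem_span_singleton, RingHom.mem_ker]
        show AdjoinRoot.mk g (E p) = 0 ↔ _
        rw [AdjoinRoot.mk_eq_zero]
        exact ⟨fun hd => by simpa using map_dvd E.symm hd, fun hd => by simpa using map_dvd E hd⟩) adjχ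
    exact ⟨w ≪≫ (shiftFunctor (Dual.D (AdjoinRoot g)) ((1 : ℕ) : ℤ)).mapIso
      ((DRing.restrictD χ.toRingHom).rightAdjoint.mapIso ((DRing.LBaseChange _).mapIso t)) ≪≫ o ≪≫
        (shiftFunctor (Dual.D (AdjoinRoot g)) ((1 : ℕ) : ℤ)).mapIso e ≪≫
          (shiftFunctorCompIsoId (Dual.D (AdjoinRoot g)) (-(1 : ℤ)) 1 (by omega)).app _⟩

/-- Finitely many elements of a finite algebra lie in the image of a good algebra. -/
theorem exists_goodFin {R A : Type u} [CommRing R] [CommRing A] [IsNoetherianRing R] [Algebra R A]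
    [_root_.Module.Finite R A] (l : List A) :
    ∃ (C : Type u) (_ : CommRing C) (_ : Algebra R C), GoodFin R C ∧ ∃ φ : C →ₐ[R] A, ∀ a ∈ l, a ∈ φ.range := by
  induction l with
  | nil => exact ⟨R, inferInstance, inferInstance, goodFin_self R, Algebra.ofId R A, by simp⟩
  | cons a l ih =>
    obtain ⟨C, _, _, hC, φ, hl⟩ := ih
    obtain ⟨p, hp, hpa⟩ := Algebra.IsIntegral.isIntegral (R := R) a
    let g := p.map (algebraMap R C)
    have h0 : g.eval₂ φ a = 0 := by
      rw [Polynomial.eval₂_map]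
      simpa [φ.comp_algebraMap] using hpa
    let φ' := AdjoinRoot.liftAlgHom g φ a h0
    refine ⟨AdjoinRoot g, inferInstance, inferInstance, goodFin_adjoinRoot hC g (hp.map _), φ', fun b hb => ?_⟩
    rcases List.mem_cons.1 hb with rfl | hb
    · exact ⟨AdjoinRoot.root g, AdjoinRoot.liftAlgHom_root g φ b h0⟩
    · obtain ⟨c, rfl⟩ := hl b hb
      exact ⟨AdjoinRoot.of g c, AdjoinRoot.liftAlgHom_of g φ a h0 c⟩

/-- Tensoring with the ring does nothing. -/
theorem nonempty_ltensor_unit {A : Type u} [CommRing A] (W : DRing.Cx A) [DRing.HasLTensorCx A W]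
    (eW : DRing.toD W ≅ Dual.inD A A) (N : Dual.D A) : Nonempty ((DRing.LTensorCx A W).obj N ≅ N) := by
  obtain ⟨d⟩ := nonempty_tilde_ltensor (R := CommRingCat.of A) W N
  haveI : PreservesFiniteLimits (tilde.functor (CommRingCat.of A)) := M1.tilde_preservesFiniteLimits
  let T := DPerf.tildeDD (CommRingCat.of A)
  obtain ⟨s⟩ := nonempty_tenL_one 0 (T.obj (DRing.toD W))
    (T.mapIso eW ≪≫ (DGen9.KO.oneIso (R := CommRingCat.of A)).symm)
  haveI := isEquivalence_tQ (CommRingCat.of A)
  exact ⟨(tQ (CommRingCat.of A)).preimageIso (ObjectProperty.isoMk _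
    (d ≪≫ s.app _ ≪≫ (shiftFunctorZero' (DCoh.D (AlgebraicGeometry.Spec (CommRingCat.of A))) (-0) neg_zero).app _))⟩

/-- The upper shriek of a finite algebra is the right adjoint of restriction. -/
theorem nonempty_via_finite {R A : Type u} [CommRing R] [CommRing A] [IsNoetherianRing R] [Algebra R A]
    [_root_.Module.Finite R A] (n : ℕ) (ψ : MvPolynomial (Fin n) R →ₐ[R] A) (hψ : Function.Surjective ψ)
    [DRing.HasLBaseChange (algebraMap R (MvPolynomial (Fin n) R))]
    {Rψ : Dual.D (MvPolynomial (Fin n) R) ⥤ Dual.D A} (adj : DRing.restrictD ψ.toRingHom ⊣ Rψ)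
    {R' : Dual.D R ⥤ Dual.D A} (adjR : DRing.restrictD (algebraMap R A) ⊣ R') (K : Dual.D R) :
    Nonempty (Dual2.shriekVia n Rψ K ≅ R'.obj K) := by
  obtain ⟨C, _, _, hC, φ, hφr⟩ := exists_goodFin (R := R) (List.ofFn fun i => ψ (X i))
  have hφ : Function.Surjective φ := by
    rw [← AlgHom.range_eq_top, eq_top_iff, ← (AlgHom.range_eq_top ψ).2 hψ, ← Algebra.map_top, ← adjoin_range_X,
      AlgHom.map_adjoin, Algebra.adjoin_le_iff]
    rintro _ ⟨_, ⟨i, rfl⟩, rfl⟩
    exact hφr _ (List.mem_ofFn.2 ⟨i, rfl⟩)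
  haveI := hC.noeth
  haveI := hC.fin
  haveI := hC.flat
  obtain ⟨m, θ, hθ⟩ := Algebra.FiniteType.iff_quotient_mvPolynomial''.1 (inferInstance : Algebra.FiniteType R C)
  haveI := DQC.hasLBaseChange (algebraMap R (MvPolynomial (Fin m) R))
  haveI := isLeftAdjoint_restrictD θ.toRingHom
  haveI := isLeftAdjoint_restrictD φ.toRingHom
  let adjθ := Adjunction.ofIsLeftAdjoint (DRing.restrictD θ.toRingHom)
  let adjφ := Adjunction.ofIsLeftAdjoint (DRing.restrictD φ.toRingHom)
  let adjm : DRing.restrictD (φ.comp θ).toRingHom ⊣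
      (DRing.restrictD θ.toRingHom).rightAdjoint ⋙ (DRing.restrictD φ.toRingHom).rightAdjoint :=
    (adjφ.comp adjθ).ofNatIsoLeft (resCompN θ.toRingHom φ.toRingHom)
  obtain ⟨w⟩ := nonempty_via_indep n ψ hψ adj m (φ.comp θ) (hφ.comp hθ) adjm K
  let β := algebraMap R C
  obtain ⟨frob⟩ := hC.frob
  haveI : PreservesFiniteLimits (ModuleCat.extendScalars.{u, u, u} β) := by
    haveI := frob.isRightAdjoint
    infer_instance
  haveI : PreservesFiniteColimits (ModuleCat.extendScalars.{u, u, u} β) := by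
    haveI := (ModuleCat.extendRestrictScalarsAdj.{u, u, u} β).isLeftAdjoint
    infer_instance
  haveI := DQC.hasLBaseChange β
  haveI : (ModuleCat.extendScalars.{u, u, u} β).Additive := frob.right_adjoint_additive
  obtain ⟨aβ⟩ := DBaseChange.nonempty_adjunction β
  let eL : DRing.LBaseChange β ≅ (ModuleCat.extendScalars.{u, u, u} β).mapDerivedCategory :=
    aβ.leftAdjointUniq (DMV.adjD (ModuleCat.extendRestrictScalarsAdj.{u, u, u} β))
  let adjβ : DRing.restrictD β ⊣ DRing.LBaseChange β := (DMV.adjD frob).ofNatIsoRight eL.symm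
  let c := resCompN β φ.toRingHom
  have hc : φ.toRingHom.comp β = algebraMap R A := φ.comp_algebraMap
  let adjR₀ : DRing.restrictD (algebraMap R A) ⊣ DRing.LBaseChange β ⋙ (DRing.restrictD φ.toRingHom).rightAdjoint :=
    (adjφ.comp adjβ).ofNatIsoLeft (c ≪≫ eqToIso (by rw [hc]))
  let W := (DerivedCategory.Q (C := ModuleCat.{u} C)).objPreimage (Dual.inD C C)
  let eW : DRing.toD W ≅ Dual.inD C C := (DerivedCategory.Q (C := ModuleCat.{u} C)).objObjPreimageIso _
  haveI := RelPCS8.TensorAmp.hasLTensorCx W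
  obtain ⟨t⟩ := hC.triv m θ hθ inferInstance _ adjθ
  obtain ⟨fm⟩ := nonempty_via_formula m θ hθ adjθ W ⟨eW ≪≫ t.symm⟩ K
  obtain ⟨u⟩ := nonempty_ltensor_unit W eW ((DRing.LBaseChange β).obj K)
  letI := adjφ.rightAdjointCommShift ℤ
  exact ⟨w ≪≫ (((DRing.restrictD φ.toRingHom).rightAdjoint.commShiftIso (m : ℤ)).app _).symm ≪≫
    (DRing.restrictD φ.toRingHom).rightAdjoint.mapIso (fm ≪≫ u) ≪≫ (adjR₀.rightAdjointUniq adjR).app K⟩

end Groth.Agent.BC8
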