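import Groth.Agent.Lib.BC8.TildeTen
import Groth.Agent.Lib.RelPCS8.TensorAmp
import Mathlib.Algebra.Category.Ring.Epi

/-! The algebraic upper shriek of an open immersion. -/

set_option autoImplicit false
set_option linter.style.haveILetI false
set_option linter.unusedSectionVars false
set_option backward.isDefEq.respectTransparency false
set_option backward.isDefEq.respectTransparency.types false
set_option maxHeartbeats 1000000

universe u

open CategoryTheory CategoryTheory.Limits AlgebraicGeometry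
open scoped TensorProduct

attribute [local instance] HasDerivedCategory.standard

noncomputable section

namespace Groth.Agent.BC8

open DMon9

/-- Base change along the identity. -/
theorem nonempty_lbc_id (A : Type u) [CommRing A] [DRing.HasLBaseChange (RingHom.id A)] :
    Nonempty (DRing.LBaseChange (RingHom.id A) ≅ 𝟭 (Dual.D A)) := by
  obtain ⟨a⟩ := DBaseChange.nonempty_adjunction (RingHom.id A)
  exact ⟨a.leftAdjointUniq (Adjunction.id.ofNatIsoRight (resIdN A).symm)⟩

/-- For an isomorphism the right adjoint of restriction is base change. -/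
theorem nonempty_rightAdj_equiv {P B : Type u} [CommRing P] [CommRing B] (θ : P →+* B) (μ : B →+* P)
    (h₁ : μ.comp θ = RingHom.id P) (h₂ : θ.comp μ = RingHom.id B) [DRing.HasLBaseChange θ]
    {Rθ : Dual.D P ⥤ Dual.D B} (adj : DRing.restrictD θ ⊣ Rθ) :
    Nonempty (Rθ ≅ DRing.LBaseChange θ) := by
  obtain ⟨a⟩ := DBaseChange.nonempty_adjunction θ
  let e₁ : DRing.restrictD μ ⋙ DRing.restrictD θ ≅ 𝟭 _ := resCompN θ μ ≪≫ eqToIso (by rw [h₁]) ≪≫ resIdN P
  let e₂ : DRing.restrictD θ ⋙ DRing.restrictD μ ≅ 𝟭 _ := resCompN μ θ ≪≫ eqToIso (by rw [h₂]) ≪≫ resIdN B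
  let E := CategoryTheory.Equivalence.mk (DRing.restrictD θ) (DRing.restrictD μ) e₂.symm e₁
  exact ⟨adj.rightAdjointUniq E.toAdjunction ≪≫ (a.leftAdjointUniq E.symm.toAdjunction).symm⟩

variable {R R' : Type u} [CommRing R] [CommRing R'] [IsNoetherianRing R] [IsNoetherianRing R'] [Algebra R R']
  (hopen : IsOpenImmersion (Spec.map (CommRingCat.ofHom (algebraMap R R'))))
  (n : ℕ) (ψ : MvPolynomial (Fin n) R →ₐ[R] R') (hψ : Function.Surjective ψ)
  [DRing.HasLBaseChange (algebraMap R (MvPolynomial (Fin n) R))]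
  {Rψ : Dual.D (MvPolynomial (Fin n) R) ⥤ Dual.D R'} (adj : DRing.restrictD ψ.toRingHom ⊣ Rψ)

include hopen hψ adj in
/-- For an open immersion the upper shriek of the base is the ring. -/
theorem nonempty_via_open_one : Nonempty (Dual2.shriekVia n Rψ (Dual.inD R R) ≅ Dual.inD R' R') := by
  haveI := hopen
  haveI : Module.Flat R R' := RingHom.flat_algebraMap_iff.1
    ((HasRingHomProperty.Spec_iff (P := @Flat)).1 (inferInstance : Flat (Spec.map (CommRingCat.ofHom (algebraMap R R')))))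
  haveI : Epi (CommRingCat.ofHom (algebraMap R R')) := ⟨fun f g h =>
    Spec.map_injective ((cancel_mono (Spec.map (CommRingCat.ofHom (algebraMap R R')))).1
      (by rw [← Spec.map_comp, ← Spec.map_comp, h]))⟩
  have hepi : ∀ s : R', (1 : R') ⊗ₜ[R] s = s ⊗ₜ[R] (1 : R') :=
    (Algebra.isEpi_iff_forall_one_tmul_eq R R').1 (CommRingCat.epi_iff_epi.1 this)
  let T := R' ⊗[R] R'
  let b : R' →+* T := (Algebra.TensorProduct.includeRight : R' →ₐ[R] T).toRingHom
  let μ : T →+* R' := (Algebra.TensorProduct.lmul' R : T →ₐ[R] R').toRingHom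
  have hμb : μ.comp b = RingHom.id R' := RingHom.ext fun x => by simp [μ, b, T]
  have hbμ : b.comp μ = RingHom.id T := by
    refine RingHom.ext fun z => ?_
    induction z using TensorProduct.induction_on with
    | zero => simp
    | tmul x y =>
      show (1 : R') ⊗ₜ[R] (x * y) = x ⊗ₜ[R] y
      calc (1 : R') ⊗ₜ[R] (x * y) = ((1 : R') ⊗ₜ[R] x) * ((1 : R') ⊗ₜ[R] y) := by simp
        _ = (x ⊗ₜ[R] (1 : R')) * ((1 : R') ⊗ₜ[R] y) := by rw [hepi x]
        _ = x ⊗ₜ[R] y := by simp
    | add a c ha hc => rw [map_add, ha, hc, map_add]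
  haveI : IsNoetherianRing T := isNoetherianRing_of_surjective R' T b fun z => ⟨μ z, RingHom.congr_fun hbμ z⟩
  let θ : MvPolynomial (Fin 0) R' →ₐ[R'] T := MvPolynomial.aeval fun i => i.elim0
  let ev : MvPolynomial (Fin 0) R' →ₐ[R'] R' := MvPolynomial.aeval fun i => i.elim0
  let θi : T →+* MvPolynomial (Fin 0) R' := MvPolynomial.C.comp μ
  have hCev : ∀ q, MvPolynomial.C (ev q) = q := fun q => by
    induction q using MvPolynomial.induction_on with
    | C r => simp [ev]
    | add p q hp hq => rw [map_add, map_add, hp, hq]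
    | mul_X p i _ => exact i.elim0
  have hθC : ∀ r : R', θ (MvPolynomial.C r) = b r := fun r => by
    show θ (algebraMap R' _ r) = (1 : R') ⊗ₜ[R] r
    rw [θ.commutes]
    exact (hepi r).symm
  have h1 : θi.comp θ.toRingHom = RingHom.id _ := RingHom.ext fun q => by
    rw [← hCev q]
    show MvPolynomial.C (μ (θ (MvPolynomial.C (ev q)))) = MvPolynomial.C (ev q)
    rw [hθC, show μ (b (ev q)) = ev q from RingHom.congr_fun hμb (ev q)]
  have h2 : θ.toRingHom.comp θi = RingHom.id T := RingHom.ext fun z => by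
    show θ (MvPolynomial.C (μ z)) = z
    rw [hθC]
    exact RingHom.congr_fun hbμ z
  have hθ : Function.Surjective θ := fun z => ⟨θi z, RingHom.congr_fun h2 z⟩
  haveI := DQC.hasLBaseChange (algebraMap R' (MvPolynomial (Fin 0) R'))
  haveI := DQC.hasLBaseChange (algebraMap R R')
  haveI : DRing.HasLBaseChange (Algebra.TensorProduct.includeRight : R' →ₐ[R] R' ⊗[R] R').toRingHom :=
    DQC.hasLBaseChange _
  haveI := DQC.hasLBaseChange θ.toRingHom
  haveI := DQC.hasLBaseChange μ
  haveI : DRing.HasLBaseChange b := DQC.hasLBaseChange b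
  haveI := DQC.hasLBaseChange (μ.comp b)
  haveI := DQC.hasLBaseChange (RingHom.id R')
  haveI := isLeftAdjoint_restrictD θ.toRingHom
  let adjθ := Adjunction.ofIsLeftAdjoint (DRing.restrictD θ.toRingHom)
  obtain ⟨e⟩ := nonempty_via_bc n ψ hψ adj 0 θ hθ adjθ (Dual.inD R R) 0
    (fun i hi => ModuleCat.subsingleton_of_isZero (DerivedCategory.isZero_of_isGE _ 0 i hi))
  obtain ⟨r⟩ := nonempty_rightAdj_equiv θ.toRingHom θi h1 h2 adjθ
  haveI : DRing.HasLBaseChange (CommRingCat.ofHom (algebraMap R R')).hom := ‹_›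
  haveI : DRing.HasLBaseChange (CommRingCat.ofHom (algebraMap R' (MvPolynomial (Fin 0) R'))).hom := ‹_›
  haveI : DRing.HasLBaseChange (CommRingCat.ofHom θ.toRingHom).hom := ‹_›
  haveI : DRing.HasLBaseChange (CommRingCat.ofHom μ).hom := ‹_›
  obtain ⟨l1⟩ := nonempty_lbc_one (R := CommRingCat.of R) (P := CommRingCat.of R') (CommRingCat.ofHom (algebraMap R R'))
  obtain ⟨l2⟩ := nonempty_lbc_one (R := CommRingCat.of R') (P := CommRingCat.of (MvPolynomial (Fin 0) R'))
    (CommRingCat.ofHom (algebraMap R' (MvPolynomial (Fin 0) R')))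
  obtain ⟨l3⟩ := nonempty_lbc_one (R := CommRingCat.of (MvPolynomial (Fin 0) R')) (P := CommRingCat.of T)
    (CommRingCat.ofHom θ.toRingHom)
  obtain ⟨l4⟩ := nonempty_lbc_one (R := CommRingCat.of T) (P := CommRingCat.of R') (CommRingCat.ofHom μ)
  obtain ⟨c⟩ := nonempty_lbcComp b μ
  obtain ⟨i⟩ := nonempty_lbc_id R'
  have c' : Nonempty ((DRing.LBaseChange (μ.comp b)).obj (Dual2.shriekVia n Rψ (Dual.inD R R)) ≅
      (DRing.LBaseChange (RingHom.id R')).obj (Dual2.shriekVia n Rψ (Dual.inD R R))) := by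
    clear c i
    revert ‹DRing.HasLBaseChange (μ.comp b)› ‹DRing.HasLBaseChange (RingHom.id R')›
    rw [hμb]
    intro _ _
    exact ⟨Iso.refl _⟩
  exact ⟨(c'.some ≪≫ i.app _).symm ≪≫ (c.app _).symm ≪≫ (DRing.LBaseChange μ).mapIso (e ≪≫
    (shiftFunctor (Dual.D T) ((0 : ℕ) : ℤ)).mapIso ((DRing.restrictD θ.toRingHom).rightAdjoint.mapIso
      ((DRing.LBaseChange (algebraMap R' (MvPolynomial (Fin 0) R'))).mapIso l1 ≪≫ l2) ≪≫ r.app _ ≪≫ l3) ≪≫
    (shiftFunctorZero' (Dual.D T) ((0 : ℕ) : ℤ) (by simp)).app _) ≪≫ l4⟩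

include hopen hψ adj in
/-- For an open immersion the upper shriek is base change. -/
theorem nonempty_via_open [DRing.HasLBaseChange (algebraMap R R')] (K : Dual.D R) :
    Nonempty (Dual2.shriekVia n Rψ K ≅ (DRing.LBaseChange (algebraMap R R')).obj K) := by
  haveI := hopen
  haveI : Module.Flat R R' := RingHom.flat_algebraMap_iff.1
    ((HasRingHomProperty.Spec_iff (P := @Flat)).1 (inferInstance : Flat (Spec.map (CommRingCat.ofHom (algebraMap R R')))))
  obtain ⟨o⟩ := nonempty_via_open_one hopen n ψ hψ adj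
  let W := (DerivedCategory.Q (C := ModuleCat.{u} R')).objPreimage (Dual2.shriekVia n Rψ (Dual.inD R R))
  let eW : DRing.toD W ≅ Dual2.shriekVia n Rψ (Dual.inD R R) :=
    (DerivedCategory.Q (C := ModuleCat.{u} R')).objObjPreimageIso _
  haveI : DRing.HasLTensorCx R' W := RelPCS8.TensorAmp.hasLTensorCx _
  obtain ⟨f⟩ := nonempty_via_formula n ψ hψ adj W ⟨eW⟩ K
  let N := (DRing.LBaseChange (algebraMap R R')).obj K
  obtain ⟨d⟩ := nonempty_tilde_ltensor (R := CommRingCat.of R') W N
  haveI : PreservesFiniteLimits (tilde.functor (CommRingCat.of R')) := M1.tilde_preservesFiniteLimits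
  let T := DPerf.tildeDD (CommRingCat.of R')
  obtain ⟨s⟩ := nonempty_tenL_one 0 (T.obj (DRing.toD W))
    (T.mapIso (eW ≪≫ o) ≪≫ (DGen9.KO.oneIso (R := CommRingCat.of R')).symm)
  haveI := isEquivalence_tQ (CommRingCat.of R')
  exact ⟨f ≪≫ (tQ (CommRingCat.of R')).preimageIso (ObjectProperty.isoMk _
    (d ≪≫ s.app _ ≪≫ (shiftFunctorZero' (DCoh.D (Spec (CommRingCat.of R'))) (-0) neg_zero).app _))⟩

end Groth.Agent.BC8
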