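import Groth.Agent.Lib.BC8.ShriekViaFinite
import Groth.Agent.Lib.BC8.ShriekViaComp
import Groth.Agent.Lib.BC8.ShriekViaOpen
import Groth.Agent.Lib.QFAffine4
import Groth.Agent.S1783

/-! The upper shriek of the base vanishes below minus the fibre dimension. -/

set_option autoImplicit false
set_option linter.style.haveILetI false
set_option linter.unusedSectionVars false
set_option backward.isDefEq.respectTransparency false
set_option backward.isDefEq.respectTransparency.types false
set_option maxHeartbeats 1000000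

universe u

open CategoryTheory CategoryTheory.Limits AlgebraicGeometry

attribute [local instance] HasDerivedCategory.standard

noncomputable section

namespace Groth.Agent.BC8

/-- Vanishing below for the upper shriek of the base: at most the number of variables. -/
theorem subsingleton_via_low_vars {R A : Type u} [CommRing R] [CommRing A] [IsNoetherianRing R] [Algebra R A] (n : ℕ)
    (ψ : MvPolynomial (Fin n) R →ₐ[R] A) [DRing.HasLBaseChange (algebraMap R (MvPolynomial (Fin n) R))]
    {Rψ : Dual.D (MvPolynomial (Fin n) R) ⥤ Dual.D A} (adj : DRing.restrictD ψ.toRingHom ⊣ Rψ)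
    (i : ℤ) (hi : i < -(n : ℤ)) : Subsingleton (Dual.HD A (Dual2.shriekVia n Rψ (Dual.inD R R)) i) := by
  haveI : (Dual.inD R R).IsGE 0 := inferInstance
  let P := MvPolynomial (Fin n) R
  let L := (DRing.LBaseChange (algebraMap R P)).obj (Dual.inD R R)
  have hL : ∀ j : ℤ, j < 0 → Subsingleton (Dual.HD P L j) := fun j hj => by
    haveI : Subsingleton (Dual.HD R (Dual.inD R R) j) :=
      ModuleCat.subsingleton_of_isZero (DerivedCategory.isZero_of_isGE _ 0 j hj)
    exact subsingleton_HD_lbc _ (RingHom.flat_algebraMap_iff.2 inferInstance) _ j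
  haveI : L.IsGE 0 := (DerivedCategory.isGE_iff _ _).2 fun j hj =>
    haveI := hL j hj
    ModuleCat.isZero_of_subsingleton _
  haveI := isGE_upper (ModuleCat.restrictScalars.{u} ψ.toRingHom) adj L 0
  haveI : (Dual2.shriekVia n Rψ (Dual.inD R R)).IsGE (0 - n) :=
    DerivedCategory.TStructure.t.isGE_shift _ 0 n (0 - n) (by omega)
  exact ModuleCat.subsingleton_of_isZero (DerivedCategory.isZero_of_isGE _ (0 - n : ℤ) i (by omega))

/-- Quasi-finiteness at a point of a spectrum. -/
theorem quasiFiniteAt_of_SpecMap {R S : Type u} [CommRing R] [CommRing S] [Algebra R S] [Algebra.FiniteType R S]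
    (z : PrimeSpectrum S) (h : (Spec.map (CommRingCat.ofHom (algebraMap R S))).QuasiFiniteAt z) :
    Algebra.QuasiFiniteAt R z.asIdeal := by
  haveI : LocallyOfFiniteType (Spec.map (CommRingCat.ofHom (algebraMap R S))) :=
    (HasRingHomProperty.Spec_iff (P := @LocallyOfFiniteType)).2 (RingHom.finiteType_algebraMap.2 inferInstance)
  rw [Scheme.Hom.quasiFiniteAt_iff_isOpen_singleton_asFiber,
    ← ((Spec.map (CommRingCat.ofHom (algebraMap R S))).fiberHomeo _).isOpen_image] at h
  simp only [Set.image_singleton, Scheme.Hom.asFiber, Homeomorph.apply_symm_apply] at h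
  exact (Algebra.quasiFiniteAt_iff_isOpen_singleton_fiber (R := R) z).2 h

/-- A quasi-finite chart to affine space near a prime. -/
theorem exists_ring_chart {R A : Type u} [CommRing R] [CommRing A] [Algebra R A] [Algebra.FiniteType R A]
    (q : PrimeSpectrum A) (d : ℕ)
    (hd : FlatMor.fibreDimAt (Spec.map (CommRingCat.ofHom (algebraMap R A))) q ≤ (d : WithBot ℕ∞)) :
    ∃ (g : A) (_ : g ∉ q.asIdeal) (q' : PrimeSpectrum (Localization.Away g)),
      PrimeSpectrum.comap (algebraMap A (Localization.Away g)) q' = q ∧ ∃ (m : ℕ) (b : Fin m → Localization.Away g),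
        m ≤ d ∧ (Spec.map (CommRingCat.ofHom (MvPolynomial.aeval (R := R) b).toRingHom)).QuasiFiniteAt q' := by
  let φ₀ : CommRingCat.of R ⟶ CommRingCat.of A := CommRingCat.ofHom (algebraMap R A)
  let f := Spec.map φ₀
  haveI : LocallyOfFiniteType f := (HasRingHomProperty.Spec_iff (P := @LocallyOfFiniteType)).2
    (RingHom.finiteType_algebraMap.2 inferInstance)
  let x : Spec (CommRingCat.of A) := q
  have hx' : FlatMor.localDim (f ⁻¹' {f x} : Set (Spec (CommRingCat.of A))) ⟨x, rfl⟩ ≤ (d : WithBot ℕ∞) := by
    rw [← FibDim14.fibreDimAt_eq_localDim_preimage]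
    exact hd
  obtain ⟨W, hW⟩ := TopDimLib.exists_localDim_eq (X := (f ⁻¹' {f x} : Set (Spec (CommRingCat.of A)))) ⟨x, rfl⟩
  obtain ⟨O, hO, hOW⟩ := isOpen_induced_iff.1 W.1.isOpen
  have hxO : x ∈ O := by
    have hxW : (⟨x, rfl⟩ : (f ⁻¹' {f x} : Set (Spec (CommRingCat.of A)))) ∈ (W.1 : Set (f ⁻¹' {f x} : Set (Spec (CommRingCat.of A)))) := W.2
    rw [← hOW] at hxW
    exact hxW
  obtain ⟨_, ⟨g, rfl⟩, hxg, hgO⟩ := PrimeSpectrum.isTopologicalBasis_basic_opens.exists_subset_of_mem_open hxO hO
  obtain ⟨q', hq'⟩ : q ∈ Set.range (PrimeSpectrum.comap (algebraMap A (Localization.Away g))) := by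
    rw [PrimeSpectrum.localization_away_comap_range (Localization.Away g) g]; exact hxg
  let φ : CommRingCat.of R ⟶ CommRingCat.of (Localization.Away g) := CommRingCat.ofHom (algebraMap R (Localization.Away g))
  let e : Spec (CommRingCat.of (Localization.Away g)) ⟶ Spec (CommRingCat.of A) :=
    Spec.map (CommRingCat.ofHom (algebraMap A (Localization.Away g)))
  haveI : IsOpenImmersion e := IsOpenImmersion.of_isLocalization g
  have he : e ≫ f = Spec.map φ := by
    rw [← Spec.map_comp, ← CommRingCat.ofHom_comp, ← IsScalarTower.algebraMap_eq]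
  have hex : e q' = x := hq'
  have hlift : ∀ t, f (e t) = Spec.map φ t := fun t => by rw [← Scheme.Hom.comp_apply, he]
  have hbound : topologicalKrullDim ((Spec.map φ) ⁻¹' {Spec.map φ q'} : Set _) ≤ (d : WithBot ℕ∞) := by
    refine le_trans ?_ (hW.le.trans hx')
    let T : Set _ := (Spec.map φ) ⁻¹' {Spec.map φ q'}
    have hmemF : ∀ t : T, e t.1 ∈ f ⁻¹' {f x} := fun t => by
      show f (e t.1) = f x
      rw [← hex, hlift, hlift, show Spec.map φ t.1 = Spec.map φ q' from t.2]
    have hmemW : ∀ t : T, (⟨_, hmemF t⟩ : (f ⁻¹' {f x} : Set (Spec (CommRingCat.of A)))) ∈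
        (W.1 : Set (f ⁻¹' {f x} : Set (Spec (CommRingCat.of A)))) := fun t => by
      rw [← hOW]
      exact hgO ((PrimeSpectrum.localization_away_comap_range (Localization.Away g) g).subset ⟨t.1, rfl⟩)
    exact Topology.IsInducing.topologicalKrullDim_le
      (f := fun t : T => (⟨⟨_, hmemF t⟩, hmemW t⟩ : (W.1 : Set (f ⁻¹' {f x} : Set (Spec (CommRingCat.of A))))))
      (Topology.IsInducing.of_comp (by fun_prop) (continuous_subtype_val.comp continuous_subtype_val)
        (e.isEmbedding.isInducing.comp Topology.IsInducing.subtypeVal))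
  obtain ⟨m, b, hm, hqf⟩ := QFAffine4.exists_qfAt_spec φ (RingHom.finiteType_algebraMap.2 inferInstance) q' hbound
  have halg : (φ.hom.toAlgebra : Algebra R (Localization.Away g)) = (inferInstance : Algebra R (Localization.Away g)) := Algebra.algebra_ext _ _ fun r => rfl
  refine ⟨g, hxg, q', hq', m, b, hm, ?_⟩
  revert hqf
  rw [halg]
  exact id

/-- The vanishing through a finite algebra over affine space. -/
theorem subsingleton_lbc_low {R A : Type u} [CommRing R] [CommRing A] [IsNoetherianRing R] [IsNoetherianRing A]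
    [Algebra R A] (n : ℕ) (ψ : MvPolynomial (Fin n) R →ₐ[R] A) (hψ : Function.Surjective ψ)
    [DRing.HasLBaseChange (algebraMap R (MvPolynomial (Fin n) R))]
    {Rψ : Dual.D (MvPolynomial (Fin n) R) ⥤ Dual.D A} (adj : DRing.restrictD ψ.toRingHom ⊣ Rψ)
    (m : ℕ) (P' S' T : Type u) [CommRing P'] [CommRing S'] [CommRing T] [Algebra R P'] [Algebra R S'] [Algebra R T]
    [Algebra P' S'] [Algebra S' T] [Algebra A T] [IsScalarTower R P' S'] [IsScalarTower R S' T] [IsScalarTower R A T]
    [IsNoetherianRing P'] [IsNoetherianRing S'] [IsNoetherianRing T] [_root_.Module.Finite P' S'] [Algebra.FiniteType R T]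
    (θP : MvPolynomial (Fin m) R →ₐ[R] P') (hθP : Function.Surjective θP)
    (hopenA : IsOpenImmersion (Spec.map (CommRingCat.ofHom (algebraMap A T))))
    (hopenS : IsOpenImmersion (Spec.map (CommRingCat.ofHom (algebraMap S' T))))
    [DRing.HasLBaseChange (algebraMap A T)] (i : ℤ) (hi : i < -(m : ℤ)) :
    Subsingleton (Dual.HD T ((DRing.LBaseChange (algebraMap A T)).obj (Dual2.shriekVia n Rψ (Dual.inD R R))) i) := by
  haveI : Algebra.FiniteType R P' := Algebra.FiniteType.of_surjective θP hθP
  have hflatS : (algebraMap S' T).Flat := by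
    haveI := hopenS
    exact (HasRingHomProperty.Spec_iff (P := @Flat)).1
      (inferInstance : Flat (Spec.map (CommRingCat.ofHom (algebraMap S' T))))
  haveI : Algebra.FiniteType P' S' := inferInstance
  haveI : Algebra.FiniteType R S' := Algebra.FiniteType.trans (S := P') inferInstance inferInstance
  haveI : Algebra.FiniteType S' T := Algebra.FiniteType.of_restrictScalars_finiteType R _ _
  haveI : Algebra.FiniteType A T := Algebra.FiniteType.of_restrictScalars_finiteType R _ _
  obtain ⟨nS, θS, hθS⟩ := Algebra.FiniteType.iff_quotient_mvPolynomial''.1 (inferInstance : Algebra.FiniteType P' S')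
  obtain ⟨nR, θR, hθR⟩ := Algebra.FiniteType.iff_quotient_mvPolynomial''.1 (inferInstance : Algebra.FiniteType R S')
  obtain ⟨nT, θT, hθT⟩ := Algebra.FiniteType.iff_quotient_mvPolynomial''.1 (inferInstance : Algebra.FiniteType S' T)
  obtain ⟨nA, θA, hθA⟩ := Algebra.FiniteType.iff_quotient_mvPolynomial''.1 (inferInstance : Algebra.FiniteType A T)
  obtain ⟨nU, θU, hθU⟩ := Algebra.FiniteType.iff_quotient_mvPolynomial''.1 (inferInstance : Algebra.FiniteType R T)
  haveI := DQC.hasLBaseChange (algebraMap R (MvPolynomial (Fin m) R))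
  haveI := DQC.hasLBaseChange (algebraMap P' (MvPolynomial (Fin nS) P'))
  haveI := DQC.hasLBaseChange (algebraMap R (MvPolynomial (Fin nR) R))
  haveI := DQC.hasLBaseChange (algebraMap S' (MvPolynomial (Fin nT) S'))
  haveI := DQC.hasLBaseChange (algebraMap A (MvPolynomial (Fin nA) A))
  haveI := DQC.hasLBaseChange (algebraMap R (MvPolynomial (Fin nU) R))
  haveI := DQC.hasLBaseChange (algebraMap S' T)
  haveI := isLeftAdjoint_restrictD θP.toRingHom
  haveI := isLeftAdjoint_restrictD θS.toRingHom
  haveI := isLeftAdjoint_restrictD θR.toRingHom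
  haveI := isLeftAdjoint_restrictD θT.toRingHom
  haveI := isLeftAdjoint_restrictD θA.toRingHom
  haveI := isLeftAdjoint_restrictD θU.toRingHom
  haveI := isLeftAdjoint_restrictD (algebraMap P' S')
  let aP := Adjunction.ofIsLeftAdjoint (DRing.restrictD θP.toRingHom)
  let aS := Adjunction.ofIsLeftAdjoint (DRing.restrictD θS.toRingHom)
  let aR := Adjunction.ofIsLeftAdjoint (DRing.restrictD θR.toRingHom)
  let aT := Adjunction.ofIsLeftAdjoint (DRing.restrictD θT.toRingHom)
  let aA := Adjunction.ofIsLeftAdjoint (DRing.restrictD θA.toRingHom)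
  let aU := Adjunction.ofIsLeftAdjoint (DRing.restrictD θU.toRingHom)
  let aF := Adjunction.ofIsLeftAdjoint (DRing.restrictD (algebraMap P' S'))
  have h0 : ∀ i : ℤ, i < 0 → Subsingleton (Dual.HD R (Dual.inD R R) i) := fun i hi =>
    ModuleCat.subsingleton_of_isZero (DerivedCategory.isZero_of_isGE _ 0 i hi)
  let ω := Dual2.shriekVia n Rψ (Dual.inD R R)
  let ωP := Dual2.shriekVia m (DRing.restrictD θP.toRingHom).rightAdjoint (Dual.inD R R)
  let ωS := Dual2.shriekVia nR (DRing.restrictD θR.toRingHom).rightAdjoint (Dual.inD R R)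
  obtain ⟨c₁⟩ := nonempty_via_comp m θP hθP aP nS θS hθS aS nR θR hθR aR (Dual.inD R R) 0 h0
  obtain ⟨f₁⟩ := nonempty_via_finite nS θS hθS aS aF ωP
  haveI : ωP.IsGE (-(m : ℤ)) := (DerivedCategory.isGE_iff _ _).2 fun i hi =>
    haveI := subsingleton_via_low_vars m θP aP i hi
    ModuleCat.isZero_of_subsingleton _
  haveI := isGE_upper (ModuleCat.restrictScalars.{u} (algebraMap P' S')) aF ωP (-(m : ℤ))
  have hS : ∀ i : ℤ, i < -(m : ℤ) → Subsingleton (Dual.HD S' ωS i) := fun i hi =>
    ModuleCat.subsingleton_of_isZero ((DerivedCategory.isZero_of_isGE _ (-(m : ℤ)) i hi).of_iso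
      ((DerivedCategory.homologyFunctor _ i).mapIso (c₁ ≪≫ f₁)))
  obtain ⟨c₂⟩ := nonempty_via_comp nR θR hθR aR nT θT hθT aT nU θU hθU aU (Dual.inD R R) 0 h0
  obtain ⟨o₂⟩ := nonempty_via_open hopenS nT θT hθT aT ωS
  obtain ⟨c₃⟩ := nonempty_via_comp n ψ hψ adj nA θA hθA aA nU θU hθU aU (Dual.inD R R) 0 h0
  obtain ⟨o₃⟩ := nonempty_via_open hopenA nA θA hθA aA ω
  haveI := hS i hi
  haveI := subsingleton_HD_lbc (algebraMap S' T) hflatS ωS i
  exact ModuleCat.subsingleton_of_isZero ((ModuleCat.isZero_of_subsingleton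
    ((DerivedCategory.homologyFunctor (ModuleCat.{u} T) i).obj ((DRing.LBaseChange (algebraMap S' T)).obj ωS))).of_iso
      ((DerivedCategory.homologyFunctor _ i).mapIso (o₃.symm ≪≫ c₃.symm ≪≫ c₂ ≪≫ o₂)))

/-- Two localisations at elements compose to an open immersion. -/
theorem isOpenImmersion_away_away {A : Type u} [CommRing A] (g : A) (r : Localization.Away g) :
    IsOpenImmersion (Spec.map (CommRingCat.ofHom (algebraMap A (Localization.Away r)))) := by
  rw [IsScalarTower.algebraMap_eq A (Localization.Away g) (Localization.Away r), CommRingCat.ofHom_comp, Spec.map_comp]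
  haveI : IsOpenImmersion (Spec.map (CommRingCat.ofHom (algebraMap A (Localization.Away g)))) :=
    IsOpenImmersion.of_isLocalization g
  haveI : IsOpenImmersion (Spec.map (CommRingCat.ofHom (algebraMap (Localization.Away g) (Localization.Away r)))) :=
    IsOpenImmersion.of_isLocalization r
  infer_instance

/-- A subalgebra with the same localisation is an open subscheme. -/
theorem isOpenImmersion_subalgebra {P B : Type u} [CommRing P] [CommRing B] [Algebra P B] (S' : Subalgebra P B)
    (r : S') (hbij : Function.Bijective (Localization.awayMap S'.val.toRingHom r)) :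
    IsOpenImmersion (Spec.map (CommRingCat.ofHom (algebraMap S' (Localization.Away (r : B))))) := by
  have heq : algebraMap S' (Localization.Away (r : B)) =
      (Localization.awayMap S'.val.toRingHom r).comp (algebraMap S' (Localization.Away r)) := by
    refine RingHom.ext fun t => ?_
    show algebraMap B (Localization.Away (r : B)) (t : B) =
      Localization.awayMap S'.val.toRingHom r (algebraMap S' _ t)
    simp only [Localization.awayMap, IsLocalization.Away.map, IsLocalization.map_eq]
    rfl
  rw [heq, CommRingCat.ofHom_comp, Spec.map_comp]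
  haveI : IsIso (CommRingCat.ofHom (Localization.awayMap S'.val.toRingHom r)) :=
    (RingEquiv.ofBijective _ hbij).toCommRingCatIso.isIso_hom
  haveI : IsOpenImmersion (Spec.map (CommRingCat.ofHom (algebraMap S' (Localization.Away r)))) :=
    IsOpenImmersion.of_isLocalization r
  infer_instance

/-- The base change of a module to a localisation as a localised module. -/
theorem subsingleton_localized_of_ext {A T : Type u} [CommRing A] [CommRing T] [Algebra A T] (h : A)
    [IsLocalization.Away h T] (M : ModuleCat.{u} A)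
    [Subsingleton ((ModuleCat.extendScalars.{u, u, u} (algebraMap A T)).obj M)] :
    Subsingleton (LocalizedModule (Submonoid.powers h) M) := by
  let eT : T ≃ₗ[A] ((ModuleCat.restrictScalars.{u} (algebraMap A T)).obj (ModuleCat.of T T)) :=
    { toFun := id, invFun := id, map_add' := fun _ _ => rfl, left_inv := fun _ => rfl, right_inv := fun _ => rfl
      map_smul' := fun a t => Algebra.smul_def a t }
  let e := TensorProduct.congr eT (LinearEquiv.refl A M)
  haveI : Subsingleton (TensorProduct A T M) := by
    haveI : Subsingleton (TensorProduct A ((ModuleCat.restrictScalars.{u} (algebraMap A T)).obj (ModuleCat.of T T)) M) :=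
      ‹Subsingleton ((ModuleCat.extendScalars.{u, u, u} (algebraMap A T)).obj M)›
    exact e.toEquiv.subsingleton
  exact (IsLocalizedModule.iso (Submonoid.powers h) (TensorProduct.mk A T M 1)).toEquiv.subsingleton

set_option maxHeartbeats 4000000 in
/-- Near a prime the upper shriek of the base vanishes below minus the fibre dimension. -/
theorem exists_away_low {R A : Type u} [CommRing R] [CommRing A] [IsNoetherianRing R] [IsNoetherianRing A]
    [Algebra R A] (n : ℕ) (ψ : MvPolynomial (Fin n) R →ₐ[R] A) (hψ : Function.Surjective ψ)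
    [DRing.HasLBaseChange (algebraMap R (MvPolynomial (Fin n) R))]
    {Rψ : Dual.D (MvPolynomial (Fin n) R) ⥤ Dual.D A} (adj : DRing.restrictD ψ.toRingHom ⊣ Rψ)
    (q : PrimeSpectrum A) (d : ℕ)
    (hd : FlatMor.fibreDimAt (Spec.map (CommRingCat.ofHom (algebraMap R A))) q ≤ (d : WithBot ℕ∞)) :
    ∃ h : A, h ∉ q.asIdeal ∧ ∀ i : ℤ, i < -(d : ℤ) →
      Subsingleton (LocalizedModule (Submonoid.powers h) (Dual.HD A (Dual2.shriekVia n Rψ (Dual.inD R R)) i)) := by
  haveI : Algebra.FiniteType R A := Algebra.FiniteType.of_surjective ψ hψ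
  obtain ⟨g, hg, q', hq', m, b, hm, hqf⟩ := exists_ring_chart q d hd
  let A₁ := Localization.Away g
  let P' := MvPolynomial (Fin m) R
  let β : P' →ₐ[R] A₁ := MvPolynomial.aeval b
  letI : Algebra P' A₁ := β.toRingHom.toAlgebra
  haveI : IsScalarTower R P' A₁ := IsScalarTower.of_algHom β
  haveI : Algebra.FiniteType R A₁ := inferInstance
  haveI : Algebra.FiniteType P' A₁ := Algebra.FiniteType.of_restrictScalars_finiteType R _ _
  haveI : LocallyOfFiniteType (Spec.map (CommRingCat.ofHom β.toRingHom)) :=
    (HasRingHomProperty.Spec_iff (P := @LocallyOfFiniteType)).2 (RingHom.finiteType_algebraMap.2 ‹_›)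
  haveI : Algebra.QuasiFiniteAt P' q'.asIdeal :=
    quasiFiniteAt_of_SpecMap (R := P') (S := A₁) q' hqf
  obtain ⟨S', hS', r, hrq, hbij⟩ :=
    Algebra.QuasiFiniteAt.exists_fg_and_exists_notMem_and_awayMap_bijective (R := P') (S := A₁) q'.asIdeal
  haveI : _root_.Module.Finite P' S' := ⟨(Submodule.fg_top _).mpr hS'⟩
  haveI : IsNoetherianRing S' := IsNoetherianRing.of_finite P' S'
  let T := Localization.Away (r : A₁)
  haveI : IsScalarTower R S' T := IsScalarTower.of_algebraMap_eq (R := R) (S := S') (A := T) fun t => IsScalarTower.algebraMap_apply R A₁ T t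
  haveI : Algebra.FiniteType R T := Algebra.FiniteType.trans (S := A₁) inferInstance inferInstance
  haveI : IsNoetherianRing A₁ := IsLocalization.isNoetherianRing (Submonoid.powers g) _ inferInstance
  haveI : IsNoetherianRing T := IsLocalization.isNoetherianRing (Submonoid.powers (r : A₁)) _ inferInstance
  obtain ⟨a, j, hj⟩ := IsLocalization.exists_mk'_eq (Submonoid.powers g) (r : A₁)
  have hrA : algebraMap A A₁ a = (r : A₁) * algebraMap A A₁ j := by rw [← hj, IsLocalization.mk'_spec]
  let h := g * a
  have hopenA : IsOpenImmersion (Spec.map (CommRingCat.ofHom (algebraMap A T))) :=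
    isOpenImmersion_away_away g (r : A₁)
  have hopenS : IsOpenImmersion (Spec.map (CommRingCat.ofHom (algebraMap S' T))) :=
    isOpenImmersion_subalgebra S' r hbij
  haveI : IsNoetherianRing S' := inferInstance
  refine ⟨h, fun hh => ?_, fun i hi => ?_⟩
  · rcases q.2.mem_or_mem hh with h1 | h1
    · exact hg h1
    · rw [← hq'] at h1
      have h2 : (r : A₁) * algebraMap A A₁ j ∈ q'.asIdeal := hrA ▸ h1
      rcases q'.2.mem_or_mem h2 with h3 | h3
      · exact hrq h3
      · exact hg (q.2.mem_of_pow_mem j.2.choose (by rw [show g ^ j.2.choose = (j : A) from j.2.choose_spec, ← hq']; exact h3))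
  · haveI := DQC.hasLBaseChange (algebraMap A T)
    have hflatA : (algebraMap A T).Flat := by
      haveI := hopenA
      exact (HasRingHomProperty.Spec_iff (P := @Flat)).1
        (inferInstance : Flat (Spec.map (CommRingCat.ofHom (algebraMap A T))))
    have hz := subsingleton_lbc_low n ψ hψ adj m P' S' T (AlgHom.id R P') Function.surjective_id hopenA hopenS i (by omega)
    let ω := Dual2.shriekVia n Rψ (Dual.inD R R)
    obtain ⟨e⟩ := S1783.hd_ext (algebraMap A T) hflatA ω i
    haveI : Subsingleton ((DerivedCategory.homologyFunctor (ModuleCat.{u} T) i).obj ((DRing.LBaseChange (algebraMap A T)).obj ω)) := hz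
    haveI := e.toLinearEquiv.toEquiv.symm.subsingleton
    haveI : IsLocalization.Away h T := by
      have : IsLocalization.Away (algebraMap A A₁ a) T :=
        IsLocalization.Away.of_associated (r := (r : A₁)) (by
          rw [hrA]
          exact (associated_mul_unit_right _ _ (IsLocalization.map_units A₁ j)))
      show IsLocalization.Away (g * a) T
      rw [mul_comm g a]
      exact IsLocalization.Away.mul A₁ T g a
    exact subsingleton_localized_of_ext (T := T) h ((DerivedCategory.homologyFunctor (ModuleCat.{u} A) i).obj ω)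

end Groth.Agent.BC8
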