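import Groth.Agent.Lib.BC8.RegShriek
import Groth.Agent.Lib.BC8.SmoothDiag
import Groth.Agent.Lib.FMBase13.Functors
import Groth.Agent.S13585
import Groth.Agent.S1515

/-! `f^!O ≅ Ωⁿ[n]` for smooth morphisms of Noetherian schemes. -/

set_option autoImplicit false
set_option linter.style.haveILetI false
set_option linter.unusedSectionVars false
set_option backward.isDefEq.respectTransparency false
set_option backward.isDefEq.respectTransparency.types false
set_option maxHeartbeats 1000000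

universe u

open CategoryTheory CategoryTheory.Limits AlgebraicGeometry MonoidalCategory

attribute [local instance] HasDerivedCategory.standard

namespace Groth.Agent.BC8

open DMon9

variable {X : Scheme.{u}}

/-- Left and right tensoring agree. -/
theorem nonempty_tenL_tenR (G : DCoh.D X) : Nonempty (tenL G ≅ tenR G) := by
  obtain ⟨K, ⟨eK⟩⟩ := exists_qM (G : DCoh.D X)
  haveI := KFlat.Sch.hasLTensorCx K.obj
  obtain ⟨c⟩ := nonempty_commIso K
  let g : (qM X).obj K ≅ (G : DM X) := (eK :)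
  exact ⟨(((MonoidalCategory.tensoringLeft (DM X)).mapIso g).symm :) ≪≫ c ≪≫
    ((MonoidalCategory.tensoringRight (DM X)).mapIso g :)⟩

/-- Solving `D[-n] ⊗ F ≅ O`. -/
theorem nonempty_of_ten_shift {L D : X.Modules} (hL : PicF.IsInvertible L)
    (e : CohB1.tensorMod D L ≅ Coh.structureModule X) (n : ℤ) (F G : DCoh.D X)
    (eG : G ≅ ((DerivedCategory.singleFunctor X.Modules n).obj D))
    (h : (tenL G).obj F ≅ TwistBC9.oneD X 0) : Nonempty (F ≅ (DCoh.inD X L)⟦n⟧) := by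
  let D₀ : DCoh.D X := (DerivedCategory.singleFunctor X.Modules 0).obj D
  let eG' : G ≅ D₀⟦-n⟧ := eG ≪≫
    (((DerivedCategory.singleFunctors X.Modules).shiftIso (-n) n 0 (by omega)).app D).symm
  obtain ⟨s⟩ := FMBase13.nonempty_shift_tensor (X := X) n
  obtain ⟨c⟩ := nonempty_tenL_tenR G
  let F' : DM X := F
  let A : DM X := TwistBC9.modM D
  let B : DM X := TwistBC9.oneM X n
  let G' : DM X := G
  let g : G' ≅ A ⊗ B := (eG' ≪≫ (s.app D₀).symm :)
  let O' : DM X := TwistBC9.oneD X 0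
  let h₁ : F' ⊗ G' ≅ O' := ((c.app F).symm ≪≫ h :)
  let h₂ : (F' ⊗ A) ⊗ B ≅ O' := α_ F' A B ≪≫ whiskerLeftIso F' g.symm ≪≫ h₁
  let h₃ : ((TwistBC9.tenF D).obj F)⟦-n⟧ ≅ TwistBC9.oneD X 0 := (s.app _).symm ≪≫ (h₂ :)
  let h₄ : (TwistBC9.tenF D).obj F ≅ TwistBC9.oneD X (-n) :=
    ((shiftFunctorCompIsoId (DCoh.D X) (-n) n (by omega)).app _).symm ≪≫
      (shiftFunctor _ n).mapIso h₃ ≪≫ shiftOne X n
  obtain ⟨k⟩ := FMBase13.nonempty_tenCancel hL e
  let L₀ : DCoh.D X := (DerivedCategory.singleFunctor X.Modules 0).obj L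
  obtain ⟨t⟩ := nonempty_tenL_one (-n) (TwistBC9.oneD X (-n)) (Iso.refl _)
  exact ⟨(k.app F).symm ≪≫ (TwistBC9.tenF L).mapIso h₄ ≪≫ (Iso.refl _ :
      (TwistBC9.tenF L).obj (TwistBC9.oneD X (-n)) ≅ (tenL (TwistBC9.oneD X (-n))).obj L₀) ≪≫
    t.app L₀ ≪≫ eqToIso (by rw [neg_neg])⟩

theorem diag_of_graph {S : Scheme.{u}} {p q : X ⟶ S} (h : p = q) (w : 𝟙 X ≫ p = 𝟙 X ≫ q)
    (P : ∀ {W : Scheme.{u}}, (X ⟶ W) → Prop) (hP : P (pullback.lift (𝟙 X) (𝟙 X) w)) : P (pullback.diagonal q) := by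
  subst h
  exact hP

variable {Y Xb : Scheme.{u}} [IsNoetherian Y] (f : X ⟶ Y) (n : ℕ) [SmoothOfRelativeDimension n f] [IsSeparated f]
  [QuasiCompact f] (p : Xb ⟶ Y) [IsProper p]
  (j : X ⟶ Xb) [IsOpenImmersion j] (hfac : j ≫ p = f) [DCoh.HasRpush p] {hp : DCoh.RpushPreservesQCoh p}
  {a : DCoh.DQCoh Y ⥤ DCoh.DQCoh Xb} (adj : DCoh.RpushQ p hp ⊣ a)

include hfac adj in
/-- `f^!O ≅ Ωⁿ[n]`. -/
theorem nonempty_smooth_shriek (L : X.Modules) (hL : ExtPow.IsExtPow n (Omega.sheaf f) L) :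
    Nonempty ((lP j).obj (a.obj (oQ Y)).obj ≅ (DCoh.inD X L)⟦(n : ℤ)⟧) := by
  haveI : Smooth f := SmoothOfRelativeDimension.smooth n f
  haveI : IsLocallyNoetherian X := LocallyOfFiniteType.isLocallyNoetherian f
  haveI : CompactSpace X := QuasiCompact.compactSpace_of_compactSpace f
  haveI : IsNoetherian X := { }
  haveI : IsLocallyNoetherian (pullback f f) := LocallyOfFiniteType.isLocallyNoetherian (pullback.fst f f ≫ f)
  haveI : CompactSpace (pullback f f : Scheme.{u}) := QuasiCompact.compactSpace_of_compactSpace (pullback.fst f f ≫ f)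
  haveI : IsNoetherian (pullback f f) := { }
  haveI := DBC9.hasRpush (pullback.diagonal f)
  let hΔ := rpushPreserves (pullback.diagonal f)
  haveI := isLeftAdjoint_rpushQ (pullback.diagonal f) hΔ
  let adjΔ := Adjunction.ofIsLeftAdjoint (DCoh.RpushQ (pullback.diagonal f) hΔ)
  obtain ⟨d⟩ := nonempty_shriek_diag f p j hfac adj adjΔ (oQ _) (unitIso (Iso.refl _))
  let L' := (Scheme.Modules.pullback (𝟙 X)).obj L
  have hgr := diag_of_graph (Category.id_comp f) (Category.id_comp (𝟙 X ≫ f))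
    (fun k => RegImm.IsRegularImmersionOfCodim RegImm.Kind.regular n k ∧
      ExtPow.IsExtPow n (Omega.conormal k) L')
    (S13585.result (𝟙 X) f n L hL)
  obtain ⟨r⟩ := nonempty_regImm_shriek (pullback.diagonal f) adjΔ n hgr.1 ((S1515.result f).1.1 inferInstance).2 L' hgr.2
  have hL' : PicF.IsInvertible L' := FundIso12.isInvertible_det (pullback.diagonal f) hgr.1 hgr.2
  obtain ⟨D, hD, ⟨e⟩⟩ := M2.exists_inverse hL'
  obtain ⟨i⟩ := ES11.nonempty_dual_iso_of_inverse hL' e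
  let e' : CohB1.tensorMod (CohMop.dual L') L' ≅ Coh.structureModule X :=
    M2.tensorIso i (Iso.refl _) ≪≫ M2.tensorComm D L' ≪≫ e
  obtain ⟨l⟩ := TwistBC9.nonempty_lP_oneM f 0
  obtain ⟨F⟩ := nonempty_of_ten_shift hL' e' (n : ℤ) ((lP j).obj (a.obj (oQ Y)).obj) _ r
    ((d.app ⟨oQ Y, isBdd_oQ Y⟩).symm ≪≫ l)
  exact ⟨F ≪≫ (shiftFunctor _ (n : ℤ)).mapIso
    ((DerivedCategory.singleFunctor X.Modules 0).mapIso ((Scheme.Modules.pullbackId X).app L))⟩

end Groth.Agent.BC8
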