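import Groth.Agent.Lib.BC8.Gen
import Groth.Agent.Lib.DMon9.LPExtra
import Groth.Agent.Lib.DPush.Affine
import Groth.Agent.Lib.DPerf.Top

/-!
Supports of the right adjoint.
-/

set_option autoImplicit false
set_option linter.unusedSectionVars false
set_option linter.style.haveILetI false
set_option backward.isDefEq.respectTransparency false
set_option backward.isDefEq.respectTransparency.types false
set_option maxHeartbeats 800000

universe u

open CategoryTheory CategoryTheory.Limits MonoidalCategory AlgebraicGeometry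

attribute [local instance] HasDerivedCategory.standard

namespace Groth.Agent.BC8

open DMon9

variable {X Y : Scheme.{u}}

theorem isZero_resD_iff (K : DCoh.D Y) (V : Y.Opens) :
    IsZero ((DPerf.resD V.ι).obj K) ↔ ∀ i : ℤ, IsZero ((DCoh.HD K i).restrict V.ι) := by
  refine ⟨fun h i => ((DerivedCategory.homologyFunctor _ i).map_isZero h).of_iso (DPerf.hdResIso V.ι K i).symm,
    fun h => DPush.isZero_of_isZero_HD _ fun i => (h i).of_iso (DPerf.hdResIso V.ι K i)⟩

variable {f : X ⟶ Y} [DCoh.HasRpush f] {hf : DCoh.RpushPreservesQCoh f}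
  [QuasiCompact f] [QuasiSeparated f] [CompactSpace X] [QuasiSeparatedSpace X] [CompactSpace Y] [QuasiSeparatedSpace Y]
  {a : DCoh.DQCoh Y ⥤ DCoh.DQCoh X} (adj : DCoh.RpushQ f hf ⊣ a)

include adj in
/-- The right adjoint respects supports when it preserves coproducts. -/
theorem isZero_restrict_a (hcop : ∀ J : Type u, PreservesColimitsOfShape (Discrete J) a) (V : Y.Opens)
    (Q : DCoh.DQCoh Y) (hQ : ∀ i : ℤ, IsZero ((DCoh.HD Q.obj i).restrict V.ι)) (i : ℤ) :
    IsZero ((DCoh.HD (a.obj Q).obj i).restrict (f ⁻¹ᵁ V).ι) := by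
  refine (isZero_resD_iff _ _).1 ?_ i
  let j := (f ⁻¹ᵁ V).ι
  let O : DCoh.DQCoh Y := ⟨((𝟙_ (DM Y) : DM Y) : DCoh.D Y), isQCohD_one⟩
  let eO : (O.obj : DM Y) ≅ 𝟙_ (DM Y) := Iso.refl _
  haveI := Dual8.isIso_cmp adj O eO hcop Q
  refine (?_ : IsZero ((DPerf.resD j).obj (Dual8.mq f (a.obj O) Q).obj)).of_iso
    ((DPerf.resD j).mapIso (asIso (Dual8.cmp adj O eO Q).hom)).symm
  refine IsZero.of_iso ?_ ((lPRes j).app _).symm
  have hQ0 : IsZero ((lP V.ι).obj Q.obj) := ((isZero_resD_iff _ _).2 hQ).of_iso ((lPRes V.ι).app _)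
  let w : (f ∣_ V) ≫ V.ι = j ≫ f := morphismRestrict_ι f V
  haveI : DCoh.HasRpush (f ∣_ V) := KInjLib.hasRightDerivedFunctor KInjLib.enoughKInj_of_grothendieck _
  haveI : (lP (f ∣_ V)).IsLeftAdjoint := (adjLP (f ∣_ V)).isLeftAdjoint
  haveI : (lP (f ∣_ V)).PreservesZeroMorphisms := Functor.preservesZeroMorphisms_of_isLeftAdjoint _
  have h1 : IsZero ((lP j).obj ((lP f).obj Q.obj)) :=
    ((lP (f ∣_ V)).map_isZero hQ0 |>.of_iso
      ((lPComp (f ∣_ V) V.ι w).app Q.obj ≪≫ ((lPComp j f rfl).app Q.obj).symm).symm)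
  let EM : DM X := (a.obj O).obj
  let QM : DM Y := Q.obj
  let T : DCoh.D (f ⁻¹ᵁ V : Scheme.{u}) ⥤ DCoh.D (f ⁻¹ᵁ V : Scheme.{u}) :=
    (tensorLeft ((dPull j).obj EM) : DM (f ⁻¹ᵁ V : Scheme.{u}) ⥤ DM (f ⁻¹ᵁ V : Scheme.{u}))
  haveI : T.IsLeftAdjoint := isLeftAdjoint_tensorLeft _
  haveI : T.PreservesZeroMorphisms := Functor.preservesZeroMorphisms_of_isLeftAdjoint T
  exact (T.map_isZero h1).of_iso (Functor.Monoidal.μIso (dPull j) EM ((dPull f).obj QM)).symm

end Groth.Agent.BC8
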