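import Groth.Agent.Lib.BC8.LE
import Groth.Agent.Lib.BC8.Gen
import Groth.Agent.Lib.DGen9.GlobalApprox
import Groth.Agent.Lib.DGen9.LiftQC
import Groth.Agent.Lib.DGen9.Gen
import Groth.Agent.Lib.ResDesc11.Basic
import Groth.Agent.Lib.DPerf.OneDegree

/-!
Supports of the right adjoint of `Rf_*` on bounded below objects, over an affine base.
-/

set_option autoImplicit false
set_option linter.unusedSectionVars false
set_option linter.style.haveILetI false
set_option backward.isDefEq.respectTransparency false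
set_option backward.isDefEq.respectTransparency.types false
set_option maxHeartbeats 800000

universe u

open CategoryTheory CategoryTheory.Limits MonoidalCategory AlgebraicGeometry Pretriangulated

attribute [local instance] HasDerivedCategory.standard

namespace Groth.Agent.BC8

open DMon9

variable {X Y : Scheme.{u}}

theorem isIso_lP_res (j : X ⟶ Y) [IsOpenImmersion j] {A B : DCoh.D Y} (v : A ⟶ B) :
    IsIso ((lP j).map v) ↔ IsIso ((DPerf.resD j).map v) :=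
  NatIso.isIso_map_iff (lPRes j) v

noncomputable local instance preadditiveDM (X : Scheme.{u}) : Preadditive (DM X) :=
  inferInstanceAs (Preadditive (DCoh.D X))

theorem isPerfect_one : DCoh.IsPerfect ((𝟙_ (DM X) : DM X) : DCoh.D X) :=
  DPerf.isPerfect_iff_approx.2 (DPerf.approx_inD_of_isFinLocFree (ResDesc11.isFinLocFree_structureModule X))

/-- Perfect objects have, up to retracts, pseudo-coherent direct images. -/
def QP (f : X ⟶ Y) [DCoh.HasRpush f] : Prop :=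
  ∀ R₀ : DCoh.D X, DCoh.IsPerfect R₀ → ∃ (R : DCoh.D X) (i : R₀ ⟶ R) (p : R ⟶ R₀),
    DCoh.IsPerfect R ∧ i ≫ p = 𝟙 R₀ ∧ ∀ m : ℤ, DCoh.IsPseudoCoherentD m ((DCoh.Rpush f).obj R)

/-- A class killed on a basic open is killed by an endomorphism of the unit invertible there. -/
theorem exists_kill [IsAffine Y] (a : Γ(Y, ⊤)) {H : DCoh.D Y} (hH : DCoh.IsQCohD H)
    (hHV : IsZero ((DPerf.resD (Y.basicOpen a).ι).obj H)) {O : DCoh.D Y} (hO : DCoh.IsPerfect O) (η : O ⟶ H) :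
    ∃ s : O ⟶ O,
      IsIso ((DPerf.resD (Y.basicOpen a).ι).map s) ∧ s ≫ η = 0 := by
  let V := Y.basicOpen a
  let T : Set Y := (V : Set Y)ᶜ
  let e := Y.isoSpec
  have hl : DGen9.Covers e T [a] := fun x => by
    simp only [T, Set.mem_compl_iff, not_not, SetLike.mem_coe, List.mem_singleton, exists_eq_left]
    show x ∈ V ↔ x ∈ e.hom ⁻¹ᵁ PrimeSpectrum.basicOpen a
    rw [show e.hom ⁻¹ᵁ PrimeSpectrum.basicOpen a = V from Y.toSpecΓ_preimage_basicOpen a]
  obtain ⟨MO, hMO, ⟨iO⟩⟩ := DGen9.exists_perfect_tX e (DGen9.isQCohD_of_isPerfect hO) hO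
  obtain ⟨ME, ⟨iE⟩⟩ := DGen9.exists_tX_iso e hH
  have hHT : DGen9.SuppOn T H := by
    refine DGen9.suppOn_mono (le_of_eq ?_) (DGen9.suppOn_of_isZero_resD V.ι hHV)
    erw [Scheme.Opens.range_ι]
  obtain ⟨β, (hβ : (DGen9.tX e).map β = iO.hom ≫ η ≫ iE.inv)⟩ :=
    (DGen9.bijective_tX e MO ME).2 (iO.hom ≫ η ≫ iE.inv)
  obtain ⟨n, hn⟩ := DGen9.kill ((DGen9.suppOn_tX_iff e hl ME).1 (DGen9.suppOn_of_iso iE.symm hHT) a
    List.mem_cons_self) hMO β
  obtain ⟨C, g, h, hT⟩ := distinguished_cocone_triangle (a ^ n • 𝟙 MO)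
  refine ⟨iO.inv ≫ (DGen9.tX e).map (a ^ n • 𝟙 MO) ≫ iO.hom, ?_, ?_⟩
  · have hC : DGen9.SuppOn T ((DGen9.tX e).obj C) :=
      (DGen9.suppOn_tX_iff e hl C).2 fun b hb => by
        obtain rfl := List.mem_singleton.1 hb
        exact DGen9.supp_cone n hT
    have hz : IsZero ((DPerf.resD V.ι).obj ((DGen9.tX e).obj C)) :=
      DGen9.isZero_resD_of_suppOn V.ι hC fun x h => h x.2
    haveI : IsIso ((DPerf.resD V.ι).map ((DGen9.tX e).map (a ^ n • 𝟙 MO))) :=
      (Triangle.isZero₃_iff_isIso₁ _ ((DPerf.resD V.ι).map_distinguished _ ((DGen9.tX e).map_distinguished _ hT))).1 hz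
    rw [Functor.map_comp, Functor.map_comp]
    infer_instance
  · have h1 : (a ^ n • 𝟙 MO) ≫ β = 0 := by rw [Linear.smul_comp, Category.id_comp, hn]
    have h2 : (DGen9.tX e).map (a ^ n • 𝟙 MO) ≫ iO.hom ≫ η ≫ iE.inv = 0 := by
      rw [← hβ, ← Functor.map_comp, h1, Functor.map_zero]
    refine (cancel_mono iE.inv).1 ?_
    simp only [Category.assoc, h2, comp_zero, zero_comp]

variable {f : X ⟶ Y} [DCoh.HasRpush f] {hf : DCoh.RpushPreservesQCoh f}
  [QuasiCompact f] [QuasiSeparated f] [CompactSpace X] [QuasiSeparatedSpace X]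
  {A : DCoh.DQCoh Y ⥤ DCoh.DQCoh X} (adj : DCoh.RpushQ f hf ⊣ A)

include adj in
/-- The right adjoint respects supports on bounded below objects: basic opens of an affine base. -/
theorem isZero_res_basic [IsAffine Y] (hQP : QP f) (a : Γ(Y, ⊤)) (Q : DCoh.DQCoh Y) (c : ℤ) (hQc : Q.obj.IsGE c)
    (hQ : IsZero ((DPerf.resD (Y.basicOpen a).ι).obj Q.obj)) :
    IsZero ((DPerf.resD (f ⁻¹ᵁ Y.basicOpen a).ι).obj (A.obj Q).obj) := by
  haveI := hQc
  let V := Y.basicOpen a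
  let V' := f ⁻¹ᵁ V
  have hV' : IsCompact (V' : Set X) := f.isCompact_preimage ((isAffineOpen_top Y).basicOpen a).isCompact
  haveI : CompactSpace (V' : Scheme.{u}) := isCompact_iff_compactSpace.mp hV'
  haveI : QuasiSeparatedSpace (V' : Scheme.{u}) := V'.ι.isOpenEmbedding.quasiSeparatedSpace
  obtain ⟨G, hG, -, -, hgen⟩ := DGen9.exists_generator_qcqs (V' : Scheme.{u}) Set.univ isClosed_univ
    (by rw [Set.compl_univ]; exact isCompact_empty)
  refine (hgen _ (DQC.isQCohD_resD V'.ι (A.obj Q).property) (DGen9.suppOn_univ _)).2 fun k φ => ?_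
  obtain ⟨R₀, β₀, i₀, p₀, hR₀, -, hip, hφ⟩ := DGen9.lifts_opens V' hV' Set.univ isClosed_univ
    (by rw [Set.compl_univ]; exact isCompact_empty) _ (A.obj Q).property _ (DGen9.isPerfect_shiftD hG k)
    (DGen9.suppOn_univ _) φ
  obtain ⟨R, i, p, hR, hip', hpc⟩ := hQP R₀ hR₀
  suffices hβ : (DPerf.resD V'.ι).map (p ≫ β₀) = 0 by
    rw [← hφ, ← Category.id_comp β₀, ← hip', Category.assoc, Functor.map_comp, hβ, comp_zero, comp_zero]
  let Rq : DCoh.DQCoh X := ⟨R, DGen9.isQCohD_of_isPerfect hR⟩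
  let Oq : DCoh.DQCoh Y := ⟨((𝟙_ (DM Y) : DM Y) : DCoh.D Y), isQCohD_one⟩
  let RM : DM X := R
  let CM : DM Y := (rM f).obj RM
  let QM : DM Y := Q.obj
  let j : RM ⊗ (dPull f).obj (𝟙_ (DM Y)) ≅ RM :=
    whiskerLeftIso RM (Functor.Monoidal.εIso (dPull f)).symm ≪≫ ρ_ RM
  let β : Dual8.mq f Rq Oq ⟶ A.obj Q := ObjectProperty.homMk ((j.hom : (Dual8.mq f Rq Oq).obj ⟶ R) ≫ p ≫ β₀)
  let β' := (adj.homEquiv _ _).symm β
  let P₁ : CM ⊗ 𝟙_ (DM Y) ⟶ (rM f).obj (RM ⊗ (dPull f).obj (𝟙_ (DM Y))) := projApp (adjM f) RM (𝟙_ (DM Y))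
  let x₁ : CM ⊗ 𝟙_ (DM Y) ⟶ QM := P₁ ≫ β'.hom
  obtain ⟨r, hr⟩ := DGen9.exists_approximation Y Set.univ isClosed_univ (by rw [Set.compl_univ]; exact isCompact_empty)
  obtain ⟨P, α, hP, -, hiso, hepi⟩ := hr (c - 1) _ (hf R Rq.property) (hpc _) (fun _ _ => Set.subset_univ _)
  let PM : DM Y := P
  let αM : PM ⟶ CM := α
  obtain ⟨D, hD, ⟨pair⟩⟩ := Dual8.exists_pairing PM hP
  haveI := pair
  have hDQ : IsZero ((DPerf.resD V.ι).obj ((D ⊗ QM : DM Y) : DCoh.D Y)) := by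
    refine IsZero.of_iso ?_ ((lPRes V.ι).app _).symm
    let TL : DCoh.D (V : Scheme.{u}) ⥤ DCoh.D (V : Scheme.{u}) :=
      (tensorLeft ((dPull V.ι).obj D) : DM (V : Scheme.{u}) ⥤ DM (V : Scheme.{u}))
    haveI : TL.IsLeftAdjoint := isLeftAdjoint_tensorLeft _
    haveI : TL.PreservesZeroMorphisms := Functor.preservesZeroMorphisms_of_isLeftAdjoint TL
    exact (TL.map_isZero (hQ.of_iso ((lPRes V.ι).app _))).of_iso (Functor.Monoidal.μIso (dPull V.ι) D QM).symm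
  let η : 𝟙_ (DM Y) ⟶ D ⊗ QM := tensorLeftHomEquiv _ D PM _ (αM ▷ 𝟙_ (DM Y) ≫ x₁)
  have hDQq : DCoh.IsQCohD ((D ⊗ QM : DM Y) : DCoh.D Y) :=
    isQCohD_tensor (DGen9.isQCohD_of_isPerfect hD) Q.property
  obtain ⟨s, hsV, hs⟩ := exists_kill (O := (𝟙_ (DM Y) : DM Y)) a hDQq hDQ isPerfect_one η
  let sM : 𝟙_ (DM Y) ⟶ 𝟙_ (DM Y) := s
  have h0 : PM ◁ sM ≫ αM ▷ 𝟙_ (DM Y) ≫ x₁ = 0 := by
    have e1 := tensorLeftHomEquiv_symm_naturality (Y := D) (Y' := PM) sM η
    rw [show (sM ≫ η : 𝟙_ (DM Y) ⟶ D ⊗ QM) = 0 from hs] at e1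
    have e2 : (tensorLeftHomEquiv (𝟙_ (DM Y)) D PM QM).symm η = αM ▷ 𝟙_ (DM Y) ≫ x₁ := Equiv.symm_apply_apply _ _
    rw [e2] at e1
    rw [← e1]
    haveI : (tensorLeft PM).IsLeftAdjoint := isLeftAdjoint_tensorLeft _
    haveI : (tensorLeft PM).PreservesZeroMorphisms := Functor.preservesZeroMorphisms_of_isLeftAdjoint _
    show (PM ◁ (0 : 𝟙_ (DM Y) ⟶ D ⊗ QM)) ≫ _ = 0
    rw [show PM ◁ (0 : 𝟙_ (DM Y) ⟶ D ⊗ QM) = 0 from (tensorLeft PM).map_zero _ _, zero_comp]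
  have h1 : CM ◁ sM ≫ x₁ = 0 := by
    have h2 : α ≫ ((ρ_ CM).inv ≫ CM ◁ sM ≫ x₁ : (CM : DCoh.D Y) ⟶ Q.obj) = 0 := by
      refine (?_ : αM ≫ (ρ_ CM).inv ≫ CM ◁ sM ≫ x₁ = 0)
      rw [rightUnitor_inv_naturality_assoc, ← whisker_exchange_assoc, h0, comp_zero]
    obtain ⟨N, g, h, hTN⟩ := distinguished_cocone_triangle α
    obtain ⟨v, hv⟩ := Triangle.yoneda_exact₂ _ hTN _ h2
    have hN : N.IsLE (c - 1) := (DerivedCategory.isLE_iff _ _).2 fun i hi =>
      (DGen9.approxMap_iff_isZero (m := c) _ hTN).1 (fun i hi => by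
        haveI h1 := hiso i (by omega)
        haveI h2 := hiso (i + 1) (by omega)
        exact ⟨(inferInstance : Epi ((DerivedCategory.homologyFunctor Y.Modules i).map α)),
          (inferInstance : Mono ((DerivedCategory.homologyFunctor Y.Modules (i + 1)).map α))⟩) i (by omega)
    haveI : (DerivedCategory.TStructure.t : Triangulated.TStructure (DCoh.D Y)).IsLE N (c - 1) := hN
    haveI : (DerivedCategory.TStructure.t : Triangulated.TStructure (DCoh.D Y)).IsGE Q.obj c := hQc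
    have hv0 : ∀ w : N ⟶ Q.obj, w = 0 := fun w =>
      (DerivedCategory.TStructure.t : Triangulated.TStructure (DCoh.D Y)).zero w (c - 1) c (by omega)
    rw [show v = 0 from hv0 v, comp_zero] at hv
    exact (cancel_epi (ρ_ CM).inv).1 (hv.trans comp_zero.symm)
  let ψ : RM ⊗ (dPull f).obj (𝟙_ (DM Y)) ⟶ RM ⊗ (dPull f).obj (𝟙_ (DM Y)) := RM ◁ (dPull f).map sM
  haveI hP₁ : IsIso P₁ := isIso_projT f R Rq.property _ isQCohD_one
  have h3 : (rM f).map ψ ≫ β'.hom = 0 := by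
    refine (cancel_epi P₁).1 ?_
    rw [← Category.assoc, ← projApp_natural (adjM f) RM sM, Category.assoc, comp_zero]
    exact h1
  let ψq : Dual8.mq f Rq Oq ⟶ Dual8.mq f Rq Oq := ObjectProperty.homMk ψ
  have h4 : ψq ≫ β = ψq ≫ ObjectProperty.homMk 0 := by
    apply (adj.homEquiv _ _).symm.injective
    rw [adj.homEquiv_naturality_left_symm, adj.homEquiv_naturality_left_symm]
    apply ObjectProperty.hom_ext
    refine (h3 : (rM f).map ψ ≫ β'.hom = 0).trans ?_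
    have : ((adj.homEquiv (Dual8.mq f Rq Oq) Q).symm (ObjectProperty.homMk 0)).hom = 0 := by
      haveI := Dual8.additive_rpush (f := f)
      haveI : (DCoh.RpushQ f hf).Additive :=
        { map_add := fun {A B u v} => ObjectProperty.hom_ext _ ((DCoh.Rpush f).map_add) }
      rw [Adjunction.homEquiv_counit,
        show (ObjectProperty.homMk 0 : Dual8.mq f Rq Oq ⟶ A.obj Q) = 0 from rfl, Functor.map_zero, zero_comp]
      rfl
    show (0 : _) = (DCoh.Rpush f).map ψ ≫ _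
    rw [this, comp_zero]
  have h5 : (ψ : (Dual8.mq f Rq Oq).obj ⟶ (Dual8.mq f Rq Oq).obj) ≫ (j.hom : (Dual8.mq f Rq Oq).obj ⟶ R) ≫ p ≫ β₀ = 0 :=
    (congrArg (fun t => t.hom) h4).trans comp_zero
  haveI hψ : IsIso ((DPerf.resD V'.ι).map (ψ : (Dual8.mq f Rq Oq).obj ⟶ (Dual8.mq f Rq Oq).obj)) := by
    refine (isIso_lP_res V'.ι _).1 ?_
    haveI : IsIso ((lP V.ι).map s) := (isIso_lP_res V.ι s).2 hsV
    haveI h6 : IsIso ((lP V'.ι).map ((lP f).map s)) := by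
      refine (NatIso.isIso_map_iff (lPComp V'.ι f rfl) s).2 ?_
      refine (NatIso.isIso_map_iff (lPComp (f ∣_ V) V.ι (morphismRestrict_ι f V)) s).1 ?_
      exact (inferInstance : IsIso ((lP (f ∣_ V)).map ((lP V.ι).map s)))
    haveI : IsIso ((dPull V'.ι).map ((dPull f).map sM)) := h6
    show IsIso ((dPull V'.ι).map (RM ◁ (dPull f).map sM))
    rw [Functor.Monoidal.map_whiskerLeft]
    infer_instance
  haveI hj : IsIso ((DPerf.resD V'.ι).map (j.hom : (Dual8.mq f Rq Oq).obj ⟶ R)) := by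
    haveI : IsIso (j.hom : (Dual8.mq f Rq Oq).obj ⟶ R) := j.isIso_hom
    infer_instance
  have h7 := congrArg (fun t => (DPerf.resD V'.ι).map t) h5
  simp only [Functor.map_comp, Functor.map_zero] at h7
  rw [← Functor.map_comp]  at h7
  exact (cancel_epi ((DPerf.resD V'.ι).map (j.hom : (Dual8.mq f Rq Oq).obj ⟶ R))).1
    (((cancel_epi ((DPerf.resD V'.ι).map (ψ : (Dual8.mq f Rq Oq).obj ⟶ (Dual8.mq f Rq Oq).obj))).1
      (h7.trans comp_zero.symm)).trans comp_zero.symm)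

end Groth.Agent.BC8
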