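import Groth.Agent.Lib.BC8.SuppAff
import Groth.Agent.Lib.BC8.BddAbove
import Groth.Agent.Lib.DGen9.Ext

/-!
Supports of the right adjoint of `Rf_*` on bounded below objects.
-/

set_option autoImplicit false
set_option linter.unusedSectionVars false
set_option linter.style.haveILetI false
set_option backward.isDefEq.respectTransparency false
set_option backward.isDefEq.respectTransparency.types false
set_option maxHeartbeats 800000

universe u

open CategoryTheory CategoryTheory.Limits AlgebraicGeometry Pretriangulated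

attribute [local instance] HasDerivedCategory.standard

namespace Groth.Agent.BC8

open DMon9

variable {X Y : Scheme.{u}}

/-- Induction over compact opens from affine opens, closed under Mayer-Vietoris. -/
theorem mv_induction [CompactSpace Y] [QuasiSeparatedSpace Y] (P : Y.Opens → Prop)
    (haff : ∀ U : Y.Opens, IsAffineOpen U → P U)
    (hsup : ∀ A B : Y.Opens, IsCompact (A : Set Y) → IsCompact (B : Set Y) → P A → P B → P (A ⊓ B) → P (A ⊔ B)) :
    P ⊤ := by
  classical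
  have hcs : ∀ {ι : Type u} (t : Finset ι) (W : ι → Y.Opens), (∀ i, IsCompact (W i : Set Y)) →
      IsCompact ((t.sup W : Y.Opens) : Set Y) := fun {ι} t W hW => by
    induction t using Finset.induction_on with
    | empty => simp
    | insert a t _ iht => rw [Finset.sup_insert, TopologicalSpace.Opens.coe_sup]; exact (hW a).union iht
  have hbasic : ∀ {U : Y.Opens} (hU : IsAffineOpen U) (k : ℕ) (s : Finset Γ(Y, U)), s.card ≤ k →
      P (s.sup fun g => Y.basicOpen g) := by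
    intro U hU k
    induction k with
    | zero =>
      intro s hs
      rw [Finset.card_eq_zero.1 (Nat.le_zero.1 hs), Finset.sup_empty, ← Scheme.basicOpen_zero Y U]
      exact haff _ (hU.basicOpen 0)
    | succ k ih =>
      intro s hs
      rcases s.eq_empty_or_nonempty with rfl | ⟨g, hg⟩
      · exact ih ∅ (by simp)
      · have hcard : (s.erase g).card ≤ k := by
          have := Finset.card_erase_of_mem hg
          omega
        rw [← Finset.insert_erase hg, Finset.sup_insert]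
        refine hsup _ _ (hU.basicOpen g).isCompact (hcs _ _ fun h => (hU.basicOpen h).isCompact)
          (haff _ (hU.basicOpen g)) (ih _ hcard) ?_
        rw [Finset.sup_inf_distrib_left,
          show ((s.erase g).sup fun h => Y.basicOpen g ⊓ Y.basicOpen h) =
            ((s.erase g).image (g * ·)).sup fun h => Y.basicOpen h from by
              rw [Finset.sup_image]; exact Finset.sup_congr rfl fun h _ => (Scheme.basicOpen_mul Y g h).symm]
        exact ih _ (Finset.card_image_le.trans hcard)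
  have hle : ∀ {U : Y.Opens} (_ : IsAffineOpen U) {W : Y.Opens}, IsCompact (W : Set Y) → W ≤ U → P W := by
    intro U hU W hW hWU
    have h : ∀ x : W, ∃ g : Γ(Y, U), Y.basicOpen g ≤ W ∧ (x : Y) ∈ Y.basicOpen g := fun x =>
      hU.exists_basicOpen_le ⟨x.1, x.2⟩ (hWU x.2)
    choose g hgle hgx using h
    obtain ⟨t, ht⟩ := hW.elim_finite_subcover (fun x : W => (Y.basicOpen (g x) : Set Y))
      (fun x => (Y.basicOpen (g x)).2) fun y hy => Set.mem_iUnion.2 ⟨⟨y, hy⟩, hgx ⟨y, hy⟩⟩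
    have hs : (t.image g).sup (fun h => Y.basicOpen h) = W := by
      rw [Finset.sup_image]
      refine le_antisymm (Finset.sup_le fun x _ => hgle x) fun y hy => ?_
      obtain ⟨x, hx, hxy⟩ := Set.mem_iUnion₂.1 (ht hy)
      exact SetLike.le_def.1 (Finset.le_sup (f := fun x => Y.basicOpen (g x)) hx) hxy
    exact hs ▸ hbasic hU _ _ le_rfl
  have hcov : ∀ y : Y, ∃ U : Y.Opens, IsAffineOpen U ∧ y ∈ U := fun y => by
    obtain ⟨U, hU, hy, -⟩ := TopologicalSpace.Opens.isBasis_iff_nbhd.1 Y.isBasis_affineOpens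
      (TopologicalSpace.Opens.mem_top y)
    exact ⟨U, hU, hy⟩
  choose U hU hy using hcov
  obtain ⟨t, ht⟩ := isCompact_univ.elim_finite_subcover (fun y : Y => (U y : Set Y))
    (fun y => (U y).2) fun y _ => Set.mem_iUnion.2 ⟨y, hy y⟩
  have hs : t.sup U = ⊤ := top_le_iff.1 fun y _ => by
    obtain ⟨x, hx, hxy⟩ := Set.mem_iUnion₂.1 (ht (Set.mem_univ y))
    exact SetLike.le_def.1 (Finset.le_sup (f := U) hx) hxy
  suffices H : ∀ t : Finset Y, P (t.sup U) from hs ▸ H t
  intro t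
  induction t using Finset.induction_on with
  | empty => rw [Finset.sup_empty]; exact haff ⊥ (isAffineOpen_bot Y)
  | insert x t _ ih =>
    rw [Finset.sup_insert]
    refine hsup _ _ (hU x).isCompact (hcs t U fun y => (hU y).isCompact) (haff _ (hU x)) ih (hle (hU x) ?_ inf_le_left)
    rw [TopologicalSpace.Opens.coe_inf]
    exact QuasiSeparatedSpace.inter_isCompact _ _ (U x).2 (hU x).isCompact (t.sup U).2
      (hcs t U fun y => (hU y).isCompact)

theorem qc_opens_ι [CompactSpace Y] [QuasiSeparatedSpace Y] {U : Y.Opens} (hU : IsCompact (U : Set Y)) :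
    CompactSpace (U : Scheme.{u}) := isCompact_iff_compactSpace.mp hU

variable {f : X ⟶ Y} [DCoh.HasRpush f] [CompactSpace X] [QuasiSeparatedSpace X]

/-- `QP` passes to the preimage of a compact open. -/
theorem qp_restrict (hQP : QP f) (U : Y.Opens) [DCoh.HasRpush (f ∣_ U)]
    (hU : IsCompact (f ⁻¹ᵁ U : Set X)) : QP (f ∣_ U) := by
  intro R₀ hR₀
  obtain ⟨R, -, i, p, hR, -, hip, -⟩ := DGen9.lifts_opens (f ⁻¹ᵁ U) hU Set.univ isClosed_univ
    (by rw [Set.compl_univ]; exact isCompact_empty) _ (isQCohD_one (X := X)) R₀ hR₀ (DGen9.suppOn_univ _) 0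
  obtain ⟨R', i', p', hR', hip', hpc⟩ := hQP R hR
  refine ⟨(DPerf.resD (f ⁻¹ᵁ U).ι).obj R', i ≫ (DPerf.resD _).map i', (DPerf.resD _).map p' ≫ p,
    DGen9.isPerfect_resD _ hR', ?_, fun m => ?_⟩
  · rw [Category.assoc, ← Functor.map_comp_assoc, hip', CategoryTheory.Functor.map_id, Category.id_comp, hip]
  · obtain ⟨c⟩ := DMV.nonempty_restrictD_rpush f U
    exact DGen9.isPseudoCoherentD_of_isoD (c.app R') (DGen9.isPseudoCoherentD_resD U.ι (hpc m))

variable [CompactSpace Y] [QuasiSeparatedSpace Y] {hf : DCoh.RpushPreservesQCoh f}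
  {A : DCoh.DQCoh Y ⥤ DCoh.DQCoh X} (adj : DCoh.RpushQ f hf ⊣ A)

theorem suppOn_biprod {T : Set X} {E F : DCoh.D X} (hE : DGen9.SuppOn T E) (hF : DGen9.SuppOn T F) :
    DGen9.SuppOn T (E ⊞ F) :=
  DGen9.suppOn_triangle₂ (binaryBiproductTriangle E F) (binaryBiproductTriangle_distinguished E F) hE hF

include adj in
/-- The right adjoint respects supports on bounded below objects. -/
theorem suppOn_a (hQP : QP f) {T : Set Y} (hT : IsClosed T) (Q : DCoh.DQCoh Y) (c : ℤ) (hQc : Q.obj.IsGE c)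
    (hQ : DGen9.SuppOn T Q.obj) : DGen9.SuppOn (f ⁻¹' T) (A.obj Q).obj := by
  haveI := qc_of_qcqs f
  haveI := qs_of_qcqs f
  obtain ⟨_, _⟩ := exists_triangulated f hf adj
  have hTX : IsClosed (f ⁻¹' T) := hT.preimage f.continuous
  haveI := DBC9.hasRpush (𝟙 Y)
  let P : Y.Opens → Prop := fun S => ∀ (Z : Scheme.{u}) (j : Z ⟶ Y) [IsOpenImmersion j] [QuasiCompact j],
    j.opensRange = S → ∀ [DCoh.HasRpush j] (M : DCoh.D Z), DCoh.IsQCohD M → M.IsGE c → DGen9.SuppOn (j ⁻¹' T) M →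
      ∀ hq : DCoh.IsQCohD ((DCoh.Rpush j).obj M), DGen9.SuppOn (f ⁻¹' T) (A.obj ⟨_, hq⟩).obj
  suffices H : P ⊤ by
    let w := (DBC9.rpushId Y).app Q.obj
    have hq := DQC.isQCohD_of_iso w.symm Q.property
    exact DGen9.suppOn_of_iso ((ObjectProperty.ι _).mapIso (A.mapIso
      (ObjectProperty.isoMk _ w : (⟨_, hq⟩ : DCoh.DQCoh Y) ≅ Q)))
      (H Y (𝟙 Y) (Scheme.Hom.opensRange_of_isIso _) Q.obj Q.property hQc hQ hq)
  refine mv_induction P (fun U hU => ?_) fun S₁ S₂ hS₁ hS₂ h₁ h₂ h₃ => ?_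
  · intro Z j _ _ hj _ M hM hMc hMT hq
    haveI : IsAffine (U : Scheme.{u}) := hU
    have hr : Set.range j = Set.range U.ι := by
      rw [Scheme.Opens.range_ι]
      exact congrArg (fun V : Y.Opens => (V : Set Y)) hj
    obtain ⟨e, he⟩ : ∃ e : Z ≅ (U : Scheme.{u}), e.hom ≫ U.ι = j :=
      ⟨IsOpenImmersion.isoOfRangeEq j U.ι hr, IsOpenImmersion.isoOfRangeEq_hom_fac _ _ _⟩
    subst he
    haveI := DBC9.hasRpush e.hom
    haveI := DBC9.hasRpush U.ι
    let M' := (DCoh.Rpush e.hom).obj M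
    have hM' : DCoh.IsQCohD M' := rpushPreserves e.hom M hM
    have hM'c : M'.IsGE c := DPush.isGE_rpush e.hom M c hMc
    have hM'T : DGen9.SuppOn (U.ι ⁻¹' T) M' :=
      DGen9.suppOn_rpush e.hom (hT.preimage U.ι.continuous) hMT
    let i := (f ⁻¹ᵁ U).ι
    let fT := f ∣_ U
    haveI : CompactSpace (f ⁻¹ᵁ U : Scheme.{u}) := compactSpace_preimage (f' := f) hU
    haveI : QuasiSeparatedSpace (f ⁻¹ᵁ U : Scheme.{u}) := quasiSeparatedSpace_open (W := f ⁻¹ᵁ U)
    haveI := qc_of_qcqs fT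
    haveI := qs_of_qcqs fT
    haveI := qc_of_qcqs U.ι
    haveI := qs_of_qcqs U.ι
    haveI := qc_of_qcqs i
    haveI := qs_of_qcqs i
    haveI := DBC9.hasRpush fT
    haveI := DBC9.hasRpush i
    let hfT := rpushPreserves fT
    haveI := isLeftAdjoint_rpushQ fT hfT
    let adjT := Adjunction.ofIsLeftAdjoint (DCoh.RpushQ fT hfT)
    let aT := (DCoh.RpushQ fT hfT).rightAdjoint
    have hsqj : IsPullback i fT f U.ι := (isPullback_morphismRestrict f U).flip
    have hgj := good_of_flat hsqj (Or.inr inferInstance)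
    let hj' := rpushPreserves U.ι
    let hi := rpushPreserves i
    let ej := eOf (DBC9.σcan hsqj.w.symm) (adjq U.ι hj') (adjq i hi) (hf := hf) (hf' := hfT)
    let Mq : DCoh.DQCoh (U : Scheme.{u}) := ⟨M', hM'⟩
    haveI : IsIso (xiMap adj adjT ej Mq) := isIso_xi hgj _ adj adjT _ _ Mq
    have key : DGen9.SuppOn (fT ⁻¹' (U.ι ⁻¹' T)) (aT.obj Mq).obj := by
      refine DGen9.suppOn_of_stalks fun x hx k => ?_
      have hop : IsOpen ((U.ι ⁻¹' T)ᶜ) := (hT.preimage U.ι.continuous).isOpen_compl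
      obtain ⟨a, haT, hxa⟩ := (isAffineOpen_top (U : Scheme.{u})).exists_basicOpen_le (V := ⟨_, hop⟩) ⟨fT x, hx⟩ trivial
      have hz : IsZero ((DPerf.resD ((U : Scheme.{u}).basicOpen a).ι).obj M') :=
        DGen9.isZero_resD_of_suppOn _ hM'T fun z => haT z.2
      have h0 := isZero_res_basic adjT (qp_restrict hQP U (f.isCompact_preimage hU.isCompact)) a Mq c hM'c hz
      refine DGen9.stalkZero_of_suppOn (DGen9.suppOn_of_isZero_resD _ h0) (fun hx' => hx' ?_) k
      exact ⟨⟨x, hxa⟩, rfl⟩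
    have h4 : DGen9.SuppOn (f ⁻¹' T) ((DCoh.Rpush i).obj (aT.obj Mq).obj) := by
      refine DGen9.suppOn_rpush i hTX (DGen9.suppOn_mono (fun x hx => ?_) key)
      have := congrArg (fun h => h.base x) hsqj.w
      simp only [Scheme.Hom.comp_base, TopCat.comp_app] at this
      exact (Set.mem_preimage.2 (this ▸ hx) : i x ∈ f ⁻¹' T)
    let w := (DPush.compIso e.hom U.ι).app M
    let wq : (DCoh.RpushQ U.ι hj').obj Mq ≅ (⟨_, hq⟩ : DCoh.DQCoh Y) := ObjectProperty.isoMk _ w
    exact DGen9.suppOn_of_iso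
      (asIso (xiMap adj adjT ej Mq).hom ≪≫ (ObjectProperty.ι _).mapIso (A.mapIso wq)) h4
  · intro Z j _ _ hj _ M hM hMc hMT hq
    let A' := j ⁻¹ᵁ S₁
    let B' := j ⁻¹ᵁ S₂
    have hcov : A' ⊔ B' = ⊤ := by
      refine TopologicalSpace.Opens.ext (Set.eq_univ_of_forall fun x => ?_)
      have hx : j x ∈ j.opensRange := ⟨x, rfl⟩
      rw [hj] at hx
      exact hx
    have hrange : ∀ C : Y.Opens, C ≤ S₁ ⊔ S₂ → ((j ⁻¹ᵁ C).ι ≫ j).opensRange = C := fun C hC => by
      rw [Scheme.Hom.opensRange_comp, Scheme.Opens.opensRange_ι, Scheme.Hom.image_preimage_eq_opensRange_inf, hj]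
      exact inf_eq_right.2 hC
    have hqc : ∀ C : Z.Opens, IsCompact (C : Set Z) → QuasiCompact (C.ι ≫ j) := fun C hC => by
      haveI : CompactSpace (C : Scheme.{u}) := isCompact_iff_compactSpace.mp hC
      exact qc_of_qcqs _
    have h12 : IsCompact ((S₁ ⊓ S₂ : Y.Opens) : Set Y) := by
      rw [TopologicalSpace.Opens.coe_inf]
      exact QuasiSeparatedSpace.inter_isCompact _ _ S₁.2 hS₁ S₂.2 hS₂
    haveI := hqc A' (j.isCompact_preimage hS₁)
    haveI := hqc B' (j.isCompact_preimage hS₂)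
    haveI : QuasiCompact ((A' ⊓ B').ι ≫ j) := hqc (j ⁻¹ᵁ (S₁ ⊓ S₂)) (j.isCompact_preimage h12)
    haveI := DBC9.hasRpush (A'.ι ≫ j)
    haveI := DBC9.hasRpush (B'.ι ≫ j)
    haveI := DBC9.hasRpush ((A' ⊓ B').ι ≫ j)
    obtain ⟨u₁, u₂, u₃, hTr⟩ := DMV.exists_relative_triangle j A' B' hcov M
    have qC := fun (C : Z.Opens) => DQC.isQCohD_resD C.ι hM
    haveI := hMc
    have gC := fun (C : Z.Opens) => RelPCS8.Noeth.isGE_res (K := M) (b := c) C.ι
    have sC := fun (C : Z.Opens) => DGen9.suppOn_resD C.ι hMT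
    have q₁ := rpushPreserves (A'.ι ≫ j) _ (qC A')
    have q₂ := rpushPreserves (B'.ι ≫ j) _ (qC B')
    have q₃ := rpushPreserves ((A' ⊓ B').ι ≫ j) _ (qC (A' ⊓ B'))
    have s₁ := h₁ _ (A'.ι ≫ j) (hrange S₁ le_sup_left) _ (qC A') (gC A') (sC A') q₁
    have s₂ := h₂ _ (B'.ι ≫ j) (hrange S₂ le_sup_right) _ (qC B') (gC B') (sC B') q₂
    have s₃ := h₃ _ ((A' ⊓ B').ι ≫ j) (hrange (S₁ ⊓ S₂) (inf_le_left.trans le_sup_left)) _ (qC _) (gC _) (sC _) q₃
    have qb := isQCohD_biprod q₁ q₂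
    obtain ⟨x₁, x₂, x₃, hd⟩ := exists_image_triangle A _ hTr hq qb q₃
    obtain ⟨y₁, y₂, y₃, hd'⟩ := exists_image_triangle A _ (binaryBiproductTriangle_distinguished _ _) q₁ qb q₂
    have sb := DGen9.suppOn_triangle₂ (Triangle.mk y₁ y₂ y₃) hd' s₁ s₂
    exact DGen9.suppOn_triangle₁ (Triangle.mk x₁ x₂ x₃) hd sb s₃

end Groth.Agent.BC8
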