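import Groth.Agent.Lib.BC8.TauFlat

/-!
`a(A) ⊗ Lf^* M ≅ a(A ⊗ M)` for bounded below `A` and `M` of finite tor dimension.
-/

set_option autoImplicit false
set_option linter.unusedSectionVars false
set_option linter.style.haveILetI false
set_option backward.isDefEq.respectTransparency false
set_option backward.isDefEq.respectTransparency.types false
set_option maxHeartbeats 800000

universe u

open CategoryTheory CategoryTheory.Limits AlgebraicGeometry Pretriangulated

attribute [local instance] HasDerivedCategory.standard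

namespace Groth.Agent.BC8

open DMon9

attribute [local instance] preadditiveDM

variable {X Y : Scheme.{u}} {f : X ⟶ Y} [DCoh.HasRpush f] {hf : DCoh.RpushPreservesQCoh f}
  [QuasiCompact f] [QuasiSeparated f] [CompactSpace X] [QuasiSeparatedSpace X] [IsAffine Y]
  {a : DCoh.DQCoh Y ⥤ DCoh.DQCoh X} (adj : DCoh.RpushQ f hf ⊣ a) (A : DCoh.DQCoh Y)
  {R₀ : CommRingCat.{u}} (e : Y ≅ Spec R₀)

theorem bij_of_isZero (R : DCoh.D X) {M : DCoh.DQCoh Y} (hM : IsZero M.obj) : Bij adj A R M := by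
  haveI : (midF f (a.obj A).obj).PreservesZeroMorphisms := Functor.preservesZeroMorphisms_of_isLeftAdjoint _
  haveI : (tenL A.obj).PreservesZeroMorphisms := Functor.preservesZeroMorphisms_of_isLeftAdjoint _
  exact ⟨fun x x' _ => ((midF f (a.obj A).obj).map_isZero hM).eq_of_tgt _ _,
    fun y => ⟨0, ((tenL A.obj).map_isZero hM).eq_of_tgt _ _⟩⟩

theorem bijS_flatCx (c : ℤ) [A.obj.IsGE c] {R : DCoh.D X} (hR : DCoh.IsPerfect R)
    (hpc : ∀ m : ℤ, DCoh.IsPseudoCoherentD m ((DCoh.Rpush f).obj R)) (E : DRing.Cx R₀) (u v : ℤ)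
    (hE : DRing.VanishesOutside E u v) (hF : DRing.TermwiseFlat E) :
    BijS adj A R ((DGen9.tX e).obj (DRing.toD E)) := by
  refine DMod.bounded_induction (Q := fun L => BijS adj A R ((DGen9.tX e).obj (DRing.toD L)))
    (p := fun _ M => Module.Flat R₀ M) (fun L hL n h => ?_) (fun L m hL hm => ?_) (fun L m h₁ h₂ => ?_)
    (fun m M N i hM => haveI := hM; Module.Flat.of_linearEquiv i.toLinearEquiv.symm) E u v hE (fun i _ _ => hF i)
  · refine bij_of_isZero adj A R ?_
    exact (shiftFunctor _ n).map_isZero ((DGen9.tX e).map_isZero (DerivedCategory.Q.map_isZero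
      ((IsZero.iff_id_eq_zero L).2 (by ext1 i; exact (hL i).eq_of_src _ _))))
  · obtain ⟨i⟩ := DMod.exists_iso_single_X hL
    haveI := hm
    let S := DerivedCategory.singleFunctors (ModuleCat.{u} R₀)
    let j : (DRing.toD L) ≅ ((DerivedCategory.singleFunctor (ModuleCat.{u} R₀) 0).obj (L.X m))⟦-m⟧ :=
      i ≪≫ ((S.shiftIso (-m) m 0 (by omega)).app (L.X m)).symm
    refine bijS_of_iso adj A R
      (((DGen9.tX e).mapIso j ≪≫ ((DGen9.tX e).commShiftIso (-m)).app _).symm) fun n h => ?_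
    exact bij_of_iso adj A R (M := ⟨_, isQCohD_sD e (L.X m) (-m + n)⟩) (M' := ⟨_, h⟩)
      ((shiftFunctorAdd' (DCoh.D Y) (-m) n (-m + n) rfl).app _) (bij_sD adj A e c hR hpc (L.X m) (-m + n))
  · obtain ⟨t, hT⟩ := DMod.exists_sub_triangle L (DMod.geSub L m) (DMod.geSub_stable L m)
    exact bijS_middle adj A R _ ((DGen9.tX e).map_distinguished _ hT) (DGen9.isQCohD_tX e _) (DGen9.isQCohD_tX e _)
      h₁ h₂

include e in
/-- The comparison for finite tor dimension. -/
theorem isIso_tau_flatCx (hQP : QP f) (c : ℤ) [A.obj.IsGE c] (M : DCoh.DQCoh Y) (E : DRing.Cx R₀) (u v : ℤ)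
    (hE : DRing.VanishesOutside E u v) (hF : DRing.TermwiseFlat E)
    (i : (DGen9.tX e).obj (DRing.toD E) ≅ M.obj) : IsIso (Dual8.tau adj A M).hom := by
  refine PerfTest8.isIso_of_bijective (Dual8.mq f (a.obj A) M).property (a.obj (Dual8.tq A M)).property _
    fun P hP => ?_
  obtain ⟨R, r, p, hR, hrp, hpc⟩ := hQP P hP
  refine (bij_iff adj A ⟨P, DGen9.isQCohD_of_isPerfect hP⟩ M).1 (bij_of_retract adj A r p hrp M ?_)
  let z := (shiftFunctorZero (DCoh.D Y) ℤ).app ((DGen9.tX e).obj (DRing.toD E))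
  exact bij_of_iso adj A R (M := ⟨_, DMV.isQCohD_shift _ (DGen9.isQCohD_tX e _) 0⟩) (z ≪≫ i)
    (bijS_flatCx adj A e c hR hpc E u v hE hF 0 _)

end Groth.Agent.BC8
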