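import Groth.Agent.Lib.BC8.TauAff
import Groth.Agent.Lib.BC8.Local
import Groth.Agent.Lib.BC8.SuppMV
import Groth.Agent.Lib.DGen9.TorPush
import Groth.Agent.Lib.DGen9.NoethPush
import Groth.Agent.Lib.TorSymm3.Basic

/-!
Direct images of the structure sheaf along affine morphisms of finite tor dimension.
-/

set_option autoImplicit false
set_option linter.unusedSectionVars false
set_option linter.style.haveILetI false
set_option backward.isDefEq.respectTransparency false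
set_option backward.isDefEq.respectTransparency.types false
set_option maxHeartbeats 800000

universe u

open CategoryTheory CategoryTheory.Limits AlgebraicGeometry Pretriangulated

attribute [local instance] HasDerivedCategory.standard

namespace Groth.Agent.BC8

open DMon9

variable {X Y Y' : Scheme.{u}}

/-- Tor-independence is symmetric. -/
theorem torI_symm {f : X ⟶ Y} {g : Y' ⟶ Y} (h : TorI f g) : TorI g f := by
  intro U hU V hV hVU U' hU' hle q hq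
  have h0 := h U hU U' hU' hle V hV hVU q hq
  obtain ⟨n, rfl⟩ : ∃ n, q = n + 1 := ⟨q - 1, by omega⟩
  letI : Module Γ(Y, U) Γ(Y', U') := (g.appLE U U' hle).hom.toModule
  letI : Module Γ(Y, U) Γ(X, V) := (f.appLE U V hVU).hom.toModule
  exact ModuleCat.subsingleton_of_isZero
    ((TorSymm3.isZero_tor_comm n Γ(Y', U') Γ(X, V)).1 (@ModuleCat.isZero_of_subsingleton _ _ _ h0))

/-- Tor-independence over an open of the base. -/
theorem torI_restrict {f : X ⟶ Y} {g : Y' ⟶ Y} (h : TorI f g) {U : Y.Opens} {U' : Y'.Opens} (hle : U' ≤ g ⁻¹ᵁ U) :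
    TorI (f ∣_ U) (g.resLE U U' hle) := by
  intro W hW W' hW' hW'le V hV hVW
  have h0 := h (U.ι ''ᵁ W) (hW.image_of_isOpenImmersion U.ι) (U'.ι ''ᵁ W') (hW'.image_of_isOpenImmersion U'.ι)
    ((Scheme.Hom.le_resLE_preimage_iff g hle W W').1 hW'le) ((f ⁻¹ᵁ U).ι ''ᵁ V)
    (hV.image_of_isOpenImmersion (f ⁻¹ᵁ U).ι) ((Set.image_mono hVW).trans (image_morphismRestrict_preimage f U W).le)
  rw [Scheme.Hom.resLE_appLE, morphismRestrict_appLE]
  exact h0

/-- The comparison depends only on the morphism. -/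
theorem isIso_tau_congr {f : X ⟶ Y} [DCoh.HasRpush f] {hf : DCoh.RpushPreservesQCoh f}
    [QuasiCompact f] [QuasiSeparated f] {a : DCoh.DQCoh Y ⥤ DCoh.DQCoh X} (adj : DCoh.RpushQ f hf ⊣ a)
    (K : DCoh.DQCoh Y) {g₁ g₂ : Y' ⟶ Y} (h : g₁ = g₂) [DCoh.HasRpush g₁] [DCoh.HasRpush g₂]
    (h₁ : DCoh.RpushPreservesQCoh g₁) (h₂ : DCoh.RpushPreservesQCoh g₂) :
    IsIso (Dual8.tau adj K (vq g₁ h₁)) ↔ IsIso (Dual8.tau adj K (vq g₂ h₂)) := by
  subst h
  exact Iff.rfl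

/-- The pullback of the structure sheaf. -/
noncomputable def oPull (f : X ⟶ Y) : (lP f).obj (oneD Y) ≅ oneD X :=
  ((Functor.Monoidal.εIso (dPull f)).symm :)

variable {U U' : Scheme.{u}} (u₀ : U ⟶ Y) [IsOpenImmersion u₀] (u₁ : U' ⟶ Y') [IsOpenImmersion u₁] {g : Y' ⟶ Y}

/-- Flat resolutions of direct images of the structure sheaf between affine opens. -/
theorem exists_flatCx_vq (htd : DerSch.HasFiniteTorDim g) [IsAffine U] [IsAffine U']
    (g₀ : U' ⟶ U) (hg₀ : g₀ ≫ u₀ = u₁ ≫ g) [DCoh.HasRpush g₀]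
    (h₀ : DCoh.RpushPreservesQCoh g₀) :
    ∃ (R₀ : CommRingCat.{u}) (e : U ≅ Spec R₀) (E : DRing.Cx R₀) (u v : ℤ),
      DRing.VanishesOutside E u v ∧ DRing.TermwiseFlat E ∧
      Nonempty ((DGen9.tX e).obj (DRing.toD E) ≅ (vq g₀ h₀).obj) := by
  let R₀ := Γ(U, ⊤)
  let e := U.isoSpec
  haveI := DBC9.hasRpush e.hom
  haveI := DBC9.hasRpush (g₀ ≫ e.hom)
  obtain ⟨a, b, hab⟩ := htd
  have hall := PerfPush9.allCharts_of_hasTorAmplitude g (DerSch.unitCx Y') hab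
  have hch : TorPush9.ChartAmp (g₀ ≫ e.hom) (oneD U') := fun A j _ φ M w eM => by
    refine hall R₀ A (e.inv ≫ u₀) (j ≫ u₁) φ M ?_ (eM ≪≫ ?_)
    · rw [← w, Category.assoc, Category.assoc, Category.assoc, Iso.hom_inv_id_assoc, ← hg₀]
    · exact (DPerf.resD j).mapIso ((oPull u₁).symm ≪≫ (lPRes u₁).app _) ≪≫ (DPerf.resDComp u₁ j).app _
  obtain ⟨u, v, huv⟩ : TorPush9.FinAmp ((DCoh.Rpush (g₀ ≫ e.hom)).obj (oneD U')) :=
    TorPush9.finAmp_rpush (g₀ ≫ e.hom) _ isQCohD_one hch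
  have qG : DCoh.IsQCohD ((DCoh.Rpush (g₀ ≫ e.hom)).obj (oneD U')) :=
    rpushPreserves (g₀ ≫ e.hom) _ isQCohD_one
  obtain ⟨M, ⟨iM⟩⟩ := DQC.exists_iso_of_isQCohD _ qG
  obtain ⟨u', v', E, hE, hF, ⟨iE⟩⟩ := (TorPush9.finAmp_tilde_iff M).1 (TorPush9.finAmp_of_iso iM.symm ⟨u, v, huv⟩)
  refine ⟨R₀, e, E, u', v', hE, hF, ⟨(DGen9.tX e).mapIso iE ≪≫ (DPerf.resD e.hom).mapIso iM ≪≫
    (DPerf.resD e.hom).mapIso ((DPush.compIso g₀ e.hom).app _).symm ≪≫ ((lPRes e.hom).app _).symm ≪≫ ?_⟩⟩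
  haveI := DBC9.isIso_counit_openImmersion e.hom
  exact asIso ((adjLP e.hom).counit.app _)

end Groth.Agent.BC8
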