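import Groth.Agent.Lib.BC8.FlatTen
import Groth.Agent.Lib.BC8.Gen

/-!
Classes in `a(A) ⊗ Lf^* M` and maps `Rf_* R ⟶ A ⊗ M`.
-/

set_option autoImplicit false
set_option linter.unusedSectionVars false
set_option linter.style.haveILetI false
set_option backward.isDefEq.respectTransparency false
set_option backward.isDefEq.respectTransparency.types false
set_option maxHeartbeats 800000

universe u

open CategoryTheory CategoryTheory.Limits MonoidalCategory AlgebraicGeometry Pretriangulated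

attribute [local instance] HasDerivedCategory.standard

namespace Groth.Agent.BC8

open DMon9

attribute [local instance] preadditiveDM

variable {X Y : Scheme.{u}} {f : X ⟶ Y} [DCoh.HasRpush f] {hf : DCoh.RpushPreservesQCoh f}
  [QuasiCompact f] [QuasiSeparated f]
  {a : DCoh.DQCoh Y ⥤ DCoh.DQCoh X} (adj : DCoh.RpushQ f hf ⊣ a) (A : DCoh.DQCoh Y)

/-- The image of a class. -/
noncomputable def psi (R : DCoh.D X) (M : DCoh.DQCoh Y) (x : R ⟶ (Dual8.mq f (a.obj A) M).obj) :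
    (DCoh.Rpush f).obj R ⟶ (tenL A.obj).obj M.obj :=
  (rM f).map x ≫ Dual8.projInv (a.obj A) M ≫ Dual8.epsA adj A ▷ (M.obj : DM Y)

/-- Classes and maps correspond. -/
def Bij (R : DCoh.D X) (M : DCoh.DQCoh Y) : Prop := Function.Bijective (psi adj A R M)

theorem comp_tau_eq (R : DCoh.DQCoh X) (M : DCoh.DQCoh Y) (x : R.obj ⟶ (Dual8.mq f (a.obj A) M).obj) :
    x ≫ (Dual8.tau adj A M).hom =
      ((adj.homEquiv R (Dual8.tq A M)) (ObjectProperty.homMk (psi adj A R.obj M x))).hom := by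
  have h := adj.homEquiv_naturality_left (X' := R) (ObjectProperty.homMk x)
    (ObjectProperty.homMk (Dual8.projInv (a.obj A) M ≫ Dual8.epsA adj A ▷ (M.obj : DM Y)) :
      (DCoh.RpushQ f hf).obj (Dual8.mq f (a.obj A) M) ⟶ Dual8.tq A M)
  exact (congrArg (fun t => t.hom) h).symm

theorem bij_iff (R : DCoh.DQCoh X) (M : DCoh.DQCoh Y) :
    Bij adj A R.obj M ↔ Function.Bijective fun x : R.obj ⟶ (Dual8.mq f (a.obj A) M).obj => x ≫ (Dual8.tau adj A M).hom := by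
  let H : ((DCoh.Rpush f).obj R.obj ⟶ (tenL A.obj).obj M.obj) → (R.obj ⟶ (a.obj (Dual8.tq A M)).obj) := fun z =>
    ((adj.homEquiv R (Dual8.tq A M)) (ObjectProperty.homMk z)).hom
  have hH : Function.Bijective H := by
    refine ⟨fun z z' h => ?_, fun y => ⟨((adj.homEquiv R (Dual8.tq A M)).symm (ObjectProperty.homMk y)).hom, ?_⟩⟩
    · exact congrArg (fun t => t.hom) ((adj.homEquiv R (Dual8.tq A M)).injective (ObjectProperty.hom_ext _ h))
    · exact congrArg (fun t => t.hom) ((adj.homEquiv R (Dual8.tq A M)).apply_symm_apply (ObjectProperty.homMk y))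
  rw [show (fun x : R.obj ⟶ (Dual8.mq f (a.obj A) M).obj => x ≫ (Dual8.tau adj A M).hom) = H ∘ psi adj A R.obj M from
    funext fun x => comp_tau_eq adj A R M x]
  exact (hH.of_comp_iff' _).symm

theorem bij_of_isPerfect [CompactSpace X] [QuasiSeparatedSpace X] {R : DCoh.D X} (hR : DCoh.IsPerfect R)
    (M : DCoh.DQCoh Y) (hM : DCoh.IsPerfect M.obj) : Bij adj A R M :=
  (bij_iff adj A ⟨R, DGen9.isQCohD_of_isPerfect hR⟩ M).2 (Dual8.bijective_tau adj A M hM R hR)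

theorem psi_natural (R : DCoh.D X) {M M' : DCoh.DQCoh Y} (v : M.obj ⟶ M'.obj)
    (x : R ⟶ (Dual8.mq f (a.obj A) M).obj) :
    psi adj A R M' (x ≫ (midF f (a.obj A).obj).map v) = psi adj A R M x ≫ (tenL A.obj).map v := by
  let E : DM X := (a.obj A).obj
  let vM : (M.obj : DM Y) ⟶ (M'.obj : DM Y) := v
  let RM : DM X := R
  let xM : RM ⟶ E ⊗ (dPull f).obj (M.obj : DM Y) := x
  have hn : (rM f).map (E ◁ (dPull f).map vM) ≫ Dual8.projInv (a.obj A) M' =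
      Dual8.projInv (a.obj A) M ≫ (rM f).obj E ◁ vM := by
    haveI : IsIso (projApp (adjM f) E (M'.obj : DM Y)) := isIso_projT f (a.obj A).obj (a.obj A).property M'.obj M'.property
    rw [← cancel_mono (projApp (adjM f) E (M'.obj : DM Y)), Category.assoc, Category.assoc, projApp_natural,
      (Dual8.projInv_projApp (a.obj A) M').1]
    refine (Category.comp_id _).trans ?_
    rw [← Category.assoc, (Dual8.projInv_projApp (a.obj A) M).1]
    exact (Category.id_comp _).symm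
  let AM : DM Y := A.obj
  show (rM f).map (xM ≫ E ◁ (dPull f).map vM) ≫ Dual8.projInv (a.obj A) M' ≫ Dual8.epsA adj A ▷ (M'.obj : DM Y) =
    ((rM f).map xM ≫ Dual8.projInv (a.obj A) M ≫ Dual8.epsA adj A ▷ (M.obj : DM Y)) ≫ AM ◁ vM
  rw [Functor.map_comp, Category.assoc, reassoc_of% hn, whisker_exchange]
  simp only [Category.assoc]
  rfl

theorem psi_comp {R R' : DCoh.D X} (r : R' ⟶ R) (M : DCoh.DQCoh Y) (x : R ⟶ (Dual8.mq f (a.obj A) M).obj) :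
    psi adj A R' M (r ≫ x) = (DCoh.Rpush f).map r ≫ psi adj A R M x := by
  show (DCoh.Rpush f).map (r ≫ x) ≫ _ = (DCoh.Rpush f).map r ≫ ((DCoh.Rpush f).map x ≫ _)
  rw [Functor.map_comp, Category.assoc]

theorem psi_add (R : DCoh.D X) (M : DCoh.DQCoh Y) (x y : R ⟶ (Dual8.mq f (a.obj A) M).obj) :
    psi adj A R M (x + y) = psi adj A R M x + psi adj A R M y := by
  haveI := Dual8.additive_rpush (f := f)
  show (DCoh.Rpush f).map (x + y) ≫ _ = (DCoh.Rpush f).map x ≫ _ + (DCoh.Rpush f).map y ≫ _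
  rw [Functor.map_add, Preadditive.add_comp]

theorem psi_zero (R : DCoh.D X) (M : DCoh.DQCoh Y) : psi adj A R M 0 = 0 := by
  simpa using psi_add adj A R M 0 0

theorem psi_sub (R : DCoh.D X) (M : DCoh.DQCoh Y) (x y : R ⟶ (Dual8.mq f (a.obj A) M).obj) :
    psi adj A R M (x - y) = psi adj A R M x - psi adj A R M y := by
  rw [eq_sub_iff_add_eq, ← psi_add, sub_add_cancel]

/-- Correspondence for a retract. -/
theorem bij_of_retract {R R' : DCoh.D X} (i : R' ⟶ R) (p : R ⟶ R') (h : i ≫ p = 𝟙 R') (M : DCoh.DQCoh Y)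
    (hb : Bij adj A R M) : Bij adj A R' M := by
  refine ⟨fun x x' hx => ?_, fun y => ?_⟩
  · rw [← Category.id_comp x, ← Category.id_comp x', ← h, Category.assoc, Category.assoc]
    refine congrArg (i ≫ ·) (hb.1 ?_)
    rw [psi_comp, psi_comp, hx]
  · obtain ⟨x, hx⟩ := hb.2 ((DCoh.Rpush f).map p ≫ y)
    exact ⟨i ≫ x, by rw [psi_comp, hx, ← Functor.map_comp_assoc, h, CategoryTheory.Functor.map_id, Category.id_comp]⟩

/-- Correspondence on isomorphic objects. -/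
theorem bij_of_iso (R : DCoh.D X) {M M' : DCoh.DQCoh Y} (e : M.obj ≅ M'.obj) (hb : Bij adj A R M) :
    Bij adj A R M' := by
  let Φ := midF f (a.obj A).obj
  refine ⟨fun x x' hx => ?_, fun y => ?_⟩
  · refine (cancel_mono (Φ.map e.inv)).1 (hb.1 ?_)
    rw [psi_natural, psi_natural, hx]
  · obtain ⟨x, hx⟩ := hb.2 (y ≫ (tenL A.obj).map e.inv)
    refine ⟨x ≫ Φ.map e.hom, ?_⟩
    rw [psi_natural, hx, Category.assoc, ← Functor.map_comp, Iso.inv_hom_id, CategoryTheory.Functor.map_id]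
    exact Category.comp_id y

section Triangle

variable (R : DCoh.D X) (T : Triangle (DCoh.D Y)) (hT : T ∈ distTriang _) (q₁ : DCoh.IsQCohD T.obj₁)
  (q₂ : DCoh.IsQCohD T.obj₂) (q₃ : DCoh.IsQCohD T.obj₃)

include hT in
/-- Surjectivity at the middle of a triangle. -/
theorem surj_middle (s₁ : Function.Surjective (psi adj A R ⟨_, q₁⟩)) (s₃ : Function.Surjective (psi adj A R ⟨_, q₃⟩))
    (q₁' : DCoh.IsQCohD (T.obj₁⟦(1 : ℤ)⟧)) (i₁ : Function.Injective (psi adj A R ⟨_, q₁'⟩)) :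
    Function.Surjective (psi adj A R ⟨_, q₂⟩) := fun y => by
  let Φ := midF f (a.obj A).obj
  let Ψ := tenL A.obj
  haveI : Ψ.PreservesZeroMorphisms := Functor.preservesZeroMorphisms_of_isLeftAdjoint Ψ
  obtain ⟨x₃, hx₃⟩ := s₃ (y ≫ Ψ.map T.mor₂)
  have h0 : x₃ ≫ Φ.map T.mor₃ = 0 := by
    refine i₁ ?_
    rw [psi_natural adj A R (M := ⟨_, q₃⟩) (M' := ⟨_, q₁'⟩), psi_zero, hx₃, Category.assoc, ← Functor.map_comp,
      comp_distTriang_mor_zero₂₃ _ hT, Functor.map_zero, comp_zero]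
  obtain ⟨x₂, hx₂⟩ := Dual8.exists_lift_mid Φ T.rotate (rot_of_distTriang _ hT) x₃ h0
  let x₂' : R ⟶ (Dual8.mq f (a.obj A) ⟨_, q₂⟩).obj := x₂
  have h1 : (y - psi adj A R ⟨_, q₂⟩ x₂') ≫ Ψ.map T.mor₂ = 0 := by
    rw [Preadditive.sub_comp, ← psi_natural adj A R (M := ⟨_, q₂⟩) (M' := ⟨_, q₃⟩) T.mor₂,
      show x₂' ≫ Φ.map T.mor₂ = x₃ from hx₂, hx₃, sub_self]
  obtain ⟨y₁, hy₁⟩ := Dual8.exists_lift_mid Ψ T hT (y - psi adj A R ⟨_, q₂⟩ x₂') h1
  obtain ⟨x₁, hx₁⟩ := s₁ y₁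
  let x₁' : R ⟶ (Dual8.mq f (a.obj A) ⟨_, q₂⟩).obj := x₁ ≫ Φ.map T.mor₁
  refine ⟨x₂' + x₁', ?_⟩
  rw [psi_add, show x₁' = x₁ ≫ Φ.map T.mor₁ from rfl, psi_natural adj A R (M := ⟨_, q₁⟩) (M' := ⟨_, q₂⟩) T.mor₁,
    hx₁, hy₁, add_sub_cancel]

include hT in
/-- Injectivity at the middle of a triangle. -/
theorem inj_middle (i₁ : Function.Injective (psi adj A R ⟨_, q₁⟩)) (i₃ : Function.Injective (psi adj A R ⟨_, q₃⟩))
    (q₃' : DCoh.IsQCohD (T.obj₃⟦(-1 : ℤ)⟧)) (s₃ : Function.Surjective (psi adj A R ⟨_, q₃'⟩)) :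
    Function.Injective (psi adj A R ⟨_, q₂⟩) := fun x x' hx => sub_eq_zero.1 (by
  let Φ := midF f (a.obj A).obj
  let Ψ := tenL A.obj
  haveI : Φ.PreservesZeroMorphisms := Functor.preservesZeroMorphisms_of_isLeftAdjoint Φ
  haveI : Ψ.PreservesZeroMorphisms := Functor.preservesZeroMorphisms_of_isLeftAdjoint Ψ
  have hz : psi adj A R ⟨_, q₂⟩ (x - x') = 0 := by rw [psi_sub, hx, sub_self]
  have h3 : (x - x') ≫ Φ.map T.mor₂ = 0 := by
    refine i₃ ?_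
    rw [psi_natural adj A R (M := ⟨_, q₂⟩) (M' := ⟨_, q₃⟩), psi_zero, hz, zero_comp]
  obtain ⟨x₁, hx₁⟩ := Dual8.exists_lift_mid Φ T hT (x - x') h3
  let x₁' : R ⟶ (Dual8.mq f (a.obj A) ⟨_, q₁⟩).obj := x₁
  have h1 : psi adj A R ⟨_, q₁⟩ x₁' ≫ Ψ.map T.mor₁ = 0 := by
    rw [← psi_natural adj A R (M := ⟨_, q₁⟩) (M' := ⟨_, q₂⟩) T.mor₁, show x₁' ≫ Φ.map T.mor₁ = x - x' from hx₁, hz]
  obtain ⟨w, hw⟩ := Dual8.exists_lift_mid Ψ T.invRotate (inv_rot_of_distTriang _ hT) (psi adj A R ⟨_, q₁⟩ x₁') h1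
  obtain ⟨v, hv⟩ := s₃ w
  have h2 : v ≫ Φ.map T.invRotate.mor₁ = x₁' := by
    refine i₁ ?_
    rw [psi_natural adj A R (M := ⟨_, q₃'⟩) (M' := ⟨_, q₁⟩) T.invRotate.mor₁, hv]
    exact hw
  show x - x' = 0
  rw [← hx₁, ← show v ≫ Φ.map T.invRotate.mor₁ = x₁ from h2, Category.assoc, ← Functor.map_comp,
    show T.invRotate.mor₁ ≫ T.mor₁ = 0 from comp_distTriang_mor_zero₁₂ _ (inv_rot_of_distTriang _ hT),
    Functor.map_zero, comp_zero])

end Triangle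

/-- Correspondence in all shifts. -/
def BijS (R : DCoh.D X) (M : DCoh.D Y) : Prop :=
  ∀ (n : ℤ) (h : DCoh.IsQCohD (M⟦n⟧)), Bij adj A R ⟨_, h⟩

theorem bijS_middle (R : DCoh.D X) (T : Triangle (DCoh.D Y)) (hT : T ∈ distTriang _) (q₁ : DCoh.IsQCohD T.obj₁)
    (q₃ : DCoh.IsQCohD T.obj₃) (h₁ : BijS adj A R T.obj₁) (h₃ : BijS adj A R T.obj₃) : BijS adj A R T.obj₂ := by
  intro n hn
  let S := (Triangle.shiftFunctor (DCoh.D Y) n).obj T
  have hS : S ∈ distTriang _ := Triangle.shift_distinguished T hT n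
  have b₁ : DCoh.IsQCohD S.obj₁ := DMV.isQCohD_shift _ q₁ n
  have b₃ : DCoh.IsQCohD S.obj₃ := DMV.isQCohD_shift _ q₃ n
  have b₁' : DCoh.IsQCohD (S.obj₁⟦(1 : ℤ)⟧) := DMV.isQCohD_shift _ b₁ 1
  have b₃' : DCoh.IsQCohD (S.obj₃⟦(-1 : ℤ)⟧) := DMV.isQCohD_shift _ b₃ (-1)
  let e₁ := (shiftFunctorAdd' (DCoh.D Y) n 1 (n + 1) rfl).app T.obj₁
  let e₃ := (shiftFunctorAdd' (DCoh.D Y) n (-1) (n - 1) (by omega)).app T.obj₃
  refine ⟨inj_middle adj A R S hS b₁ hn b₃ (h₁ n b₁).1 (h₃ n b₃).1 b₃' ?_,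
    surj_middle adj A R S hS b₁ hn b₃ (h₁ n b₁).2 (h₃ n b₃).2 b₁' ?_⟩
  · exact (bij_of_iso adj A R (M := ⟨_, DMV.isQCohD_shift _ q₃ (n - 1)⟩) (M' := ⟨_, b₃'⟩) e₃ (h₃ _ _)).2
  · exact (bij_of_iso adj A R (M := ⟨_, DMV.isQCohD_shift _ q₁ (n + 1)⟩) (M' := ⟨_, b₁'⟩) e₁ (h₁ _ _)).1

theorem bijS_of_iso (R : DCoh.D X) {M M' : DCoh.D Y} (e : M ≅ M') (h : BijS adj A R M) : BijS adj A R M' :=
  fun n hn => bij_of_iso adj A R (M := ⟨_, DQC.isQCohD_of_iso ((shiftFunctor _ n).mapIso e).symm hn⟩)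
    ((shiftFunctor _ n).mapIso e) (h n _)

end Groth.Agent.BC8
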