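import Groth.Agent.Lib.BC8.TauTool
import Groth.Agent.Lib.FlatCx.Cochain
import Groth.Agent.Lib.DCompact9.Perfect
import Groth.Agent.Lib.DPerf.Tilde
import Groth.Agent.Lib.DPerf.Amp
import Groth.Agent.Lib.DGen9.CompactPerf

/-!
Classes in `a(A) ⊗ Lf^* M` for flat modules `M` over an affine base.
-/

set_option autoImplicit false
set_option linter.unusedSectionVars false
set_option linter.style.haveILetI false
set_option backward.isDefEq.respectTransparency false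
set_option backward.isDefEq.respectTransparency.types false
set_option maxHeartbeats 800000

universe u

open CategoryTheory CategoryTheory.Limits MonoidalCategory AlgebraicGeometry Pretriangulated

attribute [local instance] HasDerivedCategory.standard

namespace Groth.Agent.BC8

open DMon9

attribute [local instance] preadditiveDM

section Module

variable {R₀ : CommRingCat.{u}} {Y : Scheme.{u}} (e : Y ≅ Spec R₀)

/-- A module as a quasi-coherent object in degree zero. -/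
noncomputable abbrev sD (F : ModuleCat.{u} R₀) : DCoh.D Y :=
  (DGen9.tX e).obj ((DerivedCategory.singleFunctor (ModuleCat.{u} R₀) 0).obj F)

theorem texactAt_sD (F : ModuleCat.{u} R₀) [Module.Flat R₀ F] (n : ℤ) : TExactAt ((sD e F)⟦n⟧) n := by
  let F₀ : (Spec R₀).Modules := (tilde.functor R₀).obj F
  let F' : Y.Modules := F₀.restrict e.hom
  have hF' : FlatMod.IsFlat F' := DPerf.isFlat_res e.hom (DPerf.isFlat_tilde (N := F))
  let u : sD e F ≅ (DerivedCategory.singleFunctor Y.Modules 0).obj F' :=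
    (DPerf.resD e.hom).mapIso (((tilde.functor R₀).mapDerivedCategorySingleFunctor 0).app F) ≪≫
      ((Scheme.Modules.restrictFunctor e.hom).mapDerivedCategorySingleFunctor 0).app F₀
  let v : (sD e F)⟦n⟧ ≅ DerivedCategory.Q.obj (flatK F' hF' (-n)).obj :=
    (shiftFunctor _ n).mapIso u ≪≫
      ((DerivedCategory.singleFunctors Y.Modules).shiftIso n (-n) 0 (by omega)).app F' ≪≫
      (DerivedCategory.singleFunctorIsoCompQ Y.Modules (-n)).app F'
  have h := texactAt_of_iso v.symm (texactAt_single F' hF' (-n))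
  rwa [neg_neg] at h

theorem isGE_ten_sD (A : DCoh.D Y) (c : ℤ) [A.IsGE c] (F : ModuleCat.{u} R₀) [Module.Flat R₀ F] (n : ℤ) :
    ((tenL A).obj ((sD e F)⟦n⟧)).IsGE (c - n) :=
  (DerivedCategory.isGE_iff _ _).2 fun i hi =>
    texactAt_sD e F n (A : DM Y) i (DerivedCategory.isZero_of_isGE A c _ (by omega))

theorem isQCohD_sD (F : ModuleCat.{u} R₀) (n : ℤ) : DCoh.IsQCohD ((sD e F)⟦n⟧) :=
  DMV.isQCohD_shift _ (DGen9.isQCohD_tX e _) n

theorem isPerfect_sD_self (n : ℤ) : DCoh.IsPerfect ((sD e (ModuleCat.of R₀ R₀))⟦n⟧) := by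
  refine DGen9.isPerfect_shiftD ((DGen9.isPerfect_tX_iff e _).2 ?_) n
  refine ⟨(HomologicalComplex.single (ModuleCat.{u} R₀) (ComplexShape.up ℤ) 0).obj (ModuleCat.of R₀ R₀), 0, 0,
    fun i hi => HomologicalComplex.isZero_single_obj_X _ _ _ _ (by omega), fun i => ?_,
    ⟨((DerivedCategory.singleFunctorIsoCompQ (ModuleCat.{u} R₀) 0).app _).symm⟩⟩
  by_cases hi : i = 0
  · subst hi
    let l := (HomologicalComplex.singleObjXSelf (ComplexShape.up ℤ) (0 : ℤ) (ModuleCat.of R₀ R₀)).toLinearEquiv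
    exact ⟨Module.Finite.equiv l.symm, Module.Projective.of_equiv l.symm⟩
  · haveI := ModuleCat.subsingleton_of_isZero
      (HomologicalComplex.isZero_single_obj_X (ComplexShape.up ℤ) 0 (ModuleCat.of R₀ R₀) i hi)
    exact ⟨inferInstance, inferInstance⟩

theorem exists_sigma_free (L : ModuleCat.{u} R₀) [Module.Free R₀ L] (n : ℤ) :
    ∃ (J : Type u) (_ : HasCoproduct fun _ : J => (sD e (ModuleCat.of R₀ R₀))⟦n⟧),
      Nonempty ((∐ fun _ : J => (sD e (ModuleCat.of R₀ R₀))⟦n⟧) ≅ (sD e L)⟦n⟧) := by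
  let J := Module.Free.ChooseBasisIndex R₀ L
  let b := Module.Free.chooseBasis R₀ L
  let S := DerivedCategory.singleFunctor (ModuleCat.{u} R₀) 0
  let G := HomologicalComplex.single (ModuleCat.{u} R₀) (ComplexShape.up ℤ) (0 : ℤ)
  haveI := DCompact9.hasColimitsOfShape_small (R := R₀) (Equiv.refl J)
  haveI := DCompact9.preservesColimitsOfShape_Q (R := R₀) (Equiv.refl J)
  let c : Cofan fun _ : J => ModuleCat.of R₀ R₀ :=
    Cofan.mk L fun j => ModuleCat.ofHom (LinearMap.toSpanSingleton R₀ L (b j))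
  have hc : IsColimit c := Cofan.IsColimit.mk _
    (fun s => ModuleCat.ofHom (b.constr R₀ fun j => (s.inj j) (1 : R₀)))
    (fun s j => by
      refine ModuleCat.hom_ext (LinearMap.ext_ring ?_)
      change b.constr R₀ (fun j => (s.inj j) (1 : R₀)) ((1 : R₀) • b j) = _
      rw [one_smul, b.constr_basis])
    (fun s m hm => by
      refine ModuleCat.hom_ext (b.ext fun j => ?_)
      rw [ModuleCat.hom_ofHom, b.constr_basis, ← hm j]
      exact congrArg m (one_smul R₀ (b j)).symm)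
  let h' := isColimitCofanMkObjOfIsColimit (G ⋙ DerivedCategory.Q) (f := fun _ : J => ModuleCat.of R₀ R₀)
    (g := c.inj) hc
  let κ := DerivedCategory.singleFunctorIsoCompQ (ModuleCat.{u} R₀) 0
  let N₁ : J → DerivedCategory (ModuleCat.{u} R₀) := fun _ => (G ⋙ DerivedCategory.Q).obj (ModuleCat.of R₀ R₀)
  let w₁ : ∐ N₁ ≅ S.obj L := (coproductIsCoproduct _).coconePointUniqueUpToIso h' ≪≫ (κ.app L).symm
  let N₂ : J → DCoh.D Y := fun j => (DGen9.tX e).obj (N₁ j)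
  haveI := DPush.hasCoproduct_D N₂
  haveI := DGen9.isIso_sigmaComparison_tX e N₁
  let N₃ : J → DCoh.D Y := fun j => (N₂ j)⟦n⟧
  haveI := DPush.hasCoproduct_D N₃
  haveI : IsIso (sigmaComparison (shiftFunctor (DCoh.D Y) n) N₂) := inferInstance
  let u : (sD e (ModuleCat.of R₀ R₀))⟦n⟧ ≅
      ((DGen9.tX e).obj ((G ⋙ DerivedCategory.Q).obj (ModuleCat.of R₀ R₀)))⟦n⟧ :=
    (shiftFunctor _ n).mapIso ((DGen9.tX e).mapIso (κ.app (ModuleCat.of R₀ R₀)))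
  haveI := DPush.hasCoproduct_D fun _ : J => (sD e (ModuleCat.of R₀ R₀))⟦n⟧
  haveI : HasColimitsOfShape (Discrete J) (DCoh.D Y) := DGen9.hasCoproducts_D Y J
  exact ⟨J, inferInstance, ⟨Sigma.mapIso (fun _ => u) ≪≫
    asIso (sigmaComparison (shiftFunctor (DCoh.D Y) n) N₂) ≪≫
    (shiftFunctor _ n).mapIso (asIso (sigmaComparison (DGen9.tX e) N₁) ≪≫ (DGen9.tX e).mapIso w₁)⟩⟩

end Module

section Bij

variable {X Y : Scheme.{u}} {f : X ⟶ Y} [DCoh.HasRpush f] {hf : DCoh.RpushPreservesQCoh f}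
  [QuasiCompact f] [QuasiSeparated f] [CompactSpace X] [QuasiSeparatedSpace X] [IsAffine Y]
  {a : DCoh.DQCoh Y ⥤ DCoh.DQCoh X} (adj : DCoh.RpushQ f hf ⊣ a) (A : DCoh.DQCoh Y)

/-- Classes lift along flat quotients on the side of `X`. -/
theorem exists_lift_mid_flat {R : DCoh.D X} (hR : DCoh.IsPerfect R) (T : Triangle (DCoh.D Y)) (hT : T ∈ distTriang _)
    (q₁ : DCoh.IsQCohD T.obj₁) (q₂ : DCoh.IsQCohD T.obj₂) (q₃ : DCoh.IsQCohD T.obj₃) (k : ℤ)
    (h₁ : TExactAt (T.obj₁⟦(1 : ℤ)⟧) (k + 1)) (h₂ : TExactAt (T.obj₂⟦(1 : ℤ)⟧) (k + 1)) (h₃ : TExactAt T.obj₃ k)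
    (E : DCoh.DQCoh X) (x : R ⟶ (midF f E.obj).obj T.obj₃) :
    ∃ x' : R ⟶ (midF f E.obj).obj T.obj₂, x' ≫ (midF f E.obj).map T.mor₂ = x := by
  let RM : DM X := R
  obtain ⟨D, hD, ⟨pair⟩⟩ := Dual8.exists_pairing RM hR
  haveI := pair
  let EM : DM X := E.obj
  let G : DM Y := (rM f).obj (D ⊗ EM)
  have qDE : DCoh.IsQCohD ((D ⊗ EM : DM X) : DCoh.D X) := isQCohD_tensor (DGen9.isQCohD_of_isPerfect hD) E.property
  have qG : DCoh.IsQCohD (G : DCoh.D Y) := rpushPreserves f _ qDE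
  let T₂ : DM Y := T.obj₂
  let T₃ : DM Y := T.obj₃
  let v : T₂ ⟶ T₃ := T.mor₂
  let Λ : ∀ M : DM Y, (𝟙_ (DM Y) ⟶ G ⊗ M) → (RM ⟶ EM ⊗ (dPull f).obj M) := fun M z =>
    lam EM ((dPull f).obj M)
      (Functor.LaxMonoidal.ε (dPull f) ≫ ((adjM f).homEquiv _ _).symm (z ≫ projApp (adjM f) (D ⊗ EM) M))
  have nat : ∀ z : 𝟙_ (DM Y) ⟶ G ⊗ T₂, Λ T₃ (z ≫ G ◁ v) = Λ T₂ z ≫ EM ◁ (dPull f).map v := fun z => by
    simp only [Λ, G]
    rw [← lam_natural, Category.assoc, projApp_natural, ← Category.assoc z,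
      Adjunction.homEquiv_naturality_right_symm, Category.assoc]
  have surj : Function.Surjective (Λ T₃) := fun y => by
    obtain ⟨w, hw⟩ := lam_surjective (D := D) (P := RM) EM ((dPull f).obj T₃) y
    haveI : IsIso (projApp (adjM f) (D ⊗ EM) T₃) := isIso_projT f _ qDE _ q₃
    refine ⟨(adjM f).homEquiv _ _ ((Functor.Monoidal.εIso (dPull f)).inv ≫ w) ≫ inv (projApp (adjM f) (D ⊗ EM) T₃), ?_⟩
    simp only [Λ, Category.assoc, IsIso.inv_hom_id, Category.comp_id, Equiv.symm_apply_apply]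
    rw [← hw]
    exact congrArg (lam EM ((dPull f).obj T₃)) ((Functor.Monoidal.εIso (dPull f)).hom_inv_id_assoc w)
  obtain ⟨z, hz⟩ := surj x
  obtain ⟨z', hz'⟩ := exists_lift_tensor (G := (G : DCoh.D Y)) qG T hT q₁ q₂ q₃ k h₁ h₂ h₃ z
  refine ⟨Λ T₂ z', ?_⟩
  show Λ T₂ z' ≫ EM ◁ (dPull f).map v = x
  rw [← nat, ← hz]
  exact congrArg (Λ T₃) hz'

/-- Maps out of pseudo-coherent objects lift along flat quotients. -/
theorem exists_lift_ten_flat {C : DCoh.D Y} (hC : DCoh.IsQCohD C) (hpc : ∀ m : ℤ, DCoh.IsPseudoCoherentD m C)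
    (T : Triangle (DCoh.D Y)) (hT : T ∈ distTriang _)
    (q₁ : DCoh.IsQCohD T.obj₁) (q₂ : DCoh.IsQCohD T.obj₂) (q₃ : DCoh.IsQCohD T.obj₃) (k : ℤ)
    (h₁ : TExactAt (T.obj₁⟦(1 : ℤ)⟧) (k + 1)) (h₂ : TExactAt (T.obj₂⟦(1 : ℤ)⟧) (k + 1)) (h₃ : TExactAt T.obj₃ k)
    (c : ℤ) (g₂ : ((tenL A.obj).obj T.obj₂).IsGE c) (g₃ : ((tenL A.obj).obj T.obj₃).IsGE c)
    (y : C ⟶ (tenL A.obj).obj T.obj₃) :
    ∃ y' : C ⟶ (tenL A.obj).obj T.obj₂, y' ≫ (tenL A.obj).map T.mor₂ = y := by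
  obtain ⟨P, α, hP, hα⟩ := exists_approx_ge hC hpc c
  let PM : DM Y := P
  obtain ⟨D, hD, ⟨pair⟩⟩ := Dual8.exists_pairing PM hP
  haveI := pair
  let AM : DM Y := A.obj
  let G : DM Y := D ⊗ AM
  have qG : DCoh.IsQCohD (G : DCoh.D Y) := isQCohD_tensor (DGen9.isQCohD_of_isPerfect hD) A.property
  let T₂ : DM Y := T.obj₂
  let T₃ : DM Y := T.obj₃
  let v : T₂ ⟶ T₃ := T.mor₂
  obtain ⟨z, hz⟩ := lam_surjective (D := D) (P := PM) AM T₃ (α ≫ y : P ⟶ (tenL A.obj).obj T.obj₃)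
  obtain ⟨z', hz'⟩ := exists_lift_tensor (G := (G : DCoh.D Y)) qG T hT q₁ q₂ q₃ k h₁ h₂ h₃ z
  obtain ⟨y', hy'⟩ := (hα _ g₂).2 (lam (P := PM) AM T₂ z' : PM ⟶ AM ⊗ T₂)
  have hn : lam (P := PM) AM T₂ z' ≫ AM ◁ v = (α ≫ y : P ⟶ (tenL A.obj).obj T.obj₃) := by
    rw [← lam_natural, ← hz]
    exact congrArg (lam (P := PM) AM T₃) hz'
  refine ⟨y', (hα _ g₃).1 ?_⟩
  exact ((Category.assoc _ _ _).symm.trans (congrArg (· ≫ (tenL A.obj).map T.mor₂) hy')).trans hn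

variable {R₀ : CommRingCat.{u}} (e : Y ≅ Spec R₀)

theorem bij_sD_free (c : ℤ) [A.obj.IsGE c] {R : DCoh.D X} (hR : DCoh.IsPerfect R)
    (hpc : ∀ m : ℤ, DCoh.IsPseudoCoherentD m ((DCoh.Rpush f).obj R)) (L : ModuleCat.{u} R₀) [Module.Free R₀ L]
    (n : ℤ) : Bij adj A R ⟨(sD e L)⟦n⟧, isQCohD_sD e L n⟩ := by
  haveI : Module.Flat R₀ L := inferInstance
  obtain ⟨J, hJ, ⟨i⟩⟩ := exists_sigma_free e L n
  have hM := DQC.isQCohD_of_iso i.symm (isQCohD_sD e L n)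
  refine bij_of_iso adj A R (M := ⟨_, hM⟩) i
    (bij_sigma adj A hR hpc _ (fun _ => isPerfect_sD_self e n) hM (c - n) ?_)
  haveI := isGE_ten_sD e A.obj c L n
  exact (DerivedCategory.isGE_iff _ _).2 fun j hj =>
    (DerivedCategory.isZero_of_isGE _ (c - n) j hj).of_iso
      ((DerivedCategory.homologyFunctor _ j).mapIso ((tenL A.obj).mapIso i))

/-- The triangle of a free presentation. -/
theorem exists_presentation (F : ModuleCat.{u} R₀) [Module.Flat R₀ F] (n : ℤ) :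
    ∃ (N L : ModuleCat.{u} R₀) (_ : Module.Flat R₀ N) (_ : Module.Free R₀ L)
      (u : (sD e N)⟦n⟧ ⟶ (sD e L)⟦n⟧) (v : (sD e L)⟦n⟧ ⟶ (sD e F)⟦n⟧)
      (w : (sD e F)⟦n⟧ ⟶ ((sD e N)⟦n⟧)⟦(1 : ℤ)⟧), Triangle.mk u v w ∈ distTriang _ := by
  let p : (F →₀ R₀) →ₗ[R₀] F := Finsupp.linearCombination R₀ id
  have hp : Function.Surjective p := Finsupp.linearCombination_id_surjective R₀ F
  haveI := FlatCxLib.flat_ker_of_surjective hp
  have hS := LinearMap.shortExact_shortComplexKer hp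
  exact ⟨ModuleCat.of R₀ (LinearMap.ker p), ModuleCat.of R₀ (F →₀ R₀), inferInstance, inferInstance, _, _, _,
    Triangle.shift_distinguished _ ((DGen9.tX e).map_distinguished _ hS.singleTriangle_distinguished) n⟩

theorem surj_sD (c : ℤ) [A.obj.IsGE c] {R : DCoh.D X} (hR : DCoh.IsPerfect R)
    (hpc : ∀ m : ℤ, DCoh.IsPseudoCoherentD m ((DCoh.Rpush f).obj R)) (F : ModuleCat.{u} R₀) [Module.Flat R₀ F]
    (n : ℤ) : Function.Surjective (psi adj A R ⟨(sD e F)⟦n⟧, isQCohD_sD e F n⟩) := fun y => by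
  obtain ⟨N, L, hN, hL, u, v, w, hT⟩ := exists_presentation e F n
  let e₁ := fun M => (shiftFunctorAdd' (DCoh.D Y) n 1 (n + 1) rfl).app (sD e M)
  obtain ⟨y', hy'⟩ := exists_lift_ten_flat A (hf R (DGen9.isQCohD_of_isPerfect hR)) hpc _ hT (isQCohD_sD e N n)
    (isQCohD_sD e L n) (isQCohD_sD e F n) n (texactAt_of_iso (e₁ N) (texactAt_sD e N (n + 1)))
    (texactAt_of_iso (e₁ L) (texactAt_sD e L (n + 1))) (texactAt_sD e F n) (c - n)
    (isGE_ten_sD e A.obj c L n) (isGE_ten_sD e A.obj c F n) y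
  obtain ⟨x, hx⟩ := (bij_sD_free adj A e c hR hpc L n).2 y'
  refine ⟨x ≫ (midF f (a.obj A).obj).map v, ?_⟩
  rw [psi_natural adj A R (M := ⟨_, isQCohD_sD e L n⟩) (M' := ⟨_, isQCohD_sD e F n⟩), hx]
  exact hy'

theorem bij_sD (c : ℤ) [A.obj.IsGE c] {R : DCoh.D X} (hR : DCoh.IsPerfect R)
    (hpc : ∀ m : ℤ, DCoh.IsPseudoCoherentD m ((DCoh.Rpush f).obj R)) (F : ModuleCat.{u} R₀) [Module.Flat R₀ F]
    (n : ℤ) : Bij adj A R ⟨(sD e F)⟦n⟧, isQCohD_sD e F n⟩ := by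
  refine ⟨fun x x' hx => sub_eq_zero.1 ?_, surj_sD adj A e c hR hpc F n⟩
  obtain ⟨N, L, hN, hL, u, v, w, hT⟩ := exists_presentation e F n
  let e₁ := fun M => (shiftFunctorAdd' (DCoh.D Y) n 1 (n + 1) rfl).app (sD e M)
  let Φ := midF f (a.obj A).obj
  let Ψ := tenL A.obj
  haveI : Φ.PreservesZeroMorphisms := Functor.preservesZeroMorphisms_of_isLeftAdjoint Φ
  obtain ⟨x₂, hx₂⟩ := exists_lift_mid_flat hR _ hT (isQCohD_sD e N n)
    (isQCohD_sD e L n) (isQCohD_sD e F n) n (texactAt_of_iso (e₁ N) (texactAt_sD e N (n + 1)))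
    (texactAt_of_iso (e₁ L) (texactAt_sD e L (n + 1))) (texactAt_sD e F n) (a.obj A) (x - x')
  let x₂' : R ⟶ (Dual8.mq f (a.obj A) ⟨_, isQCohD_sD e L n⟩).obj := x₂
  have h0 : psi adj A R ⟨_, isQCohD_sD e L n⟩ x₂' ≫ Ψ.map v = 0 := by
    rw [← psi_natural adj A R (M := ⟨_, isQCohD_sD e L n⟩) (M' := ⟨_, isQCohD_sD e F n⟩) v,
      show x₂' ≫ Φ.map v = x - x' from hx₂, psi_sub, hx, sub_self]
  obtain ⟨y₁, hy₁⟩ := Dual8.exists_lift_mid Ψ _ hT (psi adj A R ⟨_, isQCohD_sD e L n⟩ x₂') h0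
  change y₁ ≫ Ψ.map u = _ at hy₁
  obtain ⟨x₁, hx₁⟩ := surj_sD adj A e c hR hpc N n y₁
  have h1 : x₁ ≫ Φ.map u = x₂' := by
    refine (bij_sD_free adj A e c hR hpc L n).1 ?_
    rw [psi_natural adj A R (M := ⟨_, isQCohD_sD e N n⟩) (M' := ⟨_, isQCohD_sD e L n⟩), hx₁, hy₁]
  rw [← show x₂' ≫ Φ.map v = x - x' from hx₂, ← h1, Category.assoc, ← Functor.map_comp,
    show u ≫ v = 0 from comp_distTriang_mor_zero₁₂ _ hT, Functor.map_zero, comp_zero]

end Bij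

end Groth.Agent.BC8
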