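import Groth.Agent.Lib.BC8.TauBij
import Groth.Agent.Lib.DGen9.GlobalApprox
import Groth.Agent.Lib.DGen9.PerfPush

/-!
Classes in coproducts, approximation and transfer of classes to the unit.
-/

set_option autoImplicit false
set_option linter.unusedSectionVars false
set_option linter.style.haveILetI false
set_option backward.isDefEq.respectTransparency false
set_option backward.isDefEq.respectTransparency.types false
set_option maxHeartbeats 800000

universe u

open CategoryTheory CategoryTheory.Limits MonoidalCategory AlgebraicGeometry Pretriangulated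

attribute [local instance] HasDerivedCategory.standard

namespace Groth.Agent.BC8

open DMon9

attribute [local instance] preadditiveDM

variable {X Y : Scheme.{u}}

/-- Perfect approximations computing maps into bounded below objects. -/
theorem exists_approx_ge [CompactSpace Y] [QuasiSeparatedSpace Y] {C : DCoh.D Y} (hC : DCoh.IsQCohD C)
    (hpc : ∀ m : ℤ, DCoh.IsPseudoCoherentD m C) (c : ℤ) :
    ∃ (P : DCoh.D Y) (α : P ⟶ C), DCoh.IsPerfect P ∧
      ∀ Z : DCoh.D Y, Z.IsGE c → Function.Bijective fun y : C ⟶ Z => α ≫ y := by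
  obtain ⟨r, hr⟩ := DGen9.exists_approximation Y Set.univ isClosed_univ (by rw [Set.compl_univ]; exact isCompact_empty)
  obtain ⟨P, α, hP, -, hiso, hepi⟩ := hr (c - 2) C hC (hpc _) (fun _ _ => Set.subset_univ _)
  obtain ⟨N, g, h, hT⟩ := distinguished_cocone_triangle α
  have hap : DGen9.ApproxMap (c - 2) α := fun i hi => by
    haveI := hiso (i + 1) (by omega)
    refine ⟨?_, inferInstance⟩
    rcases eq_or_lt_of_le hi with rfl | hlt
    · exact hepi
    · haveI := hiso i hlt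
      infer_instance
  have hN : N.IsLE (c - 2) := (DerivedCategory.isLE_iff _ _).2 fun i hi =>
    (DGen9.approxMap_iff_isZero _ hT).1 hap i (by omega)
  refine ⟨P, α, hP, fun Z hZ => ?_⟩
  let t : Triangulated.TStructure (DCoh.D Y) := DerivedCategory.TStructure.t
  haveI : t.IsGE Z c := hZ
  haveI : t.IsLE N (c - 2) := hN
  haveI : t.IsLE (Triangle.mk α g h).obj₃ (c - 2) := hN
  refine ⟨fun y y' hy => sub_eq_zero.1 ?_, fun y => ?_⟩
  · have h0 : α ≫ (y - y') = 0 := by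
      rw [Preadditive.comp_sub, sub_eq_zero]
      exact hy
    obtain ⟨v, hv⟩ := Triangle.yoneda_exact₂ _ hT (y - y') h0
    rw [hv, show v = 0 from t.zero v (c - 2) c (by omega), comp_zero]
  · haveI : t.IsLE (N⟦(-1 : ℤ)⟧) (c - 1) := t.isLE_shift N (c - 2) (-1) (c - 1) (by omega)
    obtain ⟨v, hv⟩ := Triangle.yoneda_exact₂ _ (inv_rot_of_distTriang _ hT) y
      (show _ ≫ y = 0 from t.zero (_ ≫ y : N⟦(-1 : ℤ)⟧ ⟶ Z) (c - 1) c (by omega))
    exact ⟨v, hv.symm⟩

/-- Classes on perfect objects in images of coproducts. -/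
theorem exists_fix [CompactSpace X] [QuasiSeparatedSpace X] (G : DCoh.D Y ⥤ DCoh.D X) [G.IsLeftAdjoint]
    {P : DCoh.D X} (hP : DCoh.IsPerfect P) {J : Type u} (N : J → DCoh.D Y) [HasCoproduct N]
    (hG : ∀ j, DCoh.IsQCohD (G.obj (N j))) (x : P ⟶ G.obj (∐ N)) :
    ∃ s : Finset J, x ≫ G.map (DPush.finProj N s) = x := by
  haveI : G.PreservesZeroMorphisms := Functor.preservesZeroMorphisms_of_isLeftAdjoint G
  haveI := preservesBinaryBiproducts_of_preservesBinaryCoproducts G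
  haveI : G.Additive := Functor.additive_of_preservesBinaryBiproducts G
  haveI := DPush.hasCoproduct_D fun j => G.obj (N j)
  haveI : IsIso (sigmaComparison G N) := inferInstance
  obtain ⟨s, hs⟩ := DGen9.qFin_of_isPerfect hP J _ hG (x ≫ inv (sigmaComparison G N))
  refine ⟨s, ?_⟩
  have h := congrArg (· ≫ sigmaComparison G N) hs
  simp only [Category.assoc, IsIso.inv_hom_id, Category.comp_id, DPush.finProj_comparison, IsIso.inv_hom_id_assoc] at h
  exact h

/-- Finite projections factor through perfect objects. -/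
theorem exists_fac_finProj {J : Type u} (N : J → DCoh.D Y) [HasCoproduct N] (hN : ∀ j, DCoh.IsPerfect (N j))
    (s : Finset J) : ∃ (P : DCoh.D Y) (u : ∐ N ⟶ P) (w : P ⟶ ∐ N), DCoh.IsPerfect P ∧ u ≫ w = DPush.finProj N s := by
  classical
  rw [DPush.finProj_eq_sum]
  induction s using Finset.induction_on with
  | empty =>
    obtain ⟨Z, hZ⟩ := (inferInstance : Limits.HasZeroObject (DCoh.D Y)).zero
    exact ⟨Z, 0, 0, PerfPush9.isPerfect_zero hZ, by simp⟩
  | insert j t hj ih =>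
    obtain ⟨P, u, w, hP, huw⟩ := ih
    refine ⟨N j ⊞ P, biprod.lift (Sigma.π N j) u, biprod.desc (Sigma.ι N j) w, DGen9.isPerfect_obj₂ (binaryBiproductTriangle (N j) P) (binaryBiproductTriangle_distinguished _ _) (hN j) hP, ?_⟩
    rw [biprod.lift_desc, huw, Finset.sum_insert hj]

section Bij

variable {f : X ⟶ Y} [DCoh.HasRpush f] {hf : DCoh.RpushPreservesQCoh f}
  [QuasiCompact f] [QuasiSeparated f] [CompactSpace X] [QuasiSeparatedSpace X] [CompactSpace Y] [QuasiSeparatedSpace Y]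
  {a : DCoh.DQCoh Y ⥤ DCoh.DQCoh X} (adj : DCoh.RpushQ f hf ⊣ a) (A : DCoh.DQCoh Y)

/-- The correspondence for coproducts of perfect objects. -/
theorem bij_sigma {R : DCoh.D X} (hR : DCoh.IsPerfect R)
    (hpc : ∀ m : ℤ, DCoh.IsPseudoCoherentD m ((DCoh.Rpush f).obj R)) {J : Type u} (N : J → DCoh.D Y) [HasCoproduct N]
    (hN : ∀ j, DCoh.IsPerfect (N j)) (hM : DCoh.IsQCohD (∐ N)) (c : ℤ) (hge : ((tenL A.obj).obj (∐ N)).IsGE c) :
    Bij adj A R ⟨∐ N, hM⟩ := by
  obtain ⟨P, α, hP, hα⟩ := exists_approx_ge (hf R (DGen9.isQCohD_of_isPerfect hR)) hpc c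
  have qN : ∀ j, DCoh.IsQCohD (N j) := fun j => DGen9.isQCohD_of_isPerfect (hN j)
  let Φ := midF f (a.obj A).obj
  let Ψ := tenL A.obj
  have fixY : ∀ y : (DCoh.Rpush f).obj R ⟶ Ψ.obj (∐ N), ∃ s : Finset J, y ≫ Ψ.map (DPush.finProj N s) = y := fun y => by
    obtain ⟨s, hs⟩ := exists_fix Ψ hP N (fun j => isQCohD_ten A.property (qN j)) (α ≫ y)
    exact ⟨s, (hα _ hge).1 ((Category.assoc _ _ _).symm.trans hs)⟩
  refine ⟨fun x x' hx => sub_eq_zero.1 ?_, fun y => ?_⟩
  · obtain ⟨s, hs⟩ := exists_fix Φ hR N (fun j => (Dual8.mq f (a.obj A) ⟨N j, qN j⟩).property) (x - x')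
    obtain ⟨P', u, w, hP', huw⟩ := exists_fac_finProj N hN s
    have h0 : (x - x') ≫ Φ.map u = 0 := by
      refine (bij_of_isPerfect adj A hR ⟨P', DGen9.isQCohD_of_isPerfect hP'⟩ hP').1 ?_
      rw [psi_natural adj A R (M := ⟨∐ N, hM⟩) (M' := ⟨P', DGen9.isQCohD_of_isPerfect hP'⟩), psi_zero, psi_sub,
        hx, sub_self, zero_comp]
    rw [← hs, ← huw, Functor.map_comp, reassoc_of% h0, zero_comp]
  · obtain ⟨s, hs⟩ := fixY y
    obtain ⟨P', u, w, hP', huw⟩ := exists_fac_finProj N hN s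
    obtain ⟨x, hx⟩ := (bij_of_isPerfect adj A hR ⟨P', DGen9.isQCohD_of_isPerfect hP'⟩ hP').2 (y ≫ Ψ.map u)
    refine ⟨x ≫ Φ.map w, ?_⟩
    rw [psi_natural adj A R (M := ⟨P', DGen9.isQCohD_of_isPerfect hP'⟩) (M' := ⟨∐ N, hM⟩), hx, Category.assoc,
      ← Functor.map_comp, huw]
    exact hs

end Bij

section Unit

variable {C : Type*} [Category* C] [MonoidalCategory C] {D P : C} [ExactPairing D P]

/-- Classes at the unit as maps out of a dual. -/
def lam (E W : C) (z : 𝟙_ C ⟶ (D ⊗ E) ⊗ W) : P ⟶ E ⊗ W :=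
  (ρ_ P).inv ≫ (tensorLeftHomEquiv (𝟙_ C) D P (E ⊗ W)).symm (z ≫ (α_ D E W).hom)

theorem lam_surjective (E W : C) : Function.Surjective (lam (D := D) (P := P) E W) := fun x =>
  ⟨(tensorLeftHomEquiv (𝟙_ C) D P (E ⊗ W)) ((ρ_ P).hom ≫ x) ≫ (α_ D E W).inv, by
    simp [lam]⟩

theorem lam_natural (E : C) {W W' : C} (v : W ⟶ W') (z : 𝟙_ C ⟶ (D ⊗ E) ⊗ W) :
    lam (P := P) E W' (z ≫ (D ⊗ E) ◁ v) = lam (P := P) E W z ≫ E ◁ v := by
  simp only [lam, Category.assoc]
  congr 1
  rw [associator_naturality_right, ← Category.assoc]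
  show P ◁ ((z ≫ (α_ D E W).hom) ≫ D ◁ E ◁ v) ≫ (α_ _ _ _).inv ≫ ε_ D P ▷ _ ≫ (λ_ _).hom =
    (P ◁ (z ≫ (α_ D E W).hom) ≫ (α_ _ _ _).inv ≫ ε_ D P ▷ _ ≫ (λ_ _).hom) ≫ E ◁ v
  rw [MonoidalCategory.whiskerLeft_comp, Category.assoc, associator_inv_naturality_right_assoc,
    whisker_exchange_assoc, leftUnitor_naturality]
  simp only [Category.assoc]

end Unit

end Groth.Agent.BC8
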