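import Groth.Agent.Lib.BC8.DegreeHom
import Groth.Agent.Lib.BC8.Tri
import Groth.Agent.Lib.PCHH9.Main

/-! The lowest cohomology of a right adjoint of direct image represents duals of top cohomology. -/

set_option autoImplicit false
set_option linter.style.haveILetI false
set_option linter.unusedSectionVars false
set_option backward.isDefEq.respectTransparency false
set_option backward.isDefEq.respectTransparency.types false
set_option maxHeartbeats 1600000

universe u

open CategoryTheory CategoryTheory.Limits AlgebraicGeometry Opposite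

attribute [local instance] HasDerivedCategory.standard

noncomputable section

namespace Groth.Agent.BC8

theorem isQCohD_inD' {Y : Scheme.{u}} {M : Y.Modules} (hM : Coh.IsQCoh M) : DCoh.IsQCohD (DCoh.inD Y M) :=
  DQC.isQCohD_toD (K := (HomologicalComplex.single Y.Modules (ComplexShape.up ℤ) 0).obj M) fun i => by
    by_cases hi : i = 0
    · subst hi
      exact M1.isQCoh_of_isIso (HomologicalComplex.singleObjXSelf (ComplexShape.up ℤ) 0 M).symm hM
    · exact DPush.isQCoh_of_isZero (HomologicalComplex.isZero_single_obj_X _ 0 M i hi)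

variable (A : Type u) [CommRing A] (X : Scheme.{u}) [X.Over (Spec (CommRingCat.of A))]

/-- `Ext` from the structure sheaf is cohomology. -/
def extHH (G : X.Modules) (n : ℕ) : Abelian.Ext.{u} (Coh.structureModule X) G n ≃ₗ[A] Coh.HH X G n :=
  haveI : PreservesFiniteColimits (SheafOfModules.toSheaf X.ringCatSheaf) :=
    haveI : PreservesColimitsOfSize.{u, u} (SheafOfModules.toSheaf X.ringCatSheaf) := ⟨inferInstance⟩
    PreservesColimitsOfSize.preservesFiniteColimits _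
  { AddEquiv.ofBijective _
      (SiteCoh.bijective_extCompHom (R := SheafOfModules.toSheaf X.ringCatSheaf)
        (SiteCoh.oneSheafMap X.ringCatSheaf) (SiteCoh.bijective_oneSheafMap X.ringCatSheaf)
        (fun I hI k => SiteCoh.subsingleton_H_of_totallyAcyclic
          (SiteCoh.isTotallyAcyclic_injective X.ringCatSheaf I) k) n G) with
    map_smul' := fun a x => ExtFin9.map_extCompHom_smul A G n a x }

theorem extHH_comp {G G' : X.Modules} (φ : G ⟶ G') (n : ℕ) (x : Abelian.Ext.{u} (Coh.structureModule X) G n) :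
    extHH A X G' n (x.comp (Abelian.Ext.mk₀ φ) (add_zero n)) =
      Sheaf.H.map ((SheafOfModules.toSheaf X.ringCatSheaf).map φ) n (extHH A X G n x) := by
  haveI : PreservesFiniteColimits (SheafOfModules.toSheaf X.ringCatSheaf) :=
    haveI : PreservesColimitsOfSize.{u, u} (SheafOfModules.toSheaf X.ringCatSheaf) := ⟨inferInstance⟩
    PreservesColimitsOfSize.preservesFiniteColimits _
  show SiteCoh.extCompHom (R := SheafOfModules.toSheaf X.ringCatSheaf) (SiteCoh.oneSheafMap X.ringCatSheaf) G' n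
      (x.comp (Abelian.Ext.mk₀ φ) (add_zero n)) = Sheaf.H.map _ n (SiteCoh.extCompHom
      (R := SheafOfModules.toSheaf X.ringCatSheaf) (SiteCoh.oneSheafMap X.ringCatSheaf) G n x)
  rw [SiteCoh.extCompHom_comp, Abelian.Ext.mapExactFunctor_mk₀, Sheaf.H.map_apply]

/-- Cohomology classes as maps in the derived category. -/
def hhHom (G : X.Modules) (n : ℕ) :
    Coh.HH X G n ≃ₗ[A] (DCoh.inD X (Coh.structureModule X) ⟶ (DCoh.inD X G)⟦(n : ℤ)⟧) :=
  (extHH A X G n).symm ≪≫ₗ Abelian.Ext.homLinearEquiv (R := A)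

theorem hhHom_map {G G' : X.Modules} (φ : G ⟶ G') (n : ℕ) (x : Coh.HH X G n) :
    hhHom A X G' n (Sheaf.H.map ((SheafOfModules.toSheaf X.ringCatSheaf).map φ) n x) =
      hhHom A X G n x ≫ ((DerivedCategory.singleFunctor X.Modules 0).map φ)⟦(n : ℤ)⟧' := by
  obtain ⟨y, rfl⟩ := (extHH A X G n).surjective x
  rw [← extHH_comp A X φ]
  simp only [hhHom, LinearEquiv.trans_apply, LinearEquiv.symm_apply_apply]
  show (y.comp (Abelian.Ext.mk₀ φ) (add_zero n)).hom = y.hom ≫ _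
  rw [Abelian.Ext.comp_hom, Abelian.Ext.mk₀_hom, ShiftedHom.comp_mk₀]

/-- Degree zero, shifted down twice. -/
def shiftTwice (a b n : ℤ) (h : a + b = n) :
    DerivedCategory.singleFunctor X.Modules (-n) ≅
      (DerivedCategory.singleFunctor X.Modules 0 ⋙ shiftFunctor (DCoh.D X) a) ⋙ shiftFunctor (DCoh.D X) b :=
  ((DerivedCategory.singleFunctors X.Modules).shiftIso b (-n) (-a) (by omega)).symm ≪≫
    Functor.isoWhiskerRight ((DerivedCategory.singleFunctors X.Modules).shiftIso a (-a) 0 (by omega)).symm _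

theorem over_self (A : Type u) [CommRing A] :
    (Spec (CommRingCat.of A) ↘ Spec (CommRingCat.of A)) = 𝟙 _ := by
  show Spec.map (CommRingCat.ofHom (algebraMap A A)) = _
  exact Spec.map_id _

theorem over_self_comp (A : Type u) [CommRing A] {Y : Scheme.{u}} (g : Y ⟶ Spec (CommRingCat.of A)) :
    g ≫ (Spec (CommRingCat.of A) ↘ Spec (CommRingCat.of A)) = g := by
  rw [over_self, Category.comp_id]

variable [DCoh.HasRpush (X ↘ Spec (CommRingCat.of A))]
  {hp : DCoh.RpushPreservesQCoh (X ↘ Spec (CommRingCat.of A))}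
  {a : DCoh.DQCoh (Spec (CommRingCat.of A)) ⥤ DCoh.DQCoh X}
  (adj : DCoh.RpushQ (X ↘ Spec (CommRingCat.of A)) hp ⊣ a)

local notation "SS" => Spec (CommRingCat.of A)
local notation "RR" => DCoh.Rpush (X ↘ Spec (CommRingCat.of A))
local notation "TT" => DPerf.tildeDD (CommRingCat.of A)

/-- Classes as maps out of the structure sheaf of the base, naturally and linearly. -/
theorem exists_base_hom (n : ℕ) :
    ∃ v : ∀ G : X.Modules, Coh.HH X G n ≃ₗ[A]
        ((TT).obj (DGen9.pt (R := A) 0) ⟶ (RR).obj ((DCoh.inD X G)⟦(n : ℤ)⟧)),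
      ∀ (G G' : X.Modules) (φ : G ⟶ G') (x : Coh.HH X G n),
        v G' (Sheaf.H.map ((SheafOfModules.toSheaf X.ringCatSheaf).map φ) n x) =
          v G x ≫ (RR).map (((DerivedCategory.singleFunctor X.Modules 0).map φ)⟦(n : ℤ)⟧') := by
  let f : X ⟶ SS := X ↘ Spec (CommRingCat.of A)
  haveI : f.IsOver (Spec (CommRingCat.of A)) := ⟨over_self_comp A f⟩
  haveI := PCHH9.linear_rpush A f
  obtain ⟨_, _⟩ := DPush.exists_commShift_isTriangulated f
  haveI : (DCoh.Rpush f).Additive := inferInstance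
  haveI : DCoh.HasLpull f := KFlat.Sch.hasLpull f
  obtain ⟨ν⟩ := DMon9.nonempty_lpull_natIso_lP f
  let adjL := (DMon9.adjLP f).ofNatIsoLeft ν.symm
  obtain ⟨e₀⟩ := RelPCS4.nonempty_lpull_unit f
  let ζ : DCoh.inD SS (Coh.structureModule SS) ≅ (TT).obj (DGen9.pt (R := A) 0) :=
    DGen9.KO.oneIso (R := CommRingCat.of A)
  let ψ : ∀ M : DCoh.D X, (DCoh.inD X (Coh.structureModule X) ⟶ M) ≃ₗ[A]
      ((TT).obj (DGen9.pt (R := A) 0) ⟶ (RR).obj M) := fun M =>
    { toFun := fun w => ζ.inv ≫ adjL.homEquiv _ _ (e₀.hom ≫ w)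
      invFun := fun w => e₀.inv ≫ (adjL.homEquiv _ _).symm (ζ.hom ≫ w)
      left_inv := fun w => by simp
      right_inv := fun w => by simp
      map_add' := fun v w => by
        rw [adjL.homEquiv_unit, adjL.homEquiv_unit, adjL.homEquiv_unit, Preadditive.comp_add, Functor.map_add,
          Preadditive.comp_add, Preadditive.comp_add]
      map_smul' := fun a w => by
        rw [adjL.homEquiv_unit, adjL.homEquiv_unit, Functor.map_comp, Functor.map_comp, Functor.map_smul,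
          Linear.comp_smul, Linear.comp_smul, Linear.comp_smul]
        rfl }
  refine ⟨fun G => hhHom A X G n ≪≫ₗ ψ _, fun G G' φ x => ?_⟩
  show ζ.inv ≫ adjL.homEquiv _ _ (e₀.hom ≫ hhHom A X G' n _) = (ζ.inv ≫ adjL.homEquiv _ _ (e₀.hom ≫ hhHom A X G n x)) ≫ _
  rw [hhHom_map, ← Category.assoc e₀.hom, adjL.homEquiv_naturality_right, Category.assoc]

variable {W : DCoh.DQCoh (Spec (CommRingCat.of A))} {ω : Dual.D A}
  (eW : W.obj ≅ (DPerf.tildeDD (CommRingCat.of A)).obj ω)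

include adj eW in
/-- Representability of the dual of top cohomology by the lowest cohomology of `a W`. -/
theorem exists_represents (d : ℕ) (c : ℤ) [ω.IsGE c] [(a.obj W).obj.IsGE (-((d : ℤ) - c))]
    (P : X.Modules → Prop) (hPq : ∀ F, P F → Coh.IsQCoh F)
    (hvan : ∀ F, P F → ∀ i : ℕ, d < i → Subsingleton (Coh.HH X F i)) :
    ∃ t : Coh.HH X (DCoh.HD (a.obj W).obj (-((d : ℤ) - c))) d →ₗ[A] Dual.HD A ω c,
      ∀ F, P F → ∀ ψ : Coh.HH X F d →ₗ[A] Dual.HD A ω c,
        ∃! φ : F ⟶ DCoh.HD (a.obj W).obj (-((d : ℤ) - c)),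
          ∀ x : Coh.HH X F d, ψ x = t (Sheaf.H.map ((SheafOfModules.toSheaf X.ringCatSheaf).map φ) d x) := by
  let f : X ⟶ SS := X ↘ Spec (CommRingCat.of A)
  haveI : f.IsOver (Spec (CommRingCat.of A)) := ⟨over_self_comp A f⟩
  haveI : PreservesFiniteLimits (tilde.functor (CommRingCat.of A)) := M1.tilde_preservesFiniteLimits
  haveI := PCHH9.linear_tilde A (over_self A)
  haveI := PCHH9.linear_rpush A f
  obtain ⟨_, _⟩ := DPush.exists_commShift_isTriangulated f
  obtain ⟨v, hv⟩ := exists_base_hom A X d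
  let K := (a.obj W).obj
  let e : ℤ := -((d : ℤ) - c)
  let j := shiftTwice X (d : ℤ) (-c) ((d : ℤ) - c) (by ring)
  obtain ⟨c₁, hc₁⟩ := exists_lowest_map K e
  let P₀ : Dual.D A := DGen9.pt (R := A) 0
  let ep : DGen9.pt (R := A) c ≅ P₀⟦-c⟧ :=
    (((DerivedCategory.singleFunctors (ModuleCat.{u} A)).shiftIso (-c) c 0 (by ring)).app (ModuleCat.of A A)).symm
  let Tb : (DGen9.pt (R := A) c ⟶ ω) ≃ₗ[A] ((TT).obj (DGen9.pt (R := A) c) ⟶ (TT).obj ω) :=
    LinearEquiv.ofBijective ((TT).mapLinearMap A) (DQC.bijective_map _ _)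
  let eC : (TT).obj (DGen9.pt (R := A) c) ≅ ((TT).obj P₀)⟦-c⟧ :=
    (TT).mapIso ep ≪≫ ((TT).commShiftIso (-c)).app P₀
  let E : (((TT).obj P₀)⟦-c⟧ ⟶ W.obj) ≃ₗ[A] Dual.HD A ω c :=
    Linear.homCongr A eC.symm eW ≪≫ₗ Tb.symm ≪≫ₗ DGen9.eltEquiv c ω
  let θ : ∀ G : X.Modules, (G ⟶ DCoh.HD K e) → (((RR).obj ((DCoh.inD X G)⟦(d : ℤ)⟧))⟦-c⟧ ⟶ W.obj) :=
    fun G φ => (((RR).commShiftIso (-c)).app _).inv ≫
      (RR).map (j.inv.app G ≫ (DerivedCategory.singleFunctor X.Modules e).map φ ≫ c₁) ≫ (adj.counit.app W).hom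
  have hθnat : ∀ (G : X.Modules) (φ : G ⟶ DCoh.HD K e),
      θ G φ = ((RR).map (((DerivedCategory.singleFunctor X.Modules 0).map φ)⟦(d : ℤ)⟧'))⟦-c⟧' ≫ θ _ (𝟙 _) := by
    intro G φ
    have h1 := j.inv.naturality φ
    have h2 := ((RR).commShiftIso (-c)).inv.naturality (((DerivedCategory.singleFunctor X.Modules 0).map φ)⟦(d : ℤ)⟧')
    dsimp only [Functor.comp_map, Functor.comp_obj] at h1 h2
    simp only [θ, CategoryTheory.Functor.map_id, Category.id_comp, Iso.app_inv]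
    erw [reassoc_of% h2, ← Functor.map_comp_assoc, reassoc_of% h1, Category.id_comp]
  let t : Coh.HH X (DCoh.HD K e) d →ₗ[A] Dual.HD A ω c :=
    E.toLinearMap ∘ₗ Linear.rightComp A _ (θ _ (𝟙 _)) ∘ₗ
      ((shiftFunctor (DCoh.D SS) (-c)).mapLinearMap A) ∘ₗ (v _).toLinearMap
  refine ⟨t, fun F hPF ψ => ?_⟩
  have hF := hPq F hPF
  have hFq : DCoh.IsQCohD (DCoh.inD X F) := isQCohD_inD' hF
  obtain ⟨M, ⟨eM⟩⟩ := DQC.exists_iso_of_isQCohD (R := CommRingCat.of A) _ (hp _ hFq)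
  haveI : M.IsLE (d : ℤ) := (DMod.isLE_iff M _).2 fun i hi => by
    obtain ⟨m, rfl⟩ := Int.eq_ofNat_of_zero_le (show 0 ≤ i by omega)
    obtain ⟨u⟩ := PCHH9.nonempty_HH_linearEquiv A X F M eM m
    haveI := hvan F hPF m (by exact_mod_cast hi)
    exact u.symm.toEquiv.subsingleton
  let N := (M⟦(d : ℤ)⟧)⟦-c⟧
  haveI : DerivedCategory.IsLE (M⟦(d : ℤ)⟧) 0 := DerivedCategory.TStructure.t.isLE_shift M (d : ℤ) d 0 (by ring)
  haveI : DerivedCategory.IsLE N c := DerivedCategory.TStructure.t.isLE_shift (M⟦(d : ℤ)⟧) 0 (-c) c (by ring)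
  let eN : (TT).obj N ≅ ((RR).obj ((DCoh.inD X F)⟦(d : ℤ)⟧))⟦-c⟧ :=
    ((TT).commShiftIso (-c)).app _ ≪≫ (shiftFunctor _ (-c)).mapIso
      (((TT).commShiftIso (d : ℤ)).app M ≪≫ (shiftFunctor _ (d : ℤ)).mapIso eM ≪≫
        (((RR).commShiftIso (d : ℤ)).app (DCoh.inD X F)).symm)
  -- the pairing, bijective
  let β : (((RR).obj ((DCoh.inD X F)⟦(d : ℤ)⟧))⟦-c⟧ ⟶ W.obj) → (Coh.HH X F d →ₗ[A] Dual.HD A ω c) := fun h =>
    E.toLinearMap ∘ₗ Linear.rightComp A _ h ∘ₗ
      ((shiftFunctor (DCoh.D SS) (-c)).mapLinearMap A) ∘ₗ (v F).toLinearMap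
  let σ : (DGen9.pt (R := A) c ⟶ N) ≃ₗ[A] Coh.HH X F d :=
    LinearEquiv.ofBijective ((TT).mapLinearMap A) (DQC.bijective_map _ _) ≪≫ₗ Linear.homCongr A eC eN ≪≫ₗ
      (LinearEquiv.ofBijective ((shiftFunctor (DCoh.D SS) (-c)).mapLinearMap A)
        ((Functor.FullyFaithful.ofFullyFaithful (shiftFunctor (DCoh.D SS) (-c))).map_bijective _ _)).symm ≪≫ₗ
      (v F).symm
  let γ : (N ⟶ ω) → (((RR).obj ((DCoh.inD X F)⟦(d : ℤ)⟧))⟦-c⟧ ⟶ W.obj) := fun g => eN.inv ≫ (TT).map g ≫ eW.inv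
  have hγ1 : Function.Bijective (fun g : N ⟶ ω => (TT).map g) := DQC.bijective_map N ω
  have hγ : Function.Bijective γ := by
    exact (Equiv.bijective (Iso.homCongr (X := (TT).obj N) (Y := (TT).obj ω) eN eW.symm)).comp hγ1
  have hβγ : ∀ g, β (γ g) = ((DGen9.eltEquiv c ω).toLinearMap ∘ₗ Linear.rightComp A (DGen9.pt (R := A) c) g) ∘ₗ σ.symm.toLinearMap := by
    intro g
    refine LinearMap.ext fun x => ?_
    obtain ⟨y, rfl⟩ := σ.surjective x
    simp only [LinearMap.comp_apply, LinearEquiv.coe_coe, LinearEquiv.symm_apply_apply, β]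
    have h0 : v F (σ y) = (LinearEquiv.ofBijective ((shiftFunctor (DCoh.D SS) (-c)).mapLinearMap A)
        ((Functor.FullyFaithful.ofFullyFaithful (shiftFunctor (DCoh.D SS) (-c))).map_bijective _ _)).symm
        (Linear.homCongr A eC eN ((TT).map y)) := (v F).apply_symm_apply _
    have h1 : (shiftFunctor (DCoh.D SS) (-c)).map (v F (σ y)) = eC.inv ≫ (TT).map y ≫ eN.hom := by
      rw [h0]
      refine ((LinearEquiv.ofBijective ((shiftFunctor (DCoh.D SS) (-c)).mapLinearMap A) _).apply_symm_apply _).trans ?_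
      simp [Linear.homCongr_apply]
    show E ((shiftFunctor (DCoh.D SS) (-c)).map (v F (σ y)) ≫ γ g) = DGen9.eltEquiv c ω (y ≫ g)
    rw [h1]
    simp only [E, γ, LinearEquiv.trans_apply, Linear.homCongr_apply, Iso.symm_inv]
    refine congrArg _ ((LinearEquiv.symm_apply_eq Tb).2 ?_)
    show _ = (TT).map (y ≫ g)
    simp
  have hβ : Function.Bijective β := by
    refine (Function.Bijective.of_comp_iff β hγ).1 ?_
    rw [show β ∘ γ = fun g => (LinearEquiv.arrowCongr σ (DGen9.eltEquiv c ω))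
        (Linear.rightComp A (DGen9.pt (R := A) c) g) from funext fun g => (hβγ g).trans rfl]
    exact (LinearEquiv.arrowCongr σ (DGen9.eltEquiv c ω)).bijective.comp (bijective_rightComp_pt c)
  have hθ : Function.Bijective (θ F) := by
    let G₀ : DCoh.DQCoh X := ⟨((DCoh.inD X F)⟦(d : ℤ)⟧)⟦-c⟧,
      ObjectProperty.le_shift DCoh.IsQCohD (-c) _ (ObjectProperty.le_shift DCoh.IsQCohD (d : ℤ) _ hFq)⟩
    have ha : Function.Bijective (fun u : ((DCoh.inD X F)⟦(d : ℤ)⟧)⟦-c⟧ ⟶ K =>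
        (RR).map u ≫ (adj.counit.app W).hom) := by
      refine ⟨fun u u' h => ?_, fun g => ?_⟩
      · exact congrArg (fun p => p.hom) ((adj.homEquiv G₀ W).symm.injective
          (a₁ := ObjectProperty.homMk u) (a₂ := ObjectProperty.homMk u') (by
            rw [Adjunction.homEquiv_counit, Adjunction.homEquiv_counit]
            exact ObjectProperty.hom_ext _ h))
      · obtain ⟨u, hu⟩ := (adj.homEquiv G₀ W).symm.surjective (ObjectProperty.homMk g)
        rw [Adjunction.homEquiv_counit] at hu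
        exact ⟨u.hom, congrArg (fun p => p.hom) hu⟩
    exact ((((RR).commShiftIso (-c)).app ((DCoh.inD X F)⟦(d : ℤ)⟧)).homCongr (Iso.refl W.obj)).bijective.comp
      (ha.comp (((j.app F).homCongr (Iso.refl K)).bijective.comp (hc₁ F))) |> fun h => by
        convert h using 1
        funext φ
        simp [θ]
  have key : ∀ φ : F ⟶ DCoh.HD K e,
      (∀ x, ψ x = t (Sheaf.H.map ((SheafOfModules.toSheaf X.ringCatSheaf).map φ) d x)) ↔ β (θ F φ) = ψ := fun φ => by
    refine ⟨fun h => LinearMap.ext fun x => ((h x).trans ?_).symm, fun h x => h ▸ ?_⟩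
    all_goals
      simp only [t, β, LinearMap.comp_apply, LinearEquiv.coe_coe]
      erw [hv]
      rw [hθnat F φ]
      simp
      try rfl
  obtain ⟨h, hh⟩ := hβ.2 ψ
  obtain ⟨φ, rfl⟩ := hθ.2 h
  exact ⟨φ, (key φ).2 hh, fun φ' hφ' => hθ.1 (hβ.1 (((key φ').1 hφ').trans hh.symm))⟩

end Groth.Agent.BC8
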