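import Groth.Agent.Lib.BC8.TopDual
import Groth.Agent.Lib.BC8.DlzProper
import Groth.Agent.Lib.BC8.DlzCMModule
import Groth.Agent.Lib.BC8.DlzTen
import Groth.Agent.Lib.BC8.RightAdj
import Groth.Agent.Lib.FMAdj9.DlzField
import Groth.Agent.Lib.BC8.ViaCM
import Groth.Agent.Lib.Snapper.Vanish

/-! The dualizing module of a proper scheme. -/

set_option autoImplicit false
set_option linter.style.haveILetI false
set_option linter.unusedSectionVars false
set_option backward.isDefEq.respectTransparency false
set_option backward.isDefEq.respectTransparency.types false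
set_option maxHeartbeats 1000000

universe u

open CategoryTheory CategoryTheory.Limits AlgebraicGeometry Opposite

attribute [local instance] HasDerivedCategory.standard

noncomputable section

namespace Groth.Agent.BC8

open Dlz27 in
/-- A normalized dualizing complex lives in degrees at least `-dim A`. -/
theorem isGE_of_normalized {A : Type u} [CommRing A] [IsLocalRing A] [IsNoetherianRing A] {ω : Dual.D A}
    (hω : Dual.IsDualizing A ω) (hn : Dual.IsNormalized A ω) (dA : ℕ) (hdA : ringKrullDim A = dA) :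
    ω.IsGE (-(dA : ℤ)) := by
  let M := model hω
  refine (DMod.isGE_iff ω _).2 fun i hi => not_nontrivial_iff_subsingleton.1 fun hne => ?_
  obtain ⟨q, hq⟩ : (Module.support A (Dual.HD A ω i)).Nonempty := by
    rw [Module.nonempty_support_iff]; exact hne
  obtain ⟨-, r, -, -, hr⟩ := le_deg_of_not_vanS hω M q i A
    ((nontrivial_localized_HD_iff M q i).1 hq)
  have h1 := ringKrullDim_le_of_surjective (Ideal.Quotient.mk r.asIdeal) Ideal.Quotient.mk_surjective
  rw [dim_quotient hω M r, deg_closedPoint hω M hn, hdA] at h1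
  have h2 : (0 - deg hω M r).toNat ≤ dA := by exact_mod_cast h1
  omega

/-- Cohomology above the dimension of the closed fibre vanishes. -/
theorem subsingleton_HH_above_fibre {A : Type u} [CommRing A] [IsLocalRing A] {X : Scheme.{u}}
    [X.Over (Spec (CommRingCat.of A))] [IsProper (X ↘ Spec (CommRingCat.of A))] (d : ℕ)
    (hd : topologicalKrullDim ((X ↘ Spec (CommRingCat.of A)).fiber (IsLocalRing.closedPoint A)) ≤ (d : WithBot ℕ∞))
    {F : X.Modules} (hF : Coh.IsQCoh F) {i : ℕ} (hi : d < i) : Subsingleton (Coh.HH X F i) := by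
  obtain ⟨V, hyV, -, hd'⟩ := VanFib13.exists_affine_nhd (X ↘ Spec (CommRingCat.of A)) (IsLocalRing.closedPoint A) d hd
  rw [CohFound.subsingleton_HH_iff]
  have h := VanFib13.subsingleton_hc_affine (X ↘ Spec (CommRingCat.of A))
    (isAffineOpen_top (Spec (CommRingCat.of A))) d
    (fun w _ => hd' w ((IsLocalRing.specializes_closedPoint (w : PrimeSpectrum A)).mem_open V.isOpen hyV)) hF hi
  exact h

variable (k : Type u) [Field k] (X : Scheme.{u}) [X.Over (Spec (CommRingCat.of k))]
  [IsProper (X ↘ Spec (CommRingCat.of k))]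

theorem exists_dualizing_module (d : ℕ) (hd : topologicalKrullDim X = d) :
    ∃ (ω : X.Modules) (t : Coh.HH X ω d →ₗ[k] k), Coh.IsCoh ω ∧ ∀ (F : X.Modules), Coh.IsQCoh F →
      ∀ ψ : Coh.HH X F d →ₗ[k] k, ∃! φ : F ⟶ ω,
        ∀ x : Coh.HH X F d, ψ x = t (Sheaf.H.map ((SheafOfModules.toSheaf X.ringCatSheaf).map φ) d x) := by
  haveI : ∀ (U V : Scheme.{u}) (j : U ⟶ V) [IsOpenImmersion j],
      PreservesFiniteLimits (Scheme.Modules.restrictFunctor j) := fun U V j _ => inferInstance
  haveI : ∀ (R : CommRingCat.{u}), PreservesFiniteLimits (tilde.functor R) := fun R => M1.tilde_preservesFiniteLimits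
  let f := X ↘ Spec (CommRingCat.of k)
  haveI : IsLocallyNoetherian X := LocallyOfFiniteType.isLocallyNoetherian f
  haveI : CompactSpace X := QuasiCompact.compactSpace_of_compactSpace f
  haveI : IsNoetherian (Spec (CommRingCat.of k)) := inferInstance
  haveI : IsNoetherian X := { }
  haveI := DBC9.hasRpush f
  let hp := rpushPreserves f
  haveI := isLeftAdjoint_rpushQ f hp
  let adj := Adjunction.ofIsLeftAdjoint (DCoh.RpushQ f hp)
  let ω : Dual.D k := Dual.inD k k
  haveI : ω.IsGE 0 := inferInstanceAs (DerivedCategory.IsGE ((DerivedCategory.singleFunctor _ 0).obj _) 0)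
  let W := (FMAdj9.tildeQ (CommRingCat.of k)).obj ω
  let eW : W.obj ≅ (DPerf.tildeDD (CommRingCat.of k)).obj ω := Iso.refl _
  have hω : Dual.IsDualizing k ω := isDualizing_self_field k
  have hK := isDualizingSch_proper (A := CommRingCat.of k) hω f adj eW
  have hn := dlt_eq_zero_of_isClosed (A := CommRingCat.of k) hω (isNormalized_self_field k) f adj eW
  haveI : (((DCoh.RpushQ f hp).rightAdjoint).obj W).obj.IsGE (-((d : ℤ) - 0)) :=
    (DerivedCategory.isGE_iff _ _).2 fun i hi => isZero_HD_of_outside hK hn d hd i (Or.inl (by omega))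
  obtain ⟨t, ht⟩ := exists_represents k X adj eW d 0 Coh.IsQCoh (fun _ h => h)
    fun F hF i hi => Snapper.subsingleton_HH_of_dim k d hd.le hF hi
  let u : Dual.HD k ω 0 ≃ₗ[k] k :=
    (((DerivedCategory.singleFunctorCompHomologyFunctorIso (ModuleCat.{u} k) 0).app (ModuleCat.of k k))).toLinearEquiv
  refine ⟨_, u.toLinearMap ∘ₗ t, isCohD_dualizing hK _, fun F hF ψ => ?_⟩
  obtain ⟨φ, h1, h2⟩ := ht F hF (u.symm.toLinearMap ∘ₗ ψ)
  exact ⟨φ, fun x => (LinearEquiv.symm_apply_eq u).1 (h1 x),
    fun φ' h' => h2 φ' fun x => (LinearEquiv.symm_apply_eq u).2 (h' x)⟩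

end Groth.Agent.BC8
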