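import Groth.Agent.Lib.BC8.TopDualApps
import Groth.Agent.Lib.RelPCS8.TorRpush
import Groth.Agent.Lib.CurveR1_10.Dim

/-! The dualizing module relative to an arbitrary affine base. -/

set_option autoImplicit false
set_option linter.style.haveILetI false
set_option linter.unusedSectionVars false
set_option backward.isDefEq.respectTransparency false
set_option backward.isDefEq.respectTransparency.types false
set_option maxHeartbeats 1000000

universe u

open CategoryTheory CategoryTheory.Limits AlgebraicGeometry Opposite CategoryTheory.Pretriangulated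

attribute [local instance] HasDerivedCategory.standard

noncomputable section

namespace Groth.Agent.BC8

open DerivedCategory.TStructure

variable {X S : Scheme.{u}} (f : X ⟶ S) [QuasiCompact f] [QuasiSeparated f] [DCoh.HasRpush f] [CompactSpace S]

/-- The amplitude of `Rf_*`, unbounded below. -/
theorem isLE_rpush_qcoh (N : ℕ)
    (hN : ∀ M : X.Modules, Coh.IsQCoh M → ∀ i : ℤ, (N : ℤ) < i → IsZero (DCoh.HD ((DCoh.Rpush f).obj (DCoh.inD X M)) i))
    (E : DCoh.D X) (hE : DCoh.IsQCohD E) (b : ℤ) [E.IsLE b] : ((DCoh.Rpush f).obj E).IsLE (b + N) := by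
  obtain ⟨N₀, hN₀⟩ := DPush.exists_bound f
  obtain ⟨_, _⟩ := DPush.exists_commShift_isTriangulated f
  let c : ℤ := b - (N₀ : ℤ)
  let T : Triangle (DCoh.D X) := (t.triangleLTGE c).obj E
  have hT : T ∈ distTriang (DCoh.D X) := t.triangleLTGE_distinguished c E
  haveI : t.IsLE E b := inferInstanceAs (E.IsLE b)
  haveI h1 : DerivedCategory.IsLE T.obj₁ (c - 1) := (inferInstance : t.IsLE ((t.truncLT c).obj E) (c - 1))
  haveI h3 : DerivedCategory.IsGE T.obj₃ c := (inferInstance : t.IsGE ((t.truncGE c).obj E) c)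
  haveI h3' : DerivedCategory.IsLE T.obj₃ b := (inferInstance : t.IsLE ((t.truncGE c).obj E) b)
  haveI := RelPCS8.TorRpush.isLE_rpush f N hN T.obj₃ (DMV.isQCohD_truncGE E hE c) c b
  refine (DerivedCategory.isLE_iff _ _).2 fun i hi => ?_
  exact (DerivedCategory.HomologySequence.exact₂ _ ((DCoh.Rpush f).map_distinguished T hT) i).isZero_of_both_zeros
    ((hN₀ T.obj₁ (DMV.isQCohD_truncLT E hE c) (c - 1) h1 i (by omega)).eq_of_src _ _)
    ((DerivedCategory.isZero_of_isLE ((DCoh.Rpush f).obj T.obj₃) (b + N) i hi).eq_of_tgt _ _)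

/-- The right adjoint raises the lowest degree by the amplitude. -/
theorem isGE_rightAdjoint (N : ℕ)
    (hN : ∀ M : X.Modules, Coh.IsQCoh M → ∀ i : ℤ, (N : ℤ) < i → IsZero (DCoh.HD ((DCoh.Rpush f).obj (DCoh.inD X M)) i))
    {hp : DCoh.RpushPreservesQCoh f} {a : DCoh.DQCoh S ⥤ DCoh.DQCoh X} (adj : DCoh.RpushQ f hp ⊣ a)
    (W : DCoh.DQCoh S) (c : ℤ) [W.obj.IsGE c] : (a.obj W).obj.IsGE (c - N) := by
  let K := (a.obj W).obj
  let e : ℤ := c - N
  let Q : DCoh.DQCoh X := ⟨(t.truncLT e).obj K, DMV.isQCohD_truncLT K (a.obj W).property e⟩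
  haveI : DerivedCategory.IsLE Q.obj (e - 1) := (inferInstance : t.IsLE ((t.truncLT e).obj K) (e - 1))
  haveI := isLE_rpush_qcoh f N hN Q.obj Q.property (e - 1)
  let ι : Q ⟶ a.obj W := ObjectProperty.homMk ((t.truncLTι e).app K)
  haveI : t.IsLE ((DCoh.RpushQ f hp).obj Q).obj (e - 1 + N) := ‹((DCoh.Rpush f).obj Q.obj).IsLE (e - 1 + N)›
  haveI : t.IsGE W.obj c := inferInstanceAs (W.obj.IsGE c)
  have h0 : (adj.homEquiv Q W).symm ι = 0 :=
    ObjectProperty.hom_ext _ (t.zero ((adj.homEquiv Q W).symm ι).hom (e - 1 + N) c (by omega))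
  have hz : ι = 0 := by
    apply (adj.homEquiv Q W).symm.injective
    rw [h0, Adjunction.homEquiv_counit]
    obtain ⟨_, _⟩ := DPush.exists_commShift_isTriangulated f
    exact ObjectProperty.hom_ext _ (by
      show (0 : (DCoh.Rpush f).obj Q.obj ⟶ W.obj) = (DCoh.Rpush f).map (0 : Q.obj ⟶ K) ≫ (adj.counit.app W).hom
      rw [Functor.map_zero, zero_comp])
  refine (DerivedCategory.isGE_iff _ _).2 fun i hi => ?_
  haveI := DerTrunc.isIso_homology_truncLTι K e i hi
  have hzi : (DerivedCategory.homologyFunctor X.Modules i).map ((t.truncLTι e).app K) = 0 := by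
    rw [show (t.truncLTι e).app K = 0 from congrArg (fun p => p.hom) hz, Functor.map_zero]
  exact (IsZero.iff_id_eq_zero _).2 (by
    rw [← cancel_epi ((DerivedCategory.homologyFunctor X.Modules i).map ((t.truncLTι e).app K)), hzi, zero_comp, comp_zero])

variable (A : Type u) [CommRing A] (X : Scheme.{u}) [X.Over (Spec (CommRingCat.of A))]
  [IsProper (X ↘ Spec (CommRingCat.of A))]

theorem exists_relDualizing_module (n : ℕ)
    (hd : ∀ (y : ↥(Spec (CommRingCat.of A))) (Z : Set ↥((X ↘ Spec (CommRingCat.of A)).fiber y)),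
      Z ∈ irreducibleComponents ↥((X ↘ Spec (CommRingCat.of A)).fiber y) → topologicalKrullDim ↥Z ≤ (n : WithBot ℕ∞)) :
    ∃ ω : X.Modules, Coh.IsQCoh ω ∧ ∃ t : Coh.HH X ω n →ₗ[A] A, ∀ F : X.Modules, Coh.IsQCoh F →
      ∀ ψ : Coh.HH X F n →ₗ[A] A, ∃! φ : F ⟶ ω,
        ∀ x : Coh.HH X F n, ψ x = t (Sheaf.H.map ((SheafOfModules.toSheaf X.ringCatSheaf).map φ) n x) := by
  haveI : ∀ (R : CommRingCat.{u}), PreservesFiniteLimits (tilde.functor R) := fun R => M1.tilde_preservesFiniteLimits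
  let f := X ↘ Spec (CommRingCat.of A)
  haveI : CompactSpace X := QuasiCompact.compactSpace_of_compactSpace f
  haveI : QuasiSeparatedSpace X := quasiSeparatedSpace_of_quasiSeparated f
  haveI := DBC9.hasRpush f
  let hp := rpushPreserves f
  haveI := isLeftAdjoint_rpushQ f hp
  let adj := Adjunction.ofIsLeftAdjoint (DCoh.RpushQ f hp)
  have hvan : ∀ F : X.Modules, Coh.IsQCoh F → ∀ i : ℕ, n < i → Subsingleton (Coh.HH X F i) := fun F hF i hi => by
    rw [CohFound.subsingleton_HH_iff]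
    have h := VanFib13.subsingleton_hc_affine f (isAffineOpen_top (Spec (CommRingCat.of A))) n
      (fun w _ => (VanFib13.dim_fiber f w).symm.trans_le (CurveR1_10.topologicalKrullDim_le_of_components (hd w))) hF hi
    exact h
  have hN : ∀ M : X.Modules, Coh.IsQCoh M → ∀ i : ℤ, (n : ℤ) < i →
      IsZero (DCoh.HD ((DCoh.Rpush f).obj (DCoh.inD X M)) i) := fun M hM i hi => by
    obtain ⟨M', ⟨eM⟩⟩ := DQC.exists_iso_of_isQCohD (R := CommRingCat.of A) _ (hp _ (isQCohD_inD' hM))
    obtain ⟨m, rfl⟩ := Int.eq_ofNat_of_zero_le (show 0 ≤ i by omega)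
    obtain ⟨v⟩ := PCHH9.nonempty_HH_linearEquiv A X M M' eM m
    haveI := hvan M hM m (by exact_mod_cast hi)
    haveI : Subsingleton (Dual.HD A M' m) := v.symm.toEquiv.subsingleton
    exact IsZero.of_iso ((tilde.functor (CommRingCat.of A)).map_isZero (ModuleCat.isZero_of_subsingleton _))
      ((DerivedCategory.homologyFunctor _ _).mapIso eM.symm ≪≫ DPerf.hdTildeIso M' (m : ℤ))
  let ω : Dual.D A := Dual.inD A A
  haveI : ω.IsGE 0 := inferInstanceAs (DerivedCategory.IsGE ((DerivedCategory.singleFunctor _ 0).obj _) 0)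
  let W := (FMAdj9.tildeQ (CommRingCat.of A)).obj ω
  let eW : W.obj ≅ (DPerf.tildeDD (CommRingCat.of A)).obj ω := Iso.refl _
  haveI : W.obj.IsGE 0 := (DerivedCategory.isGE_iff _ _).2 fun i hi =>
    IsZero.of_iso ((tilde.functor (CommRingCat.of A)).map_isZero (DerivedCategory.isZero_of_isGE ω 0 i hi))
      (DPerf.hdTildeIso (R := CommRingCat.of A) ω i)
  haveI : (((DCoh.RpushQ f hp).rightAdjoint).obj W).obj.IsGE (-((n : ℤ) - 0)) := by
    rw [show -((n : ℤ) - 0) = 0 - (n : ℤ) by ring]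
    exact isGE_rightAdjoint f n hN adj W 0
  obtain ⟨t, ht⟩ := exists_represents A X adj eW n 0 Coh.IsQCoh (fun _ h => h) hvan
  let u : Dual.HD A ω 0 ≃ₗ[A] A :=
    (((DerivedCategory.singleFunctorCompHomologyFunctorIso (ModuleCat.{u} A) 0).app (ModuleCat.of A A))).toLinearEquiv
  refine ⟨_, (((DCoh.RpushQ f hp).rightAdjoint).obj W).property _, u.toLinearMap ∘ₗ t, fun F hF ψ => ?_⟩
  obtain ⟨φ, h1, h2⟩ := ht F hF (u.symm.toLinearMap ∘ₗ ψ)
  exact ⟨φ, fun x => (LinearEquiv.symm_apply_eq u).1 (h1 x),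
    fun φ' h' => h2 φ' fun x => (LinearEquiv.symm_apply_eq u).2 (h' x)⟩

end Groth.Agent.BC8
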