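import Groth.Agent.Lib.ClImmProj14.Adj
import Groth.Agent.Lib.CohMop.ExtZQCoh
import Groth.Agent.Lib.RelPCS8.Push
import Groth.Agent.Lib.CohFound.ClosedImmPush
import Groth.Agent.Lib.SiteCmp16.CohIn
import Groth.Agent.Lib.DQC.ExactAdj

/-! The right adjoint of the direct image along a closed immersion and quasi-coherence. -/

set_option autoImplicit false
set_option linter.style.haveILetI false
set_option linter.unusedSectionVars false
set_option backward.isDefEq.respectTransparency false
set_option backward.isDefEq.respectTransparency.types false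

universe u

open CategoryTheory CategoryTheory.Limits AlgebraicGeometry

namespace Groth.Agent.BC8

variable {Z X : Scheme.{u}} (i : Z ⟶ X) [IsClosedImmersion i]

/-- The right adjoint of `i_*` on modules preserves quasi-coherence. -/
theorem isQCoh_rightAdj [IsLocallyNoetherian X] {G : X.Modules ⥤ Z.Modules}
    (adj : Scheme.Modules.pushforward i ⊣ G) {F : X.Modules} (hF : Coh.IsQCoh F) : Coh.IsQCoh (G.obj F) := by
  haveI : IsLocallyNoetherian Z := LocallyOfFiniteType.isLocallyNoetherian i
  refine RelPCS8.isQCoh_of_push i ?_
  let A := (Scheme.Modules.pushforward i).obj (Coh.structureModule Z)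
  let e : CohMop.tenR A ≅ Scheme.Modules.pullback i ⋙ Scheme.Modules.pushforward i :=
    ClImmProj14.tenPushIso i (Coh.structureModule Z) ≪≫
      Functor.isoWhiskerLeft _ (Functor.isoWhiskerRight RHom.unitorNatIso _) ≪≫
      Functor.isoWhiskerLeft _ (Functor.leftUnitor _)
  let adj2 := ((Scheme.Modules.pullbackPushforwardAdjunction i).comp adj).ofNatIsoLeft e.symm
  exact M1.isQCoh_of_isIso (((CohMop.ihomAdj A).rightAdjointUniq adj2).app F)
    (CohMop.homQC_of_isFP
      (M1.isFP_of_isCoh (CohFound.isCoh_push_closedImm i (M1.isCoh_structureModule Z))) F hF)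

end Groth.Agent.BC8
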