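import Groth.Agent.Lib.BC8.ViaSheaf
import Groth.Agent.Lib.BC8.ShriekViaTorAmp
import Groth.Agent.Lib.BC8.RelAmpGlobal
import Groth.Agent.Lib.DlzSchCM27.Main
import Groth.Agent.Lib.FibDim14.Comp
import Groth.Agent.Lib.DPerf.OneDegree

/-! Ranges and relative flat amplitude of `f^!O` from the affine charts. -/

set_option autoImplicit false
set_option linter.style.haveILetI false
set_option linter.unusedSectionVars false
set_option backward.isDefEq.respectTransparency false
set_option backward.isDefEq.respectTransparency.types false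
set_option maxHeartbeats 1000000

universe u

open CategoryTheory CategoryTheory.Limits AlgebraicGeometry

attribute [local instance] HasDerivedCategory.standard

noncomputable section

namespace Groth.Agent.BC8

open DMon9

theorem localFibreDim_eq {X Y : Scheme.{u}} (f : X ⟶ Y) (x : X) :
    Dual3.localFibreDim f x = FlatMor.fibreDimAt f x := iInf_subtype'

theorem fibreDimAt_le_of_fibreDimLE {X Y : Scheme.{u}} (f : X ⟶ Y) (d : ℕ) (h : Dual3.FibreDimLE f d) (x : X) :
    FlatMor.fibreDimAt f x ≤ (d : WithBot ℕ∞) := by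
  refine le_trans (iInf_le_of_le ⟨⊤, trivial⟩ ?_) (h (f x))
  exact le_of_eq (IsHomeomorph.topologicalKrullDim_eq _ (Homeomorph.Set.univ _).isHomeomorph)

/-- Fibre dimensions on charts. -/
theorem fibreDimAt_chart {X Y : Scheme.{u}} (f : X ⟶ Y) [LocallyOfFiniteType f] (V : Y.Opens) (hV : IsAffineOpen V)
    (U : X.Opens) (hU : IsAffineOpen U) (e : U ≤ f ⁻¹ᵁ V) (z : Spec Γ(X, U)) :
    FlatMor.fibreDimAt (Spec.map (f.appLE V U e)) z = FlatMor.fibreDimAt f (hU.fromSpec z) := by
  haveI : LocallyOfFiniteType (Spec.map (f.appLE V U e)) :=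
    (HasRingHomProperty.Spec_iff (P := @LocallyOfFiniteType)).2 (f.finiteType_appLE hV hU e)
  rw [← FibDim14.fibreDimAt_comp_lqf (Spec.map (f.appLE V U e)) hV.fromSpec z,
    hV.SpecMap_appLE_fromSpec f hU e,
    FibDim14.fibreDimAt_comp_eq hU.fromSpec f (FibDim14.goDown_of_flat hU.fromSpec z),
    FibDim14.fibreDimAt_eq_zero hU.fromSpec, zero_add]

variable {X Y Xb : Scheme.{u}} [IsNoetherian Y] (f : X ⟶ Y) [LocallyOfFiniteType f]
  (p : Xb ⟶ Y) [IsProper p] (j : X ⟶ Xb) [IsOpenImmersion j] (hfac : j ≫ p = f) [DCoh.HasRpush p]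
  {hp : DCoh.RpushPreservesQCoh p} {a : DCoh.DQCoh Y ⥤ DCoh.DQCoh Xb} (adj : DCoh.RpushQ p hp ⊣ a)
  [∀ (U : Scheme.{u}) (j : U ⟶ X) [IsOpenImmersion j], PreservesFiniteLimits (Scheme.Modules.restrictFunctor j)]

include hfac adj in
/-- The range of the stalks of `f^!O`. -/
theorem stalk_range {K : DCoh.D X} (eK : (lP j).obj (a.obj (oQ Y)).obj ≅ K) (x : X) (n : ℕ)
    (hn : FlatMor.fibreDimAt f x ≤ (n : WithBot ℕ∞)) (i : ℤ)
    (hi : Nontrivial ((DCoh.HD K i).presheaf.stalk x)) : -(n : ℤ) ≤ i ∧ (Flat f → i ≤ 0) := by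
  obtain ⟨V, hV, hxV, -⟩ := exists_isAffineOpen_mem_and_subset (X := Y) (x := f x) (U := ⊤) trivial
  obtain ⟨U, hU, hxU, e⟩ := exists_isAffineOpen_mem_and_subset (X := X) (x := x) (U := f ⁻¹ᵁ V) hxV
  let A := Γ(Y, V)
  let B := Γ(X, U)
  letI : Algebra A B := (f.appLE V U e).hom.toAlgebra
  haveI : IsNoetherianRing A := IsLocallyNoetherian.component_noetherian ⟨V, hV⟩
  haveI : Algebra.FiniteType A B := f.finiteType_appLE hV hU e
  haveI : IsNoetherianRing B := Algebra.FiniteType.isNoetherianRing A B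
  obtain ⟨m, F, hF⟩ := Algebra.FiniteType.iff_quotient_mvPolynomial''.1 (inferInstance : Algebra.FiniteType A B)
  haveI := DQC.hasLBaseChange (algebraMap A (MvPolynomial (Fin m) A))
  haveI := isLeftAdjoint_restrictD F.toRingHom
  let adjψ := Adjunction.ofIsLeftAdjoint (DRing.restrictD F.toRingHom)
  obtain ⟨v⟩ := nonempty_via_sheaf f p j hfac adj V hV U hU e rfl m F hF adjψ
  let z : Spec B := hU.primeIdealOf ⟨x, hxU⟩
  have hz : hU.fromSpec z = x := hU.fromSpec_primeIdealOf ⟨x, hxU⟩
  haveI : PreservesFiniteLimits (tilde.functor B) := M1.tilde_preservesFiniteLimits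
  have hloc := (DlzSchCM27.nontrivial_stalk_iff_aux (R := B) K hU.fromSpec _
    (((lPRes hU.fromSpec).app K).symm ≪≫ (lP hU.fromSpec).mapIso eK.symm ≪≫ v) z i).1 (by rwa [hz])
  have hd : FlatMor.fibreDimAt (Spec.map (CommRingCat.ofHom (algebraMap A B))) z ≤ (n : WithBot ℕ∞) :=
    (fibreDimAt_chart f V hV U hU e z).trans_le (by rwa [hz])
  refine ⟨?_, fun hflat => ?_⟩
  · by_contra hlt
    obtain ⟨g, hg, hvan⟩ := exists_away_low m F hF adjψ z n hd
    haveI := hvan i (lt_of_not_ge hlt)
    have hsub : Subsingleton (LocalizedModule (z : PrimeSpectrum B).asIdeal.primeCompl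
        ((DerivedCategory.homologyFunctor (ModuleCat.{u} B) i).obj
          (Dual2.shriekVia m (DRing.restrictD F.toRingHom).rightAdjoint (Dual.inD A A)))) := by
      rw [LocalizedModule.subsingleton_iff]
      intro t
      obtain ⟨s, ⟨k, rfl⟩, hs⟩ := (LocalizedModule.subsingleton_iff (S := Submonoid.powers g)).1 ‹_› t
      exact ⟨g ^ k, fun hk => hg ((z : PrimeSpectrum B).2.mem_of_pow_mem k hk), hs⟩
    haveI := hloc
    exact false_of_nontrivial_of_subsingleton (LocalizedModule (z : PrimeSpectrum B).asIdeal.primeCompl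
      ((DerivedCategory.homologyFunctor (ModuleCat.{u} B) i).obj
        (Dual2.shriekVia m (DRing.restrictD F.toRingHom).rightAdjoint (Dual.inD A A))))
  · by_contra hpos
    haveI : Module.Flat A B := f.flat_appLE hV hU e
    haveI := isLE_via_one m F hF adjψ
    haveI := ModuleCat.subsingleton_of_isZero (DerivedCategory.isZero_of_isLE
      (Dual2.shriekVia m (DRing.restrictD F.toRingHom).rightAdjoint (Dual.inD A A)) 0 i (by omega))
    have hsub : Subsingleton (LocalizedModule (z : PrimeSpectrum B).asIdeal.primeCompl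
        ((DerivedCategory.homologyFunctor (ModuleCat.{u} B) i).obj
          (Dual2.shriekVia m (DRing.restrictD F.toRingHom).rightAdjoint (Dual.inD A A)))) := by
      rw [LocalizedModule.subsingleton_iff]
      exact fun t => ⟨1, Submonoid.one_mem _, Subsingleton.elim _ _⟩
    haveI := hloc
    exact false_of_nontrivial_of_subsingleton (LocalizedModule (z : PrimeSpectrum B).asIdeal.primeCompl
      ((DerivedCategory.homologyFunctor (ModuleCat.{u} B) i).obj
        (Dual2.shriekVia m (DRing.restrictD F.toRingHom).rightAdjoint (Dual.inD A A))))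

include hfac adj in
/-- The relative flat amplitude of `f^!O`. -/
theorem relFlatAmp_shriek [Flat f] {K : DCoh.D X} (eK : (lP j).obj (a.obj (oQ Y)).obj ≅ K) (d : ℕ)
    (hd : ∀ x, FlatMor.fibreDimAt f x ≤ (d : WithBot ℕ∞)) :
    DCoh.HasRelFlatAmplitudeIn f (-(d : ℤ)) 0 K := by
  haveI : K.IsGE (-(d : ℤ)) := (DerivedCategory.isGE_iff _ _).2 fun i hi => DPerf.isZero_of_stalks fun x =>
    not_nontrivial_iff_subsingleton.1 fun h => not_le_of_gt hi (stalk_range f p j hfac adj eK x d (hd x) i h).1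
  haveI : K.IsLE 0 := (DerivedCategory.isLE_iff _ _).2 fun i hi => DPerf.isZero_of_stalks fun x =>
    not_nontrivial_iff_subsingleton.1 fun h =>
      not_le_of_gt hi ((stalk_range f p j hfac adj eK x d (hd x) i h).2 inferInstance)
  refine hasRelFlatAmplitudeIn_of_stalks f K _ _ (by omega) fun x => ?_
  obtain ⟨V, hV, hxV, -⟩ := exists_isAffineOpen_mem_and_subset (X := Y) (x := f x) (U := ⊤) trivial
  obtain ⟨U, hU, hxU, e⟩ := exists_isAffineOpen_mem_and_subset (X := X) (x := x) (U := f ⁻¹ᵁ V) hxV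
  let A := Γ(Y, V)
  let B := Γ(X, U)
  letI : Algebra A B := (f.appLE V U e).hom.toAlgebra
  haveI : IsNoetherianRing A := IsLocallyNoetherian.component_noetherian ⟨V, hV⟩
  haveI : Algebra.FiniteType A B := f.finiteType_appLE hV hU e
  haveI : IsNoetherianRing B := Algebra.FiniteType.isNoetherianRing A B
  haveI : Module.Flat A B := f.flat_appLE hV hU e
  obtain ⟨m, F, hF⟩ := Algebra.FiniteType.iff_quotient_mvPolynomial''.1 (inferInstance : Algebra.FiniteType A B)
  haveI := DQC.hasLBaseChange (algebraMap A (MvPolynomial (Fin m) A))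
  haveI := isLeftAdjoint_restrictD F.toRingHom
  let adjψ := Adjunction.ofIsLeftAdjoint (DRing.restrictD F.toRingHom)
  obtain ⟨v⟩ := nonempty_via_sheaf f p j hfac adj V hV U hU e rfl m F hF adjψ
  refine ⟨A, B, hV.fromSpec, inferInstance, hU.fromSpec, inferInstance, f.appLE V U e, ?_,
    f.flat_appLE hV hU e, (hV.SpecMap_appLE_fromSpec f hU e).symm, ?_⟩
  · rw [IsAffineOpen.opensRange_fromSpec]; exact hxU
  refine (RelT.torAmp_iff_stalks (f.appLE V U e) hU.fromSpec K _
    ((((lPRes hU.fromSpec).app K).symm ≪≫ (lP hU.fromSpec).mapIso eK.symm ≪≫ v).symm) _ _).1 ?_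
  exact torAmp_via_self m F hF adjψ d fun q =>
    (fibreDimAt_chart f V hV U hU e q).trans_le (hd _)

end Groth.Agent.BC8
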