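import Groth.Agent.Lib.BC8.ViaCM
import Groth.Agent.Lib.BC8.ViaSheafApps
import Groth.Agent.Lib.CMEquiDim4
import Groth.Agent.Lib.FibreCM5.Constr

/-! Cohen–Macaulay points and the cohomology sheaves of `f^!O`. -/

set_option autoImplicit false
set_option linter.style.haveILetI false
set_option linter.unusedSectionVars false
set_option backward.isDefEq.respectTransparency false
set_option backward.isDefEq.respectTransparency.types false
set_option maxHeartbeats 1000000

universe u

open CategoryTheory CategoryTheory.Limits AlgebraicGeometry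
open scoped TensorProduct

attribute [local instance] HasDerivedCategory.standard

noncomputable section

namespace Groth.Agent.BC8

open DMon9

section Chart

variable {A B : Type u} [CommRing A] [CommRing B] [Algebra A B] [Algebra.FiniteType A B]

/-- Cohen–Macaulay fibres of an affine model. -/
theorem cm_fibre_model_iff (k : Type u) [Field k] [Algebra A k] (r : PrimeSpectrum (k ⊗[A] B)) :
    LocCoh.IsCohenMacaulayLocalRing (((Spec.map (CommRingCat.ofHom (algebraMap A B))).fiber
      (Spec.map (CommRingCat.ofHom (algebraMap A B))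
        (PrimeSpectrum.comap (Algebra.TensorProduct.includeRight : B →ₐ[A] k ⊗[A] B).toRingHom r))).presheaf.stalk
      ((Spec.map (CommRingCat.ofHom (algebraMap A B))).asFiber
        (PrimeSpectrum.comap (Algebra.TensorProduct.includeRight : B →ₐ[A] k ⊗[A] B).toRingHom r))) ↔
      LocCoh.IsCohenMacaulayLocalRing (Localization.AtPrime r.asIdeal) := by
  haveI : LocallyOfFiniteType (Spec.map (CommRingCat.ofHom (algebraMap A B))) :=
    (HasRingHomProperty.Spec_iff (P := @LocallyOfFiniteType)).2 (RingHom.finiteType_algebraMap.2 ‹_›)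
  have sq : IsPullback (Spec.map (CommRingCat.ofHom (Algebra.TensorProduct.includeRight : B →ₐ[A] k ⊗[A] B).toRingHom))
      (Spec.map (CommRingCat.ofHom (algebraMap k (k ⊗[A] B)))) (Spec.map (CommRingCat.ofHom (algebraMap A B)))
      (Spec.map (CommRingCat.ofHom (algebraMap A k))) :=
    (isPullback_SpecMap_of_isPushout _ _ _ _ (CommRingCat.isPushout_tensorProduct A k B)).flip
  exact (FibreCM5.isCM_fibre_bc_iff sq (show Spec (CommRingCat.of (k ⊗[A] B)) from r)).symm.trans
    ((FibreCM5.isCM_fibre_over_field_iff _ _).trans (FibreCM5.isCM_stalk_Spec_iff (k ⊗[A] B) r))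

/-- Closed points of fibre rings compute fibre dimensions. -/
theorem dim_fibre_model (k : Type u) [Field k] [Algebra A k] (m : Ideal (k ⊗[A] B)) [hm : m.IsMaximal] :
    ringKrullDim (Localization.AtPrime m) = FlatMor.fibreDimAt (Spec.map (CommRingCat.ofHom (algebraMap A B)))
      (PrimeSpectrum.comap (Algebra.TensorProduct.includeRight : B →ₐ[A] k ⊗[A] B).toRingHom ⟨m, hm.isPrime⟩) := by
  haveI : LocallyOfFiniteType (Spec.map (CommRingCat.ofHom (algebraMap A B))) :=
    (HasRingHomProperty.Spec_iff (P := @LocallyOfFiniteType)).2 (RingHom.finiteType_algebraMap.2 ‹_›)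
  have sq : IsPullback (Spec.map (CommRingCat.ofHom (Algebra.TensorProduct.includeRight : B →ₐ[A] k ⊗[A] B).toRingHom))
      (Spec.map (CommRingCat.ofHom (algebraMap k (k ⊗[A] B)))) (Spec.map (CommRingCat.ofHom (algebraMap A B)))
      (Spec.map (CommRingCat.ofHom (algebraMap A k))) :=
    (isPullback_SpecMap_of_isPushout _ _ _ _ (CommRingCat.isPushout_tensorProduct A k B)).flip
  let r : Spec (CommRingCat.of (k ⊗[A] B)) := (⟨m, hm.isPrime⟩ : PrimeSpectrum (k ⊗[A] B))
  let q := Spec.map (CommRingCat.ofHom (algebraMap k (k ⊗[A] B)))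
  haveI : LocallyOfFiniteType q := MorphismProperty.of_isPullback sq ‹_›
  obtain ⟨b, hb, hl⟩ := CMEquiDim4.exists_stalk_dim q r
  have h0 : VarDim.sdim q r = 0 := (VarDim.sdim_eq_zero_iff_isClosed q r).2
    ((PrimeSpectrum.isClosed_singleton_iff_isMaximal (⟨m, hm.isPrime⟩ : PrimeSpectrum (k ⊗[A] B))).2 hm)
  rw [h0, zero_add, ← hb] at hl
  have he : FlatMor.fibreDimAt q r = FlatMor.localDim (Spec (CommRingCat.of (k ⊗[A] B))) r := by
    haveI : IsIso ((Spec (CommRingCat.of k)).fromSpecResidueField (q r)) :=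
      ConsH13.isIso_fromSpecResidueField_of_subsingleton _ _
    haveI : IsIso (q.fiberι (q r)) := inferInstanceAs (IsIso (pullback.fst _ _))
    exact (FibDim14.localDim_of_isOpenEmbedding (q.fiberι (q r)).isOpenEmbedding (q.asFiber r)).trans
      (by rw [q.fiberι_asFiber])
  refine (ringKrullDim_eq_of_ringEquiv (Spec.stalkIso (CommRingCat.of (k ⊗[A] B)) r).commRingCatIsoToRingEquiv).symm.trans ?_
  refine hl.symm.trans (he.symm.trans ?_)
  exact FibDim14.fibreDimAt_baseChange sq r

end Chart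

/-- Cohen–Macaulay points on charts. -/
theorem cm_fibre_chart {X Y : Scheme.{u}} (f : X ⟶ Y) [LocallyOfFiniteType f] (V : Y.Opens) (hV : IsAffineOpen V)
    (U : X.Opens) (hU : IsAffineOpen U) (e : U ≤ f ⁻¹ᵁ V) (z : Spec Γ(X, U)) :
    LocCoh.IsCohenMacaulayLocalRing (((Spec.map (f.appLE V U e)).fiber (Spec.map (f.appLE V U e) z)).presheaf.stalk
      ((Spec.map (f.appLE V U e)).asFiber z)) ↔
    LocCoh.IsCohenMacaulayLocalRing ((f.fiber (f (hU.fromSpec z))).presheaf.stalk (f.asFiber (hU.fromSpec z))) := by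
  let s := Spec.map (f.appLE V U e)
  haveI : LocallyOfFiniteType s :=
    (HasRingHomProperty.Spec_iff (P := @LocallyOfFiniteType)).2 (f.finiteType_appLE hV hU e)
  rw [← FibreCM5.isCM_fibre_comp_iff hU.fromSpec f z, ← hV.SpecMap_appLE_fromSpec f hU e]
  exact FibreCM5.isCM_fibre_bc_iff (X' := Spec Γ(X, U)) (g' := 𝟙 _) (IsPullback.flip (by simpa using (IsPullback.of_vert_isIso (fst := s) (snd := 𝟙 _) (f := 𝟙 _) (g := s) ⟨by simp⟩).paste_horiz (IsKernelPair.id_of_mono hV.fromSpec))) z

variable {X Y Xb : Scheme.{u}} [IsNoetherian Y] (f : X ⟶ Y) [LocallyOfFiniteType f] [Flat f]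
  (p : Xb ⟶ Y) [IsProper p] (j : X ⟶ Xb) [IsOpenImmersion j] (hfac : j ≫ p = f) [DCoh.HasRpush p]
  {hp : DCoh.RpushPreservesQCoh p} {a : DCoh.DQCoh Y ⥤ DCoh.DQCoh Xb} (adj : DCoh.RpushQ p hp ⊣ a)
  [∀ (U : Scheme.{u}) (j : U ⟶ X) [IsOpenImmersion j], PreservesFiniteLimits (Scheme.Modules.restrictFunctor j)]

include hfac adj in
/-- Where the fibres are Cohen–Macaulay of dimension `d`, `f^!O` sits in degree `-d`. -/
theorem stalk_eq_neg_dim {K : DCoh.D X} (eK : (lP j).obj (a.obj (oQ Y)).obj ≅ K) (W : X.Opens) (d : ℕ)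
    (hW : ∀ y ∈ W, MoreMor.IsCMAt f y ∧ FlatMor.fibreDimAt f y = (d : WithBot ℕ∞)) (x : X) (hx : x ∈ W) (i : ℤ)
    (hi : Nontrivial ((DCoh.HD K i).presheaf.stalk x)) : i = -(d : ℤ) := by
  obtain ⟨V, hV, hxV, -⟩ := exists_isAffineOpen_mem_and_subset (X := Y) (x := f x) (U := ⊤) trivial
  obtain ⟨U, hU, hxU, hUW⟩ := exists_isAffineOpen_mem_and_subset (X := X) (x := x) (U := W ⊓ f ⁻¹ᵁ V) ⟨hx, hxV⟩
  have e : U ≤ f ⁻¹ᵁ V := fun y hy => (hUW hy).2
  let A := Γ(Y, V)
  let B := Γ(X, U)
  letI : Algebra A B := (f.appLE V U e).hom.toAlgebra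
  haveI : IsNoetherianRing A := IsLocallyNoetherian.component_noetherian ⟨V, hV⟩
  haveI : Algebra.FiniteType A B := f.finiteType_appLE hV hU e
  haveI : IsNoetherianRing B := Algebra.FiniteType.isNoetherianRing A B
  haveI : Module.Flat A B := f.flat_appLE hV hU e
  obtain ⟨m, F, hF⟩ := Algebra.FiniteType.iff_quotient_mvPolynomial''.1 (inferInstance : Algebra.FiniteType A B)
  haveI := DQC.hasLBaseChange (algebraMap A (MvPolynomial (Fin m) A))
  haveI := isLeftAdjoint_restrictD F.toRingHom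
  let adjψ := Adjunction.ofIsLeftAdjoint (DRing.restrictD F.toRingHom)
  obtain ⟨v⟩ := nonempty_via_sheaf f p j hfac adj V hV U hU e rfl m F hF adjψ
  let z : Spec B := hU.primeIdealOf ⟨x, hxU⟩
  have hz : hU.fromSpec z = x := hU.fromSpec_primeIdealOf ⟨x, hxU⟩
  haveI : PreservesFiniteLimits (tilde.functor B) := M1.tilde_preservesFiniteLimits
  have hloc := (DlzSchCM27.nontrivial_stalk_iff_aux (R := B) K hU.fromSpec _
    (((lPRes hU.fromSpec).app K).symm ≪≫ (lP hU.fromSpec).mapIso eK.symm ≪≫ v) z i).1 (by rwa [hz])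
  have hmem : ∀ q : Spec B, hU.fromSpec q ∈ W := fun q => by
    have h : hU.fromSpec q ∈ Set.range hU.fromSpec := ⟨q, rfl⟩
    rw [hU.range_fromSpec] at h
    exact (hUW h).1
  by_contra hne
  have hsub := subsingleton_via_of_CM m F hF adjψ d
    (fun q => ((fibreDimAt_chart f V hV U hU e q).trans (hW _ (hmem q)).2).le)
    (fun p' n hn => ⟨(cm_fibre_model_iff p'.asIdeal.ResidueField ⟨n, hn.isPrime⟩).1
        ((cm_fibre_chart f V hV U hU e _).2 (hW _ (hmem _)).1.2),
      (dim_fibre_model p'.asIdeal.ResidueField n).trans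
        ((fibreDimAt_chart f V hV U hU e _).trans (hW _ (hmem _)).2)⟩) i hne
  haveI := hloc
  exact false_of_nontrivial_of_subsingleton (LocalizedModule (z : PrimeSpectrum B).asIdeal.primeCompl
    ((DerivedCategory.homologyFunctor (ModuleCat.{u} B) i).obj
      (Dual2.shriekVia m (DRing.restrictD F.toRingHom).rightAdjoint (Dual.inD A A))))

include hfac adj in
/-- If `f^!O` has a single cohomology sheaf near `x`, then `f` is Cohen–Macaulay at `x`. -/
theorem isCMAt_of_single {K : DCoh.D X} (eK : (lP j).obj (a.obj (oQ Y)).obj ≅ K) (W : X.Opens) (c : ℤ)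
    (hW : ∀ y ∈ W, ∀ i, i ≠ c → Subsingleton ((DCoh.HD K i).presheaf.stalk y)) (x : X) (hx : x ∈ W) :
    MoreMor.IsCMAt f x ∧ ∃ y ∈ W, Nontrivial ((DCoh.HD K c).presheaf.stalk y) := by
  obtain ⟨V, hV, hxV, -⟩ := exists_isAffineOpen_mem_and_subset (X := Y) (x := f x) (U := ⊤) trivial
  obtain ⟨U, hU, hxU, hUW⟩ := exists_isAffineOpen_mem_and_subset (X := X) (x := x) (U := W ⊓ f ⁻¹ᵁ V) ⟨hx, hxV⟩
  have e : U ≤ f ⁻¹ᵁ V := fun y hy => (hUW hy).2
  let A := Γ(Y, V)
  let B := Γ(X, U)
  letI : Algebra A B := (f.appLE V U e).hom.toAlgebra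
  haveI : IsNoetherianRing A := IsLocallyNoetherian.component_noetherian ⟨V, hV⟩
  haveI : Algebra.FiniteType A B := f.finiteType_appLE hV hU e
  haveI : IsNoetherianRing B := Algebra.FiniteType.isNoetherianRing A B
  haveI : Module.Flat A B := f.flat_appLE hV hU e
  obtain ⟨m, F, hF⟩ := Algebra.FiniteType.iff_quotient_mvPolynomial''.1 (inferInstance : Algebra.FiniteType A B)
  haveI := DQC.hasLBaseChange (algebraMap A (MvPolynomial (Fin m) A))
  haveI := isLeftAdjoint_restrictD F.toRingHom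
  let adjψ := Adjunction.ofIsLeftAdjoint (DRing.restrictD F.toRingHom)
  obtain ⟨v⟩ := nonempty_via_sheaf f p j hfac adj V hV U hU e rfl m F hF adjψ
  haveI : PreservesFiniteLimits (tilde.functor B) := M1.tilde_preservesFiniteLimits
  let ω := Dual2.shriekVia m (DRing.restrictD F.toRingHom).rightAdjoint (Dual.inD A A)
  have hω : ∀ i, i ≠ c → Subsingleton (Dual.HD B ω i) := fun i hi => by
    refine _root_.Module.subsingleton_of_localization_maximal
      (fun (P : Ideal B) [P.IsMaximal] => LocalizedModule P.primeCompl (Dual.HD B ω i))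
      (fun (P : Ideal B) [P.IsMaximal] => LocalizedModule.mkLinearMap P.primeCompl _) fun P hP => ?_
    rw [← not_nontrivial_iff_subsingleton]
    intro hnt
    let q : Spec B := (⟨P, hP.isPrime⟩ : PrimeSpectrum B)
    have h : hU.fromSpec q ∈ Set.range hU.fromSpec := ⟨q, rfl⟩
    rw [hU.range_fromSpec] at h
    haveI := hW _ (hUW h).1 i hi
    haveI := (DlzSchCM27.nontrivial_stalk_iff_aux (R := B) K hU.fromSpec _
      (((lPRes hU.fromSpec).app K).symm ≪≫ (lP hU.fromSpec).mapIso eK.symm ≪≫ v) q i).2 hnt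
    exact false_of_nontrivial_of_subsingleton ((DCoh.HD K i).presheaf.stalk (hU.fromSpec q))
  obtain ⟨-, hfin, -, -, hdual⟩ := S1801.result A B m F hF _ adjψ
  haveI := hfin c
  let z : PrimeSpectrum B := hU.primeIdealOf ⟨x, hxU⟩
  let p' : PrimeSpectrum A := PrimeSpectrum.comap (algebraMap A B) z
  let r := PrimeSpectrum.preimageEquivFiber A B p' ⟨z, rfl⟩
  let b := (Algebra.TensorProduct.includeRight : B →ₐ[A] p'.asIdeal.ResidueField ⊗[A] B).toRingHom
  have hr : PrimeSpectrum.comap b r = z :=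
    congrArg Subtype.val ((PrimeSpectrum.preimageEquivFiber A B p').symm_apply_apply ⟨z, rfl⟩)
  haveI : IsNoetherianRing (p'.asIdeal.ResidueField ⊗[A] B) :=
    Algebra.FiniteType.isNoetherianRing p'.asIdeal.ResidueField _
  haveI := DQC.hasLBaseChange b
  obtain ⟨hcm, hiff⟩ := isCM_fibre_of_single b ω c hω (hdual p'.asIdeal.ResidueField) r
  have h1 := (cm_fibre_model_iff p'.asIdeal.ResidueField r).2 hcm
  have h2 := (cm_fibre_chart f V hV U hU e _).1 h1
  have hz : hU.fromSpec z = x := hU.fromSpec_primeIdealOf ⟨x, hxU⟩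
  refine ⟨by rw [← hz, ← hr]; exact ⟨Flat.stalkMap f _, h2⟩, ?_⟩
  by_contra hall
  push Not at hall
  have hω' : ∀ i, i ≠ c + 1 → Subsingleton (Dual.HD B ω i) := fun i _ => by
    by_cases hi : i = c
    swap
    · exact hω i hi
    subst hi
    refine _root_.Module.subsingleton_of_localization_maximal
      (fun (P : Ideal B) [P.IsMaximal] => LocalizedModule P.primeCompl (Dual.HD B ω i))
      (fun (P : Ideal B) [P.IsMaximal] => LocalizedModule.mkLinearMap P.primeCompl _) fun P hP => ?_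
    rw [← not_nontrivial_iff_subsingleton]
    intro hnt
    let q : Spec B := (⟨P, hP.isPrime⟩ : PrimeSpectrum B)
    have h : hU.fromSpec q ∈ Set.range hU.fromSpec := ⟨q, rfl⟩
    rw [hU.range_fromSpec] at h
    haveI := hall _ (hUW h).1
    haveI := (DlzSchCM27.nontrivial_stalk_iff_aux (R := B) K hU.fromSpec _
      (((lPRes hU.fromSpec).app K).symm ≪≫ (lP hU.fromSpec).mapIso eK.symm ≪≫ v) q i).2 hnt
    exact false_of_nontrivial_of_subsingleton ((DCoh.HD K i).presheaf.stalk (hU.fromSpec q))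
  haveI := hfin (c + 1)
  have hiff' := (isCM_fibre_of_single b ω (c + 1) hω' (hdual p'.asIdeal.ResidueField) r).2
  have := (hiff' c).1 ((hiff c).2 rfl)
  omega

omit [AlgebraicGeometry.IsNoetherian Y] [Flat f] [∀ (U : Scheme.{u}) (j : U ⟶ X) [IsOpenImmersion j], PreservesFiniteLimits (Scheme.Modules.restrictFunctor j)] in
/-- Equidimensional fibres have constant local dimension. -/
theorem fibreDimAt_eq_of_components (d : ℕ)
    (hd : ∀ (y : Y) (Z : Set ↥(f.fiber y)), Z ∈ irreducibleComponents ↥(f.fiber y) →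
      topologicalKrullDim ↥Z = (d : WithBot ℕ∞)) (x : X) : FlatMor.fibreDimAt f x = (d : WithBot ℕ∞) := by
  let q := FibDim14.toPt f (f x)
  let z := f.asFiber x
  haveI : LocallyOfFiniteType q := MorphismProperty.pullback_snd _ _ inferInstance
  have hmax : ∀ g : f.fiber (f x), (∀ w, w ⤳ g → w = g) → VarDim.sdim q g = d := fun g hg => by
    have h := (VarDim.dim_closure_singleton q g).symm.trans
      (hd _ _ ((VarDim.maximal_iff_mem_irreducibleComponents g).1 hg))
    exact_mod_cast h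
  obtain ⟨z', hz', -, hdim, hall⟩ := DimF18.exists_localDim_eq_sdim q z
  obtain ⟨g, hg, hgmax⟩ := VarDim.exists_maximal_specializes q z'
  have h1 := hall g (hg.trans hz')
  have h2 : VarDim.sdim q z' ≤ VarDim.sdim q g := by
    rcases eq_or_ne g z' with rfl | hne
    · exact le_rfl
    · exact (VarDim.sdim_lt_of_specializes q hg hne).le
  rw [hmax g hgmax] at h1 h2
  exact hdim.trans (by exact_mod_cast le_antisymm h2 h1)

include hfac adj in
/-- For Cohen–Macaulay fibres of dimension `d` the amplitude over the base is `[-d, -d]`. -/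
theorem relFlatAmp_shriek_CM {K : DCoh.D X} (eK : (lP j).obj (a.obj (oQ Y)).obj ≅ K) (d : ℕ)
    (hCM : ∀ x, MoreMor.IsCMAt f x ∧ FlatMor.fibreDimAt f x = (d : WithBot ℕ∞)) :
    DCoh.HasRelFlatAmplitudeIn f (-(d : ℤ)) (-(d : ℤ)) K := by
  have hst : ∀ x i, Nontrivial ((DCoh.HD K i).presheaf.stalk x) → i = -(d : ℤ) := fun x i =>
    stalk_eq_neg_dim f p j hfac adj eK ⊤ d (fun y _ => hCM y) x trivial i
  haveI : K.IsGE (-(d : ℤ)) := (DerivedCategory.isGE_iff _ _).2 fun i hi => DPerf.isZero_of_stalks fun x =>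
    not_nontrivial_iff_subsingleton.1 fun h => absurd (hst x i h) (by omega)
  haveI : K.IsLE (-(d : ℤ)) := (DerivedCategory.isLE_iff _ _).2 fun i hi => DPerf.isZero_of_stalks fun x =>
    not_nontrivial_iff_subsingleton.1 fun h => absurd (hst x i h) (by omega)
  refine hasRelFlatAmplitudeIn_of_stalks f K _ _ le_rfl fun x => ?_
  obtain ⟨V, hV, hxV, -⟩ := exists_isAffineOpen_mem_and_subset (X := Y) (x := f x) (U := ⊤) trivial
  obtain ⟨U, hU, hxU, e⟩ := exists_isAffineOpen_mem_and_subset (X := X) (x := x) (U := f ⁻¹ᵁ V) hxV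
  let A := Γ(Y, V)
  let B := Γ(X, U)
  letI : Algebra A B := (f.appLE V U e).hom.toAlgebra
  haveI : IsNoetherianRing A := IsLocallyNoetherian.component_noetherian ⟨V, hV⟩
  haveI : Algebra.FiniteType A B := f.finiteType_appLE hV hU e
  haveI : IsNoetherianRing B := Algebra.FiniteType.isNoetherianRing A B
  haveI : Module.Flat A B := f.flat_appLE hV hU e
  obtain ⟨m, F, hF⟩ := Algebra.FiniteType.iff_quotient_mvPolynomial''.1 (inferInstance : Algebra.FiniteType A B)
  haveI := DQC.hasLBaseChange (algebraMap A (MvPolynomial (Fin m) A))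
  haveI := isLeftAdjoint_restrictD F.toRingHom
  let adjψ := Adjunction.ofIsLeftAdjoint (DRing.restrictD F.toRingHom)
  obtain ⟨v⟩ := nonempty_via_sheaf f p j hfac adj V hV U hU e rfl m F hF adjψ
  refine ⟨A, B, hV.fromSpec, inferInstance, hU.fromSpec, inferInstance, f.appLE V U e, ?_,
    f.flat_appLE hV hU e, (hV.SpecMap_appLE_fromSpec f hU e).symm, ?_⟩
  · rw [IsAffineOpen.opensRange_fromSpec]; exact hxU
  refine (RelT.torAmp_iff_stalks (f.appLE V U e) hU.fromSpec K _
    ((((lPRes hU.fromSpec).app K).symm ≪≫ (lP hU.fromSpec).mapIso eK.symm ≪≫ v).symm) _ _).1 ?_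
  let ω := Dual2.shriekVia m (DRing.restrictD F.toRingHom).rightAdjoint (Dual.inD A A)
  haveI : ω.IsLE (-(d : ℤ)) := (DMod.isLE_iff ω _).2 fun i hi =>
    subsingleton_via_of_CM m F hF adjψ d
      (fun q => ((fibreDimAt_chart f V hV U hU e q).trans (hCM _).2).le)
      (fun p' n hn => ⟨(cm_fibre_model_iff p'.asIdeal.ResidueField ⟨n, hn.isPrime⟩).1
          ((cm_fibre_chart f V hV U hU e _).2 (hCM _).1.2),
        (dim_fibre_model p'.asIdeal.ResidueField n).trans
          ((fibreDimAt_chart f V hV U hU e _).trans (hCM _).2)⟩) i (by omega)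
  haveI : ((DRing.restrictD (f.appLE V U e).hom).obj ω).IsLE (-(d : ℤ)) :=
    (DBaseChange.resD_isLE_iff (f.appLE V U e).hom ω _).2 inferInstance
  exact TorBal.amplitude_shrink _ (torAmp_via_self m F hF adjψ d fun q =>
    ((fibreDimAt_chart f V hV U hU e q).trans (hCM _).2).le)

end Groth.Agent.BC8
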