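import Groth.Agent.Lib.BC8.ShriekViaOne
import Groth.Agent.Lib.DQC.Proj

/-! The cohomology of the upper shriek of the base is `Ext` over the polynomial ring. -/

set_option autoImplicit false
set_option linter.style.haveILetI false
set_option linter.unusedSectionVars false
set_option backward.isDefEq.respectTransparency false
set_option backward.isDefEq.respectTransparency.types false
set_option maxHeartbeats 1000000

universe u

open CategoryTheory CategoryTheory.Limits

attribute [local instance] HasDerivedCategory.standard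

noncomputable section

namespace Groth.Agent.BC8

variable {P B : Type u} [CommRing P] [CommRing B] (φ : P →+* B)
  {Rψ : Dual.D P ⥤ Dual.D B} (adj : DRing.restrictD φ ⊣ Rψ)

/-- The ring as a module over `P`. -/
abbrev resOne : ModuleCat.{u} P := (ModuleCat.restrictScalars.{u} φ).obj (ModuleCat.of B B)

include adj in
/-- Cohomology of a right adjoint of restriction at the free module is `Ext`, semilinearly. -/
theorem nonempty_upper_ext (j : ℕ) :
    Nonempty (Abelian.Ext.{u} (resOne φ) (ModuleCat.of P P) j ≃ₗ[P]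
      (ModuleCat.restrictScalars.{u} φ).obj
        ((DerivedCategory.homologyFunctor (ModuleCat.{u} B) (j : ℤ)).obj (Rψ.obj (Dual.inD P P)))) := by
  haveI : (DRing.restrictD φ).IsLeftAdjoint := adj.isLeftAdjoint
  haveI : (DRing.restrictD φ).Additive := inferInstance
  let SB := DerivedCategory.singleFunctor (ModuleCat.{u} B)
  let SP := DerivedCategory.singleFunctor (ModuleCat.{u} P)
  let Y := Dual.inD P P
  let ρ := (ModuleCat.restrictScalars.{u} φ).mapDerivedCategorySingleFunctor (j : ℤ)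
  let σ := (DerivedCategory.singleFunctors (ModuleCat.{u} P)).shiftIso (j : ℤ) 0 (j : ℤ) (by omega)
  haveI : Rψ.Additive := adj.right_adjoint_additive
  let T : ((SB (j : ℤ)).obj (ModuleCat.of B B) ⟶ Rψ.obj Y) → ((SP 0).obj (resOne φ) ⟶ Y⟦(j : ℤ)⟧) :=
    fun f => σ.inv.app _ ≫ (ρ.inv.app _ ≫ (adj.homEquiv _ _).symm f)⟦(j : ℤ)⟧'
  have hT : Function.Bijective T := by
    have h1 := (adj.homEquiv ((SB (j : ℤ)).obj (ModuleCat.of B B)) Y).symm.bijective
    have h2 := (Iso.homCongr (ρ.app (ModuleCat.of B B)) (Iso.refl Y)).bijective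
    have h3 := ((Functor.FullyFaithful.ofFullyFaithful (shiftFunctor (Dual.D P) (j : ℤ))).homEquiv
      (X := (SP (j : ℤ)).obj (resOne φ)) (Y := Y)).bijective
    have h4 := (Iso.homCongr (σ.app (resOne φ)) (Iso.refl (Y⟦(j : ℤ)⟧))).bijective
    have he : T = (Iso.homCongr (σ.app (resOne φ)) (Iso.refl (Y⟦(j : ℤ)⟧))) ∘
        ((Functor.FullyFaithful.ofFullyFaithful (shiftFunctor (Dual.D P) (j : ℤ))).homEquiv) ∘
        (Iso.homCongr (ρ.app (ModuleCat.of B B)) (Iso.refl Y)) ∘ (adj.homEquiv _ Y).symm := funext fun f => by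
      simp [T, Iso.homCongr, Functor.FullyFaithful.homEquiv]
    rw [he]
    exact h4.comp (h3.comp (h2.comp h1))
  let Φ : ((SB (j : ℤ)).obj (ModuleCat.of B B) ⟶ Rψ.obj Y) →
      (DerivedCategory.homologyFunctor (ModuleCat.{u} B) (j : ℤ)).obj (Rψ.obj Y) :=
    fun f => (SiteRlim.θ f).hom 1
  have hΦ : Function.Bijective Φ := by
    have h1 := DQC.bijective_θ_projective (R := CommRingCat.of B) (ModuleCat.of B B) (j : ℤ) (Rψ.obj Y)
    let e : (ModuleCat.of B B ⟶ (DerivedCategory.homologyFunctor (ModuleCat.{u} B) (j : ℤ)).obj (Rψ.obj Y)) ≃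
        (DerivedCategory.homologyFunctor (ModuleCat.{u} B) (j : ℤ)).obj (Rψ.obj Y) :=
      ModuleCat.homEquiv.trans (LinearMap.ringLmapEquivSelf B B _).toEquiv
    exact e.bijective.comp h1
  have hTadd : ∀ f g, T (f + g) = T f + T g := fun f g => by
    have h : (adj.homEquiv ((SB (j : ℤ)).obj (ModuleCat.of B B)) Y).symm (f + g) =
        (adj.homEquiv _ Y).symm f + (adj.homEquiv _ Y).symm g := by
      simp [Adjunction.homEquiv_counit, Preadditive.add_comp]
    dsimp only [T]
    erw [h]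
    rw [Preadditive.comp_add, Functor.map_add, Preadditive.comp_add]
  have hΦadd : ∀ f g, Φ (f + g) = Φ f + Φ g := fun f g => by
    simp [Φ, SiteRlim.θ, Functor.map_add, Preadditive.comp_add]
  let m : P → (ModuleCat.of B B ⟶ ModuleCat.of B B) := fun p => φ p • 𝟙 _
  have hres : ∀ p : P, (ModuleCat.restrictScalars.{u} φ).map (m p) = p • 𝟙 (resOne φ) := fun p => by
    ext x
    rfl
  have hΦsmul : ∀ (p : P) f, Φ ((SB (j : ℤ)).map (m p) ≫ f) = φ p • Φ f := fun p f => by
    show (SiteRlim.θ ((SB (j : ℤ)).map (m p) ≫ f)).hom 1 = φ p • (SiteRlim.θ f).hom 1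
    rw [SiteRlim.θ_pre]
    show (SiteRlim.θ f).hom (φ p • (1 : B)) = _
    exact map_smul _ _ _
  have hTsmul : ∀ (p : P) f, T ((SB (j : ℤ)).map (m p) ≫ f) = p • T f := fun p f => by
    have hn1 := adj.homEquiv_naturality_left_symm ((SB (j : ℤ)).map (m p)) f
    have hn2 : ρ.inv.app (ModuleCat.of B B) ≫ (DRing.restrictD φ).map ((SB (j : ℤ)).map (m p)) =
        (SP (j : ℤ)).map ((ModuleCat.restrictScalars.{u} φ).map (m p)) ≫ ρ.inv.app (ModuleCat.of B B) :=
      (ρ.inv.naturality (m p)).symm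
    show σ.inv.app _ ≫ (ρ.inv.app _ ≫ (adj.homEquiv _ Y).symm ((SB (j : ℤ)).map (m p) ≫ f))⟦(j : ℤ)⟧' = _
    rw [hn1, ← Category.assoc (ρ.inv.app _), hn2, Category.assoc, Functor.map_comp, ← Category.assoc]
    have hn3 : σ.inv.app (resOne φ) ≫ ((SP (j : ℤ)).map ((ModuleCat.restrictScalars.{u} φ).map (m p)))⟦(j : ℤ)⟧' =
        (SP 0).map ((ModuleCat.restrictScalars.{u} φ).map (m p)) ≫ σ.inv.app (resOne φ) :=
      (σ.inv.naturality ((ModuleCat.restrictScalars.{u} φ).map (m p))).symm
    rw [hn3, hres, Category.assoc, Functor.map_smul, CategoryTheory.Functor.map_id, Linear.smul_comp, Category.id_comp]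
  let e : Abelian.Ext.{u} (resOne φ) (ModuleCat.of P P) j ≃
      (DerivedCategory.homologyFunctor (ModuleCat.{u} B) (j : ℤ)).obj (Rψ.obj Y) :=
    ((Abelian.Ext.homLinearEquiv (R := P)).toEquiv.trans (Equiv.ofBijective T hT).symm).trans (Equiv.ofBijective Φ hΦ)
  refine ⟨({ toFun := e, invFun := e.symm, left_inv := e.symm_apply_apply, right_inv := e.apply_symm_apply
             map_add' := fun x y => ?_, map_smul' := fun p x => ?_ })⟩
  · let a := (Equiv.ofBijective T hT).symm
    have : a ((Abelian.Ext.homLinearEquiv (R := P)) (x + y)) = a (Abelian.Ext.homLinearEquiv (R := P) x) + a (Abelian.Ext.homLinearEquiv (R := P) y) :=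
      hT.1 (by rw [hTadd]; simp only [a, Equiv.ofBijective_apply_symm_apply]; exact map_add _ _ _)
    exact (congrArg Φ this).trans (hΦadd _ _)
  · let a := (Equiv.ofBijective T hT).symm
    have : a ((Abelian.Ext.homLinearEquiv (R := P)) (p • x)) =
        (SB (j : ℤ)).map (m p) ≫ a (Abelian.Ext.homLinearEquiv (R := P) x) :=
      hT.1 (by rw [hTsmul]; simp only [a, Equiv.ofBijective_apply_symm_apply]; exact map_smul _ _ _)
    exact (congrArg Φ this).trans (hΦsmul p _)

/-- The cohomology of `φ^!R` is `Ext` over the polynomial ring. -/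
theorem nonempty_via_ext {R A : Type u} [CommRing R] [CommRing A] [Algebra R A] (n : ℕ)
    (ψ : MvPolynomial (Fin n) R →ₐ[R] A) [DRing.HasLBaseChange (algebraMap R (MvPolynomial (Fin n) R))]
    {Rψ : Dual.D (MvPolynomial (Fin n) R) ⥤ Dual.D A} (adj : DRing.restrictD ψ.toRingHom ⊣ Rψ)
    (i : ℤ) (j : ℕ) (hij : i + n = j) :
    Nonempty (Abelian.Ext.{u} (resOne ψ.toRingHom) (ModuleCat.of (MvPolynomial (Fin n) R) (MvPolynomial (Fin n) R)) j
      ≃ₗ[MvPolynomial (Fin n) R] (ModuleCat.restrictScalars.{u} ψ.toRingHom).obj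
        ((DerivedCategory.homologyFunctor (ModuleCat.{u} A) i).obj (Dual2.shriekVia n Rψ (Dual.inD R R)))) := by
  obtain ⟨e⟩ := nonempty_upper_ext ψ.toRingHom adj j
  obtain ⟨o⟩ := nonempty_via_one n Rψ (R := R) (A := A)
  exact ⟨e ≪≫ₗ ((ModuleCat.restrictScalars.{u} ψ.toRingHom).mapIso
    (((DerivedCategory.homologyFunctor (ModuleCat.{u} A) 0).shiftIso (n : ℤ) i (j : ℤ) (by omega)).app _).symm ≪≫
    (ModuleCat.restrictScalars.{u} ψ.toRingHom).mapIso
      ((DerivedCategory.homologyFunctor _ i).mapIso o.symm)).toLinearEquiv⟩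

end Groth.Agent.BC8
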