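import Groth.Agent.Lib.BC8.ViaSheafApps
import Groth.Agent.Lib.DlzSch27.Cover
import Groth.Agent.S1801

/-! Derived fibres of `f^!O` are dualizing. -/

set_option autoImplicit false
set_option linter.style.haveILetI false
set_option linter.unusedSectionVars false
set_option backward.isDefEq.respectTransparency false
set_option backward.isDefEq.respectTransparency.types false
set_option maxHeartbeats 1000000

universe u

open CategoryTheory CategoryTheory.Limits AlgebraicGeometry
open scoped TensorProduct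

attribute [local instance] HasDerivedCategory.standard

noncomputable section

namespace Groth.Agent.BC8

open DMon9

variable {X Y Xb : Scheme.{u}} [IsNoetherian Y] (f : X ⟶ Y) [LocallyOfFiniteType f]
  (p : Xb ⟶ Y) [IsProper p] (j : X ⟶ Xb) [IsOpenImmersion j] (hfac : j ≫ p = f) [DCoh.HasRpush p]
  {hp : DCoh.RpushPreservesQCoh p} {a : DCoh.DQCoh Y ⥤ DCoh.DQCoh Xb} (adj : DCoh.RpushQ p hp ⊣ a)
  [∀ (U V : Scheme.{u}) (j : U ⟶ V) [IsOpenImmersion j], PreservesFiniteLimits (Scheme.Modules.restrictFunctor j)]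
  [∀ (R : CommRingCat.{u}), PreservesFiniteLimits (tilde.functor R)]

include hfac adj in
/-- The derived fibre of `f^!O` is dualizing. -/
theorem isDualizingSch_fibre [Flat f] {K : DCoh.D X} (eK : (lP j).obj (a.obj (oQ Y)).obj ≅ K) (y : Y) :
    Dual2.IsDualizingSch (f.fiber y) ((lP (f.fiberι y)).obj K) := by
  haveI : IsLocallyNoetherian (f.fiber y) := by
    haveI : LocallyOfFiniteType (f.fiberToSpecResidueField y) :=
      MorphismProperty.pullback_snd (P := @LocallyOfFiniteType) _ _ inferInstance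
    exact LocallyOfFiniteType.isLocallyNoetherian (f.fiberToSpecResidueField y)
  refine DlzSch27.isDualizingSch_of_cover fun z => ?_
  let x := f.fiberι y z
  have hfx : f x = y := by
    have h : x ∈ Set.range (f.fiberι y) := ⟨z, rfl⟩
    rwa [f.range_fiberι y] at h
  obtain ⟨V, hV, hyV, -⟩ := exists_isAffineOpen_mem_and_subset (X := Y) (x := y) (U := ⊤) trivial
  obtain ⟨U, hU, hxU, e⟩ := exists_isAffineOpen_mem_and_subset (X := X) (x := x) (U := f ⁻¹ᵁ V)
    (show f x ∈ V from hfx ▸ hyV)
  let A := Γ(Y, V)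
  let B := Γ(X, U)
  letI : Algebra A B := (f.appLE V U e).hom.toAlgebra
  haveI : IsNoetherianRing A := IsLocallyNoetherian.component_noetherian ⟨V, hV⟩
  haveI : Algebra.FiniteType A B := f.finiteType_appLE hV hU e
  haveI : IsNoetherianRing B := Algebra.FiniteType.isNoetherianRing A B
  haveI : Module.Flat A B := f.flat_appLE hV hU e
  obtain ⟨m, F, hF⟩ := Algebra.FiniteType.iff_quotient_mvPolynomial''.1 (inferInstance : Algebra.FiniteType A B)
  haveI := DQC.hasLBaseChange (algebraMap A (MvPolynomial (Fin m) A))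
  haveI := isLeftAdjoint_restrictD F.toRingHom
  let adjψ := Adjunction.ofIsLeftAdjoint (DRing.restrictD F.toRingHom)
  obtain ⟨v⟩ := nonempty_via_sheaf f p j hfac adj V hV U hU e rfl m F hF adjψ
  let k : Type u := Y.residueField y
  let s := Y.fromSpecResidueField y
  let t : Spec (Y.residueField y) ⟶ Spec A := IsOpenImmersion.lift hV.fromSpec s (by
    rw [Scheme.range_fromSpecResidueField, IsAffineOpen.range_fromSpec]
    rintro _ rfl
    exact hyV)
  have ht : t ≫ hV.fromSpec = s := IsOpenImmersion.lift_fac _ _ _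
  letI : Algebra A k := (Spec.preimage t).hom.toAlgebra
  have htA : Spec.map (CommRingCat.ofHom (algebraMap A k)) = t := Spec.map_preimage t
  let T := k ⊗[A] B
  haveI : IsNoetherianRing T := Algebra.FiniteType.isNoetherianRing k T
  let inR : B ⟶ CommRingCat.of T := CommRingCat.ofHom (Algebra.TensorProduct.includeRight : B →ₐ[A] T).toRingHom
  let inL : CommRingCat.of k ⟶ CommRingCat.of T := CommRingCat.ofHom (Algebra.TensorProduct.includeLeftRingHom : k →+* T)
  have hsq : IsPullback (Spec.map inR) (Spec.map inL) (Spec.map (CommRingCat.ofHom (algebraMap A B))) t := by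
    rw [← htA]
    exact isPullback_SpecMap_of_isPushout _ _ _ _ (CommRingCat.isPushout_tensorProduct A k B).flip
  have hsq' : IsPullback (Spec.map inR) (Spec.map inL) (hU.fromSpec ≫ f) s := by
    rw [← hV.SpecMap_appLE_fromSpec f hU e, ← ht]
    exact IsPullback.of_isLimit (PullbackCone.isLimitOfCompMono (Spec.map (CommRingCat.ofHom (algebraMap A B))) t hV.fromSpec _ hsq.isLimit)
  let u : Spec (CommRingCat.of T) ⟶ f.fiber y :=
    pullback.lift (Spec.map inR ≫ hU.fromSpec) (Spec.map inL) (by rw [Category.assoc]; exact hsq'.w)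
  have hu1 : u ≫ f.fiberι y = Spec.map inR ≫ hU.fromSpec := pullback.lift_fst _ _ _
  have hu2 : u ≫ pullback.snd f s = Spec.map inL := pullback.lift_snd _ _ _
  have hsqU : IsPullback (Spec.map inR) u hU.fromSpec (f.fiberι y) :=
    IsPullback.of_bot (by rw [hu2]; exact hsq') hu1.symm (IsPullback.of_hasPullback f s)
  haveI : IsOpenImmersion u := MorphismProperty.of_isPullback hsqU (inferInstance : IsOpenImmersion hU.fromSpec)
  refine ⟨CommRingCat.of T, u, inferInstance, ?_, ?_⟩
  · obtain ⟨w, -, hw⟩ := Scheme.Pullback.exists_preimage_pullback (f := hU.fromSpec) (g := f.fiberι y)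
      (hU.primeIdealOf ⟨x, hxU⟩) z (hU.fromSpec_primeIdealOf ⟨x, hxU⟩)
    refine ⟨hsqU.isoPullback.inv w, ?_⟩
    rw [← Scheme.Hom.comp_apply, IsPullback.isoPullback_inv_snd]
    exact hw
  let ω := Dual2.shriekVia m (DRing.restrictD F.toRingHom).rightAdjoint (Dual.inD A A)
  haveI : DRing.HasLBaseChange inR.hom := DQC.hasLBaseChange inR.hom
  haveI : DRing.HasLBaseChange (Algebra.TensorProduct.includeRight : B →ₐ[A] T).toRingHom := ‹DRing.HasLBaseChange inR.hom›
  refine ⟨_, (S1801.result A B m F hF _ adjψ).2.2.2.2 k, ⟨?_⟩⟩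
  exact ((lPRes u).app _).symm ≪≫ (lPComp u (f.fiberι y) rfl).app K ≪≫
    eqToIso (congrArg (fun g => (lP g).obj K) hu1) ≪≫ ((lPComp (Spec.map inR) hU.fromSpec rfl).app K).symm ≪≫
    (lP (Spec.map inR)).mapIso ((lP hU.fromSpec).mapIso eK.symm ≪≫ v) ≪≫
    (DBC9.lPTildeIso inR).app ω

end Groth.Agent.BC8
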