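import Groth.Agent.Lib.BC8.ViaExt
import Groth.Agent.Lib.BC8.CMExt
import Groth.Agent.Lib.BC8.ShriekViaRange
import Groth.Agent.Lib.ExtLoc27.Basic
import Groth.Agent.Lib.UCat.Universal
import Groth.Agent.Lib.SMT.CMBasic
import Groth.Agent.Lib.AlgSpRel14.RelDim
import Groth.Agent.Lib.AlgSpRel14.SmoothDim
import Groth.Agent.Lib.CMEquiDim4
import Groth.Agent.Lib.FlatDepth.RkFlat
import Groth.Agent.Lib.FibDepth5.Bridge

/-! The upper shriek of a Cohen–Macaulay base below minus the transcendence degree. -/

set_option autoImplicit false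
set_option linter.style.haveILetI false
set_option linter.unusedSectionVars false
set_option backward.isDefEq.respectTransparency false
set_option backward.isDefEq.respectTransparency.types false
set_option maxHeartbeats 1000000

universe u

open CategoryTheory CategoryTheory.Limits AlgebraicGeometry

attribute [local instance] HasDerivedCategory.standard

noncomputable section

namespace Groth.Agent.BC8

/-- A residual transcendence degree at most `r` gives height at least `n - r` in affine space. -/
theorem le_height_comap {R A : Type u} [CommRing R] [CommRing A] [Algebra R A] (n : ℕ)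
    (ψ : MvPolynomial (Fin n) R →ₐ[R] A) (hψ : Function.Surjective ψ) (r : ℕ) (q : PrimeSpectrum A)
    (hq : Dual3.resTrdeg (Spec.map (CommRingCat.ofHom (algebraMap R A))) q ≤ (r : Cardinal.{u})) :
    ((n - r : ℕ) : ℕ∞) ≤ (q.asIdeal.comap ψ.toRingHom).height := by
  let P := CommRingCat.of (MvPolynomial (Fin n) R)
  let φ : P ⟶ CommRingCat.of A := CommRingCat.ofHom ψ.toRingHom
  let h : Spec P ⟶ Spec (CommRingCat.of R) := Spec.map (CommRingCat.ofHom (algebraMap R (MvPolynomial (Fin n) R)))
  let i : Spec (CommRingCat.of A) ⟶ Spec P := Spec.map φ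
  haveI : IsClosedImmersion i := IsClosedImmersion.spec_of_surjective _ hψ
  haveI : LocallyOfFiniteType h := (HasRingHomProperty.Spec_iff (P := @LocallyOfFiniteType)).2
    (RingHom.finiteType_algebraMap.2 inferInstance)
  have hih : i ≫ h = Spec.map (CommRingCat.ofHom (algebraMap R A)) := by
    rw [← Spec.map_comp]
    congr 1
    ext t
    exact ψ.commutes t
  rw [← hih, AlgSpRel14.resTrdeg_eq_rd, FibDim14.rd_comp, FibDim14.rd_of_surjectiveOnStalks i, add_zero] at hq
  have hr : FibDim14.rd h (i q) ≤ r := by exact_mod_cast hq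
  let x : Spec P := i q
  let z := h.asFiber x
  obtain ⟨b, hb, hl⟩ := CMEquiDim4.exists_stalk_dim (FibDim14.toPt h (h x)) z
  have hz : VarDim.sdim (FibDim14.toPt h (h x)) z = FibDim14.rd h x := by
    rw [← FibDim14.rd_fiberι, h.fiberι_asFiber]
  have hn : FlatMor.localDim (h.fiber (h x)) z = (n : WithBot ℕ∞) :=
    AlgSpRel14.fibreDimAt_affineSpace (A := R) n x
  rw [hz, hn] at hl
  have hl' : n = FibDim14.rd h x + b := by exact_mod_cast hl
  have hr' : FibDim14.rd h x ≤ r := hr
  have hs : ringKrullDim ((h.fiber (h x)).presheaf.stalk z) ≤ ringKrullDim ((Spec P).presheaf.stalk (h.fiberι (h x) z)) :=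
    ringKrullDim_le_of_surjective _ ((h.fiberι (h x)).stalkMap_surjective z)
  rw [hb, h.fiberι_asFiber x,
    ringKrullDim_eq_of_ringEquiv (Spec.stalkIso P x).commRingCatIsoToRingEquiv] at hs
  have hht : ringKrullDim (Localization.AtPrime (x : PrimeSpectrum P).asIdeal) =
      ((x : PrimeSpectrum P).asIdeal.height : WithBot ℕ∞) :=
    IsLocalization.AtPrime.ringKrullDim_eq_height _ _
  have hs' : ((b : ℕ∞) : WithBot ℕ∞) ≤ ((x : PrimeSpectrum P).asIdeal.height : WithBot ℕ∞) :=
    hs.trans (le_of_eq hht)
  refine le_trans (Nat.cast_le.2 (show n - r ≤ b by omega)) ?_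
  exact WithBot.coe_le_coe.1 hs'

variable {R : Type u} [CommRing R] (p : Ideal R) [p.IsPrime] (n : ℕ)

/-- The polynomial submonoid away from `p`. -/
abbrev polyCompl : Submonoid (MvPolynomial (Fin n) R) :=
  Algebra.algebraMapSubmonoid (MvPolynomial (Fin n) R) p.primeCompl

/-- The polynomial ring localised at a Cohen–Macaulay prime of the base is Cohen–Macaulay. -/
theorem isCMRing_polyLoc [IsNoetherianRing R] [LocCoh.IsCohenMacaulayLocalRing (Localization.AtPrime p)] :
    LocCoh.IsCohenMacaulayRing (Localization (polyCompl p n)) := by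
  let O := Localization.AtPrime p
  haveI : IsNoetherianRing O := IsLocalization.isNoetherianRing p.primeCompl _ inferInstance
  haveI : LocCoh.IsCohenMacaulayRing O := by
    refine { isCohenMacaulayLocalRing_localization := fun P _ => ?_ }
    have hO : LocCoh.IsCohenMacaulayModule O O := LocCoh.IsCohenMacaulayLocalRing.supportDim_eq_depth
    have h := (DepthLib.isCohenMacaulayModule_localizedModule hO P (by
      rw [Module.support_eq_zeroLocus, PrimeSpectrum.mem_zeroLocus]
      exact fun a ha => by simp [show a = 0 by simpa using Module.mem_annihilator.1 ha 1])).1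
    have h' := KoszShH13.isCohenMacaulayModule_congr
      ((IsLocalizedModule.iso P.primeCompl (Algebra.linearMap O (Localization.AtPrime P))).extendScalarsOfIsLocalization
        P.primeCompl (Localization.AtPrime P)) h
    exact { supportDim_eq_depth := h' }
  haveI := UCat.isCM_mvPolynomial O n
  letI := MvPolynomial.algebraMvPolynomial (σ := Fin n) (R := R) (S := O)
  haveI : IsLocalization (p.primeCompl.map (MvPolynomial.C (σ := Fin n))) (MvPolynomial (Fin n) O) :=
    MvPolynomial.isLocalization p.primeCompl O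
  haveI : IsLocalization (p.primeCompl.map (MvPolynomial.C (σ := Fin n))) (Localization (polyCompl p n)) :=
    show IsLocalization (polyCompl p n) (Localization (polyCompl p n)) from inferInstance
  let e : MvPolynomial (Fin n) O ≃+* Localization (polyCompl p n) :=
    (IsLocalization.algEquiv (p.primeCompl.map (MvPolynomial.C (σ := Fin n))) (MvPolynomial (Fin n) O)
      (Localization (polyCompl p n))).toRingEquiv
  haveI : IsNoetherianRing (Localization (polyCompl p n)) := isNoetherianRing_of_ringEquiv _ e
  refine { isCohenMacaulayLocalRing_localization := fun P _ => ?_ }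
  let P' := P.comap e.toRingHom
  have hmap : P'.primeCompl.map e.toMonoidHom = P.primeCompl := by
    refine Submonoid.ext fun x => ⟨?_, fun hx => ⟨e.symm x, fun hm => hx ?_, e.apply_symm_apply x⟩⟩
    · rintro ⟨y, hy, rfl⟩
      exact hy
    · have h : e (e.symm x) ∈ P := hm
      rwa [e.apply_symm_apply] at h
  exact SMT.isCM_of_ringEquiv (IsLocalization.ringEquivOfRingEquiv (Localization.AtPrime P') (Localization.AtPrime P) e hmap)
    (LocCoh.IsCohenMacaulayRing.isCohenMacaulayLocalRing_localization P')

variable {A : Type u} [CommRing A] [Algebra R A] (ψ : MvPolynomial (Fin n) R →ₐ[R] A)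

/-- The localised module, seen over the localised polynomial ring. -/
theorem via_localized [IsNoetherianRing R] [IsNoetherianRing A] (hψ : Function.Surjective ψ)
    [LocCoh.IsCohenMacaulayLocalRing (Localization.AtPrime p)]
    [DRing.HasLBaseChange (algebraMap R (MvPolynomial (Fin n) R))]
    {Rψ : Dual.D (MvPolynomial (Fin n) R) ⥤ Dual.D A} (adj : DRing.restrictD ψ.toRingHom ⊣ Rψ) (c : ℕ)
    (hc : ∀ q : PrimeSpectrum A, q.asIdeal ∈ minimalPrimes A → (c : ℕ∞) ≤ (q.asIdeal.comap ψ.toRingHom).height)
    (i : ℤ) (j : ℕ) (hij : i + n = j) :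
    (j < c → Subsingleton (LocalizedModule (Algebra.algebraMapSubmonoid A p.primeCompl)
        (Dual.HD A (Dual2.shriekVia n Rψ (Dual.inD R R)) i))) ∧
    (j = c → LocCoh.HasSk 2 (Localization (Algebra.algebraMapSubmonoid A p.primeCompl))
        (LocalizedModule (Algebra.algebraMapSubmonoid A p.primeCompl)
          (Dual.HD A (Dual2.shriekVia n Rψ (Dual.inD R R)) i))) := by
  let P := MvPolynomial (Fin n) R
  let S := polyCompl p n
  let T := Algebra.algebraMapSubmonoid A p.primeCompl
  let L := Localization S
  let A' := Localization T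
  letI : Algebra P A := ψ.toRingHom.toAlgebra
  haveI : IsScalarTower R P A := IsScalarTower.of_algHom ψ
  have hST : ∀ s ∈ S, algebraMap P A s ∈ T := by
    rintro _ ⟨t, ht, rfl⟩
    exact ⟨t, ht, (IsScalarTower.algebraMap_apply R P A t)⟩
  let lam : L →+* A' := IsLocalization.map A' (algebraMap P A) (show S ≤ T.comap (algebraMap P A) from fun s hs => hST s hs)
  have hlamS : Function.Surjective lam := by
    intro y
    obtain ⟨a, ⟨_, t, ht, rfl⟩, rfl⟩ := IsLocalization.exists_mk'_eq T y
    obtain ⟨f, rfl⟩ := hψ a
    refine ⟨IsLocalization.mk' L f (⟨algebraMap R P t, ⟨t, ht, rfl⟩⟩ : S), ?_⟩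
    simp only [lam, IsLocalization.map_mk']
    congr 1
    exact Subtype.ext (IsScalarTower.algebraMap_apply R P A t).symm
  haveI := isCMRing_polyLoc p n
  haveI : Module.Finite P (resOne ψ.toRingHom) :=
    Module.Finite.of_surjective (σ := RingHom.id P) { toFun := fun f => ψ f, map_add' := map_add ψ, map_smul' := map_mul ψ } hψ
  obtain ⟨g, hg⟩ := ExtLoc.exists_isLocMap (R := P) S (N := P) j (resOne ψ.toRingHom)
  let N := LocalizedModule S (resOne ψ.toRingHom)
  haveI : Module.Finite L N := Module.Finite.of_isLocalizedModule S (LocalizedModule.mkLinearMap S (resOne ψ.toRingHom))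
  have hN : ∀ (Q : Ideal L) [Q.IsPrime], Module.annihilator L N ≤ Q → (c : ℕ∞) ≤ Q.height := by
    intro Q _ hQ
    rw [← IsLocalization.height_comap S Q]
    have hker : RingHom.ker ψ.toRingHom ≤ Q.comap (algebraMap P L) := fun f hf => hQ (Module.mem_annihilator.2 fun z => by
      induction z using LocalizedModule.induction_on with
      | _ m s =>
        rw [algebraMap_smul, LocalizedModule.smul'_mk,
          show f • m = 0 from (show ψ.toRingHom f * (show A from m) = 0 by rw [RingHom.mem_ker.1 hf, zero_mul]),
          LocalizedModule.zero_mk])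
    haveI : ((Q.comap (algebraMap P L)).map ψ.toRingHom).IsPrime := Ideal.map_isPrime_of_surjective hψ hker
    obtain ⟨q, hq, hqQ⟩ := Ideal.exists_minimalPrimes_le (I := (⊥ : Ideal A))
      (J := (Q.comap (algebraMap P L)).map ψ.toRingHom) bot_le
    refine (hc ⟨q, hq.1.1⟩ hq).trans (Ideal.height_mono ?_)
    exact (Ideal.comap_mono hqQ).trans
      ((Ideal.comap_map_of_surjective ψ.toRingHom hψ _).le.trans (sup_le le_rfl hker))
  obtain ⟨hlow, hsk⟩ := ext_into_cm N c hN
  let eL : LocalizedModule S P ≃ₗ[L] L :=
    (IsLocalizedModule.iso S (Algebra.linearMap P L)).extendScalarsOfIsLocalization S L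
  let ext : ∀ k : ℕ, Abelian.Ext.{u} (ModuleCat.of L N) (ModuleCat.of L (LocalizedModule S P)) k ≃ₗ[L]
      Abelian.Ext.{u} (ModuleCat.of L N) (ModuleCat.of L L) k := fun k =>
    { toFun := fun x => x.comp (Abelian.Ext.mk₀ eL.toModuleIso.hom) (add_zero k)
      invFun := fun x => x.comp (Abelian.Ext.mk₀ eL.toModuleIso.inv) (add_zero k)
      map_add' := fun x y => Abelian.Ext.add_comp x y _ _
      map_smul' := fun a x => Abelian.Ext.smul_comp x _ _ a
      left_inv := fun x => by
        show (x.comp _ _).comp _ _ = x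
        rw [Abelian.Ext.comp_assoc_of_second_deg_zero, Abelian.Ext.mk₀_comp_mk₀, Iso.hom_inv_id, Abelian.Ext.comp_mk₀_id]
      right_inv := fun x => by
        show (x.comp _ _).comp _ _ = x
        rw [Abelian.Ext.comp_assoc_of_second_deg_zero, Abelian.Ext.mk₀_comp_mk₀, Iso.inv_hom_id, Abelian.Ext.comp_mk₀_id] }
  obtain ⟨e⟩ := nonempty_via_ext n ψ adj i j hij
  let H := (DerivedCategory.homologyFunctor (ModuleCat.{u} A) i).obj (Dual2.shriekVia n Rψ (Dual.inD R R))
  let H' := LocalizedModule T H
  let E := Abelian.Ext.{u} (ModuleCat.of L N) (ModuleCat.of L (LocalizedModule S P)) j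
  letI : Algebra L A' := lam.toAlgebra
  letI : Module L H' := Module.compHom H' lam
  haveI : IsScalarTower L A' H' := IsScalarTower.of_algebraMap_smul fun _ _ => rfl
  have hlam : ∀ f : P, lam (algebraMap P L f) = algebraMap A A' (ψ f) := fun f => IsLocalization.map_eq _ f
  letI : Module P H' := Module.compHom H' (algebraMap P L)
  haveI : IsScalarTower P L H' := IsScalarTower.of_algebraMap_smul fun _ _ => rfl
  letI : Module P E := Module.compHom E (algebraMap P L)
  haveI : IsScalarTower P L E := IsScalarTower.of_algebraMap_smul fun _ _ => rfl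
  have hP : ∀ (f : P) (z : H'), f • z = (ψ f) • z := fun f z => by
    show lam (algebraMap P L f) • z = _
    rw [hlam]
    exact algebraMap_smul A' (ψ f) z
  let u₁ : Abelian.Ext.{u} (resOne ψ.toRingHom) (ModuleCat.of P P) j →ₗ[P] H' :=
    { toFun := fun x => LocalizedModule.mkLinearMap T H (show H from e x)
      map_add' := fun x y => by
        rw [show (show H from e (x + y)) = (show H from e x) + (show H from e y) from map_add e x y, map_add]
      map_smul' := fun f x => by
        rw [show (show H from e (f • x)) = (ψ f) • (show H from e x) from map_smul e f x, map_smul]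
        exact (hP f _).symm }
  let u₂ : Abelian.Ext.{u} (resOne ψ.toRingHom) (ModuleCat.of P P) j →ₗ[P] E :=
    { toFun := g, map_add' := map_add g, map_smul' := fun f x => map_smulₛₗ g f x }
  have hu₁ : IsLocalizedModule S u₁ := by
    refine ⟨fun s => (Module.End.isUnit_iff _).2 ?_, fun y => ?_, fun {x y} hxy => ?_⟩
    · show Function.Bijective fun z : H' => (s : P) • z
      simp only [hP]
      exact (Module.End.isUnit_iff _).1
        (IsLocalizedModule.map_units (LocalizedModule.mkLinearMap T H) ⟨ψ s, hST s s.2⟩)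
    · obtain ⟨⟨h, ⟨_, t, ht, rfl⟩⟩, hh⟩ := IsLocalizedModule.surj T (LocalizedModule.mkLinearMap T H) y
      refine ⟨(e.symm h, (⟨algebraMap R P t, ⟨t, ht, rfl⟩⟩ : S)), ?_⟩
      show (algebraMap R P t : P) • y = LocalizedModule.mkLinearMap T H (show H from e (e.symm h))
      rw [hP, show (show H from e (e.symm h)) = h from e.apply_symm_apply h, ψ.commutes]
      exact hh
    · obtain ⟨⟨_, t, ht, rfl⟩, hc'⟩ := IsLocalizedModule.exists_of_eq (S := T) (f := LocalizedModule.mkLinearMap T H) hxy
      refine ⟨(⟨algebraMap R P t, ⟨t, ht, rfl⟩⟩ : S), e.injective ?_⟩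
      show e (algebraMap R P t • x) = e (algebraMap R P t • y)
      rw [map_smul, map_smul]
      show ψ (algebraMap R P t) • (show H from e x) = ψ (algebraMap R P t) • (show H from e y)
      rw [ψ.commutes]
      exact hc'
  have hu₂ : IsLocalizedModule S u₂ := by
    refine ⟨fun s => (Module.End.isUnit_iff _).2 ?_, fun y => ?_, fun {x y} hxy => ?_⟩
    · show Function.Bijective fun z : E => algebraMap P L s • z
      exact (IsLocalization.map_units L s).smul_bijective
    · obtain ⟨x, s, hs⟩ := hg.surj y
      exact ⟨(x, s), hs.symm⟩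
    · obtain ⟨s, hs⟩ := hg.ker (x - y) (by rw [map_sub]; exact sub_eq_zero.2 hxy)
      exact ⟨s, sub_eq_zero.1 ((smul_sub (s : P) x y).symm.trans hs)⟩
  haveI := hu₁
  haveI := hu₂
  let l : H' ≃ₗ[L] Abelian.Ext.{u} (ModuleCat.of L N) (ModuleCat.of L L) j :=
    ((IsLocalizedModule.linearEquiv S u₁ u₂).extendScalarsOfIsLocalization S L) ≪≫ₗ ext j
  refine ⟨fun hj => ?_, fun hj => ?_⟩
  · haveI := hlow j hj
    exact l.toEquiv.subsingleton
  · subst hj
    haveI : Module.Finite A H :=
      (S1783.result R A n ψ hψ Rψ adj (Dual.inD R R) 0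
        (fun i hi => ModuleCat.subsingleton_of_isZero (DerivedCategory.isZero_of_isGE _ 0 i hi))).2
          (fun i => Dlz27.finite_HD_inD (A := R) R i) i
    haveI : Module.Finite A' H' := Module.Finite.of_isLocalizedModule T (LocalizedModule.mkLinearMap T H)
    haveI : Module.Finite L A' := Module.Finite.of_surjective (Algebra.linearMap L A') hlamS
    haveI : Module.Finite L H' := Module.Finite.trans A' H'
    haveI : Module.Finite L (Abelian.Ext.{u} (ModuleCat.of L N) (ModuleCat.of L L) j) := Module.Finite.equiv l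
    have h1 : LocCoh.HasSk 2 L H' := DepthLib.hasSk_congr l.symm hsk
    exact (FibDepth5.hasSk_of_surjective (L := L) (R := A') hlamS 2).1 h1

end Groth.Agent.BC8
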