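import Groth.Agent.Lib.BC8.ViaLowCM
import Groth.Agent.Lib.BC8.ViaSheafApps
import Groth.Agent.Lib.FlatDepth.SkLocal
import Groth.Agent.Lib.DlzSch27.LowestSheaf
import Groth.Agent.Lib.DlzSchCM27.Main
import Groth.Agent.Lib.BC8.DlzDim

/-! The twisted inverse image over a Cohen–Macaulay point of the base. -/

set_option autoImplicit false
set_option linter.style.haveILetI false
set_option linter.unusedSectionVars false
set_option backward.isDefEq.respectTransparency false
set_option backward.isDefEq.respectTransparency.types false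
set_option maxHeartbeats 1000000

universe u

open CategoryTheory CategoryTheory.Limits AlgebraicGeometry

attribute [local instance] HasDerivedCategory.standard

noncomputable section

namespace Groth.Agent.BC8

open DMon9

/-- `(S_k)` of a localisation passes to further localisations at primes. -/
theorem hasSk_atPrime_of_localization {R : Type u} [CommRing R] {M : Type u} [AddCommGroup M] [Module R M]
    [Module.Finite R M] (T : Submonoid R) (z : Ideal R) [z.IsPrime] (hT : T ≤ z.primeCompl) (k : ℕ)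
    (h : LocCoh.HasSk k (Localization T) (LocalizedModule T M)) :
    LocCoh.HasSk k (Localization.AtPrime z) (LocalizedModule z.primeCompl M) := by
  intro Q _
  obtain ⟨h1, h2⟩ := FlatDepth.invariants_localization_localization (M := M) z.primeCompl Q
  rw [h1, h2]
  let q := Q.comap (algebraMap R (Localization z.primeCompl))
  have hd : Disjoint (T : Set R) (q : Set R) := Set.disjoint_left.2 fun a ha ha' =>
    ‹Q.IsPrime›.ne_top (Ideal.eq_top_of_isUnit_mem Q ha'
      (IsLocalization.map_units (Localization z.primeCompl) (⟨a, hT ha⟩ : z.primeCompl)))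
  haveI := IsLocalization.isPrime_of_isPrime_disjoint T (Localization T) q (inferInstance : q.IsPrime) hd
  have hc := IsLocalization.comap_map_of_isPrime_disjoint T (Localization T) (inferInstance : q.IsPrime) hd
  obtain ⟨h3, h4⟩ := FlatDepth.invariants_localization_localization (M := M) T (q.map (algebraMap R (Localization T)))
  have h5 := h (q.map (algebraMap R (Localization T)))
  rw [h3, h4] at h5
  have key : ∀ (a b : Ideal R) [a.IsPrime] [b.IsPrime], a = b →
      min (k : WithBot ℕ∞) (Module.supportDim (Localization.AtPrime a) (LocalizedModule a.primeCompl M)) ≤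
        ((LocCoh.depth (Localization.AtPrime a) (LocalizedModule a.primeCompl M) : ℕ∞) : WithBot ℕ∞) →
      min (k : WithBot ℕ∞) (Module.supportDim (Localization.AtPrime b) (LocalizedModule b.primeCompl M)) ≤
        ((LocCoh.depth (Localization.AtPrime b) (LocalizedModule b.primeCompl M) : ℕ∞) : WithBot ℕ∞) := by
    intro a b _ _ e h'; subst e; exact h'
  exact key _ _ hc h5

variable {X Y Xb : Scheme.{u}} [IsNoetherian Y] (f : X ⟶ Y) [LocallyOfFiniteType f]
  (p : Xb ⟶ Y) [IsProper p] (j : X ⟶ Xb) [IsOpenImmersion j] (hfac : j ≫ p = f) [DCoh.HasRpush p]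
  {hp : DCoh.RpushPreservesQCoh p} {a : DCoh.DQCoh Y ⥤ DCoh.DQCoh Xb} (adj : DCoh.RpushQ p hp ⊣ a)
  [∀ (U : Scheme.{u}) (j : U ⟶ X) [IsOpenImmersion j], PreservesFiniteLimits (Scheme.Modules.restrictFunctor j)]

include hfac adj in
/-- Over a Cohen–Macaulay point: range and `(S₂)`. -/
theorem low_and_sk_over_CM [IsNoetherian X] {K : DCoh.D X} (eK : (lP j).obj (a.obj (oQ Y)).obj ≅ K) (x : X) (r : ℕ)
    (hCM : LocCoh.IsCohenMacaulayLocalRing (Y.presheaf.stalk (f x)))
    (htr : ∀ Z : Set X, Z ∈ irreducibleComponents X → x ∈ Z → ∀ ξ : X, closure ({ξ} : Set X) = Z →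
      Dual3.resTrdeg f ξ ≤ (r : Cardinal.{u})) :
    (∀ i : ℤ, Nontrivial ((DCoh.HD K i).presheaf.stalk x) → -(r : ℤ) ≤ i) ∧
      LocCoh.HasSk 2 (X.presheaf.stalk x) ((DCoh.HD K (-(r : ℤ))).presheaf.stalk x) := by
  let bad : Set X := ⋃₀ {Z | Z ∈ irreducibleComponents X ∧ x ∉ Z}
  have hbad : IsClosed bad := by
    rw [show bad = ⋃ Z ∈ {Z : Set X | Z ∈ irreducibleComponents X ∧ x ∉ Z}, Z from Set.sUnion_eq_biUnion]
    refine Set.Finite.isClosed_biUnion ?_ fun Z hZ => isClosed_of_mem_irreducibleComponents Z hZ.1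
    exact (TopologicalSpace.NoetherianSpace.finite_irreducibleComponents (α := X)).subset fun Z hZ => hZ.1
  let W : X.Opens := ⟨badᶜ, hbad.isOpen_compl⟩
  have hxW : x ∈ W := fun ⟨Z, hZ, hxZ⟩ => hZ.2 hxZ
  obtain ⟨V, hV, hxV, -⟩ := exists_isAffineOpen_mem_and_subset (X := Y) (x := f x) (U := ⊤) trivial
  obtain ⟨U, hU, hxU, hUW⟩ := exists_isAffineOpen_mem_and_subset (X := X) (x := x) (U := W ⊓ f ⁻¹ᵁ V) ⟨hxW, hxV⟩
  have e : U ≤ f ⁻¹ᵁ V := fun y hy => (hUW hy).2
  let A := Γ(Y, V)
  let B := Γ(X, U)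
  letI : Algebra A B := (f.appLE V U e).hom.toAlgebra
  haveI : IsNoetherianRing A := IsLocallyNoetherian.component_noetherian ⟨V, hV⟩
  haveI : Algebra.FiniteType A B := f.finiteType_appLE hV hU e
  haveI : IsNoetherianRing B := Algebra.FiniteType.isNoetherianRing A B
  obtain ⟨m, F, hF⟩ := Algebra.FiniteType.iff_quotient_mvPolynomial''.1 (inferInstance : Algebra.FiniteType A B)
  haveI := DQC.hasLBaseChange (algebraMap A (MvPolynomial (Fin m) A))
  haveI := isLeftAdjoint_restrictD F.toRingHom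
  let adjψ := Adjunction.ofIsLeftAdjoint (DRing.restrictD F.toRingHom)
  obtain ⟨v⟩ := nonempty_via_sheaf f p j hfac adj V hV U hU e rfl m F hF adjψ
  haveI : PreservesFiniteLimits (tilde.functor B) := M1.tilde_preservesFiniteLimits
  let z : Spec B := hU.primeIdealOf ⟨x, hxU⟩
  have hz : hU.fromSpec z = x := hU.fromSpec_primeIdealOf ⟨x, hxU⟩
  let s := Spec.map (f.appLE V U e)
  haveI : LocallyOfFiniteType s :=
    (HasRingHomProperty.Spec_iff (P := @LocallyOfFiniteType)).2 (f.finiteType_appLE hV hU e)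
  let y : PrimeSpectrum A := s z
  have hy : hV.fromSpec (s z) = f x := by
    rw [← Scheme.Hom.comp_apply, hV.SpecMap_appLE_fromSpec f hU e, Scheme.Hom.comp_apply, hz]
  haveI : LocCoh.IsCohenMacaulayLocalRing (Localization.AtPrime y.asIdeal) := by
    obtain ⟨g⟩ := DlzSchCM27.exists_stalk_ringEquiv (A := A) hV.fromSpec (s z)
    rw [← hy] at hCM
    exact SMT.isCM_of_ringEquiv g hCM
  have htr' : ∀ q : PrimeSpectrum B, q.asIdeal ∈ minimalPrimes B →
      Dual3.resTrdeg (Spec.map (CommRingCat.ofHom (algebraMap A B))) q ≤ (r : Cardinal.{u}) := by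
    intro q hq
    let ξ : X := hU.fromSpec q
    have hξU : ξ ∈ U := by
      have h : ξ ∈ Set.range hU.fromSpec := ⟨q, rfl⟩
      rwa [hU.range_fromSpec] at h
    have hZ := irreducibleComponent_mem_irreducibleComponents ξ
    have hxZ : x ∈ irreducibleComponent ξ := by
      by_contra hx'
      exact (hUW hξU).1 ⟨_, ⟨hZ, hx'⟩, mem_irreducibleComponent⟩
    let η := hZ.1.genericPoint
    have hcl : closure {η} = irreducibleComponent ξ :=
      hZ.1.closure_genericPoint (isClosed_of_mem_irreducibleComponents _ hZ)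
    have hηξ : η ⤳ ξ := specializes_iff_mem_closure.mpr (hcl.symm ▸ mem_irreducibleComponent)
    obtain ⟨t, ht⟩ := hηξ.mem_open hU.fromSpec.isOpenEmbedding.isOpen_range ⟨q, rfl⟩
    let t' : PrimeSpectrum B := t
    have htq : t' ≤ q := (PrimeSpectrum.le_iff_specializes t' q).2
      (hU.fromSpec.isOpenEmbedding.isInducing.specializes_iff.1 (ht ▸ hηξ))
    have hteq : t = q := PrimeSpectrum.ext (le_antisymm (show t'.asIdeal ≤ q.asIdeal from htq)
      (hq.2 ⟨t'.isPrime, bot_le⟩ htq))
    have h0 := htr _ hZ hxZ η hcl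
    rw [show η = hU.fromSpec q from hteq ▸ ht.symm, AlgSpRel14.resTrdeg_eq_rd] at h0
    have h2 : FibDim14.rd (s ≫ hV.fromSpec) q = FibDim14.rd (hU.fromSpec ≫ f) q := by
      congr 1
      exact hV.SpecMap_appLE_fromSpec f hU e
    rw [FibDim14.rd_comp, FibDim14.rd_comp, FibDim14.rd_of_surjectiveOnStalks hU.fromSpec,
      FibDim14.rd_of_surjectiveOnStalks hV.fromSpec, zero_add, add_zero] at h2
    show Dual3.resTrdeg s q ≤ _
    rw [AlgSpRel14.resTrdeg_eq_rd, h2]
    exact h0
  let T := Algebra.algebraMapSubmonoid B y.asIdeal.primeCompl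
  let z' : PrimeSpectrum B := z
  have hT : T ≤ z'.asIdeal.primeCompl := by
    rintro _ ⟨t, ht, rfl⟩
    exact fun h => ht h
  let ω := Dual2.shriekVia m (DRing.restrictD F.toRingHom).rightAdjoint (Dual.inD A A)
  let eM := ((lPRes hU.fromSpec).app K).symm ≪≫ (lP hU.fromSpec).mapIso eK.symm ≪≫ v
  have hhts : ∀ q : PrimeSpectrum B, q.asIdeal ∈ minimalPrimes B →
      (((m - r : ℕ)) : ℕ∞) ≤ (q.asIdeal.comap F.toRingHom).height :=
    fun q hq => le_height_comap m F hF r q (htr' q hq)
  have hsub : ∀ i : ℤ, i < -(r : ℤ) → Subsingleton (LocalizedModule T (Dual.HD B ω i)) := fun i hi => by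
    by_cases him : i < -(m : ℤ)
    · haveI := subsingleton_via_low_vars m F adjψ i him
      exact LocalizedModule.subsingleton_iff.2 fun w => ⟨1, one_mem _, Subsingleton.elim _ _⟩
    · exact (via_localized y.asIdeal m F hF adjψ (m - r) hhts i (i + m).toNat (by omega)).1 (by omega)
  refine ⟨fun i hi => ?_, ?_⟩
  · by_contra hlt
    haveI := (DlzSchCM27.nontrivial_stalk_iff_aux (R := B) K hU.fromSpec ω eM z i).1 (by rwa [hz])
    have h0 := hsub i (by omega)
    rw [LocalizedModule.subsingleton_iff] at h0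
    have : Subsingleton (LocalizedModule z'.asIdeal.primeCompl (Dual.HD B ω i)) :=
      LocalizedModule.subsingleton_iff.2 fun w => (h0 w).imp fun t ht => ⟨hT ht.1, ht.2⟩
    exact false_of_nontrivial_of_subsingleton (LocalizedModule z'.asIdeal.primeCompl (Dual.HD B ω i))
  · rw [← hz]
    obtain ⟨σ, g, hg⟩ := DlzSch27.exists_stalkEquiv_aux K hU.fromSpec ω ⟨eM⟩ z (-(r : ℤ))
    haveI : Module.Finite B (Dual.HD B ω (-(r : ℤ))) :=
      (S1783.result A B m F hF _ adjψ (Dual.inD A A) 0
        (fun i hi => ModuleCat.subsingleton_of_isZero (DerivedCategory.isZero_of_isGE _ 0 i hi))).2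
          (fun i => Dlz27.finite_HD_inD (A := A) A i) _
    haveI : Module.Finite (Localization.AtPrime z'.asIdeal)
        (LocalizedModule z'.asIdeal.primeCompl (Dual.HD B ω (-(r : ℤ)))) :=
      Module.Finite.of_isLocalizedModule z'.asIdeal.primeCompl
        (LocalizedModule.mkLinearMap z'.asIdeal.primeCompl (Dual.HD B ω (-(r : ℤ))))
    refine DlzSch27.hasSk_of_semilinear σ g hg 2 (hasSk_atPrime_of_localization T z'.asIdeal hT 2 ?_)
    by_cases hrm : r ≤ m
    · exact (via_localized y.asIdeal m F hF adjψ (m - r) hhts (-(r : ℤ)) (m - r) (by omega)).2 rfl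
    · haveI := subsingleton_via_low_vars m F adjψ (-(r : ℤ)) (by omega)
      exact hasSk_of_cmOrZero 2 _ fun q _ => Or.inl
        (LocalizedModule.subsingleton_iff.2 fun w => ⟨1, one_mem _, Subsingleton.elim _ _⟩)

end Groth.Agent.BC8
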