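import Groth.Agent.Lib.BC8.Main
import Groth.Agent.Lib.DPush.Affine

/-!
Base change maps of right adjoints: change of adjunctions, pasting, reflection of isomorphisms.
-/

set_option autoImplicit false
set_option linter.unusedSectionVars false
set_option linter.style.haveILetI false
set_option backward.isDefEq.respectTransparency false
set_option backward.isDefEq.respectTransparency.types false
set_option maxHeartbeats 800000

universe u

open CategoryTheory CategoryTheory.Limits MonoidalCategory AlgebraicGeometry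

attribute [local instance] HasDerivedCategory.standard

namespace Groth.Agent.BC8

open DMon9

variable {X Y X' Y' : Scheme.{u}}

/-- `Rk_*` reflects isomorphisms of quasi-coherent objects. -/
def Refl (k : X' ⟶ X) [DCoh.HasRpush k] : Prop :=
  ∀ ⦃A B : DCoh.D X'⦄, DCoh.IsQCohD A → DCoh.IsQCohD B → ∀ v : A ⟶ B, IsIso ((DCoh.Rpush k).map v) → IsIso v

theorem isIso_of_openImmersion (i : X' ⟶ X) [IsOpenImmersion i] [DCoh.HasRpush i] {A B : DCoh.D X'} (v : A ⟶ B)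
    (h : IsIso ((DCoh.Rpush i).map v)) : IsIso v := by
  haveI := DBC9.isIso_counit_openImmersion i
  haveI := (adjLP i).fullyFaithfulROfIsIsoCounit.faithful
  haveI := (adjLP i).fullyFaithfulROfIsIsoCounit.full
  exact isIso_of_fully_faithful (DCoh.Rpush i) v

theorem refl_openImmersion (i : X' ⟶ X) [IsOpenImmersion i] [DCoh.HasRpush i] : Refl i :=
  fun _ _ _ _ v h => isIso_of_openImmersion i v h

theorem refl_affine (k : X' ⟶ X) [IsAffineHom k] [DCoh.HasRpush k] : Refl k :=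
  fun _ _ hA hB v h => DPush.isIso_of_isIso_rpush k hA hB v h

theorem refl_comp {W : Scheme.{u}} (p : X' ⟶ W) [IsAffineHom p] (i : W ⟶ X) [IsOpenImmersion i]
    (k : X' ⟶ X) (hk : p ≫ i = k) [DCoh.HasRpush k] : Refl k := by
  subst hk
  haveI := DBC9.hasRpush p
  haveI := DBC9.hasRpush i
  intro A B hA hB v h
  exact DPush.isIso_of_isIso_rpush p hA hB v
    (isIso_of_openImmersion i _ ((NatIso.isIso_map_iff (DPush.compIso p i) v).2 h))

section Beta

variable {f : X ⟶ Y} {g : Y' ⟶ Y} {f' : X' ⟶ Y'} {g' : X' ⟶ X}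
  [DCoh.HasRpush f] [DCoh.HasRpush f'] {hf : DCoh.RpushPreservesQCoh f} {hf' : DCoh.RpushPreservesQCoh f'}
  {a : DCoh.DQCoh Y ⥤ DCoh.DQCoh X} {a' : DCoh.DQCoh Y' ⥤ DCoh.DQCoh X'}
  (adj : DCoh.RpushQ f hf ⊣ a) (adj' : DCoh.RpushQ f' hf' ⊣ a')

/-- The base change map of right adjoints for monoidal pullbacks. -/
noncomputable def beta₀ (σ : lP g ⋙ lP f' ≅ lP f ⋙ lP g')
    (hσ : ∀ E, IsIso ((DBC9.bc (adjq f hf) (adjq f' hf') (sigQ σ).hom).app E)) (K : DCoh.DQCoh Y) :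
    (lq g').obj (a.obj K) ⟶ a'.obj ((lq g).obj K) :=
  haveI := hσ (a.obj K)
  adj'.homEquiv _ _ (inv ((DBC9.bc (adjq f hf) (adjq f' hf') (sigQ σ).hom).app (a.obj K)) ≫
    (lq g).map (adj.counit.app K))

theorem beta₀_spec (σ : lP g ⋙ lP f' ≅ lP f ⋙ lP g')
    (hσ : ∀ E, IsIso ((DBC9.bc (adjq f hf) (adjq f' hf') (sigQ σ).hom).app E)) (K : DCoh.DQCoh Y) :
    (DBC9.bc (adjq f hf) (adjq f' hf') (sigQ σ).hom).app (a.obj K) ≫
      (DCoh.RpushQ f' hf').map (beta₀ adj adj' σ hσ K) ≫ adj'.counit.app ((lq g).obj K) =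
      (lq g).map (adj.counit.app K) := by
  haveI := hσ (a.obj K)
  exact (congrArg (_ ≫ ·) ((adj'.homEquiv_counit _ _ _).symm.trans (Equiv.symm_apply_apply _ _))).trans
    (IsIso.hom_inv_id_assoc _ _)

variable [DCoh.HasRpush g] [DCoh.HasRpush g'] {hg : DCoh.RpushPreservesQCoh g} {hg' : DCoh.RpushPreservesQCoh g'}
  [CompactSpace X] [QuasiSeparatedSpace X] [CompactSpace Y] [QuasiSeparatedSpace Y]
  [QuasiCompact f] [QuasiSeparated f] [QuasiCompact g] [QuasiSeparated g] [QuasiCompact g'] [QuasiSeparated g']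

include hg hg' in
theorem isIso_beta₀_of_refl (hgood : DBC9.Good f f' g g') (hgood' : DBC9.Good g g' f f')
    (hcop : ∀ J : Type u, PreservesColimitsOfShape (Discrete J) a) (hrefl : Refl g')
    (σ : lP g ⋙ lP f' ≅ lP f ⋙ lP g') (hσm : MultSq σ)
    (hσ : ∀ E, IsIso ((DBC9.bc (adjq f hf) (adjq f' hf') (sigQ σ).hom).app E)) (K : DCoh.DQCoh Y) :
    IsIso (beta₀ adj adj' σ hσ K) := by
  haveI := hσ (a.obj K)
  haveI : IsIso ((DCoh.RpushQ g' hg').map (beta₀ adj adj' σ hσ K)) :=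
    isIso_push_beta₀ (hg' := hg') adj adj' hg hgood hgood' hcop σ hσm K
  haveI : IsIso (beta₀ adj adj' σ hσ K).hom :=
    hrefl ((lq g').obj (a.obj K)).property (a'.obj ((lq g).obj K)).property _
      (isIso_hom ((DCoh.RpushQ g' hg').map (beta₀ adj adj' σ hσ K)))
  exact isIso_q _

variable {G : DCoh.DQCoh Y ⥤ DCoh.DQCoh Y'} {G' : DCoh.DQCoh X ⥤ DCoh.DQCoh X'}

/-- The map for arbitrary adjunctions. -/
theorem isIso_beta (σ : lP g ⋙ lP f' ≅ lP f ⋙ lP g')
    (hσ : ∀ E, IsIso ((DBC9.bc (adjq f hf) (adjq f' hf') (sigQ σ).hom).app E))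
    (adjg : G ⊣ DCoh.RpushQ g hg) (adjg' : G' ⊣ DCoh.RpushQ g' hg') (K : DCoh.DQCoh Y)
    [IsIso ((theta adjg' adjg (eOf σ adjg adjg' (hf := hf) (hf' := hf'))).app (a.obj K))]
    (h : IsIso (beta₀ adj adj' σ hσ K)) :
    IsIso (adj'.homEquiv (G'.obj (a.obj K)) (G.obj K)
      (inv ((theta adjg' adjg (eOf σ adjg adjg' (hf := hf) (hf' := hf'))).app (a.obj K)) ≫
        G.map (adj.counit.app K))) := by
  haveI := h
  let u := adjg.leftAdjointUniq (adjq g hg)
  let u' := adjg'.leftAdjointUniq (adjq g' hg')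
  suffices e : adj'.homEquiv (G'.obj (a.obj K)) (G.obj K)
      (inv ((theta adjg' adjg (eOf σ adjg adjg' (hf := hf) (hf' := hf'))).app (a.obj K)) ≫
        G.map (adj.counit.app K)) = u'.hom.app (a.obj K) ≫ beta₀ adj adj' σ hσ K ≫ a'.map (u.inv.app K) by
    rw [e]; infer_instance
  refine (adj'.homEquiv _ _).symm.injective ?_
  rw [Equiv.symm_apply_apply, adj'.homEquiv_naturality_left_symm, adj'.homEquiv_naturality_right_symm,
    IsIso.inv_comp_eq, theta_eOf, adj'.homEquiv_counit]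
  simp only [Category.assoc]
  rw [← (DCoh.RpushQ f' hf').map_comp_assoc, Iso.inv_hom_id_app]
  erw [CategoryTheory.Functor.map_id, Category.id_comp]
  have hn : u.hom.app _ ≫ (lq g).map (adj.counit.app K) = G.map (adj.counit.app K) ≫ u.hom.app K :=
    (u.hom.naturality (adj.counit.app K)).symm
  refine Eq.symm ?_
  refine (congrArg (fun t => u.hom.app ((DCoh.RpushQ f hf).obj (a.obj K)) ≫ t)
    ((Category.assoc _ _ _).symm.trans ((Category.assoc _ _ _).symm.trans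
      (congrArg (· ≫ u.inv.app K) ((Category.assoc _ _ _).trans (beta₀_spec adj adj' σ hσ K)))))).trans ?_
  exact (Category.assoc _ _ _).symm.trans ((congrArg (· ≫ u.inv.app K) hn).trans
    ((Category.assoc _ _ _).trans ((congrArg (_ ≫ ·) (u.hom_inv_id_app K)).trans (Category.comp_id _))))

end Beta

section Paste

variable {f : X ⟶ Y} {g : Y' ⟶ Y} {f' : X' ⟶ Y'} {g' : X' ⟶ X} {T U : Scheme.{u}} {j : U ⟶ Y'} {i : T ⟶ X'}
  {fT : T ⟶ U} [DCoh.HasRpush f] [DCoh.HasRpush f'] [DCoh.HasRpush fT]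
  {hf : DCoh.RpushPreservesQCoh f} {hf' : DCoh.RpushPreservesQCoh f'} {hT : DCoh.RpushPreservesQCoh fT}
  {a : DCoh.DQCoh Y ⥤ DCoh.DQCoh X} {a' : DCoh.DQCoh Y' ⥤ DCoh.DQCoh X'} {aT : DCoh.DQCoh U ⥤ DCoh.DQCoh T}
  (adj : DCoh.RpushQ f hf ⊣ a) (adj' : DCoh.RpushQ f' hf' ⊣ a') (adjT : DCoh.RpushQ fT hT ⊣ aT)

/-- The pasted square of pullbacks. -/
noncomputable def sigPaste (σ : lP g ⋙ lP f' ≅ lP f ⋙ lP g') (τ : lP j ⋙ lP fT ≅ lP f' ⋙ lP i) :
    lP (j ≫ g) ⋙ lP fT ≅ lP f ⋙ lP (i ≫ g') :=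
  let σM : dPull g ⋙ dPull f' ≅ dPull f ⋙ dPull g' := σ
  let τM : dPull j ⋙ dPull fT ≅ dPull f' ⋙ dPull i := τ
  (Functor.isoWhiskerRight (dComp j g rfl).symm (dPull fT) ≪≫
    Functor.associator (dPull g) (dPull j) (dPull fT) ≪≫
    Functor.isoWhiskerLeft (dPull g) τM ≪≫
    (Functor.associator (dPull g) (dPull f') (dPull i)).symm ≪≫
    Functor.isoWhiskerRight σM (dPull i) ≪≫
    Functor.associator (dPull f) (dPull g') (dPull i) ≪≫
    Functor.isoWhiskerLeft (dPull f) (dComp i g' rfl) :)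

theorem multSq_sigPaste (σ : lP g ⋙ lP f' ≅ lP f ⋙ lP g') (hσ : MultSq σ) (τ : lP j ⋙ lP fT ≅ lP f' ⋙ lP i)
    (hτ : MultSq τ) : MultSq (sigPaste σ τ) :=
  mult_comp (mult_whiskerRight (mult_symm _ (mult_dComp j g rfl)) _) (mult_comp (mult_assoc _ _ _).1
    (mult_comp (mult_whiskerLeft (F := dPull j ⋙ dPull fT) (F' := dPull f' ⋙ dPull i) _ hτ) (mult_comp (mult_assoc _ _ _).2
      (mult_comp (mult_whiskerRight (F := dPull g ⋙ dPull f') (F' := dPull f ⋙ dPull g') hσ _) (mult_comp (mult_assoc _ _ _).1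
        (mult_whiskerLeft _ (mult_dComp i g' rfl)))))))

/-- Composition of pullbacks on `D_QCoh`. -/
noncomputable def kap {A B C : Scheme.{u}} (p : A ⟶ B) (q : B ⟶ C) : lq q ⋙ lq p ≅ lq (p ≫ q) :=
  NatIso.ofComponents (fun K => ObjectProperty.isoMk _ ((dComp p q rfl).app (K.obj : DM C)))
    (fun v => ObjectProperty.hom_ext _ ((dComp p q rfl).hom.naturality v.hom))

theorem bc_sigPaste (σ : lP g ⋙ lP f' ≅ lP f ⋙ lP g') (τ : lP j ⋙ lP fT ≅ lP f' ⋙ lP i) (E : DCoh.DQCoh X) :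
    (DBC9.bc (adjq f hf) (adjq fT hT) (sigQ (sigPaste σ τ)).hom).app E =
      (kap j g).inv.app ((DCoh.RpushQ f hf).obj E) ≫
        ((lq j).map ((DBC9.bc (adjq f hf) (adjq f' hf') (sigQ σ).hom).app E) ≫
          (DBC9.bc (adjq f' hf') (adjq fT hT) (sigQ τ).hom).app ((lq g').obj E)) ≫
        (DCoh.RpushQ fT hT).map ((kap i g').hom.app E) := by
  rw [← DBC9.bc_hPaste]
  refine Eq.trans ?_ (DBC9.bc_change _ _ (DBC9.hPaste (sigQ σ).hom (sigQ τ).hom) (kap j g).symm (kap i g').symm E)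
  refine congrArg (fun t => (DBC9.bc (adjq f hf) (adjq fT hT) t).app E) ?_
  ext K
  simp [sigPaste, DBC9.hPaste, sigQ, kap]
  rfl

/-- Pasting of base change maps of right adjoints. -/
theorem beta₀_paste (σ : lP g ⋙ lP f' ≅ lP f ⋙ lP g')
    (hσ : ∀ E, IsIso ((DBC9.bc (adjq f hf) (adjq f' hf') (sigQ σ).hom).app E))
    (τ : lP j ⋙ lP fT ≅ lP f' ⋙ lP i)
    (hτ : ∀ E, IsIso ((DBC9.bc (adjq f' hf') (adjq fT hT) (sigQ τ).hom).app E))
    (hc : ∀ E, IsIso ((DBC9.bc (adjq f hf) (adjq fT hT) (sigQ (sigPaste σ τ)).hom).app E)) (K : DCoh.DQCoh Y) :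
    (lq i).map (beta₀ adj adj' σ hσ K) ≫ beta₀ adj' adjT τ hτ ((lq g).obj K) =
      (kap i g').hom.app (a.obj K) ≫ beta₀ adj adjT (sigPaste σ τ) hc K ≫ aT.map ((kap j g).inv.app K) := by
  refine (adjT.homEquiv _ _).symm.injective ?_
  rw [adjT.homEquiv_naturality_left_symm, adjT.homEquiv_naturality_left_symm, adjT.homEquiv_naturality_right_symm]
  let θg := fun E => (DBC9.bc (adjq f hf) (adjq f' hf') (sigQ σ).hom).app E
  let θj := fun E => (DBC9.bc (adjq f' hf') (adjq fT hT) (sigQ τ).hom).app E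
  haveI := hσ (a.obj K)
  haveI := hτ ((lq g').obj (a.obj K))
  haveI : IsIso (θg (a.obj K)) := hσ _
  haveI : IsIso (θj ((lq g').obj (a.obj K))) := hτ _
  rw [adjT.homEquiv_counit, adjT.homEquiv_counit, ← cancel_epi (θj ((lq g').obj (a.obj K))),
    ← cancel_epi ((lq j).map (θg (a.obj K)))]
  have hn : θj ((lq g').obj (a.obj K)) ≫ (DCoh.RpushQ fT hT).map ((lq i).map (beta₀ adj adj' σ hσ K)) =
      (lq j).map ((DCoh.RpushQ f' hf').map (beta₀ adj adj' σ hσ K)) ≫ θj (a'.obj ((lq g).obj K)) :=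
    ((DBC9.bc (adjq f' hf') (adjq fT hT) (sigQ τ).hom).naturality (beta₀ adj adj' σ hσ K)).symm
  have hc' : (kap j g).hom.app ((DCoh.RpushQ f hf).obj (a.obj K)) ≫
      (DBC9.bc (adjq f hf) (adjq fT hT) (sigQ (sigPaste σ τ)).hom).app (a.obj K) =
      ((lq j).map (θg (a.obj K)) ≫ θj ((lq g').obj (a.obj K))) ≫
        (DCoh.RpushQ fT hT).map ((kap i g').hom.app (a.obj K)) := by
    rw [bc_sigPaste σ τ, ← Category.assoc, Iso.hom_inv_id_app]
    exact Category.id_comp _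
  rw [reassoc_of% hn, beta₀_spec adj' adjT τ hτ, ← Functor.map_comp, ← Functor.map_comp,
    beta₀_spec adj adj' σ hσ]
  refine Eq.symm ((Category.assoc _ _ _).symm.trans ((Category.assoc _ _ _).symm.trans
    ((congrArg (· ≫ _) hc'.symm).trans ?_)))
  refine (Category.assoc _ _ _).trans ((congrArg ((kap j g).hom.app _ ≫ ·)
    ((Category.assoc _ _ _).symm.trans
      (congrArg (· ≫ (kap j g).inv.app K) (beta₀_spec adj adjT (sigPaste σ τ) hc K)))).trans ?_)
  exact (Category.assoc _ _ _).symm.trans ((congrArg (· ≫ (kap j g).inv.app K)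
    ((kap j g).hom.naturality (adj.counit.app K)).symm).trans
    ((Category.assoc _ _ _).trans ((congrArg (_ ≫ ·) ((kap j g).hom_inv_id_app K)).trans (Category.comp_id _))))

end Paste

end Groth.Agent.BC8
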